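import Groth.Prelude.Def_Found
import Mathlib

set_option autoImplicit false
universe u

namespace Groth.Agent.H46

/-- Order-theoretic catenary condition. -/
def OrdCatenary (α : Type*) [PartialOrder α] : Prop :=
  (∀ p q : α, p ≤ q → ∃ n : ℕ, ∀ s : LTSeries α, s.head = p → s.last = q → s.length ≤ n) ∧
  ∀ s t : LTSeries α, s.head = t.head → s.last = t.last →
    (∀ i : Fin s.length, s (Fin.castSucc i) ⋖ s (Fin.succ i)) →
    (∀ i : Fin t.length, t (Fin.castSucc i) ⋖ t (Fin.succ i)) →
    s.length = t.length

theorem isCatenary_iff_ordCatenary (R : Type u) [CommRing R] :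
    CAlg.IsCatenary R ↔ OrdCatenary (PrimeSpectrum R) := Iff.rfl

theorem OrdCatenary.of_orderEmbedding {α β : Type*} [PartialOrder α] [PartialOrder β]
    (e : α ↪o β) (he : (Set.range e).OrdConnected) (h : OrdCatenary β) : OrdCatenary α := by
  obtain ⟨h1, h2⟩ := h
  refine ⟨?_, ?_⟩
  · intro p q hpq
    obtain ⟨n, hn⟩ := h1 (e p) (e q) (e.monotone hpq)
    refine ⟨n, fun s hs ht => ?_⟩
    have := hn (s.map e e.strictMono) (by rw [LTSeries.head_map, hs]) (by rw [LTSeries.last_map, ht])
    simpa using this
  · intro s t hst hst' hs ht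
    have := h2 (s.map e e.strictMono) (t.map e e.strictMono)
      (by rw [LTSeries.head_map, LTSeries.head_map, hst])
      (by rw [LTSeries.last_map, LTSeries.last_map, hst'])
      (fun i => (hs i).image e he) (fun i => (ht i).image e he)
    simpa using this

/-- Lift an `LTSeries` along an order embedding when all its members are in the range. -/
theorem exists_ltSeries_map_eq {α β : Type*} [PartialOrder α] [PartialOrder β]
    (e : α ↪o β) (s : LTSeries β) (hs : ∀ i, s i ∈ Set.range e) :
    ∃ s' : LTSeries α, s'.map e e.strictMono = s := by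
  choose g hg using hs
  refine ⟨⟨s.length, g, fun i => ?_⟩, ?_⟩
  · have := s.step i
    rw [← hg, ← hg] at this
    exact e.lt_iff_lt.mp this
  · refine RelSeries.ext rfl ?_
    funext i
    exact hg i

theorem OrdCatenary.of_cover {β : Type*} [PartialOrder β]
    (H : ∀ p : β, ∃ (α : Type u) (_ : PartialOrder α) (e : α ↪o β),
      OrdCatenary α ∧ Set.Ici p ⊆ Set.range e) : OrdCatenary β := by
  refine ⟨?_, ?_⟩
  · intro p q hpq
    obtain ⟨α, _, e, ⟨h1, -⟩, hr⟩ := H p
    obtain ⟨p', rfl⟩ := hr (Set.mem_Ici.mpr le_rfl)
    obtain ⟨q', rfl⟩ := hr (Set.mem_Ici.mpr hpq)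
    obtain ⟨n, hn⟩ := h1 p' q' (e.le_iff_le.mp hpq)
    refine ⟨n, fun s hs ht => ?_⟩
    obtain ⟨s', rfl⟩ := exists_ltSeries_map_eq e s (fun i => hr (by
      rw [Set.mem_Ici, ← hs]; exact LTSeries.head_le s i))
    rw [LTSeries.head_map] at hs
    rw [LTSeries.last_map] at ht
    simpa using hn s' (e.injective hs) (e.injective ht)
  · intro s t hst hst' hs ht
    obtain ⟨α, _, e, ⟨-, h2⟩, hr⟩ := H s.head
    obtain ⟨s', rfl⟩ := exists_ltSeries_map_eq e s (fun i => hr (by
      rw [Set.mem_Ici]; exact LTSeries.head_le s i))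
    obtain ⟨t', rfl⟩ := exists_ltSeries_map_eq e t (fun i => hr (by
      rw [Set.mem_Ici, hst]; exact LTSeries.head_le t i))
    rw [LTSeries.head_map, LTSeries.head_map] at hst
    rw [LTSeries.last_map, LTSeries.last_map] at hst'
    have := h2 s' t' (e.injective hst) (e.injective hst')
      (fun i => CovBy.of_image e (hs i)) (fun i => CovBy.of_image e (ht i))
    simpa using this


/-- The order embedding on prime spectra induced by a surjective ring hom. -/
noncomputable def specEmbOfSurjective {R S : Type*} [CommRing R] [CommRing S] (f : R →+* S)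
    (hf : Function.Surjective f) : PrimeSpectrum S ↪o PrimeSpectrum R :=
  OrderEmbedding.ofMapLEIff (PrimeSpectrum.comap f) (fun a b => by
    rw [PrimeSpectrum.le_iff_specializes, PrimeSpectrum.le_iff_specializes,
      (PrimeSpectrum.comap_isInducing_of_surjective _ f hf).specializes_iff])

theorem specEmbOfSurjective_apply {R S : Type*} [CommRing R] [CommRing S] (f : R →+* S)
    (hf : Function.Surjective f) (p : PrimeSpectrum S) :
    specEmbOfSurjective f hf p = PrimeSpectrum.comap f p := rfl

theorem range_specEmbOfSurjective {R S : Type*} [CommRing R] [CommRing S] (f : R →+* S)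
    (hf : Function.Surjective f) :
    Set.range (specEmbOfSurjective f hf) = PrimeSpectrum.zeroLocus (RingHom.ker f) :=
  range_comap_of_surjective _ f hf

theorem ordConnected_range_specEmbOfSurjective {R S : Type*} [CommRing R] [CommRing S]
    (f : R →+* S) (hf : Function.Surjective f) :
    (Set.range (specEmbOfSurjective f hf)).OrdConnected := by
  rw [range_specEmbOfSurjective]
  have : IsUpperSet (PrimeSpectrum.zeroLocus (RingHom.ker f : Set R)) := by
    intro a b hab ha
    rw [PrimeSpectrum.mem_zeroLocus] at ha ⊢
    exact ha.trans hab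
  exact this.ordConnected

/-- The order embedding on prime spectra induced by a localization. -/
noncomputable def specEmbOfLocalization {R : Type*} (S : Type*) [CommRing R] [CommRing S]
    [Algebra R S] (M : Submonoid R) [IsLocalization M S] : PrimeSpectrum S ↪o PrimeSpectrum R :=
  OrderEmbedding.ofMapLEIff (PrimeSpectrum.comap (algebraMap R S)) (fun a b => by
    rw [PrimeSpectrum.le_iff_specializes, PrimeSpectrum.le_iff_specializes,
      (PrimeSpectrum.localization_comap_isInducing S M).specializes_iff])

theorem ordConnected_range_specEmbOfLocalization {R : Type*} (S : Type*) [CommRing R] [CommRing S]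
    [Algebra R S] (M : Submonoid R) [IsLocalization M S] :
    (Set.range (specEmbOfLocalization S M)).OrdConnected := by
  have h : Set.range (specEmbOfLocalization S M) = { p | Disjoint (M : Set R) p.asIdeal } :=
    PrimeSpectrum.localization_comap_range S M
  rw [h]
  have : IsLowerSet { p : PrimeSpectrum R | Disjoint (M : Set R) p.asIdeal } := by
    intro a b hab ha
    exact Set.disjoint_of_subset_right (show (b.asIdeal : Set R) ⊆ a.asIdeal from hab) ha
  exact this.ordConnected

theorem isCatenary_of_surjective {R S : Type u} [CommRing R] [CommRing S] (f : R →+* S)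
    (hf : Function.Surjective f) (h : CAlg.IsCatenary R) : CAlg.IsCatenary S :=
  OrdCatenary.of_orderEmbedding (specEmbOfSurjective f hf)
    (ordConnected_range_specEmbOfSurjective f hf) h

theorem isCatenary_of_isLocalization {R : Type u} (S : Type u) [CommRing R] [CommRing S]
    [Algebra R S] (M : Submonoid R) [IsLocalization M S] (h : CAlg.IsCatenary R) :
    CAlg.IsCatenary S :=
  OrdCatenary.of_orderEmbedding (specEmbOfLocalization S M)
    (ordConnected_range_specEmbOfLocalization S M) h

theorem isCatenary_of_forall_minimalPrimes {R : Type u} [CommRing R]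
    (h : ∀ p ∈ minimalPrimes R, CAlg.IsCatenary (R ⧸ p)) : CAlg.IsCatenary R := by
  refine OrdCatenary.of_cover.{u} (fun p => ?_)
  obtain ⟨p₀, hp₀, hle⟩ := Ideal.exists_minimalPrimes_le (I := ⊥) (J := p.asIdeal) bot_le
  refine ⟨PrimeSpectrum (R ⧸ p₀), inferInstance,
    specEmbOfSurjective (Ideal.Quotient.mk p₀) Ideal.Quotient.mk_surjective, h p₀ hp₀, ?_⟩
  rw [range_specEmbOfSurjective, Ideal.mk_ker]
  intro q hq
  rw [PrimeSpectrum.mem_zeroLocus]
  exact hle.trans hq

end Groth.Agent.H46
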