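import Mathlib
import Groth.Agent.H46.Catenary

set_option autoImplicit false
universe u

namespace Groth.Agent.H46

open Order

/-- The covering relation as a `SetRel`. -/
def covRel (α : Type*) [Preorder α] : SetRel α α := {p | p.1 ⋖ p.2}

lemma covRel_le_lt (α : Type*) [Preorder α] : covRel α ≤ {p : α × α | p.1 < p.2} :=
  fun _ h => h.lt

/-- A maximal chain from `p` to the top `m`, as a series for the covering relation. -/
theorem exists_covSeries_of_coheight {α : Type*} [PartialOrder α] (m : α) (hm : ∀ x, x ≤ m) :
    ∀ (n : ℕ) (p : α), coheight p = n →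
      ∃ t : RelSeries (covRel α), t.head = p ∧ t.last = m ∧ t.length = n := by
  intro n
  induction n with
  | zero =>
    intro p hp
    have : IsMax p := by
      rw [← coheight_eq_zero]; simpa using hp
    have hpm : p = m := le_antisymm (hm p) (this (hm p))
    exact ⟨RelSeries.singleton _ p, rfl, hpm, rfl⟩
  | succ n ih =>
    intro p hp
    have hp' : coheight p = (n : ℕ∞) + 1 := by simpa using hp
    obtain ⟨-, ⟨y, hy, hyn⟩, hall⟩ := coheight_eq_coe_add_one_iff.mp hp'
    obtain ⟨t, ht1, ht2, ht3⟩ := ih y hyn
    have hcov : p ⋖ y := by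
      refine ⟨hy, fun c hpc hcy => ?_⟩
      have h1 := coheight_add_one_le hcy
      have h2 := hall c hpc
      rw [hyn] at h1
      have : ((n : ℕ∞) + 1) ≤ n := h1.trans h2
      exact absurd this (by simp [ENat.add_one_le_iff])
    refine ⟨t.cons p (by rw [ht1]; exact hcov), by simp, by simp [ht2], by simp [ht3]⟩

theorem ordCatenary_iff_coheight {α : Type*} [PartialOrder α] [FiniteDimensionalOrder α]
    (m : α) (hm : ∀ x, x ≤ m) :
    OrdCatenary α ↔ ∀ p q : α, p < q →
      coheight q < coheight p ∧ (p ⋖ q → coheight p = coheight q + 1) := by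
  constructor
  · rintro ⟨-, h2⟩ p q hpq
    refine ⟨coheight_strictAnti hpq (coheight_lt_top q) |> fun h => h, fun hcov => ?_⟩
    obtain ⟨n, hn⟩ := ENat.ne_top_iff_exists.mp (coheight_lt_top p).ne
    obtain ⟨k, hk⟩ := ENat.ne_top_iff_exists.mp (coheight_lt_top q).ne
    obtain ⟨tp, hp1, hp2, hp3⟩ := exists_covSeries_of_coheight m hm n p hn.symm
    obtain ⟨tq, hq1, hq2, hq3⟩ := exists_covSeries_of_coheight m hm k q hk.symm
    let tq' : RelSeries (covRel α) := tq.cons p (by rw [hq1]; exact hcov)
    have := h2 (tp.ofLE (covRel_le_lt α)) (tq'.ofLE (covRel_le_lt α))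
      (by show tp.head = tq'.head; simp [tq', hp1])
      (by show tp.last = tq'.last; simp [tq', hp2, hq2])
      (fun i => tp.step i) (fun i => tq'.step i)
    have hlen : n = k + 1 := by simpa [tq', hp3, hq3] using this
    rw [← hn, ← hk, hlen]
    simp
  · intro h
    have hsat : ∀ s : LTSeries α, (∀ i : Fin s.length, s (Fin.castSucc i) ⋖ s (Fin.succ i)) →
        coheight s.head = coheight s.last + s.length := by
      intro s hs
      have key : ∀ (i : ℕ) (hi : i < s.length + 1),
          coheight s.head = coheight (s ⟨i, hi⟩) + i := by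
        intro i
        induction i with
        | zero => intro hi; simp [RelSeries.head]
        | succ i ih =>
          intro hi
          have h1 := ih (by omega)
          have h2 := hs ⟨i, by omega⟩
          have h3 := (h _ _ h2.lt).2 h2
          simp only [Fin.castSucc_mk, Fin.succ_mk] at h3
          rw [h1, h3]
          push_cast
          ring
      have := key s.length (by omega)
      simpa [RelSeries.last, Fin.last] using this
    refine ⟨fun p q _ => ?_, fun s t hst hst' hs ht => ?_⟩
    · obtain ⟨n, hn⟩ := ENat.ne_top_iff_exists.mp (coheight_lt_top p).ne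
      refine ⟨n, fun s hs _ => ?_⟩
      have := length_le_coheight_head (p := s)
      rw [hs, ← hn] at this
      exact_mod_cast this
    · have h1 := hsat s hs
      have h2 := hsat t ht
      rw [hst, hst', h2] at h1
      obtain ⟨k, hk⟩ := ENat.ne_top_iff_exists.mp (coheight_lt_top t.last).ne
      rw [← hk] at h1
      have : (k + t.length : ℕ∞) = k + s.length := h1
      have h3 : (t.length : ℕ∞) = s.length := by
        exact ENat.add_right_injective_of_ne_top (ENat.natCast_ne_top k) this
      exact_mod_cast h3.symm

end Groth.Agent.H46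

namespace Groth.Agent.H46

open Order

theorem ringKrullDim_quotient_eq_coheight {A : Type*} [CommRing A] (p : PrimeSpectrum A) :
    ringKrullDim (A ⧸ p.asIdeal) = (coheight p : ℕ∞) := by
  rw [ringKrullDim_quotient, coheight_eq_krullDim_Ici]
  have : PrimeSpectrum.zeroLocus (p.asIdeal : Set A) = Set.Ici p := by
    ext q
    rw [PrimeSpectrum.mem_zeroLocus, Set.mem_Ici]
    rfl
  rw [this]

theorem isCatenary_iff_dimFun (A : Type u) [CommRing A] [IsNoetherianRing A] [IsLocalRing A] :
    CAlg.IsCatenary A ↔
      ∀ p q : PrimeSpectrum A, p < q →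
        ringKrullDim (A ⧸ q.asIdeal) < ringKrullDim (A ⧸ p.asIdeal) ∧
          (p ⋖ q → ringKrullDim (A ⧸ p.asIdeal) = ringKrullDim (A ⧸ q.asIdeal) + 1) := by
  have hfin : FiniteDimensionalOrder (PrimeSpectrum A) := (inferInstance : FiniteRingKrullDim A)
  rw [isCatenary_iff_ordCatenary, ordCatenary_iff_coheight (⊤ : PrimeSpectrum A) (fun x => le_top)]
  refine forall_congr' fun p => forall_congr' fun q => imp_congr_right fun _ => ?_
  rw [ringKrullDim_quotient_eq_coheight, ringKrullDim_quotient_eq_coheight]
  refine and_congr ?_ (imp_congr_right fun _ => ?_)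
  · exact (WithBot.coe_lt_coe).symm
  · rw [← WithBot.coe_one, ← WithBot.coe_add, WithBot.coe_inj]

end Groth.Agent.H46
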