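import Groth.Agent.H46.Catenary

set_option autoImplicit false
universe u

namespace Groth.Agent.H46

/-- Dual of `OrdCatenary.of_cover`: it suffices to cover every lower set `Iic q`. -/
theorem OrdCatenary.of_cover' {β : Type*} [PartialOrder β]
    (H : ∀ q : β, ∃ (α : Type u) (_ : PartialOrder α) (e : α ↪o β),
      OrdCatenary α ∧ Set.Iic q ⊆ Set.range e) : OrdCatenary β := by
  refine ⟨?_, ?_⟩
  · intro p q hpq
    obtain ⟨α, _, e, ⟨h1, -⟩, hr⟩ := H q
    obtain ⟨p', rfl⟩ := hr (Set.mem_Iic.mpr hpq)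
    obtain ⟨q', rfl⟩ := hr (Set.mem_Iic.mpr le_rfl)
    obtain ⟨n, hn⟩ := h1 p' q' (e.le_iff_le.mp hpq)
    refine ⟨n, fun s hs ht => ?_⟩
    obtain ⟨s', rfl⟩ := exists_ltSeries_map_eq e s (fun i => hr (by
      rw [Set.mem_Iic, ← ht]; exact s.monotone (Fin.le_last i)))
    rw [LTSeries.head_map] at hs
    rw [LTSeries.last_map] at ht
    simpa using hn s' (e.injective hs) (e.injective ht)
  · intro s t hst hst' hs ht
    obtain ⟨α, _, e, ⟨-, h2⟩, hr⟩ := H s.last
    obtain ⟨s', rfl⟩ := exists_ltSeries_map_eq e s (fun i => hr (by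
      rw [Set.mem_Iic]; exact s.monotone (Fin.le_last i)))
    obtain ⟨t', rfl⟩ := exists_ltSeries_map_eq e t (fun i => hr (by
      rw [Set.mem_Iic, hst']; exact t.monotone (Fin.le_last i)))
    rw [LTSeries.head_map, LTSeries.head_map] at hst
    rw [LTSeries.last_map, LTSeries.last_map] at hst'
    have := h2 s' t' (e.injective hst) (e.injective hst')
      (fun i => CovBy.of_image e (hs i)) (fun i => CovBy.of_image e (ht i))
    simpa using this

theorem isCatenary_of_forall_maximal {R : Type u} [CommRing R]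
    (h : ∀ (m : Ideal R) [m.IsMaximal], CAlg.IsCatenary (Localization.AtPrime m)) :
    CAlg.IsCatenary R := by
  refine OrdCatenary.of_cover'.{u} (fun q => ?_)
  obtain ⟨m, hm, hqm⟩ := Ideal.exists_le_maximal q.asIdeal q.2.ne_top
  refine ⟨PrimeSpectrum (Localization.AtPrime m), inferInstance,
    specEmbOfLocalization (Localization.AtPrime m) m.primeCompl, h m, ?_⟩
  have hr : Set.range (specEmbOfLocalization (Localization.AtPrime m) m.primeCompl) =
      { p | Disjoint (m.primeCompl : Set R) p.asIdeal } :=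
    PrimeSpectrum.localization_comap_range (Localization.AtPrime m) m.primeCompl
  rw [hr]
  intro p hp
  rw [Set.mem_Iic] at hp
  rw [Set.mem_ofPred_eq, Set.disjoint_left]
  intro x hx hxp
  exact hx (hqm (hp hxp))

end Groth.Agent.H46
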