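import Groth.Agent.Lib.Helper55.Catenary
import Mathlib

/-!
# Dimension of an étale algebra over a polynomial ring over a field

If `T` is a nonzero étale algebra over `k[x_1, …, x_d]`, `k` a field, then every maximal ideal of `T`
has height `d`, and `dim T = d`.
-/

set_option autoImplicit false
universe u

namespace Groth.Agent.H46.SmoothDim

open MvPolynomial

variable (k : Type u) [Field k] (d : ℕ)

/-- maximal ideals of `k[x_1..x_d]` have height `d` -/
theorem height_maximal_mvPolynomial (p : Ideal (MvPolynomial (Fin d) k)) [p.IsMaximal] :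
    p.height = d := by
  have h := Groth.Agent.Lib.Helper55.ringKrullDim_quotient_add_height k (MvPolynomial (Fin d) k) p
  let _ : Field (MvPolynomial (Fin d) k ⧸ p) := Ideal.Quotient.field p
  rw [ringKrullDim_eq_zero_of_field, zero_add, MvPolynomial.ringKrullDim_of_isNoetherianRing,
    ringKrullDim_eq_zero_of_field, zero_add] at h
  have h2 : ((p.height : ℕ∞) : WithBot ℕ∞) = ((d : ℕ∞) : WithBot ℕ∞) := by
    rw [h]; simp
  exact WithBot.coe_injective h2

variable (T : Type u) [CommRing T] [Algebra (MvPolynomial (Fin d) k) T]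
  [Algebra.Etale (MvPolynomial (Fin d) k) T]

theorem isMaximal_under (m : Ideal T) [m.IsMaximal] :
    (m.under (MvPolynomial (Fin d) k)).IsMaximal := by
  let _ : Field (T ⧸ m) := Ideal.Quotient.field m
  have hft : Algebra.FiniteType (MvPolynomial (Fin d) k) T := inferInstance
  have hft' : Algebra.FiniteType (MvPolynomial (Fin d) k) (T ⧸ m) :=
    Algebra.FiniteType.of_surjective (Ideal.Quotient.mkₐ (MvPolynomial (Fin d) k) m)
      (Ideal.Quotient.mkₐ_surjective _ m)
  have hfin : Module.Finite (MvPolynomial (Fin d) k) (T ⧸ m) :=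
    finite_of_finite_type_of_isJacobsonRing (MvPolynomial (Fin d) k) (T ⧸ m)
  have hint : Algebra.IsIntegral (MvPolynomial (Fin d) k) (T ⧸ m) := Algebra.IsIntegral.of_finite _ _
  have hmax : ((⊥ : Ideal (T ⧸ m)).comap (algebraMap (MvPolynomial (Fin d) k) (T ⧸ m))).IsMaximal :=
    Ideal.isMaximal_comap_of_isIntegral_of_isMaximal (R := MvPolynomial (Fin d) k) ⊥
  have heq : m.under (MvPolynomial (Fin d) k) =
      (⊥ : Ideal (T ⧸ m)).comap (algebraMap (MvPolynomial (Fin d) k) (T ⧸ m)) := by
    ext x
    simp only [Ideal.under_def, Ideal.mem_comap, Ideal.mem_bot]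
    rw [IsScalarTower.algebraMap_apply (MvPolynomial (Fin d) k) T (T ⧸ m),
      Ideal.Quotient.algebraMap_eq, Ideal.Quotient.eq_zero_iff_mem]
  rw [heq]
  exact hmax

include k in
theorem height_eq (m : Ideal T) [m.IsMaximal] : m.height = d := by
  have hft : Algebra.FiniteType (MvPolynomial (Fin d) k) T := inferInstance
  have hnoeth : IsNoetherianRing T := Algebra.FiniteType.isNoetherianRing (MvPolynomial (Fin d) k) T
  have hp : (m.under (MvPolynomial (Fin d) k)).IsMaximal := isMaximal_under k d T m
  have hflat : Module.Flat (MvPolynomial (Fin d) k) T := inferInstance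
  have key := Ideal.height_eq_height_add_of_liesOver_of_hasGoingDown
    (m.under (MvPolynomial (Fin d) k)) m
  rw [height_maximal_mvPolynomial k d (m.under (MvPolynomial (Fin d) k))] at key
  rw [key]
  suffices h : (m.map (Ideal.Quotient.mk
      ((m.under (MvPolynomial (Fin d) k)).map (algebraMap (MvPolynomial (Fin d) k) T)))).height = 0 by
    rw [h, add_zero]
  set I := (m.under (MvPolynomial (Fin d) k)).map (algebraMap (MvPolynomial (Fin d) k) T) with hI
  have hIm : I ≤ m := Ideal.map_le_iff_le_comap.mpr le_rfl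
  have hsurj : Function.Surjective (Ideal.Quotient.mk I) := Ideal.Quotient.mk_surjective
  have hker : RingHom.ker (Ideal.Quotient.mk I) ≤ m := by rw [Ideal.mk_ker]; exact hIm
  have hprime : (m.map (Ideal.Quotient.mk I)).IsPrime :=
    Ideal.map_isPrime_of_surjective hsurj hker
  rw [Ideal.height_eq_zero_iff]
  refine ⟨⟨hprime, bot_le⟩, ?_⟩
  rintro Q' ⟨hQ'prime, -⟩ hQ'le
  -- pull back to `T`
  have hQprime : (Q'.comap (Ideal.Quotient.mk I)).IsPrime := Ideal.comap_isPrime _ _
  have hQle : Q'.comap (Ideal.Quotient.mk I) ≤ m := by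
    have := Ideal.comap_mono (f := Ideal.Quotient.mk I) hQ'le
    rwa [Ideal.comap_map_of_surjective _ hsurj, ← RingHom.ker_eq_comap_bot,
      sup_eq_left.mpr hker] at this
  have hIQ : I ≤ Q'.comap (Ideal.Quotient.mk I) := by
    intro x hx
    rw [Ideal.mem_comap, Ideal.Quotient.eq_zero_iff_mem.mpr hx]
    exact Q'.zero_mem
  have hunder : (Q'.comap (Ideal.Quotient.mk I)).under (MvPolynomial (Fin d) k) =
      m.under (MvPolynomial (Fin d) k) := by
    have h1 : m.under (MvPolynomial (Fin d) k) ≤
        (Q'.comap (Ideal.Quotient.mk I)).under (MvPolynomial (Fin d) k) := by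
      rw [Ideal.under_def, Ideal.under_def, ← Ideal.map_le_iff_le_comap]
      exact hIQ
    have hne : (Q'.comap (Ideal.Quotient.mk I)).under (MvPolynomial (Fin d) k) ≠ ⊤ :=
      (Ideal.IsPrime.under (MvPolynomial (Fin d) k) _).ne_top
    exact (hp.eq_of_le hne h1).symm
  have heq : Q'.comap (Ideal.Quotient.mk I) = m :=
    Algebra.QuasiFinite.eq_of_le_of_under_eq (R := MvPolynomial (Fin d) k) _ _ hQle hunder
  rw [← heq, Ideal.map_comap_of_surjective _ hsurj]

include k in
theorem ringKrullDim_eq [Nontrivial T] : ringKrullDim T = d := by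
  rw [← Ideal.sup_isMaximal_height_eq_ringKrullDim]
  have : (⨆ (I : Ideal T) (_ : I.IsMaximal), I.height) = (d : ℕ∞) := by
    apply le_antisymm
    · refine iSup_le fun I => iSup_le fun hI => ?_
      haveI := hI
      rw [height_eq k d T I]
    · obtain ⟨m, hm⟩ := Ideal.exists_maximal T
      haveI := hm
      refine le_trans ?_ (le_iSup_of_le m (le_iSup_of_le hm le_rfl))
      rw [height_eq k d T m]
  rw [this]
  rfl

end Groth.Agent.H46.SmoothDim
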