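import Mathlib
import Groth.Agent.Lib.Helper29.FlatAscent2
import Groth.Agent.Lib.Helper29.DepthFlat2

/-!
# Cohen–Macaulayness along flat local homomorphisms (helper46)
`B` CM iff `A` CM and `B / m_A B` CM.
-/

set_option autoImplicit false
universe u

namespace Groth.Agent.H46.CMFlatLocal

open IsLocalRing Groth.Agent.Lib.Helper29 TensorProduct

theorem cm_arith (nA nF dA dF : ℕ∞) (hA : dA ≤ nA) (hF : dF ≤ nF) (hfin : nA + nF ≠ ⊤)
    (h : nA + nF = dA + dF) : nA = dA ∧ nF = dF := by
  have hnA : nA ≠ ⊤ := fun h' => hfin (by rw [h', top_add])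
  have hnF : nF ≠ ⊤ := fun h' => hfin (by rw [h', add_top])
  lift nA to ℕ using hnA
  lift nF to ℕ using hnF
  have hdA : dA ≠ ⊤ := fun h' => by rw [h'] at hA; exact absurd (top_le_iff.mp hA) (ENat.coe_ne_top _)
  have hdF : dF ≠ ⊤ := fun h' => by rw [h'] at hF; exact absurd (top_le_iff.mp hF) (ENat.coe_ne_top _)
  lift dA to ℕ using hdA
  lift dF to ℕ using hdF
  norm_cast at *
  omega

variable (A B : Type u) [CommRing A] [CommRing B] [IsLocalRing A] [IsLocalRing B]
  [IsNoetherianRing A] [IsNoetherianRing B] [Algebra A B] [Module.Flat A B]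
  [IsLocalHom (algebraMap A B)]

theorem ringKrullDim_eq_coe_of_local (R : Type u) [CommRing R] [IsLocalRing R]
    [IsNoetherianRing R] : ∃ n : ℕ, ringKrullDim R = ((n : ℕ∞) : WithBot ℕ∞) := by
  have h := IsLocalRing.maximalIdeal_height_eq_ringKrullDim (R := R)
  have hne : (maximalIdeal R).height ≠ ⊤ := Ideal.height_ne_top_of_isPrime
  obtain ⟨n, hn⟩ := ENat.ne_top_iff_exists.mp hne
  exact ⟨n, by rw [← h, ← hn]⟩

/-- A flat local homomorphism of Noetherian local rings: `B` is CM iff `A` and the closed fibre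
ring are CM. -/
theorem isCohenMacaulayLocalRing_iff_of_flat :
    LocCoh.IsCohenMacaulayLocalRing B ↔
      LocCoh.IsCohenMacaulayLocalRing A ∧ LocCoh.IsCohenMacaulayLocalRing (EGA4.FibRing A B) := by
  have hd := depth_self_eq_add_of_flat A B
  have hk := ringKrullDim_eq_add_of_flat A B
  have hNF : IsNoetherianRing (EGA4.FibRing A B) :=
    isNoetherianRing_of_surjective B _ (Ideal.Quotient.mk _) Ideal.Quotient.mk_surjective
  have hA := depth_le_supportDim A A
  have hF := depth_le_supportDim (EGA4.FibRing A B) (EGA4.FibRing A B)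
  rw [Module.supportDim_self_eq_ringKrullDim] at hA hF
  obtain ⟨nA, hnA⟩ := ringKrullDim_eq_coe_of_local A
  obtain ⟨nF, hnF⟩ := ringKrullDim_eq_coe_of_local (EGA4.FibRing A B)
  change ringKrullDim B = ringKrullDim A + ringKrullDim (EGA4.FibRing A B) at hk
  rw [hnA, hnF] at hk
  rw [hnA] at hA
  rw [hnF] at hF
  have hA' : LocCoh.depth A A ≤ (nA : ℕ∞) := by exact_mod_cast hA
  have hF' : LocCoh.depth (EGA4.FibRing A B) (EGA4.FibRing A B) ≤ (nF : ℕ∞) := by
    exact_mod_cast hF
  constructor
  · intro hB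
    have h1 := hB.supportDim_eq_depth
    rw [Module.supportDim_self_eq_ringKrullDim, hk, hd] at h1
    have h2 : ((nA : ℕ∞) + (nF : ℕ∞)) = LocCoh.depth A A +
        LocCoh.depth (EGA4.FibRing A B) (EGA4.FibRing A B) := by exact_mod_cast h1
    obtain ⟨e1, e2⟩ := cm_arith _ _ _ _ hA' hF' (by exact_mod_cast ENat.coe_ne_top (nA + nF)) h2
    refine ⟨{ supportDim_eq_depth := ?_ }, { supportDim_eq_depth := ?_ }⟩
    · rw [Module.supportDim_self_eq_ringKrullDim, hnA, e1]
    · rw [Module.supportDim_self_eq_ringKrullDim, hnF, e2]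
  · rintro ⟨hAc, hFc⟩
    have h1 := hAc.supportDim_eq_depth
    have h2 := hFc.supportDim_eq_depth
    rw [Module.supportDim_self_eq_ringKrullDim] at h1 h2
    refine { supportDim_eq_depth := ?_ }
    rw [Module.supportDim_self_eq_ringKrullDim, hk, hd, ← hnA, ← hnF, h1, h2]
    rfl

section Quot

variable (B C : Type u) [CommRing B] [CommRing C] (I : Ideal B) [Algebra B C]

theorem flat_quotient [Module.Flat B C] : Module.Flat (B ⧸ I) (C ⧸ I.map (algebraMap B C)) :=
  Module.Flat.of_linearEquiv
    (Algebra.TensorProduct.quotIdealMapEquivQuotTensor C I).toLinearEquiv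

variable [IsLocalRing B] [IsLocalRing C] [IsLocalHom (algebraMap B C)]

theorem map_le_maximalIdeal (hI : I ≤ maximalIdeal B) :
    I.map (algebraMap B C) ≤ maximalIdeal C :=
  (Ideal.map_mono hI).trans (map_maximalIdeal_le (algebraMap B C))

theorem nontrivial_quot (hI : I ≤ maximalIdeal B) : Nontrivial (B ⧸ I) :=
  Ideal.Quotient.nontrivial_iff.mpr
    (fun h => (maximalIdeal.isMaximal B).ne_top (top_le_iff.mp (h ▸ hI)))

theorem isLocalRing_quot (hI : I ≤ maximalIdeal B) : IsLocalRing (B ⧸ I) :=
  haveI := nontrivial_quot B I hI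
  IsLocalRing.of_surjective' (Ideal.Quotient.mk I) Ideal.Quotient.mk_surjective

theorem maximalIdeal_quot (hI : I ≤ maximalIdeal B) :
    haveI := isLocalRing_quot B I hI
    (maximalIdeal B).map (Ideal.Quotient.mk I) = maximalIdeal (B ⧸ I) := by
  haveI := isLocalRing_quot B I hI
  have hmax : ((maximalIdeal B).map (Ideal.Quotient.mk I)).IsMaximal := by
    apply Ideal.IsMaximal.map_of_surjective_of_ker_le Ideal.Quotient.mk_surjective
    rw [Ideal.mk_ker]
    exact hI
  exact IsLocalRing.eq_maximalIdeal hmax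

theorem isLocalHom_quot (hI : I ≤ maximalIdeal B) :
    IsLocalHom (algebraMap (B ⧸ I) (C ⧸ I.map (algebraMap B C))) := by
  haveI := nontrivial_quot C (I.map (algebraMap B C)) (map_le_maximalIdeal B C I hI)
  haveI hl : IsLocalHom (Ideal.Quotient.mk (I.map (algebraMap B C))) :=
    IsLocalHom.of_surjective _ Ideal.Quotient.mk_surjective
  constructor
  intro a ha
  obtain ⟨b, rfl⟩ := Ideal.Quotient.mk_surjective a
  have h1 : IsUnit (Ideal.Quotient.mk (I.map (algebraMap B C)) (algebraMap B C b)) := ha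
  have h2 : IsUnit (algebraMap B C b) := hl.map_nonunit _ h1
  have h3 : IsUnit b := IsLocalHom.map_nonunit (f := algebraMap B C) _ h2
  exact h3.map _

/-- the closed fibre of the quotient map is the closed fibre of the original map -/
noncomputable def fibRingQuotEquiv (hI : I ≤ maximalIdeal B) :
    haveI := isLocalRing_quot B I hI
    (C ⧸ I.map (algebraMap B C)) ⧸ (maximalIdeal (B ⧸ I)).map
        (algebraMap (B ⧸ I) (C ⧸ I.map (algebraMap B C))) ≃+*
      C ⧸ (maximalIdeal B).map (algebraMap B C) := by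
  haveI := isLocalRing_quot B I hI
  have h1 : (maximalIdeal (B ⧸ I)).map (algebraMap (B ⧸ I) (C ⧸ I.map (algebraMap B C))) =
      ((maximalIdeal B).map (algebraMap B C)).map
        (Ideal.Quotient.mk (I.map (algebraMap B C))) := by
    rw [← maximalIdeal_quot B I hI, Ideal.map_map, Ideal.map_map]
    rfl
  have h2 : I.map (algebraMap B C) ⊔ (maximalIdeal B).map (algebraMap B C) =
      (maximalIdeal B).map (algebraMap B C) := sup_eq_right.mpr (Ideal.map_mono hI)
  exact (Ideal.quotEquivOfEq h1).trans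
    ((DoubleQuot.quotQuotEquivQuotSup _ _).trans (Ideal.quotEquivOfEq h2))

end Quot


section Comp

variable (A B C : Type u) [CommRing A] [CommRing B] [CommRing C] [IsLocalRing A] [IsLocalRing B]
  [IsLocalRing C] [Algebra A B] [Algebra B C] [Algebra A C] [IsScalarTower A B C]
  [IsLocalHom (algebraMap A B)] [IsLocalHom (algebraMap B C)]

omit [IsLocalRing B] [IsLocalRing C] [IsLocalHom (algebraMap A B)]
  [IsLocalHom (algebraMap B C)] in
theorem map_map_maximalIdeal :
    ((maximalIdeal A).map (algebraMap A B)).map (algebraMap B C) =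
      (maximalIdeal A).map (algebraMap A C) := by
  rw [Ideal.map_map, ← IsScalarTower.algebraMap_eq]

/-- composition: `A → B` and `B → C` flat with CM closed fibres implies `A → C` has CM closed
fibre (given it is Noetherian). -/
theorem cm_comp [Module.Flat B C]
    (hB : LocCoh.IsCohenMacaulayLocalRing (B ⧸ (maximalIdeal A).map (algebraMap A B)))
    (hC : LocCoh.IsCohenMacaulayLocalRing (C ⧸ (maximalIdeal B).map (algebraMap B C)))
    (hN : IsNoetherianRing (C ⧸ (maximalIdeal A).map (algebraMap A C))) :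
    LocCoh.IsCohenMacaulayLocalRing (C ⧸ (maximalIdeal A).map (algebraMap A C)) := by
  have hI : (maximalIdeal A).map (algebraMap A B) ≤ maximalIdeal B :=
    map_maximalIdeal_le (algebraMap A B)
  have hJ := map_map_maximalIdeal A B C
  haveI hlB := isLocalRing_quot B _ hI
  haveI hlC := isLocalRing_quot C _ (map_le_maximalIdeal B C _ hI)
  haveI := isLocalHom_quot B C _ hI
  haveI := flat_quotient B C ((maximalIdeal A).map (algebraMap A B))
  haveI : IsNoetherianRing (B ⧸ (maximalIdeal A).map (algebraMap A B)) := hB.toIsNoetherian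
  haveI : IsNoetherianRing
      (C ⧸ ((maximalIdeal A).map (algebraMap A B)).map (algebraMap B C)) :=
    isNoetherianRing_of_ringEquiv _ (Ideal.quotEquivOfEq hJ.symm)
  have hF : LocCoh.IsCohenMacaulayLocalRing
      (EGA4.FibRing (B ⧸ (maximalIdeal A).map (algebraMap A B))
        (C ⧸ ((maximalIdeal A).map (algebraMap A B)).map (algebraMap B C))) :=
    isCohenMacaulayLocalRing_of_ringEquiv (fibRingQuotEquiv B C _ hI).symm hC
  have h := (isCohenMacaulayLocalRing_iff_of_flat
    (B ⧸ (maximalIdeal A).map (algebraMap A B))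
    (C ⧸ ((maximalIdeal A).map (algebraMap A B)).map (algebraMap B C))).mpr ⟨hB, hF⟩
  exact isCohenMacaulayLocalRing_of_ringEquiv (Ideal.quotEquivOfEq hJ) h

/-- converse: `A → C` flat with CM closed fibre and `B → C` flat implies `A → B` flat-fibre CM and
`B → C` has CM closed fibre. -/
theorem cm_of_comp [Module.Flat B C]
    (hC : LocCoh.IsCohenMacaulayLocalRing (C ⧸ (maximalIdeal A).map (algebraMap A C)))
    (hNB : IsNoetherianRing (B ⧸ (maximalIdeal A).map (algebraMap A B))) :
    LocCoh.IsCohenMacaulayLocalRing (B ⧸ (maximalIdeal A).map (algebraMap A B)) ∧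
      LocCoh.IsCohenMacaulayLocalRing (C ⧸ (maximalIdeal B).map (algebraMap B C)) := by
  have hI : (maximalIdeal A).map (algebraMap A B) ≤ maximalIdeal B :=
    map_maximalIdeal_le (algebraMap A B)
  have hJ := map_map_maximalIdeal A B C
  haveI hlB := isLocalRing_quot B _ hI
  haveI hlC := isLocalRing_quot C _ (map_le_maximalIdeal B C _ hI)
  haveI := isLocalHom_quot B C _ hI
  haveI := flat_quotient B C ((maximalIdeal A).map (algebraMap A B))
  have hC' : LocCoh.IsCohenMacaulayLocalRing
      (C ⧸ ((maximalIdeal A).map (algebraMap A B)).map (algebraMap B C)) :=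
    isCohenMacaulayLocalRing_of_ringEquiv (Ideal.quotEquivOfEq hJ.symm) hC
  haveI : IsNoetherianRing
      (C ⧸ ((maximalIdeal A).map (algebraMap A B)).map (algebraMap B C)) :=
    hC'.toIsNoetherian
  obtain ⟨h1, h2⟩ := (isCohenMacaulayLocalRing_iff_of_flat
    (B ⧸ (maximalIdeal A).map (algebraMap A B))
    (C ⧸ ((maximalIdeal A).map (algebraMap A B)).map (algebraMap B C))).mp hC'
  exact ⟨h1, isCohenMacaulayLocalRing_of_ringEquiv (fibRingQuotEquiv B C _ hI) h2⟩

end Comp

end Groth.Agent.H46.CMFlatLocal
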