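import Mathlib
import Groth.Prelude.Def_MoreMor
import Groth.Agent.H46.CMFlatLocal
import Groth.Agent.Lib.Helper49.FiberStalk

set_option autoImplicit false
universe u

open AlgebraicGeometry CategoryTheory Limits

namespace Groth.Agent.H46.CMAt

open Groth.Agent.Lib.Helper29 Groth.Agent.H46.CMFlatLocal

/-- The stalk of a fibre is the closed-fibre ring of the stalk map. -/
noncomputable def fibreStalkEquiv {X S : Scheme.{u}} (f : X ⟶ S) (s : S) (y : ↥(f.fiber s)) :
    (X.presheaf.stalk ((f.fiberι s).base y) ⧸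
      Ideal.map (f.stalkMap ((f.fiberι s).base y)).hom
        (IsLocalRing.maximalIdeal (S.presheaf.stalk (f.base ((f.fiberι s).base y))))) ≃+*
      (f.fiber s).presheaf.stalk y :=
  have hker : Ideal.map (f.stalkMap ((f.fiberι s).base y)).hom
        (IsLocalRing.maximalIdeal (S.presheaf.stalk (f.base ((f.fiberι s).base y)))) =
      RingHom.ker ((f.fiberι s).stalkMap y).hom :=
    le_antisymm (Groth.Agent.Lib.Helper49.map_le_ker f s y)
      (Groth.Agent.Lib.Helper49.ker_le_map f s y)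
  (Ideal.quotEquivOfEq hker).trans
    (RingHom.quotientKerEquivOfSurjective ((f.fiberι s).stalkMap_surjective y))

/-- `IsCMAt` in terms of the closed-fibre ring of the stalk map. -/
theorem isCMAt_iff {X S : Scheme.{u}} (f : X ⟶ S) (x : X) :
    MoreMor.IsCMAt f x ↔ (f.stalkMap x).hom.Flat ∧
      LocCoh.IsCohenMacaulayLocalRing (X.presheaf.stalk x ⧸
        Ideal.map (f.stalkMap x).hom (IsLocalRing.maximalIdeal (S.presheaf.stalk (f.base x)))) := by
  unfold MoreMor.IsCMAt
  refine and_congr Iff.rfl ?_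
  have key : ∀ (x₁ : X) (_ : (f.fiberι (f.base x)).base (f.asFiber x) = x₁),
      (LocCoh.IsCohenMacaulayLocalRing ((f.fiber (f.base x)).presheaf.stalk (f.asFiber x)) ↔
        LocCoh.IsCohenMacaulayLocalRing (X.presheaf.stalk x₁ ⧸
          Ideal.map (f.stalkMap x₁).hom
            (IsLocalRing.maximalIdeal (S.presheaf.stalk (f.base x₁))))) := by
    rintro _ rfl
    exact ⟨isCohenMacaulayLocalRing_of_ringEquiv (fibreStalkEquiv f (f.base x) (f.asFiber x)).symm,
      isCohenMacaulayLocalRing_of_ringEquiv (fibreStalkEquiv f (f.base x) (f.asFiber x))⟩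
  exact key x (f.fiberι_asFiber x)


theorem main_9768 {X Y : Scheme.{u}} (f : X ⟶ Y) [IsLocallyNoetherian X] [IsLocallyNoetherian Y]
    [Flat f]
    (hX : ∀ x : X, LocCoh.IsCohenMacaulayLocalRing ↑(X.presheaf.stalk x)) (x : X) :
    MoreMor.IsCMAt f x ∧ LocCoh.IsCohenMacaulayLocalRing ↑(Y.presheaf.stalk (f x)) := by
  rw [isCMAt_iff]
  have hfl : (f.stalkMap x).hom.Flat := Flat.stalkMap f x
  algebraize [(f.stalkMap x).hom]
  haveI : IsLocalHom (algebraMap (Y.presheaf.stalk (f.base x)) (X.presheaf.stalk x)) :=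
    inferInstanceAs (IsLocalHom (f.stalkMap x).hom)
  obtain ⟨hA, hF⟩ := (isCohenMacaulayLocalRing_iff_of_flat (Y.presheaf.stalk (f.base x))
    (X.presheaf.stalk x)).mp (hX x)
  exact ⟨⟨hfl, hF⟩, hA⟩

end Groth.Agent.H46.CMAt
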