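import Mathlib
import Groth.Agent.H46.CMAt
import Groth.Agent.Lib.Helper7.FlatDescent

set_option autoImplicit false
universe u

open AlgebraicGeometry CategoryTheory Limits

namespace Groth.Agent.H46.CMAt

open Groth.Agent.Lib.Helper29 Groth.Agent.H46.CMFlatLocal IsLocalRing

theorem nonempty_fibreStalk_equiv {X S : Scheme.{u}} (f : X ⟶ S) (x : X) :
    Nonempty ((X.presheaf.stalk x ⧸
        Ideal.map (f.stalkMap x).hom (maximalIdeal (S.presheaf.stalk (f.base x)))) ≃+*
      (f.fiber (f.base x)).presheaf.stalk (f.asFiber x)) := by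
  have key : ∀ (x₁ : X) (_ : (f.fiberι (f.base x)).base (f.asFiber x) = x₁),
      Nonempty ((X.presheaf.stalk x₁ ⧸
        Ideal.map (f.stalkMap x₁).hom (maximalIdeal (S.presheaf.stalk (f.base x₁)))) ≃+*
      (f.fiber (f.base x)).presheaf.stalk (f.asFiber x)) := by
    rintro _ rfl
    exact ⟨fibreStalkEquiv f (f.base x) (f.asFiber x)⟩
  exact key x (f.fiberι_asFiber x)

theorem main_9766 {X Y Z : Scheme.{u}} (f : X ⟶ Y) (g : Y ⟶ Z) (x : X)
    (hN : IsLocallyNoetherian ((f ≫ g).fiber (g (f x))))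
    (hf : MoreMor.IsCMAt f x) (hg : MoreMor.IsCMAt g (f x)) : MoreMor.IsCMAt (f ≫ g) x := by
  rw [isCMAt_iff] at hf hg ⊢
  obtain ⟨hf1, hf2⟩ := hf
  obtain ⟨hg1, hg2⟩ := hg
  have hcomp : ((f ≫ g).stalkMap x) = g.stalkMap (f x) ≫ f.stalkMap x :=
    Scheme.Hom.stalkMap_comp f g x
  obtain ⟨e⟩ := nonempty_fibreStalk_equiv (f ≫ g) x
  have hN' : IsNoetherianRing
      (((f ≫ g).fiber ((f ≫ g).base x)).presheaf.stalk ((f ≫ g).asFiber x)) := by
    haveI : IsLocallyNoetherian ((f ≫ g).fiber ((f ≫ g).base x)) := hN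
    infer_instance
  have hN'' := isNoetherianRing_of_ringEquiv _ e.symm
  letI algAB : Algebra (Z.presheaf.stalk (g.base (f.base x))) (Y.presheaf.stalk (f.base x)) :=
    (g.stalkMap (f.base x)).hom.toAlgebra
  letI algBC : Algebra (Y.presheaf.stalk (f.base x)) (X.presheaf.stalk x) :=
    (f.stalkMap x).hom.toAlgebra
  letI algAC : Algebra (Z.presheaf.stalk (g.base (f.base x))) (X.presheaf.stalk x) :=
    ((f.stalkMap x).hom.comp (g.stalkMap (f.base x)).hom).toAlgebra
  haveI : IsScalarTower (Z.presheaf.stalk (g.base (f.base x))) (Y.presheaf.stalk (f.base x))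
      (X.presheaf.stalk x) := IsScalarTower.of_algebraMap_eq (fun _ => rfl)
  haveI : IsLocalHom (algebraMap (Z.presheaf.stalk (g.base (f.base x)))
      (Y.presheaf.stalk (f.base x))) :=
    inferInstanceAs (IsLocalHom (g.stalkMap (f.base x)).hom)
  haveI : IsLocalHom (algebraMap (Y.presheaf.stalk (f.base x)) (X.presheaf.stalk x)) :=
    inferInstanceAs (IsLocalHom (f.stalkMap x).hom)
  haveI : Module.Flat (Y.presheaf.stalk (f.base x)) (X.presheaf.stalk x) := hf1
  have hmapeq : ((f ≫ g).stalkMap x).hom =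
      (f.stalkMap x).hom.comp (g.stalkMap (f.base x)).hom := by
    rw [hcomp]; rfl
  refine ⟨?_, ?_⟩
  · rw [hmapeq]
    exact RingHom.Flat.comp hg1 hf1
  · have hideal : Ideal.map ((f ≫ g).stalkMap x).hom
        (maximalIdeal (Z.presheaf.stalk ((f ≫ g).base x))) =
        Ideal.map (algebraMap (Z.presheaf.stalk (g.base (f.base x))) (X.presheaf.stalk x))
          (maximalIdeal (Z.presheaf.stalk (g.base (f.base x)))) := by
      rw [hmapeq]; rfl
    have h := cm_comp (Z.presheaf.stalk (g.base (f.base x))) (Y.presheaf.stalk (f.base x))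
      (X.presheaf.stalk x) hg2 hf2
      (isNoetherianRing_of_ringEquiv _ (Ideal.quotEquivOfEq hideal))
    exact isCohenMacaulayLocalRing_of_ringEquiv (Ideal.quotEquivOfEq hideal.symm) h


theorem main_9767 {X Y Z : Scheme.{u}} (f : X ⟶ Y) (g : Y ⟶ Z) (x : X)
    (hNf : IsLocallyNoetherian (f.fiber (f x))) (hNg : IsLocallyNoetherian (g.fiber (g (f x))))
    (h : MoreMor.IsCMAt (f ≫ g) x) (hfl : (f.stalkMap x).hom.Flat) :
    MoreMor.IsCMAt f x ∧ MoreMor.IsCMAt g (f x) := by
  rw [isCMAt_iff, isCMAt_iff]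
  rw [isCMAt_iff] at h
  obtain ⟨h1, h2⟩ := h
  have hcomp : ((f ≫ g).stalkMap x) = g.stalkMap (f x) ≫ f.stalkMap x :=
    Scheme.Hom.stalkMap_comp f g x
  obtain ⟨e⟩ := nonempty_fibreStalk_equiv g (f.base x)
  have hN' : IsNoetherianRing
      ((g.fiber (g.base (f.base x))).presheaf.stalk (g.asFiber (f.base x))) := by
    haveI : IsLocallyNoetherian (g.fiber (g.base (f.base x))) := hNg
    infer_instance
  have hNB := isNoetherianRing_of_ringEquiv _ e.symm
  letI algAB : Algebra (Z.presheaf.stalk (g.base (f.base x))) (Y.presheaf.stalk (f.base x)) :=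
    (g.stalkMap (f.base x)).hom.toAlgebra
  letI algBC : Algebra (Y.presheaf.stalk (f.base x)) (X.presheaf.stalk x) :=
    (f.stalkMap x).hom.toAlgebra
  letI algAC : Algebra (Z.presheaf.stalk (g.base (f.base x))) (X.presheaf.stalk x) :=
    ((f.stalkMap x).hom.comp (g.stalkMap (f.base x)).hom).toAlgebra
  haveI : IsScalarTower (Z.presheaf.stalk (g.base (f.base x))) (Y.presheaf.stalk (f.base x))
      (X.presheaf.stalk x) := IsScalarTower.of_algebraMap_eq (fun _ => rfl)
  haveI : IsLocalHom (algebraMap (Z.presheaf.stalk (g.base (f.base x)))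
      (Y.presheaf.stalk (f.base x))) :=
    inferInstanceAs (IsLocalHom (g.stalkMap (f.base x)).hom)
  haveI : IsLocalHom (algebraMap (Y.presheaf.stalk (f.base x)) (X.presheaf.stalk x)) :=
    inferInstanceAs (IsLocalHom (f.stalkMap x).hom)
  haveI : Module.Flat (Y.presheaf.stalk (f.base x)) (X.presheaf.stalk x) := hfl
  have hmapeq : ((f ≫ g).stalkMap x).hom =
      (f.stalkMap x).hom.comp (g.stalkMap (f.base x)).hom := by
    rw [hcomp]; rfl
  haveI : Module.Flat (Z.presheaf.stalk (g.base (f.base x))) (X.presheaf.stalk x) := by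
    rw [hmapeq] at h1
    exact h1
  haveI : Module.FaithfullyFlat (Y.presheaf.stalk (f.base x)) (X.presheaf.stalk x) :=
    Module.FaithfullyFlat.of_flat_of_isLocalHom
  have hflAB : Module.Flat (Z.presheaf.stalk (g.base (f.base x))) (Y.presheaf.stalk (f.base x)) :=
    Groth.Agent.Lib.Helper7.flat_of_faithfullyFlat_of_flat_comp _ _ (X.presheaf.stalk x)
  have hideal : Ideal.map ((f ≫ g).stalkMap x).hom
      (maximalIdeal (Z.presheaf.stalk ((f ≫ g).base x))) =
      Ideal.map (algebraMap (Z.presheaf.stalk (g.base (f.base x))) (X.presheaf.stalk x))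
        (maximalIdeal (Z.presheaf.stalk (g.base (f.base x)))) := by
    rw [hmapeq]; rfl
  have h2' := isCohenMacaulayLocalRing_of_ringEquiv (Ideal.quotEquivOfEq hideal) h2
  obtain ⟨k1, k2⟩ := cm_of_comp (Z.presheaf.stalk (g.base (f.base x)))
    (Y.presheaf.stalk (f.base x)) (X.presheaf.stalk x) h2' hNB
  exact ⟨⟨hfl, k2⟩, ⟨hflAB, k1⟩⟩

end Groth.Agent.H46.CMAt
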