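/-
helper46: lifting regular sequences from the fibre local ring (EGA IV 11.3.8 via helper62's
`list_step`) to get depth ≥ 2 / nonzerodivisors on non-Noetherian total spaces.
-/
import Mathlib
import Groth.Prelude.Def_CInt
import Groth.Agent.Lib.Helper62.FibReg10
import Groth.Agent.Lib.Helper93.Depth
import Groth.Agent.Lib.Helper16.FlatPull.Chart
import Groth.Agent.Lib.Helper28.RegularCM
import Groth.Agent.Lib.Helper29.DepthQuot
import Groth.Agent.H46.CMAt2
import Groth.Agent.S1535

set_option autoImplicit false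
universe u

open RingTheory.Sequence IsLocalRing

namespace Groth.Agent.H46.FibreDepthTwo

section Algebra

variable {A B : Type u} [CommRing A] [CommRing B] [Algebra A B] [Algebra.FinitePresentation A B]
  (q : Ideal B) [q.IsPrime] (R : Type u) [CommRing R] [IsLocalRing R] [Algebra B R]
  [IsLocalization.AtPrime R q] [Algebra A R] [IsScalarTower A B R] [Module.Flat A R]

omit [Algebra.FinitePresentation A B] [IsLocalRing R] [IsLocalization.AtPrime R q]
  [Module.Flat A R] [q.IsPrime] in
theorem mem_smul_top_iff (y : R) :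
    y ∈ ((q.comap (algebraMap A B)).map (algebraMap A B)) • (⊤ : Submodule B R) ↔
      y ∈ (q.comap (algebraMap A B)).map (algebraMap A R) := by
  rw [Groth.Agent.Lib.Helper93.DepthFlat.mem_map_smul_top_iff (S := B), Ideal.smul_top_eq_map]
  rfl

omit [Algebra.FinitePresentation A B] [Algebra A R] [IsScalarTower A B R] [Module.Flat A R] in
theorem algebraMap_mem_maximalIdeal {x : R} (hx : x ∈ maximalIdeal R) {g : B} {s : B}
    (h : x * algebraMap B R s = algebraMap B R g) : algebraMap B R g ∈ maximalIdeal R := by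
  rw [← h]
  exact Ideal.mul_mem_right _ _ hx

/-- One element: a nonzerodivisor modulo `pR` in the maximal ideal is a nonzerodivisor. -/
theorem isSMulRegular_of_fibre (x1 : R)
    (H1 : ∀ y, x1 * y ∈ (q.comap (algebraMap A B)).map (algebraMap A R) →
      y ∈ (q.comap (algebraMap A B)).map (algebraMap A R)) :
    IsSMulRegular R x1 := by
  obtain ⟨⟨g1, s1⟩, h1⟩ := IsLocalization.surj q.primeCompl x1
  have hu1 : IsUnit (algebraMap B R s1) := IsLocalization.map_units R s1
  simp only at h1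
  set J : Submodule B R :=
    ((q.comap (algebraMap A B)).map (algebraMap A B)) • (⊤ : Submodule B R) with hJ
  have hreg : IsWeaklyRegular (R ⧸ J) [g1] := by
    rw [isWeaklyRegular_singleton_iff, isSMulRegular_quotient_iff_mem_of_smul_mem]
    intro y hy
    rw [hJ, mem_smul_top_iff] at hy ⊢
    rw [Algebra.smul_def, ← h1, mul_assoc] at hy
    have := H1 _ hy
    exact (Ideal.unit_mul_mem_iff_mem _ hu1).mp this
  have h := (Groth.Agent.Lib.Helper62.FibReg.list_step A B q [g1] B R
    (Algebra.linearMap B R) hreg).1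
  rw [isWeaklyRegular_singleton_iff] at h
  intro a b hab
  apply h
  change g1 • a = g1 • b
  rw [Algebra.smul_def, Algebra.smul_def, ← h1, mul_right_comm, mul_right_comm x1 _ b]
  have hab' : x1 * a = x1 * b := hab
  rw [hab']

/-- Two elements. -/
theorem two_le_depth_of_fibre (x1 x2 : R) (hx1 : x1 ∈ maximalIdeal R) (hx2 : x2 ∈ maximalIdeal R)
    (H1 : ∀ y, x1 * y ∈ (q.comap (algebraMap A B)).map (algebraMap A R) →
      y ∈ (q.comap (algebraMap A B)).map (algebraMap A R))
    (H2 : ∀ y z, x2 * y - x1 * z ∈ (q.comap (algebraMap A B)).map (algebraMap A R) →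
      ∃ w, y - x1 * w ∈ (q.comap (algebraMap A B)).map (algebraMap A R)) :
    (2 : ℕ∞) ≤ LocCoh.depth R R := by
  obtain ⟨⟨g1, s1⟩, h1⟩ := IsLocalization.surj q.primeCompl x1
  obtain ⟨⟨g2, s2⟩, h2⟩ := IsLocalization.surj q.primeCompl x2
  have hu1 : IsUnit (algebraMap B R s1) := IsLocalization.map_units R s1
  have hu2 : IsUnit (algebraMap B R s2) := IsLocalization.map_units R s2
  simp only at h1 h2
  set I : Ideal R := (q.comap (algebraMap A B)).map (algebraMap A R) with hI
  set J : Submodule B R :=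
    ((q.comap (algebraMap A B)).map (algebraMap A B)) • (⊤ : Submodule B R) with hJ
  have hJI : ∀ y : R, y ∈ J ↔ y ∈ I := fun y => mem_smul_top_iff q R y
  have hreg : IsWeaklyRegular (R ⧸ J) [g1, g2] := by
    rw [isWeaklyRegular_cons_iff, isWeaklyRegular_singleton_iff]
    constructor
    · rw [isSMulRegular_quotient_iff_mem_of_smul_mem]
      intro y hy
      rw [hJI] at hy ⊢
      rw [Algebra.smul_def, ← h1, mul_assoc] at hy
      exact (Ideal.unit_mul_mem_iff_mem _ hu1).mp (H1 _ hy)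
    · rw [isSMulRegular_quotient_iff_mem_of_smul_mem]
      intro t ht
      obtain ⟨y, rfl⟩ := Submodule.Quotient.mk_surjective _ t
      rw [Submodule.mem_smul_pointwise_iff_exists] at ht ⊢
      obtain ⟨t', -, ht'⟩ := ht
      obtain ⟨z, rfl⟩ := Submodule.Quotient.mk_surjective _ t'
      rw [← Submodule.Quotient.mk_smul, ← Submodule.Quotient.mk_smul, eq_comm,
        Submodule.Quotient.eq, hJI] at ht'
      -- `g2 • y - g1 • z ∈ I`
      rw [Algebra.smul_def, Algebra.smul_def, ← h1, ← h2, mul_assoc, mul_assoc] at ht'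
      obtain ⟨w, hw⟩ := H2 _ _ ht'
      -- `algebraMap s2 * y - x1 * w ∈ I`
      obtain ⟨v2, hv2⟩ := hu2
      obtain ⟨v1, hv1⟩ := hu1
      refine ⟨Submodule.Quotient.mk ((↑v2⁻¹ : R) * w * ↑v1⁻¹), Submodule.mem_top, ?_⟩
      rw [← Submodule.Quotient.mk_smul, Submodule.Quotient.eq, hJI]
      rw [Algebra.smul_def, ← h1, ← hv1]
      have h3 : (↑v2⁻¹ : R) * (algebraMap B R s2 * y - x1 * w) ∈ I := Ideal.mul_mem_left _ _ hw
      rw [← hv2] at h3
      have h4 : x1 * (v1 : R) * ((↑v2⁻¹ : R) * w * ↑v1⁻¹) - y =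
          -((↑v2⁻¹ : R) * ((v2 : R) * y - x1 * w)) := by
        have e1 : (v1 : R) * ↑v1⁻¹ = 1 := Units.mul_inv v1
        have e2 : (↑v2⁻¹ : R) * (v2 : R) = 1 := Units.inv_mul v2
        calc x1 * (v1 : R) * ((↑v2⁻¹ : R) * w * ↑v1⁻¹) - y
            = x1 * ((↑v2⁻¹ : R) * w) * ((v1 : R) * ↑v1⁻¹) - y := by ring
          _ = x1 * ((↑v2⁻¹ : R) * w) - ((↑v2⁻¹ : R) * (v2 : R)) * y := by rw [e1, e2]; ring
          _ = -((↑v2⁻¹ : R) * ((v2 : R) * y - x1 * w)) := by ring
      rw [h4]
      exact I.neg_mem h3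
  have h := (Groth.Agent.Lib.Helper62.FibReg.list_step A B q [g1, g2] B R
    (Algebra.linearMap B R) hreg).1
  have h' : IsWeaklyRegular R ([g1, g2].map (algebraMap B R)) :=
    (isWeaklyRegular_map_algebraMap_iff R R [g1, g2]).mpr h
  have := Groth.Agent.Lib.Helper93.Depth.length_le_idealDepth (I := maximalIdeal R) h' (by
    intro r hr
    simp only [List.map_cons, List.map_nil, List.mem_cons, List.not_mem_nil, or_false] at hr
    rcases hr with rfl | rfl
    · exact algebraMap_mem_maximalIdeal (R := R) hx1 h1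
    · exact algebraMap_mem_maximalIdeal (R := R) hx2 h2)
  simpa [LocCoh.depth] using this

end Algebra

section Scheme

open AlgebraicGeometry CategoryTheory Limits

variable {P S : Scheme.{u}} (π : P ⟶ S)

set_option linter.style.haveILetI false in
/-- Lifting nonzerodivisors / regular pairs from the fibre local ring `O_{P,x}/m_s O_{P,x}` for a
flat morphism locally of finite presentation (no Noetherian hypotheses). -/
theorem lift [Flat π] [LocallyOfFinitePresentation π] (x : P) :
    (∀ x1 : P.presheaf.stalk x,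
      (∀ y, x1 * y ∈ Ideal.map (π.stalkMap x).hom (maximalIdeal (S.presheaf.stalk (π.base x))) →
        y ∈ Ideal.map (π.stalkMap x).hom (maximalIdeal (S.presheaf.stalk (π.base x)))) →
      IsSMulRegular (P.presheaf.stalk x) x1) ∧
    (∀ x1 x2 : P.presheaf.stalk x, x1 ∈ maximalIdeal (P.presheaf.stalk x) →
      x2 ∈ maximalIdeal (P.presheaf.stalk x) →
      (∀ y, x1 * y ∈ Ideal.map (π.stalkMap x).hom (maximalIdeal (S.presheaf.stalk (π.base x))) →
        y ∈ Ideal.map (π.stalkMap x).hom (maximalIdeal (S.presheaf.stalk (π.base x)))) →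
      (∀ y z, x2 * y - x1 * z ∈
          Ideal.map (π.stalkMap x).hom (maximalIdeal (S.presheaf.stalk (π.base x))) →
        ∃ w, y - x1 * w ∈
          Ideal.map (π.stalkMap x).hom (maximalIdeal (S.presheaf.stalk (π.base x)))) →
      (2 : ℕ∞) ≤ LocCoh.depth (P.presheaf.stalk x) (P.presheaf.stalk x)) := by
  obtain ⟨V, U, hV, hU, hUV, hxU⟩ := Groth.Agent.Lib.Helper16.FlatPull.exists_charts π x
  have hsV : π.base x ∈ V := hUV hxU
  letI algAB : Algebra Γ(S, V) Γ(P, U) := (π.appLE V U hUV).hom.toAlgebra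
  letI algBR : Algebra Γ(P, U) (P.presheaf.stalk x) :=
    TopCat.Presheaf.algebra_section_stalk P.presheaf (⟨x, hxU⟩ : U)
  letI algAS : Algebra Γ(S, V) (S.presheaf.stalk (π.base x)) :=
    TopCat.Presheaf.algebra_section_stalk S.presheaf (⟨π.base x, hsV⟩ : V)
  letI algAR : Algebra Γ(S, V) (P.presheaf.stalk x) :=
    ((algebraMap Γ(P, U) (P.presheaf.stalk x)).comp (algebraMap Γ(S, V) Γ(P, U))).toAlgebra
  haveI tower : IsScalarTower Γ(S, V) Γ(P, U) (P.presheaf.stalk x) :=
    IsScalarTower.of_algebraMap_eq (fun _ => rfl)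
  haveI locR : IsLocalization.AtPrime (P.presheaf.stalk x) (hU.primeIdealOf ⟨x, hxU⟩).asIdeal :=
    hU.isLocalization_stalk ⟨x, hxU⟩
  haveI locS : IsLocalization.AtPrime (S.presheaf.stalk (π.base x))
      (hV.primeIdealOf ⟨π.base x, hsV⟩).asIdeal := hV.isLocalization_stalk ⟨_, hsV⟩
  haveI fp : Algebra.FinitePresentation Γ(S, V) Γ(P, U) :=
    HasRingHomProperty.appLE (P := @LocallyOfFinitePresentation) π inferInstance ⟨V, hV⟩ ⟨U, hU⟩ hUV
  haveI flAB : Module.Flat Γ(S, V) Γ(P, U) :=
    HasRingHomProperty.appLE (P := @Flat) π inferInstance ⟨V, hV⟩ ⟨U, hU⟩ hUV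
  haveI flBR : Module.Flat Γ(P, U) (P.presheaf.stalk x) :=
    IsLocalization.flat _ (hU.primeIdealOf ⟨x, hxU⟩).asIdeal.primeCompl
  haveI flAR : Module.Flat Γ(S, V) (P.presheaf.stalk x) :=
    Module.Flat.trans Γ(S, V) Γ(P, U) (P.presheaf.stalk x)
  have hcompat : ∀ a : Γ(S, V),
      (π.stalkMap x).hom (algebraMap Γ(S, V) (S.presheaf.stalk (π.base x)) a) =
        algebraMap Γ(S, V) (P.presheaf.stalk x) a := by
    intro a
    change (π.stalkMap x).hom (S.presheaf.germ V (π.base x) hsV a) = _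
    rw [Scheme.Hom.germ_stalkMap_apply]
    change _ = algebraMap Γ(P, U) (P.presheaf.stalk x) (algebraMap Γ(S, V) Γ(P, U) a)
    simp only [RingHom.algebraMap_toAlgebra, Scheme.Hom.appLE, homOfLE_leOfHom,
      CommRingCat.hom_comp, RingHom.coe_comp, Function.comp_apply]
    change _ = P.presheaf.germ U x hxU _
    rw [P.presheaf.germ_res_apply]
  set q : Ideal Γ(P, U) := (hU.primeIdealOf ⟨x, hxU⟩).asIdeal with hq
  have hI : (q.comap (algebraMap Γ(S, V) Γ(P, U))).map (algebraMap Γ(S, V) (P.presheaf.stalk x)) =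
      Ideal.map (π.stalkMap x).hom (maximalIdeal (S.presheaf.stalk (π.base x))) := by
    have h1 : q = (maximalIdeal (P.presheaf.stalk x)).comap
        (algebraMap Γ(P, U) (P.presheaf.stalk x)) :=
      (IsLocalization.AtPrime.comap_maximalIdeal (P.presheaf.stalk x) q).symm
    have h2 : algebraMap Γ(S, V) (P.presheaf.stalk x) =
        (π.stalkMap x).hom.comp (algebraMap Γ(S, V) (S.presheaf.stalk (π.base x))) := by
      ext a; exact (hcompat a).symm
    have h3 : (maximalIdeal (P.presheaf.stalk x)).comap (π.stalkMap x).hom =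
        maximalIdeal (S.presheaf.stalk (π.base x)) :=
      have h0 : IsLocalHom (π.stalkMap x).hom := inferInstance
      ((IsLocalRing.local_hom_TFAE (π.stalkMap x).hom).out 0 4).mp h0
    have h4 : q.comap (algebraMap Γ(S, V) Γ(P, U)) =
        (maximalIdeal (S.presheaf.stalk (π.base x))).comap
          (algebraMap Γ(S, V) (S.presheaf.stalk (π.base x))) := by
      rw [h1, Ideal.comap_comap, ← IsScalarTower.algebraMap_eq, h2, ← Ideal.comap_comap, h3]
    rw [h4, h2, ← Ideal.map_map,
      IsLocalization.map_comap (hV.primeIdealOf ⟨π.base x, hsV⟩).asIdeal.primeCompl]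
  refine ⟨fun x1 H1 => ?_, fun x1 x2 hx1 hx2 H1 H2 => ?_⟩
  · exact isSMulRegular_of_fibre q (P.presheaf.stalk x) x1 (by rwa [hI])
  · exact two_le_depth_of_fibre q (P.presheaf.stalk x) x1 x2 hx1 hx2 (by rwa [hI]) (by rwa [hI])

/-- fibres of a smooth morphism have regular local rings. -/
theorem isRegularLocalRing_fiberStalk [Smooth π] (x : P) :
    IsRegularLocalRing (CInt.fiberStalk π x) := by
  letI : (π.fiber (π x)).Over (Spec (CommRingCat.of (S.residueField (π x)))) :=
    ⟨π.fiberToSpecResidueField (π x)⟩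
  haveI : Smooth (π.fiber (π x) ↘ Spec (CommRingCat.of (S.residueField (π x)))) :=
    (inferInstance : Smooth (pullback.snd π (S.fromSpecResidueField (π x))))
  exact Groth.Agent.S1535.result (S.residueField (π x)) (π.fiber (π x)) (π.asFiber x)

set_option linter.style.haveILetI false in
/-- If the fibre local ring is Cohen–Macaulay of dimension `≥ 2`, there is a pair of elements of
the maximal ideal of `O_{P,x}` forming a regular sequence modulo `m_s O_{P,x}`. -/
theorem exists_pair_of_cm (x : P)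
    (hCM : LocCoh.IsCohenMacaulayLocalRing (CInt.fiberStalk π x))
    (hx : (2 : WithBot ℕ∞) ≤ ringKrullDim (CInt.fiberStalk π x)) :
    ∃ x1 x2 : P.presheaf.stalk x, x1 ∈ maximalIdeal (P.presheaf.stalk x) ∧
      x2 ∈ maximalIdeal (P.presheaf.stalk x) ∧
      (∀ y, x1 * y ∈ Ideal.map (π.stalkMap x).hom (maximalIdeal (S.presheaf.stalk (π.base x))) →
        y ∈ Ideal.map (π.stalkMap x).hom (maximalIdeal (S.presheaf.stalk (π.base x)))) ∧
      (∀ y z, x2 * y - x1 * z ∈
          Ideal.map (π.stalkMap x).hom (maximalIdeal (S.presheaf.stalk (π.base x))) →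
        ∃ w, y - x1 * w ∈
          Ideal.map (π.stalkMap x).hom (maximalIdeal (S.presheaf.stalk (π.base x)))) := by
  haveI : IsNoetherianRing (CInt.fiberStalk π x) := hCM.toIsNoetherian
  have hd : ((2 : ℕ) : ℕ∞) ≤ LocCoh.depth (CInt.fiberStalk π x) (CInt.fiberStalk π x) := by
    have h := hCM.supportDim_eq_depth
    rw [Module.supportDim_self_eq_ringKrullDim] at h
    rw [h] at hx
    have hx' : (((2 : ℕ) : ℕ∞) : WithBot ℕ∞) ≤
        ((LocCoh.depth (CInt.fiberStalk π x) (CInt.fiberStalk π x) : ℕ∞) : WithBot ℕ∞) := hx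
    exact WithBot.coe_le_coe.mp hx'
  obtain ⟨e⟩ := Groth.Agent.H46.CMAt.nonempty_fibreStalk_equiv π x
  algebraize [(π.stalkMap x).hom]
  haveI : IsLocalHom (algebraMap (S.presheaf.stalk (π.base x)) (P.presheaf.stalk x)) :=
    inferInstanceAs (IsLocalHom (π.stalkMap x).hom)
  set R' := EGA4.FibRing (S.presheaf.stalk (π.base x)) (P.presheaf.stalk x) with hR'
  have e' : CInt.fiberStalk π x ≃+* R' := e.symm
  have hd' : ((2 : ℕ) : ℕ∞) ≤ LocCoh.depth R' R' := by
    rw [← Groth.Agent.Lib.Helper29.depth_self_eq_of_ringEquiv e']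
    exact hd
  have h2 := (Groth.Agent.Lib.Helper93.Depth.natCast_le_idealDepth_iff
    (I := maximalIdeal R') (M := R') 2).mp hd'
  rcases h2 with h2 | ⟨rs, hlen, hmem, hreg⟩
  · exfalso
    rw [smul_eq_mul, Ideal.mul_top] at h2
    exact (maximalIdeal.isMaximal R').ne_top h2
  obtain ⟨a, b, rfl⟩ := List.length_eq_two.mp hlen
  obtain ⟨x1, rfl⟩ := Ideal.Quotient.mk_surjective a
  obtain ⟨x2, rfl⟩ := Ideal.Quotient.mk_surjective b
  have hm : ∀ t : P.presheaf.stalk x, Ideal.Quotient.mk _ t ∈ maximalIdeal R' →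
      t ∈ maximalIdeal (P.presheaf.stalk x) := by
    intro t ht
    by_contra hcon
    have hu : IsUnit t := by
      by_contra h
      exact hcon ((mem_maximalIdeal t).mpr (mem_nonunits_iff.mpr h))
    exact ((mem_maximalIdeal _).mp ht) (hu.map _)
  rw [isWeaklyRegular_cons_iff, isWeaklyRegular_singleton_iff] at hreg
  obtain ⟨hr1, hr2⟩ := hreg
  refine ⟨x1, x2, hm x1 (hmem _ (by simp)), hm x2 (hmem _ (by simp)), ?_, ?_⟩
  · intro y hy
    have h0 : (Ideal.Quotient.mk _ x1 : R') * Ideal.Quotient.mk _ y = 0 := by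
      rw [← map_mul]
      exact Ideal.Quotient.eq_zero_iff_mem.mpr hy
    have := hr1 (by simpa using h0 : (Ideal.Quotient.mk _ x1 : R') • (Ideal.Quotient.mk _ y : R')
      = (Ideal.Quotient.mk _ x1 : R') • (0 : R'))
    exact Ideal.Quotient.eq_zero_iff_mem.mp this
  · intro y z hyz
    rw [isSMulRegular_quotient_iff_mem_of_smul_mem] at hr2
    have h0 : (Ideal.Quotient.mk _ x2 : R') * Ideal.Quotient.mk _ y =
        (Ideal.Quotient.mk _ x1 : R') * Ideal.Quotient.mk _ z := by
      rw [← map_mul, ← map_mul]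
      exact Ideal.Quotient.eq.mpr hyz
    have h1 := hr2 (Ideal.Quotient.mk _ y) (by
      rw [Submodule.mem_smul_pointwise_iff_exists]
      exact ⟨Ideal.Quotient.mk _ z, Submodule.mem_top, by rw [smul_eq_mul, smul_eq_mul, h0]⟩)
    rw [Submodule.mem_smul_pointwise_iff_exists] at h1
    obtain ⟨w', -, hw'⟩ := h1
    obtain ⟨w, rfl⟩ := Ideal.Quotient.mk_surjective w'
    refine ⟨w, ?_⟩
    rw [smul_eq_mul, ← map_mul] at hw'
    exact Ideal.Quotient.eq.mp hw'.symm

/-- If the fibre local ring of a flat lfp morphism is Cohen–Macaulay of dimension `≥ 2` then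
the local ring of the total space has depth `≥ 2`. -/
theorem two_le_depth_stalk_of_cm [Flat π] [LocallyOfFinitePresentation π] (x : P)
    (hCM : LocCoh.IsCohenMacaulayLocalRing (CInt.fiberStalk π x))
    (hx : (2 : WithBot ℕ∞) ≤ ringKrullDim (CInt.fiberStalk π x)) :
    (2 : ℕ∞) ≤ LocCoh.depth (P.presheaf.stalk x) (P.presheaf.stalk x) := by
  obtain ⟨x1, x2, h1, h2, H1, H2⟩ := exists_pair_of_cm π x hCM hx
  exact (lift π x).2 x1 x2 h1 h2 H1 H2

/-- ... and a nonzerodivisor in the maximal ideal. -/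
theorem exists_regular_of_cm [Flat π] [LocallyOfFinitePresentation π] (x : P)
    (hCM : LocCoh.IsCohenMacaulayLocalRing (CInt.fiberStalk π x))
    (hx : (2 : WithBot ℕ∞) ≤ ringKrullDim (CInt.fiberStalk π x)) :
    ∃ x1 ∈ maximalIdeal (P.presheaf.stalk x), IsSMulRegular (P.presheaf.stalk x) x1 := by
  obtain ⟨x1, x2, h1, h2, H1, H2⟩ := exists_pair_of_cm π x hCM hx
  exact ⟨x1, h1, (lift π x).1 x1 H1⟩

/-- Smooth morphisms: fibre codimension `≥ 2` gives depth `≥ 2`. -/
theorem two_le_depth_stalk [Smooth π] (x : P)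
    (hx : (2 : WithBot ℕ∞) ≤ ringKrullDim (CInt.fiberStalk π x)) :
    (2 : ℕ∞) ≤ LocCoh.depth (P.presheaf.stalk x) (P.presheaf.stalk x) := by
  haveI := isRegularLocalRing_fiberStalk π x
  exact two_le_depth_stalk_of_cm π x
    (Groth.Agent.Lib.Helper28.isCohenMacaulayLocalRing_of_isRegularLocalRing _) hx

end Scheme

end Groth.Agent.H46.FibreDepthTwo
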