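/-
helper46: big opens (complement of fibre codimension ≥ 2) of a smooth morphism are schematically
dense, without Noetherian hypotheses.
-/
import Mathlib
import Groth.Prelude.Def_CInt
import Groth.Agent.H46.FibreDepthTwo

set_option autoImplicit false
universe u

open IsLocalRing

namespace Groth.Agent.H46.BigOpenDense

/-- A nonzero element `g` of a ring has a prime `𝔮` (minimal over its annihilator) such that in
`B_𝔮` the image of `g` is nonzero but killed by a power of every element of the maximal ideal. -/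
theorem exists_prime_ann {B : Type u} [CommRing B] (g : B) (hg : g ≠ 0) :
    ∃ (𝔮 : Ideal B) (_ : 𝔮.IsPrime), ∀ (R : Type u) [CommRing R] [IsLocalRing R] [Algebra B R]
      [IsLocalization.AtPrime R 𝔮], algebraMap B R g ≠ 0 ∧
        ∀ y ∈ maximalIdeal R, ∃ n : ℕ, y ^ n * algebraMap B R g = 0 := by
  set J : Ideal B := (Submodule.span B {g}).annihilator with hJ
  have hJmem : ∀ t, t ∈ J ↔ t * g = 0 := fun t => by
    rw [hJ, Submodule.mem_annihilator_span_singleton, smul_eq_mul]
  have hJne : J ≠ ⊤ := by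
    intro h
    have h1 : (1 : B) ∈ J := h ▸ Submodule.mem_top
    rw [hJmem, one_mul] at h1
    exact hg h1
  obtain ⟨𝔮, h𝔮⟩ := Ideal.nonempty_minimalPrimes hJne
  have hprime : 𝔮.IsPrime := h𝔮.1.1
  have hJq : J ≤ 𝔮 := h𝔮.1.2
  have hmin : ∀ p' : Ideal B, p'.IsPrime → J ≤ p' → p' ≤ 𝔮 → 𝔮 ≤ p' := fun p' h1 h2 h3 =>
    h𝔮.2 ⟨h1, h2⟩ h3
  clear_value J
  clear h𝔮
  refine ⟨𝔮, hprime, ?_⟩
  intro R _ _ _ hloc
  constructor
  · intro h0
    rw [IsLocalization.map_eq_zero_iff 𝔮.primeCompl] at h0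
    obtain ⟨m, hm⟩ := h0
    exact m.2 (hJq ((hJmem _).mpr hm))
  · intro y hy
    have hrad : y ∈ (J.map (algebraMap B R)).radical := by
      rw [Ideal.radical_eq_sInf, Ideal.mem_sInf]
      rintro P' ⟨hle, hP'⟩
      have h1 : J ≤ P'.comap (algebraMap B R) := Ideal.le_comap_of_map_le hle
      have h2 : P'.comap (algebraMap B R) ≤ 𝔮 := by
        rw [← IsLocalization.AtPrime.comap_maximalIdeal R 𝔮]
        exact Ideal.comap_mono (IsLocalRing.le_maximalIdeal hP'.ne_top)
      have h3 : 𝔮 ≤ P'.comap (algebraMap B R) := hmin _ (Ideal.comap_isPrime _ _) h1 h2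
      have h4 : P'.comap (algebraMap B R) = 𝔮 := le_antisymm h2 h3
      have h5 : P' = maximalIdeal R := by
        have h4' : Ideal.under B P' = 𝔮 := h4
        rw [← IsLocalization.map_under 𝔮.primeCompl R P', h4',
          IsLocalization.AtPrime.map_eq_maximalIdeal]
      exact h5 ▸ hy
    obtain ⟨n, hn⟩ := hrad
    refine ⟨n, ?_⟩
    have key : ∀ t ∈ J.map (algebraMap B R), t * algebraMap B R g = 0 := by
      intro t ht
      refine Submodule.span_induction ?_ ?_ ?_ ?_ ht
      · rintro _ ⟨j, hj, rfl⟩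
        rw [← map_mul, (hJmem j).mp hj, map_zero]
      · rw [zero_mul]
      · intro a b _ _ ha hb
        rw [add_mul, ha, hb, add_zero]
      · intro r a _ ha
        rw [smul_eq_mul, mul_assoc, ha, mul_zero]
    exact key _ hn

section Scheme

open AlgebraicGeometry CategoryTheory Limits

variable {P S : Scheme.{u}} (π : P ⟶ S)

set_option linter.style.haveILetI false in
theorem isSchematicallyDense [Smooth π] (U : P.Opens)
    (hU : ∀ x : P, x ∉ U → (2 : WithBot ℕ∞) ≤ ringKrullDim (CInt.fiberStalk π x)) :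
    CInt.IsSchematicallyDense U := by
  intro V
  rw [injective_iff_map_eq_zero (P.presheaf.map (homOfLE (inf_le_left : V ⊓ U ≤ V)).op).hom]
  intro g hg
  by_contra hne
  obtain ⟨x, hxV, hgx⟩ : ∃ x, ∃ hx : x ∈ V, P.presheaf.germ V x hx g ≠ 0 := by
    by_contra hcon
    simp only [not_exists, not_not] at hcon
    exact hne (TopCat.Presheaf.section_ext P.sheaf V g 0
      (fun x hx => (hcon x hx).trans (map_zero _).symm))
  obtain ⟨W, hW, hxW, hWV0⟩ := exists_isAffineOpen_mem_and_subset (x := x) (U := V) hxV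
  have hWV : W ≤ V := hWV0
  set gW : Γ(P, W) := P.presheaf.map (homOfLE hWV).op g with hgWdef
  have hgW : gW ≠ 0 := by
    intro h0
    apply hgx
    have h1 := P.presheaf.germ_res_apply (homOfLE hWV) x hxW g
    rw [← h1]
    change P.presheaf.germ W x hxW gW = 0
    rw [h0, map_zero]
  obtain ⟨𝔮, hprime, H⟩ := exists_prime_ann gW hgW
  let z : W := hW.isoSpec.inv.base ⟨𝔮, hprime⟩
  have hz : hW.primeIdealOf z = ⟨𝔮, hprime⟩ := by
    simp only [IsAffineOpen.primeIdealOf, z]
    rw [← Scheme.Hom.comp_apply, Iso.inv_hom_id]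
    rfl
  letI : Algebra Γ(P, W) (P.presheaf.stalk z.1) :=
    TopCat.Presheaf.algebra_section_stalk P.presheaf z
  haveI : IsLocalization.AtPrime (P.presheaf.stalk z.1) 𝔮 := by
    have h := hW.isLocalization_stalk z
    rwa [hz] at h
  obtain ⟨hne0, hnil⟩ := H (P.presheaf.stalk z.1)
  have hzU : z.1 ∉ U := by
    intro hzU
    apply hne0
    change P.presheaf.germ W z.1 z.2 gW = 0
    rw [hgWdef, P.presheaf.germ_res_apply (homOfLE hWV) z.1 z.2 g]
    have h2 := P.presheaf.germ_res_apply (homOfLE (inf_le_left : V ⊓ U ≤ V)) z.1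
      ⟨hWV z.2, hzU⟩ g
    rw [← h2]
    have hg' : (P.presheaf.map (homOfLE (inf_le_left : V ⊓ U ≤ V)).op) g = 0 := hg
    rw [hg', map_zero]
  have hdim := hU z.1 hzU
  haveI := Groth.Agent.H46.FibreDepthTwo.isRegularLocalRing_fiberStalk π z.1
  obtain ⟨x1, hx1m, hx1reg⟩ := Groth.Agent.H46.FibreDepthTwo.exists_regular_of_cm π z.1
    (Groth.Agent.Lib.Helper28.isCohenMacaulayLocalRing_of_isRegularLocalRing _) hdim
  obtain ⟨n, hn⟩ := hnil x1 hx1m
  apply hne0
  apply (hx1reg.pow n)
  simp only [smul_eq_mul, mul_zero]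
  exact hn

end Scheme

end Groth.Agent.H46.BigOpenDense
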