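import Mathlib
import Groth.Prelude.Def_FlatCA
import Groth.Agent.Lib.Helper12.NagataFP
import Groth.Agent.Lib.Helper71.FlatColim
import Groth.Agent.Lib.Helper91.GenericFreeness

/-!
# Flattening of strict transforms along a valuation ring: the core (helper46)

Let `R` be a domain, `N` a finite module over `R[x] = R[x₁,…,xₙ]` with generators `g : Fin b → N`,
`g₀ : N → N'` a localization at one element `f` of `R` such that `N'` is flat over `R`, and `A` a
valuation ring over `R`.  For an `R`-algebra `R'` put `ψ_{R'} : R'[x]^b → R'[x] ⊗_{R[x]} N'`; its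
kernel is the submodule of relations of the strict transform of `N` over `R'`.  We show that there
are finitely many elements of `A` such that for every subring `R₁ ⊆ A` containing them, `ker ψ_{R₁}`
is finitely generated with flat quotient (Nagata's theorem over `A` and descent of flatness to a
finitely generated subring).
-/

set_option autoImplicit false
universe u
open TensorProduct

namespace Groth.Agent.H46.BlowFlat

attribute [local instance] MvPolynomial.algebraMvPolynomial

open Groth.Agent.H76.FlatKernel Groth.Agent.H76.FlatBaseChange Groth.Agent.Lib.Helper71.FlatColim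
  Groth.Agent.H76.FlatDescentLocal Groth.Agent.H76.FlatDescentGlobal

theorem mem_powTorsion {S : Type u} [CommRing S] (x : S) {M : Type u} [AddCommGroup M] [Module S M]
    (m : M) : m ∈ FlatCA.powTorsion S x M ↔ ∃ k : ℕ, x ^ k • m = 0 := by
  unfold FlatCA.powTorsion
  rw [Submodule.mem_iSup_of_directed]
  · simp only [Submodule.mem_torsionBy_iff]
  · intro i j
    refine ⟨i + j, ?_, ?_⟩
    · intro m hm
      rw [Submodule.mem_torsionBy_iff] at hm ⊢
      rw [pow_add, mul_comm, mul_smul, hm, smul_zero]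
    · intro m hm
      rw [Submodule.mem_torsionBy_iff] at hm ⊢
      rw [pow_add, mul_smul, hm, smul_zero]

section Setup

variable {R : Type u} [CommRing R] {n b : ℕ} {N N' : Type u} [AddCommGroup N]
  [Module (MvPolynomial (Fin n) R) N] [AddCommGroup N'] [Module (MvPolynomial (Fin n) R) N']
  (g₀ : N →ₗ[MvPolynomial (Fin n) R] N') (g : Fin b → N)
  (R' : Type u) [CommRing R'] [Algebra R R']

/-- The map `R'[x]^b → R'[x] ⊗_{R[x]} N'` given by the generators. -/
noncomputable def psi : (Fin b → MvPolynomial (Fin n) R') →ₗ[MvPolynomial (Fin n) R']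
    (MvPolynomial (Fin n) R' ⊗[MvPolynomial (Fin n) R] N') :=
  Fintype.linearCombination (MvPolynomial (Fin n) R')
    (fun i => (1 : MvPolynomial (Fin n) R') ⊗ₜ[MvPolynomial (Fin n) R] g₀ (g i))

theorem psi_apply (v : Fin b → MvPolynomial (Fin n) R') :
    psi g₀ g R' v = ∑ i, v i ⊗ₜ[MvPolynomial (Fin n) R] g₀ (g i) := by
  simp [psi, Fintype.linearCombination_apply, TensorProduct.smul_tmul']

variable (R n) in
/-- The map `R'[x]^b → R'[x] ⊗_{R[x]} N` given by the generators. -/
noncomputable def sigma : (Fin b → MvPolynomial (Fin n) R') →ₗ[MvPolynomial (Fin n) R']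
    (MvPolynomial (Fin n) R' ⊗[MvPolynomial (Fin n) R] N) :=
  Fintype.linearCombination (MvPolynomial (Fin n) R')
    (fun i => (1 : MvPolynomial (Fin n) R') ⊗ₜ[MvPolynomial (Fin n) R] g i)

theorem sigma_apply (v : Fin b → MvPolynomial (Fin n) R') :
    sigma R n g R' v = ∑ i, v i ⊗ₜ[MvPolynomial (Fin n) R] g i := by
  simp [sigma, Fintype.linearCombination_apply, TensorProduct.smul_tmul']

theorem sigma_surjective (hg : Submodule.span (MvPolynomial (Fin n) R) (Set.range g) = ⊤) :
    Function.Surjective (sigma R n g R') := by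
  intro z
  induction z using TensorProduct.induction_on with
  | zero => exact ⟨0, map_zero _⟩
  | add x y hx hy =>
    obtain ⟨x', rfl⟩ := hx
    obtain ⟨y', rfl⟩ := hy
    exact ⟨x' + y', map_add _ _ _⟩
  | tmul p m =>
    have hm : m ∈ Submodule.span (MvPolynomial (Fin n) R) (Set.range g) := hg ▸ Submodule.mem_top
    obtain ⟨c, rfl⟩ := (Submodule.mem_span_range_iff_exists_fun _).mp hm
    refine ⟨fun i => p * algebraMap _ _ (c i), ?_⟩
    rw [sigma_apply, TensorProduct.tmul_sum]
    refine Finset.sum_congr rfl fun i _ => ?_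
    rw [TensorProduct.tmul_smul, TensorProduct.smul_tmul', Algebra.smul_def, mul_comm]

/-- The localization map `R'[x] ⊗ N → R'[x] ⊗ N'`. -/
noncomputable def loc : (MvPolynomial (Fin n) R' ⊗[MvPolynomial (Fin n) R] N) →ₗ[MvPolynomial (Fin n) R']
    (MvPolynomial (Fin n) R' ⊗[MvPolynomial (Fin n) R] N') :=
  AlgebraTensorModule.lTensor (MvPolynomial (Fin n) R') (MvPolynomial (Fin n) R') g₀

theorem loc_sigma (v : Fin b → MvPolynomial (Fin n) R') :
    loc g₀ R' (sigma R n g R' v) = psi g₀ g R' v := by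
  rw [sigma_apply, psi_apply, map_sum]
  rfl

theorem loc_eq_zero_iff (f : R)
    [IsLocalizedModule (.powers (algebraMap R (MvPolynomial (Fin n) R) f)) g₀]
    (z : MvPolynomial (Fin n) R' ⊗[MvPolynomial (Fin n) R] N) :
    loc g₀ R' z = 0 ↔ z ∈ FlatCA.powTorsion (MvPolynomial (Fin n) R')
      (MvPolynomial.C (algebraMap R R' f)) (MvPolynomial (Fin n) R' ⊗[MvPolynomial (Fin n) R] N) := by
  have h := Groth.Agent.H76.FlatBaseChange.isLocalizedModule_lTensor
    (Submonoid.powers (algebraMap R (MvPolynomial (Fin n) R) f)) g₀ (MvPolynomial (Fin n) R')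
  have h1 : loc g₀ R' z = g₀.lTensor (MvPolynomial (Fin n) R') z := rfl
  rw [h1, IsLocalizedModule.eq_zero_iff (Submonoid.powers (algebraMap R (MvPolynomial (Fin n) R) f)),
    mem_powTorsion]
  have key : ∀ k : ℕ, ((algebraMap R (MvPolynomial (Fin n) R) f) ^ k) • z =
      (MvPolynomial.C (algebraMap R R' f) : MvPolynomial (Fin n) R') ^ k • z := by
    intro k
    rw [← algebraMap_smul (MvPolynomial (Fin n) R') ((algebraMap R (MvPolynomial (Fin n) R) f) ^ k) z]
    congr 1
    rw [map_pow, MvPolynomial.algebraMap_eq]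
    congr 1
    exact MvPolynomial.map_C _ _
  constructor
  · rintro ⟨⟨_, k, rfl⟩, hk⟩
    refine ⟨k, ?_⟩
    rw [← key]
    exact hk
  · rintro ⟨k, hk⟩
    refine ⟨⟨_, k, rfl⟩, ?_⟩
    rw [← key] at hk
    exact hk

/-- The kernel of `ψ` is the submodule of relations of the strict transform. -/
theorem ker_psi_eq (f : R)
    [IsLocalizedModule (.powers (algebraMap R (MvPolynomial (Fin n) R) f)) g₀] :
    LinearMap.ker (psi g₀ g R') = (FlatCA.powTorsion (MvPolynomial (Fin n) R')
      (MvPolynomial.C (algebraMap R R' f))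
      (MvPolynomial (Fin n) R' ⊗[MvPolynomial (Fin n) R] N)).comap (sigma R n g R') := by
  ext v
  rw [LinearMap.mem_ker, Submodule.mem_comap, ← loc_sigma, loc_eq_zero_iff g₀ R' f]

end Setup

section Kappa

variable (R : Type u) [CommRing R] (n : ℕ) (N' : Type u) [AddCommGroup N']
  [Module (MvPolynomial (Fin n) R) N'] [Module R N'] [IsScalarTower R (MvPolynomial (Fin n) R) N']
  (R₁ A : Type u) [CommRing R₁] [CommRing A] [Algebra R R₁] [Algebra R A] [Algebra R₁ A]
  [IsScalarTower R R₁ A]

theorem flat_Y [Module.Flat R N'] :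
    Module.Flat R₁ (MvPolynomial (Fin n) R₁ ⊗[MvPolynomial (Fin n) R] N') :=
  Module.Flat.of_linearEquiv (Algebra.IsPushout.cancelBaseChange R R₁ (MvPolynomial (Fin n) R)
    (MvPolynomial (Fin n) R₁) N')

instance isScalarTower_mvPolynomial : IsScalarTower (MvPolynomial (Fin n) R) (MvPolynomial (Fin n) R₁)
    (MvPolynomial (Fin n) A) :=
  IsScalarTower.of_algebraMap_eq fun p => by
    change MvPolynomial.map _ p = MvPolynomial.map _ (MvPolynomial.map _ p)
    rw [MvPolynomial.map_map, ← IsScalarTower.algebraMap_eq]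

/-- The comparison map `R₁[x] ⊗ N' → A[x] ⊗ N'`. -/
noncomputable def kappa : (MvPolynomial (Fin n) R₁ ⊗[MvPolynomial (Fin n) R] N') →ₗ[MvPolynomial (Fin n) R]
    (MvPolynomial (Fin n) A ⊗[MvPolynomial (Fin n) R] N') :=
  LinearMap.rTensor N' (IsScalarTower.toAlgHom (MvPolynomial (Fin n) R) (MvPolynomial (Fin n) R₁)
    (MvPolynomial (Fin n) A)).toLinearMap

omit [Module R N'] [IsScalarTower R (MvPolynomial (Fin n) R) N'] in
theorem kappa_tmul (p : MvPolynomial (Fin n) R₁) (x : N') :
    kappa R n N' R₁ A (p ⊗ₜ x) = (MvPolynomial.map (algebraMap R₁ A) p) ⊗ₜ x := rfl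

theorem kappa_injective [Module.Flat R N'] (h : Function.Injective (algebraMap R₁ A)) :
    Function.Injective (kappa R n N' R₁ A) := by
  set Θ₁ := Algebra.IsPushout.cancelBaseChange R R₁ (MvPolynomial (Fin n) R)
    (MvPolynomial (Fin n) R₁) N' with hΘ₁
  set ΘA := Algebra.IsPushout.cancelBaseChange R A (MvPolynomial (Fin n) R)
    (MvPolynomial (Fin n) A) N' with hΘA
  set ρ : R₁ ⊗[R] N' →ₗ[R] A ⊗[R] N' :=
    LinearMap.rTensor N' (IsScalarTower.toAlgHom R R₁ A).toLinearMap with hρ
  have hρinj : Function.Injective ρ :=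
    Module.Flat.rTensor_preserves_injective_linearMap _ h
  have key : ∀ w : R₁ ⊗[R] N', kappa R n N' R₁ A (Θ₁.symm w) = ΘA.symm (ρ w) := by
    intro w
    induction w using TensorProduct.induction_on with
    | zero => simp
    | add x y hx hy => simp only [map_add, hx, hy]
    | tmul r x =>
      rw [hΘ₁, Algebra.IsPushout.cancelBaseChange_symm_tmul, kappa_tmul, hρ,
        LinearMap.rTensor_tmul, hΘA]
      erw [Algebra.IsPushout.cancelBaseChange_symm_tmul]
      congr 1
      simp [MvPolynomial.algebraMap_eq]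
  rw [injective_iff_map_eq_zero]
  intro z hz
  have h1 := key (Θ₁ z)
  rw [LinearEquiv.symm_apply_apply, hz] at h1
  have h2 : ρ (Θ₁ z) = 0 := by
    have := congrArg ΘA h1.symm
    rwa [LinearEquiv.apply_symm_apply, map_zero] at this
  have h3 : Θ₁ z = 0 := hρinj (by rw [h2, map_zero])
  exact Θ₁.injective (by rw [h3, map_zero])

end Kappa

section CokerInj

variable {R₁ A : Type u} [CommRing R₁] [CommRing A] [Algebra R₁ A] {n a b : ℕ}

theorem tmul_one_injective {M : Type u} [AddCommGroup M] [Module R₁ M] [Module.Flat R₁ M]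
    (h : Function.Injective (algebraMap R₁ A)) (x : M) (hx : (1 : A) ⊗ₜ[R₁] x = 0) : x = 0 := by
  have hinj : Function.Injective (LinearMap.rTensor M (Algebra.linearMap R₁ A)) :=
    Module.Flat.rTensor_preserves_injective_linearMap _ h
  have h1 : LinearMap.rTensor M (Algebra.linearMap R₁ A) ((1 : R₁) ⊗ₜ[R₁] x) = 0 := by
    rw [LinearMap.rTensor_tmul, Algebra.linearMap_apply, map_one, hx]
  have h2 : (1 : R₁) ⊗ₜ[R₁] x = 0 := hinj (by rw [h1, map_zero])
  have := congrArg (TensorProduct.lid R₁ M) h2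
  simpa using this

theorem cokerMap_injective (c₁ : Fin a → Fin b → MvPolynomial (Fin n) R₁)
    [Module.Flat R₁ (Coker c₁)] (h : Function.Injective (algebraMap R₁ A)) :
    Function.Injective (cokerMap (P₂ := MvPolynomial (Fin n) A) c₁) := by
  rw [injective_iff_map_eq_zero]
  intro x hx
  have hbc := isBaseChange_cokerMap (P₂ := MvPolynomial (Fin n) A) c₁
  have h1 : hbc.equiv ((1 : MvPolynomial (Fin n) A) ⊗ₜ x) = 0 := by
    rw [IsBaseChange.equiv_tmul, hx, smul_zero]
  have h2 : (1 : MvPolynomial (Fin n) A) ⊗ₜ[MvPolynomial (Fin n) R₁] x = 0 :=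
    hbc.equiv.injective (by rw [h1, map_zero])
  have h3 := congrArg (Algebra.IsPushout.cancelBaseChange R₁ A (MvPolynomial (Fin n) R₁)
    (MvPolynomial (Fin n) A) (Coker c₁)) h2
  rw [Algebra.IsPushout.cancelBaseChange_tmul, map_zero] at h3
  exact tmul_one_injective h x h3

theorem exists_stg_hom (s : Finset A)
    (hinj : Function.Injective (algebraMap R₁ A))
    (hs : ∀ x ∈ s, x ∈ Set.range (algebraMap R₁ A)) :
    ∃ j : Stg s →+* R₁, (algebraMap R₁ A).comp j = algebraMap (Stg s) A := by
  let ι' : R₁ →ₐ[ℤ] A := (algebraMap R₁ A).toIntAlgHom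
  have hinj' : Function.Injective ι' := hinj
  have hle : Stg s ≤ ι'.range := Algebra.adjoin_le (fun x hx => hs x hx)
  refine ⟨(((AlgEquiv.ofInjective ι' hinj').symm : ι'.range →ₐ[ℤ] R₁).comp
    (Subalgebra.inclusion hle)).toRingHom, ?_⟩
  ext x
  have h1 := AlgEquiv.apply_symm_apply (AlgEquiv.ofInjective ι' hinj') (Subalgebra.inclusion hle x)
  have h2 := congrArg Subtype.val h1
  rw [AlgEquiv.ofInjective_apply] at h2
  exact h2

end CokerInj

section Core

variable {R : Type u} [CommRing R] {n b : ℕ} {N N' : Type u} [AddCommGroup N]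
  [Module (MvPolynomial (Fin n) R) N] [AddCommGroup N'] [Module (MvPolynomial (Fin n) R) N']
  [Module R N'] [IsScalarTower R (MvPolynomial (Fin n) R) N'] [Module.Flat R N']
  (g₀ : N →ₗ[MvPolynomial (Fin n) R] N') (g : Fin b → N)
  (A : Type u) [CommRing A] [IsDomain A] [ValuationRing A] [Algebra R A]

theorem kappa_psi (R₁ : Type u) [CommRing R₁] [Algebra R R₁] [Algebra R₁ A] [IsScalarTower R R₁ A]
    (v : Fin b → MvPolynomial (Fin n) R₁) :
    kappa R n N' R₁ A (psi g₀ g R₁ v) = psi g₀ g A (vmap (algebraMap R₁ A) v) := by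
  rw [psi_apply, psi_apply, map_sum]
  refine Finset.sum_congr rfl fun i _ => ?_
  rw [kappa_tmul, vmap_apply]

/-- **Core**: finitely many elements of the valuation ring `A` suffice to make the kernel of `ψ`
finitely generated with flat quotient. -/
theorem core_psi :
    ∃ s : Finset A, ∀ (R₁ : Type u) [CommRing R₁] [Algebra R R₁] [Algebra R₁ A]
      [IsScalarTower R R₁ A],
      Function.Injective (algebraMap R₁ A) → (∀ x ∈ s, x ∈ Set.range (algebraMap R₁ A)) →
      (LinearMap.ker (psi g₀ g R₁)).FG ∧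
        Module.Flat R₁ ((Fin b → MvPolynomial (Fin n) R₁) ⧸ LinearMap.ker (psi g₀ g R₁)) := by
  haveI : Module.Flat A (MvPolynomial (Fin n) A ⊗[MvPolynomial (Fin n) R] N') := flat_Y R n N' A
  have hfg := Groth.Agent.Lib.Helper12.NagataFP.ker_fg (psi g₀ g A)
  obtain ⟨a, c, hc⟩ := Submodule.fg_iff_exists_fin_generating_family.mp hfg
  haveI hflat : Module.Flat A ((Fin b → MvPolynomial (Fin n) A) ⧸
      Submodule.span (MvPolynomial (Fin n) A) (Set.range c)) := by
    rw [hc]
    haveI : Module.Flat A (LinearMap.range (psi g₀ g A)) :=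
      Groth.Agent.Lib.Helper12.NagataFP.flat_submodule
        ((LinearMap.range (psi g₀ g A)).restrictScalars A)
    exact Module.Flat.of_linearEquiv ((psi g₀ g A).quotKerEquivRange.restrictScalars A)
  obtain ⟨s, -, c', hc', hfl⟩ := exists_stage_flat_global c ∅
  refine ⟨s, fun R₁ _ _ _ _ hinj hs => ?_⟩
  obtain ⟨j, hj⟩ := exists_stg_hom s hinj hs
  letI : Algebra (Stg s) R₁ := j.toAlgebra
  have hjalg : algebraMap (Stg s) R₁ = j := RingHom.algebraMap_toAlgebra j
  set c₁ : Fin a → Fin b → MvPolynomial (Fin n) R₁ := cmap (algebraMap (Stg s) R₁) c' with hc₁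
  haveI hfl₁ : Module.Flat R₁ (Coker c₁) :=
    (flat_coker_iff R₁ c' (Coker c') (LinearEquiv.refl _ _)).mp inferInstance
  have hc₁A : cmap (algebraMap R₁ A) c₁ = c := by
    rw [← hc']
    ext k i : 2
    rw [cmap_apply, hc₁, cmap_apply, cmap_apply, MvPolynomial.map_map, hjalg, hj]
  have hker : LinearMap.ker (psi g₀ g R₁) =
      Submodule.span (MvPolynomial (Fin n) R₁) (Set.range c₁) := by
    apply le_antisymm
    · intro v hv
      rw [LinearMap.mem_ker] at hv
      have h1 : psi g₀ g A (vmap (algebraMap R₁ A) v) = 0 := by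
        rw [← kappa_psi, hv, map_zero]
      have h2 : vmap (algebraMap R₁ A) v ∈
          Submodule.span (MvPolynomial (Fin n) A) (Set.range c) := by
        rw [hc]; exact h1
      have h3 : cokerMap (P₂ := MvPolynomial (Fin n) A) c₁ (Submodule.Quotient.mk v) = 0 := by
        rw [cokerMap_mk]
        rw [Submodule.Quotient.mk_eq_zero]
        rw [← hc₁A] at h2
        exact h2
      have h4 := cokerMap_injective (A := A) c₁ hinj (by rw [h3, map_zero] :
        cokerMap (P₂ := MvPolynomial (Fin n) A) c₁ (Submodule.Quotient.mk v) =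
          cokerMap (P₂ := MvPolynomial (Fin n) A) c₁ 0)
      exact (Submodule.Quotient.mk_eq_zero _).mp h4
    · rw [Submodule.span_le]
      rintro _ ⟨k, rfl⟩
      rw [SetLike.mem_coe, LinearMap.mem_ker]
      apply kappa_injective R n N' R₁ A hinj
      rw [kappa_psi, map_zero]
      have h1 : vmap (algebraMap R₁ A) (c₁ k) = c k := congrFun hc₁A k
      rw [h1]
      have h2 : c k ∈ Submodule.span (MvPolynomial (Fin n) A) (Set.range c) :=
        Submodule.subset_span ⟨k, rfl⟩
      rw [hc] at h2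
      exact h2
  rw [hker]
  exact ⟨Submodule.fg_span (Set.finite_range c₁), hfl₁⟩

end Core

end Groth.Agent.H46.BlowFlat
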