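import Mathlib
import Groth.Agent.H46.BlowFlatCore

/-!
# Flattening of strict transforms along a valuation ring: bridge to tensor products (helper46)

From flatness / finite generation of the relations `Krel` of the strict transform (a quotient of
`R₁[x]^b`) to flatness and finite presentation of `(R₁ ⊗_R N) / (a-power torsion)`.
-/

set_option autoImplicit false
universe u
open TensorProduct

namespace Groth.Agent.H46.BlowFlat

attribute [local instance] MvPolynomial.algebraMvPolynomial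

theorem powTorsion_eq_of_dvd_of_flat {R₁ : Type u} [CommRing R₁] [IsDomain R₁] (X : Type u)
    [AddCommGroup X] [Module R₁ X] (f₁ a₁ : R₁) (hdvd : f₁ ∣ a₁) (ha : a₁ ≠ 0)
    [Module.Flat R₁ (X ⧸ FlatCA.powTorsion R₁ f₁ X)] :
    FlatCA.powTorsion R₁ a₁ X = FlatCA.powTorsion R₁ f₁ X := by
  ext x
  rw [mem_powTorsion, mem_powTorsion]
  constructor
  · rintro ⟨k, hk⟩
    have h1 : a₁ ^ k • (Submodule.Quotient.mk x : X ⧸ FlatCA.powTorsion R₁ f₁ X) = 0 := by
      rw [← Submodule.Quotient.mk_smul, hk, Submodule.Quotient.mk_zero]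
    have hreg : IsSMulRegular (X ⧸ FlatCA.powTorsion R₁ f₁ X) (a₁ ^ k) :=
      Module.Flat.isSMulRegular_of_nonZeroDivisors
        (mem_nonZeroDivisors_of_ne_zero (pow_ne_zero k ha))
    have h2 : (Submodule.Quotient.mk x : X ⧸ FlatCA.powTorsion R₁ f₁ X) = 0 :=
      hreg (show a₁ ^ k • _ = a₁ ^ k • (0 : X ⧸ FlatCA.powTorsion R₁ f₁ X) by rw [h1, smul_zero])
    exact (mem_powTorsion f₁ x).mp ((Submodule.Quotient.mk_eq_zero _).mp h2)
  · rintro ⟨k, hk⟩
    obtain ⟨c, rfl⟩ := hdvd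
    exact ⟨k, by rw [mul_comm, mul_pow, mul_smul, hk, smul_zero]⟩

section Bridge

variable {R : Type u} [CommRing R] {n b : ℕ} {N : Type u} [AddCommGroup N]
  [Module (MvPolynomial (Fin n) R) N] [Module R N] [IsScalarTower R (MvPolynomial (Fin n) R) N]
  (g : Fin b → N) (hg : Submodule.span (MvPolynomial (Fin n) R) (Set.range g) = ⊤)
  (R₁ : Type u) [CommRing R₁] [IsDomain R₁] [Algebra R R₁]

/-- The submodule of relations of the strict transform. -/
noncomputable def Krel (f : R) :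
    Submodule (MvPolynomial (Fin n) R₁) (Fin b → MvPolynomial (Fin n) R₁) :=
  (FlatCA.powTorsion (MvPolynomial (Fin n) R₁) (MvPolynomial.C (algebraMap R R₁ f))
      (MvPolynomial (Fin n) R₁ ⊗[MvPolynomial (Fin n) R] N)).comap (sigma R n g R₁)

omit [Module R N] [IsScalarTower R (MvPolynomial (Fin n) R) N] [IsDomain R₁] in
theorem mem_Krel (f : R) (v : Fin b → MvPolynomial (Fin n) R₁) :
    v ∈ Krel g R₁ f ↔ ∃ k : ℕ, (algebraMap R R₁ f) ^ k • sigma R n g R₁ v = 0 := by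
  unfold Krel
  rw [Submodule.mem_comap, mem_powTorsion]
  refine exists_congr fun k => ?_
  rw [← map_pow, ← MvPolynomial.algebraMap_eq, algebraMap_smul]

omit [IsDomain R₁] in
/-- Membership in `Krel` through the identification `R₁[x] ⊗_{R[x]} N = R₁ ⊗_R N`. -/
theorem mem_Krel_iff (f : R) (v : Fin b → MvPolynomial (Fin n) R₁) :
    v ∈ Krel g R₁ f ↔ Algebra.IsPushout.cancelBaseChange R R₁ (MvPolynomial (Fin n) R)
      (MvPolynomial (Fin n) R₁) N (sigma R n g R₁ v) ∈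
        FlatCA.powTorsion R₁ (algebraMap R R₁ f) (R₁ ⊗[R] N) := by
  rw [mem_Krel, mem_powTorsion]
  refine exists_congr fun k => ?_
  rw [← LinearEquiv.map_smul (Algebra.IsPushout.cancelBaseChange R R₁ (MvPolynomial (Fin n) R)
      (MvPolynomial (Fin n) R₁) N)]
  exact (LinearEquiv.map_eq_zero_iff _).symm

include hg in
omit [IsDomain R₁] in
theorem flat_powTorsion_f (f : R)
    [Module.Flat R₁ ((Fin b → MvPolynomial (Fin n) R₁) ⧸ Krel g R₁ f)] :
    Module.Flat R₁ ((R₁ ⊗[R] N) ⧸ FlatCA.powTorsion R₁ (algebraMap R R₁ f) (R₁ ⊗[R] N)) := by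
  set f₁ := algebraMap R R₁ f with hf₁
  set Q := MvPolynomial (Fin n) R₁ ⊗[MvPolynomial (Fin n) R] N with hQ
  set T : Submodule R₁ Q := FlatCA.powTorsion R₁ f₁ Q with hT
  -- the `R₁`-linear surjection `F → Q ⧸ T`
  let φ : (Fin b → MvPolynomial (Fin n) R₁) →ₗ[R₁] Q ⧸ T :=
    T.mkQ ∘ₗ (sigma R n g R₁).restrictScalars R₁
  have hφsurj : Function.Surjective φ :=
    (Submodule.mkQ_surjective T).comp (sigma_surjective g R₁ hg)
  have hφker : LinearMap.ker φ = (Krel g R₁ f).restrictScalars R₁ := by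
    ext v
    rw [LinearMap.mem_ker, Submodule.restrictScalars_mem, mem_Krel]
    change Submodule.Quotient.mk (sigma R n g R₁ v) = 0 ↔ _
    rw [Submodule.Quotient.mk_eq_zero, hT, mem_powTorsion]
  have e1 : ((Fin b → MvPolynomial (Fin n) R₁) ⧸ (Krel g R₁ f).restrictScalars R₁) ≃ₗ[R₁] Q ⧸ T :=
    (Submodule.quotEquivOfEq _ _ hφker.symm).trans (φ.quotKerEquivOfSurjective hφsurj)
  have h1 : Module.Flat R₁ (Q ⧸ T) :=
    Module.Flat.of_linearEquiv (e1.symm.trans
      (Submodule.Quotient.restrictScalarsEquiv R₁ (Krel g R₁ f)))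
  -- transport along `cancelBaseChange`
  let Θ : Q ≃ₗ[R₁] R₁ ⊗[R] N := Algebra.IsPushout.cancelBaseChange R R₁ (MvPolynomial (Fin n) R)
    (MvPolynomial (Fin n) R₁) N
  have hΘ : T.map Θ.toLinearMap = FlatCA.powTorsion R₁ f₁ (R₁ ⊗[R] N) := by
    ext y
    rw [Submodule.mem_map, mem_powTorsion]
    constructor
    · rintro ⟨z, hz, rfl⟩
      obtain ⟨k, hk⟩ := (mem_powTorsion f₁ z).mp hz
      exact ⟨k, by rw [LinearEquiv.coe_coe, ← map_smul, hk, map_zero]⟩
    · rintro ⟨k, hk⟩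
      refine ⟨Θ.symm y, (mem_powTorsion f₁ _).mpr ⟨k, ?_⟩, by simp⟩
      rw [← map_smul, hk, map_zero]
  exact Module.Flat.of_linearEquiv (Submodule.Quotient.equiv T _ Θ hΘ).symm

include hg in
theorem powTorsion_a_eq (f a : R) (hdvd : f ∣ a) (ha : algebraMap R R₁ a ≠ 0)
    [Module.Flat R₁ ((Fin b → MvPolynomial (Fin n) R₁) ⧸ Krel g R₁ f)] :
    FlatCA.powTorsion R₁ (algebraMap R R₁ a) (R₁ ⊗[R] N) =
      FlatCA.powTorsion R₁ (algebraMap R R₁ f) (R₁ ⊗[R] N) := by
  haveI := flat_powTorsion_f g hg R₁ f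
  exact powTorsion_eq_of_dvd_of_flat (R₁ ⊗[R] N) (algebraMap R R₁ f) (algebraMap R R₁ a)
    (map_dvd (algebraMap R R₁) hdvd) ha

include hg in
theorem flat_of_flat_Krel (f a : R) (hdvd : f ∣ a) (ha : algebraMap R R₁ a ≠ 0)
    [Module.Flat R₁ ((Fin b → MvPolynomial (Fin n) R₁) ⧸ Krel g R₁ f)] :
    Module.Flat R₁ ((R₁ ⊗[R] N) ⧸ FlatCA.powTorsion R₁ (algebraMap R R₁ a) (R₁ ⊗[R] N)) := by
  rw [powTorsion_a_eq g hg R₁ f a hdvd ha]
  exact flat_powTorsion_f g hg R₁ f

end Bridge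

theorem powTorsion_restrictScalars {R₁ B : Type u} [CommRing R₁] [CommRing B] [Algebra R₁ B]
    (X : Type u) [AddCommGroup X] [Module B X] [Module R₁ X] [IsScalarTower R₁ B X] (t : R₁) :
    (FlatCA.powTorsion B (algebraMap R₁ B t) X).restrictScalars R₁ = FlatCA.powTorsion R₁ t X := by
  ext x
  rw [Submodule.restrictScalars_mem, mem_powTorsion, mem_powTorsion]
  refine exists_congr fun k => ?_
  rw [← map_pow, algebraMap_smul]

section BridgeAlg

variable (R : Type u) [CommRing R] (n : ℕ) (S : Type u) [CommRing S] [Algebra R S]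
  [Algebra (MvPolynomial (Fin n) R) S] [IsScalarTower R (MvPolynomial (Fin n) R) S]
  (R₁ : Type u) [CommRing R₁] [Algebra R R₁]

/-- The natural surjection `R₁[x] → R₁ ⊗_R S`. -/
noncomputable def psi0 : MvPolynomial (Fin n) R₁ →ₐ[R₁] R₁ ⊗[R] S :=
  (Algebra.TensorProduct.map (AlgHom.id R₁ R₁)
    (IsScalarTower.toAlgHom R (MvPolynomial (Fin n) R) S)).comp
    (MvPolynomial.algebraTensorAlgEquiv R R₁).symm.toAlgHom

theorem psi0_monomial (m : Fin n →₀ ℕ) (r : R₁) :
    psi0 R n S R₁ (MvPolynomial.monomial m r) =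
      r ⊗ₜ[R] algebraMap (MvPolynomial (Fin n) R) S (MvPolynomial.monomial m 1) := by
  simp [psi0]

theorem cancel_symm_psi0 (p : MvPolynomial (Fin n) R₁) :
    (Algebra.IsPushout.cancelBaseChange R R₁ (MvPolynomial (Fin n) R)
      (MvPolynomial (Fin n) R₁) S).symm (psi0 R n S R₁ p) = p ⊗ₜ[MvPolynomial (Fin n) R] (1 : S) := by
  induction p using MvPolynomial.induction_on' with
  | monomial m r =>
    rw [psi0_monomial, Algebra.IsPushout.cancelBaseChange_symm_tmul]
    have h1 : (MvPolynomial.monomial m r : MvPolynomial (Fin n) R₁) =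
        (MvPolynomial.monomial m (1 : R) : MvPolynomial (Fin n) R) •
          (algebraMap R₁ (MvPolynomial (Fin n) R₁) r) := by
      rw [Algebra.smul_def, MvPolynomial.algebraMap_eq]
      change _ = MvPolynomial.map (algebraMap R R₁) _ * _
      rw [MvPolynomial.map_monomial, map_one, mul_comm, MvPolynomial.C_mul_monomial, mul_one]
    rw [h1, TensorProduct.smul_tmul, Algebra.smul_def, mul_one]
  | add p q hp hq => rw [map_add, map_add, hp, hq, TensorProduct.add_tmul]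

theorem psi0_surjective (hS : Function.Surjective (algebraMap (MvPolynomial (Fin n) R) S)) :
    Function.Surjective (psi0 R n S R₁) := by
  unfold psi0
  rw [AlgHom.coe_comp]
  refine Function.Surjective.comp ?_ (MvPolynomial.algebraTensorAlgEquiv R R₁).symm.surjective
  exact Algebra.TensorProduct.map_surjective _ _ Function.surjective_id hS

variable {R n S}

omit [Algebra R S] [IsScalarTower R (MvPolynomial (Fin n) R) S] in
theorem span_one_eq_top (hS : Function.Surjective (algebraMap (MvPolynomial (Fin n) R) S)) :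
    Submodule.span (MvPolynomial (Fin n) R) (Set.range (fun _ : Fin 1 => (1 : S))) = ⊤ := by
  rw [eq_top_iff]
  intro s _
  obtain ⟨p, rfl⟩ := hS s
  have : algebraMap (MvPolynomial (Fin n) R) S p = p • (1 : S) := by
    rw [Algebra.smul_def, mul_one]
  rw [this]
  exact Submodule.smul_mem _ _ (Submodule.subset_span ⟨0, rfl⟩)

theorem flat_strict_alg [IsDomain R₁]
    (hS : Function.Surjective (algebraMap (MvPolynomial (Fin n) R) S))
    (f a : R) (hdvd : f ∣ a) (ha : algebraMap R R₁ a ≠ 0)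
    [Module.Flat R₁ ((Fin 1 → MvPolynomial (Fin n) R₁) ⧸ Krel (fun _ : Fin 1 => (1 : S)) R₁ f)] :
    Module.Flat R₁ ((R₁ ⊗[R] S) ⧸
      FlatCA.powTorsion (R₁ ⊗[R] S) (algebraMap R (R₁ ⊗[R] S) a) (R₁ ⊗[R] S)) := by
  have h1 := flat_of_flat_Krel (fun _ : Fin 1 => (1 : S)) (span_one_eq_top hS) R₁ f a hdvd ha
  have h2 := powTorsion_restrictScalars (B := R₁ ⊗[R] S) (R₁ ⊗[R] S) (algebraMap R R₁ a)
  rw [← IsScalarTower.algebraMap_apply R R₁ (R₁ ⊗[R] S)] at h2
  rw [← h2] at h1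
  exact Module.Flat.of_linearEquiv (Submodule.Quotient.restrictScalarsEquiv R₁
    (FlatCA.powTorsion (R₁ ⊗[R] S) (algebraMap R (R₁ ⊗[R] S) a) (R₁ ⊗[R] S))).symm

theorem finitePresentation_strict_alg [IsDomain R₁]
    (hS : Function.Surjective (algebraMap (MvPolynomial (Fin n) R) S))
    (f a : R) (hdvd : f ∣ a) (ha : algebraMap R R₁ a ≠ 0)
    [Module.Flat R₁ ((Fin 1 → MvPolynomial (Fin n) R₁) ⧸ Krel (fun _ : Fin 1 => (1 : S)) R₁ f)]
    (hfg : (Krel (n := n) (fun _ : Fin 1 => (1 : S)) R₁ f).FG) :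
    Algebra.FinitePresentation R₁ ((R₁ ⊗[R] S) ⧸
      FlatCA.powTorsion (R₁ ⊗[R] S) (algebraMap R (R₁ ⊗[R] S) a) (R₁ ⊗[R] S)) := by
  set B := R₁ ⊗[R] S with hB
  set 𝔗 : Ideal B := FlatCA.powTorsion B (algebraMap R B a) B with h𝔗
  have hg := span_one_eq_top hS
  let ψ : MvPolynomial (Fin n) R₁ →ₐ[R₁] B ⧸ 𝔗 := (Ideal.Quotient.mkₐ R₁ 𝔗).comp (psi0 R n S R₁)
  have hψsurj : Function.Surjective ψ :=
    (Ideal.Quotient.mkₐ_surjective R₁ 𝔗).comp (psi0_surjective R n S R₁ hS)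
  have h2 := powTorsion_restrictScalars (B := B) B (algebraMap R R₁ a)
  rw [← IsScalarTower.algebraMap_apply R R₁ B] at h2
  have h3 := powTorsion_a_eq (fun _ : Fin 1 => (1 : S)) hg R₁ f a hdvd ha
  have hker : RingHom.ker ψ.toRingHom = (Krel (fun _ : Fin 1 => (1 : S)) R₁ f).map
      (LinearEquiv.funUnique (Fin 1) (MvPolynomial (Fin n) R₁)
        (MvPolynomial (Fin n) R₁)).toLinearMap := by
    ext p
    have hp1 : p ∈ RingHom.ker ψ.toRingHom ↔ psi0 R n S R₁ p ∈ 𝔗 := by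
      rw [RingHom.mem_ker]
      change Ideal.Quotient.mk 𝔗 (psi0 R n S R₁ p) = 0 ↔ _
      exact Ideal.Quotient.eq_zero_iff_mem
    have hp2 : psi0 R n S R₁ p ∈ 𝔗 ↔
        psi0 R n S R₁ p ∈ FlatCA.powTorsion R₁ (algebraMap R R₁ f) B := by
      rw [← h3, ← h2, Submodule.restrictScalars_mem]
    have hp3 : (fun _ : Fin 1 => p) ∈ Krel (fun _ : Fin 1 => (1 : S)) R₁ f ↔
        psi0 R n S R₁ p ∈ FlatCA.powTorsion R₁ (algebraMap R R₁ f) B := by
      rw [mem_Krel_iff, sigma_apply, Fin.sum_univ_one, ← cancel_symm_psi0,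
        LinearEquiv.apply_symm_apply]
    rw [hp1, hp2, ← hp3, Submodule.mem_map]
    constructor
    · intro h
      exact ⟨_, h, rfl⟩
    · rintro ⟨v, hv, rfl⟩
      have : (fun _ : Fin 1 => (LinearEquiv.funUnique (Fin 1) (MvPolynomial (Fin n) R₁)
          (MvPolynomial (Fin n) R₁)).toLinearMap v) = v := by
        ext i : 1
        rw [Subsingleton.elim i default]
        rfl
      rw [this]
      exact hv
  exact Algebra.FinitePresentation.of_surjective hψsurj (hker ▸ hfg.map _)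

end BridgeAlg

end Groth.Agent.H46.BlowFlat
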