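import Mathlib
import Groth.Prelude.Def_BlowUp2
import Groth.Agent.H46.BlowFlatBridge

/-!
# Flattening of strict transforms along a valuation ring: blow-up algebras (helper46)

* `exists_algHom_affineAlgebra`: the affine blow-up algebra `R[I/a]` embeds in `A` when `I/a ⊆ A`.
* `exists_ideal_of_finset`: every finite subset of `A ⊆ Frac R` lies in some `R[I/a]` with `I`
  finitely generated inside a given ideal and `a` a multiple of a given element.
* `core_module`: generic freeness plugged into `core_psi`.
-/

set_option autoImplicit false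
universe u
open TensorProduct

namespace Groth.Agent.H46.BlowFlat

attribute [local instance] MvPolynomial.algebraMvPolynomial

section AffineAlg

variable {R K A : Type u} [CommRing R] [IsDomain R] [Field K] [Algebra R K] [IsFractionRing R K]
  [CommRing A] [Algebra A K] [Algebra R A] [IsScalarTower R A K]

theorem exists_algHom_affineAlgebra (hAK : Function.Injective (algebraMap A K))
    (I : Ideal R) (a : R) (ha : a ≠ 0)
    (hI : ∀ x ∈ I, ∃ y : A, algebraMap A K y * algebraMap R K a = algebraMap R K x) :
    ∃ ι₀ : ↥(BlowUp.affineAlgebra R I a) →ₐ[R] A, Function.Injective ι₀ ∧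
      ∀ x ∈ I, ∀ y : A, algebraMap A K y * algebraMap R K a = algebraMap R K x →
        y ∈ Set.range ι₀ := by
  have hRK : Function.Injective (algebraMap R K) := IsFractionRing.injective R K
  have haK : algebraMap R K a ≠ 0 := fun h => ha (hRK (by rw [h, map_zero]))
  have hunit : ∀ y : Submonoid.powers a, IsUnit (Algebra.ofId R K y) := by
    rintro ⟨_, k, rfl⟩
    rw [Algebra.ofId_apply, map_pow]
    exact (pow_ne_zero k haK).isUnit
  let φ : Localization.Away a →ₐ[R] K := IsLocalization.liftAlgHom (M := Submonoid.powers a) hunit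
  have hφinj : Function.Injective φ := by
    change Function.Injective (IsLocalization.lift hunit)
    rw [IsLocalization.lift_injective_iff]
    intro x y
    have h1 : Function.Injective (algebraMap R (Localization.Away a)) :=
      IsLocalization.injective _ (powers_le_nonZeroDivisors_of_noZeroDivisors ha)
    constructor
    · intro h; rw [h1 h]
    · intro h
      have : x = y := hRK h
      rw [this]
  let AK : Subalgebra R K := (IsScalarTower.toAlgHom R A K).range
  have hmk : ∀ x : R, φ (IsLocalization.mk' (Localization.Away a) x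
      (⟨a, Submonoid.mem_powers a⟩ : Submonoid.powers a)) * algebraMap R K a = algebraMap R K x := by
    intro x
    have h1 := IsLocalization.mk'_spec (Localization.Away a) x
      (⟨a, Submonoid.mem_powers a⟩ : Submonoid.powers a)
    have h2 := congrArg φ h1
    rw [map_mul, AlgHom.commutes, AlgHom.commutes] at h2
    exact h2
  have hval : ∀ x ∈ I, ∀ y : A, algebraMap A K y * algebraMap R K a = algebraMap R K x →
      φ (IsLocalization.mk' (Localization.Away a) x
        (⟨a, Submonoid.mem_powers a⟩ : Submonoid.powers a)) = algebraMap A K y := by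
    intro x _ y hy
    have := hmk x
    rw [← hy] at this
    exact mul_right_cancel₀ haK this
  have hle : (BlowUp.affineAlgebra R I a).map φ ≤ AK := by
    unfold BlowUp.affineAlgebra
    rw [AlgHom.map_adjoin, Algebra.adjoin_le_iff]
    rintro _ ⟨_, ⟨x, hx, rfl⟩, rfl⟩
    obtain ⟨y, hy⟩ := hI x hx
    rw [hval x hx y hy]
    exact ⟨y, rfl⟩
  have hmem : ∀ z : ↥(BlowUp.affineAlgebra R I a), φ z ∈ AK := fun z =>
    hle ⟨z, z.2, rfl⟩
  let e := AlgEquiv.ofInjective (IsScalarTower.toAlgHom R A K) hAK
  let ι₀ : ↥(BlowUp.affineAlgebra R I a) →ₐ[R] A :=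
    (e.symm : AK →ₐ[R] A).comp ((φ.comp (BlowUp.affineAlgebra R I a).val).codRestrict AK hmem)
  have hι₀ : ∀ z, algebraMap A K (ι₀ z) = φ z := by
    intro z
    have h1 := AlgEquiv.apply_symm_apply e
      ((φ.comp (BlowUp.affineAlgebra R I a).val).codRestrict AK hmem z)
    have h2 := congrArg Subtype.val h1
    rw [AlgEquiv.ofInjective_apply] at h2
    exact h2
  refine ⟨ι₀, ?_, ?_⟩
  · intro z w hzw
    have h1 : φ z = φ w := by rw [← hι₀, ← hι₀, hzw]
    exact Subtype.ext (hφinj h1)
  · intro x hx y hy
    have hxm : IsLocalization.mk' (Localization.Away a) x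
        (⟨a, Submonoid.mem_powers a⟩ : Submonoid.powers a) ∈ BlowUp.affineAlgebra R I a :=
      Algebra.subset_adjoin ⟨x, hx, rfl⟩
    refine ⟨⟨_, hxm⟩, ?_⟩
    apply hAK
    rw [hι₀]
    exact hval x hx y hy

end AffineAlg

section ChooseIdeal

variable {R K A : Type u} [CommRing R] [IsDomain R] [Field K] [Algebra R K] [IsFractionRing R K]
  [CommRing A] [Algebra A K] [Algebra R A] [IsScalarTower R A K]

theorem exists_ideal_of_finset (𝔪 : Ideal R) (s : Finset A) (c : R) (hc : c ≠ 0) (hcm : c ∈ 𝔪) :
    ∃ (I : Ideal R) (a : R), I.FG ∧ I ≤ 𝔪 ∧ a ∈ I ∧ a ≠ 0 ∧ c ∣ a ∧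
      (∀ x ∈ I, ∃ y : A, algebraMap A K y * algebraMap R K a = algebraMap R K x) ∧
      (∀ y ∈ s, ∃ x ∈ I, algebraMap A K y * algebraMap R K a = algebraMap R K x) := by
  classical
  obtain ⟨d, hd⟩ := IsLocalization.exist_integer_multiples_of_finset (nonZeroDivisors R)
    (s.image (algebraMap A K))
  have hd0 : (d : R) ≠ 0 := nonZeroDivisors.ne_zero d.2
  have hx : ∀ y, y ∈ s → ∃ x : R, algebraMap R K x = (d : R) • algebraMap A K y := by
    intro y hy
    exact hd _ (Finset.mem_image_of_mem _ hy)
  choose! x hx using hx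
  set a : R := d * c with ha
  set G : Finset R := insert a (s.image fun y => x y * c) with hG
  have hgen : ∀ y ∈ s, algebraMap A K y * algebraMap R K a = algebraMap R K (x y * c) := by
    intro y hy
    rw [ha, map_mul, map_mul, hx y hy, Algebra.smul_def]
    ring
  have hkey : ∀ z ∈ Ideal.span (G : Set R),
      ∃ y : A, algebraMap A K y * algebraMap R K a = algebraMap R K z := by
    intro z hz
    induction hz using Submodule.span_induction with
    | mem z hz =>
      rw [hG, Finset.coe_insert, Set.mem_insert_iff] at hz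
      rcases hz with rfl | hz
      · exact ⟨1, by rw [map_one, one_mul]⟩
      · obtain ⟨y, hy, rfl⟩ := Finset.mem_image.mp (Finset.mem_coe.mp hz)
        exact ⟨y, hgen y hy⟩
    | zero => exact ⟨0, by rw [map_zero, zero_mul, map_zero]⟩
    | add z w _ _ hz hw =>
      obtain ⟨y₁, h₁⟩ := hz
      obtain ⟨y₂, h₂⟩ := hw
      exact ⟨y₁ + y₂, by rw [map_add, add_mul, h₁, h₂, map_add]⟩
    | smul r z _ hz =>
      obtain ⟨y, hy⟩ := hz
      refine ⟨algebraMap R A r * y, ?_⟩
      rw [map_mul, ← IsScalarTower.algebraMap_apply R A K, mul_assoc, hy, smul_eq_mul, map_mul]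
  refine ⟨Ideal.span (G : Set R), a, ⟨G, rfl⟩, ?_, ?_, ?_, ?_, hkey, ?_⟩
  · rw [Ideal.span_le]
    intro z hz
    rw [hG, Finset.coe_insert, Set.mem_insert_iff] at hz
    rcases hz with rfl | hz
    · exact 𝔪.mul_mem_left _ hcm
    · obtain ⟨y, _, rfl⟩ := Finset.mem_image.mp (Finset.mem_coe.mp hz)
      exact 𝔪.mul_mem_left _ hcm
  · exact Ideal.subset_span (by rw [hG]; exact Finset.mem_coe.mpr (Finset.mem_insert_self _ _))
  · exact mul_ne_zero hd0 hc
  · exact ⟨d, by rw [ha, mul_comm]⟩
  · intro y hy
    refine ⟨x y * c, Ideal.subset_span ?_, hgen y hy⟩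
    rw [hG]
    exact Finset.mem_coe.mpr (Finset.mem_insert_of_mem (Finset.mem_image_of_mem _ hy))

end ChooseIdeal

section CoreModule

variable {R : Type u} [CommRing R] [IsDomain R] (A : Type u) [CommRing A] [IsDomain A]
  [ValuationRing A] [Algebra R A] {n b : ℕ} (N : Type u) [AddCommGroup N]
  [Module (MvPolynomial (Fin n) R) N] [Module R N] [IsScalarTower R (MvPolynomial (Fin n) R) N]
  [Module.Finite (MvPolynomial (Fin n) R) N] (g : Fin b → N)

/-- Generic freeness plugged into `core_psi`. -/
theorem core_module :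
    ∃ f : R, f ≠ 0 ∧ ∃ s : Finset A, ∀ (R₁ : Type u) [CommRing R₁] [Algebra R R₁] [Algebra R₁ A]
      [IsScalarTower R R₁ A],
      Function.Injective (algebraMap R₁ A) → (∀ x ∈ s, x ∈ Set.range (algebraMap R₁ A)) →
      (Krel (n := n) g R₁ f).FG ∧
        Module.Flat R₁ ((Fin b → MvPolynomial (Fin n) R₁) ⧸ Krel g R₁ f) := by
  obtain ⟨f, hf0, hfree, -, -, -⟩ := Groth.Agent.Lib.Helper91.generic_freeness (R := R)
    (S := MvPolynomial (Fin n) R) (M := N)
  refine ⟨f, hf0, ?_⟩
  let N' := LocalizedModule (Submonoid.powers (algebraMap R (MvPolynomial (Fin n) R) f)) N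
  let g₀ : N →ₗ[MvPolynomial (Fin n) R] N' :=
    LocalizedModule.mkLinearMap (Submonoid.powers (algebraMap R (MvPolynomial (Fin n) R) f)) N
  haveI : Module.Flat R (Localization.Away f ⊗[R] N) :=
    Module.Flat.trans R (Localization.Away f) _
  haveI h1 : IsLocalizedModule (Submonoid.powers f) (g₀.restrictScalars R) :=
    IsLocalizedModule.restrictScalars_powers f g₀
  haveI h2 : IsLocalizedModule (Submonoid.powers f)
      (TensorProduct.mk R (Localization.Away f) N 1) :=
    (isLocalizedModule_iff_isBaseChange (Submonoid.powers f) (Localization.Away f) _).mpr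
      (TensorProduct.isBaseChange R N (Localization.Away f))
  haveI : Module.Flat R N' :=
    Module.Flat.of_linearEquiv (IsLocalizedModule.linearEquiv (Submonoid.powers f)
      (g₀.restrictScalars R) (TensorProduct.mk R (Localization.Away f) N 1))
  obtain ⟨s, hs⟩ := core_psi g₀ g A
  refine ⟨s, fun R₁ _ _ _ _ hinj hrange => ?_⟩
  have hk : LinearMap.ker (psi g₀ g R₁) = Krel g R₁ f := ker_psi_eq g₀ g R₁ f
  have := hs R₁ hinj hrange
  rw [hk] at this
  exact this

end CoreModule

end Groth.Agent.H46.BlowFlat
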