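/-
helper46: depth / dimension of the local rings of a flat morphism in terms of base and fibre
(`CInt.fiberStalk`).
-/
import Mathlib
import Groth.Prelude.Def_CInt
import Groth.Agent.H46.CMAt2

set_option autoImplicit false
universe u

open AlgebraicGeometry CategoryTheory Limits

namespace Groth.Agent.H46.CIntDepth

open Groth.Agent.Lib.Helper29 Groth.Agent.H46.CMFlatLocal IsLocalRing

variable {X S : Scheme.{u}} [IsLocallyNoetherian X] [IsLocallyNoetherian S]
  (f : X ⟶ S)

/-- depth formula: `depth O_{X,y} = depth O_{S,f y} + depth O_{X_s,y}` for flat `f`. -/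
theorem depth_stalk_eq_add [Flat f] (y : X) :
    LocCoh.depth ↑(X.presheaf.stalk y) ↑(X.presheaf.stalk y) =
      LocCoh.depth ↑(S.presheaf.stalk (f y)) ↑(S.presheaf.stalk (f y)) +
        LocCoh.depth ↑(CInt.fiberStalk f y) ↑(CInt.fiberStalk f y) := by
  have hfl : (f.stalkMap y).hom.Flat := Flat.stalkMap f y
  algebraize [(f.stalkMap y).hom]
  haveI : IsLocalHom (algebraMap (S.presheaf.stalk (f.base y)) (X.presheaf.stalk y)) :=
    inferInstanceAs (IsLocalHom (f.stalkMap y).hom)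
  have h := depth_self_eq_add_of_flat (S.presheaf.stalk (f.base y)) (X.presheaf.stalk y)
  obtain ⟨e⟩ := Groth.Agent.H46.CMAt.nonempty_fibreStalk_equiv f y
  haveI hNF : IsNoetherianRing (EGA4.FibRing (S.presheaf.stalk (f.base y)) (X.presheaf.stalk y)) :=
    isNoetherianRing_of_surjective (X.presheaf.stalk y) _ (Ideal.Quotient.mk _)
      Ideal.Quotient.mk_surjective
  have h2 : LocCoh.depth (EGA4.FibRing (S.presheaf.stalk (f.base y)) (X.presheaf.stalk y))
      (EGA4.FibRing (S.presheaf.stalk (f.base y)) (X.presheaf.stalk y)) =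
      LocCoh.depth ↑(CInt.fiberStalk f y) ↑(CInt.fiberStalk f y) :=
    depth_self_eq_of_ringEquiv e
  rw [h, h2]

/-- dimension formula: `dim O_{X,y} = dim O_{S,f y} + dim O_{X_s,y}` for flat `f`. -/
theorem ringKrullDim_stalk_eq_add [Flat f] (y : X) :
    ringKrullDim ↑(X.presheaf.stalk y) =
      ringKrullDim ↑(S.presheaf.stalk (f y)) + ringKrullDim ↑(CInt.fiberStalk f y) := by
  have hfl : (f.stalkMap y).hom.Flat := Flat.stalkMap f y
  algebraize [(f.stalkMap y).hom]
  haveI : IsLocalHom (algebraMap (S.presheaf.stalk (f.base y)) (X.presheaf.stalk y)) :=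
    inferInstanceAs (IsLocalHom (f.stalkMap y).hom)
  have h := ringKrullDim_eq_add_of_flat (S.presheaf.stalk (f.base y)) (X.presheaf.stalk y)
  obtain ⟨e⟩ := Groth.Agent.H46.CMAt.nonempty_fibreStalk_equiv f y
  rw [h]
  exact congrArg _ (ringKrullDim_eq_of_ringEquiv e)

/-- S14104. -/
theorem main_14104 [Flat f] (Y : Set ↥X) (d : ℕ)
    (h : ∀ y : ↥X, y ∈ Y → (d : ℕ∞) ≤ LocCoh.depth ↑(CInt.fiberStalk f y) ↑(CInt.fiberStalk f y)) :
    ∀ y : ↥X, y ∈ Y → (d : ℕ∞) ≤ LocCoh.depth ↑(X.presheaf.stalk y) ↑(X.presheaf.stalk y) := by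
  intro y hy
  rw [depth_stalk_eq_add f y]
  exact (h y hy).trans le_add_self

/-- CM fibre local ring: dimension equals depth. -/
theorem dim_fiberStalk_eq_depth (x : X)
    (hCM : LocCoh.IsCohenMacaulayLocalRing ↑(CInt.fiberStalk f x)) :
    ringKrullDim ↑(CInt.fiberStalk f x) =
      ((LocCoh.depth ↑(CInt.fiberStalk f x) ↑(CInt.fiberStalk f x) : ℕ∞) : WithBot ℕ∞) := by
  rw [← Module.supportDim_self_eq_ringKrullDim]
  exact hCM.supportDim_eq_depth

/-- S14107. -/
theorem main_14107 [Flat f]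
    (hCM : ∀ x : ↥X, LocCoh.IsCohenMacaulayLocalRing ↑(CInt.fiberStalk f x))
    (Y : Set ↥X) (d : ℕ)
    (hcodim : ∀ y : ↥X, y ∈ Y → (d : WithBot ℕ∞) ≤ ringKrullDim ↑(CInt.fiberStalk f y)) :
    ∀ y : ↥X, y ∈ Y → (d : ℕ∞) ≤ LocCoh.depth ↑(X.presheaf.stalk y) ↑(X.presheaf.stalk y) := by
  apply main_14104 f Y d
  intro y hy
  have h := hcodim y hy
  rw [dim_fiberStalk_eq_depth f y (hCM y)] at h
  exact_mod_cast h

/-- depth ≤ dim for the stalks. -/
theorem depth_stalk_le_dim (y : X) :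
    ((LocCoh.depth ↑(X.presheaf.stalk y) ↑(X.presheaf.stalk y) : ℕ∞) : WithBot ℕ∞) ≤
      ringKrullDim ↑(X.presheaf.stalk y) := by
  rw [← Module.supportDim_self_eq_ringKrullDim]
  exact depth_le_supportDim _ _

/-- S14108. -/
theorem main_14108 [Flat f]
    (hCM : ∀ x : ↥X, LocCoh.IsCohenMacaulayLocalRing ↑(CInt.fiberStalk f x))
    (Y : Set ↥X)
    (hcodim : (⨅ y : Y, ringKrullDim ↑(CInt.fiberStalk f y.1)) =
      ⨅ y : Y, ringKrullDim ↑(X.presheaf.stalk y.1)) :
    (⨅ y : Y, ((LocCoh.depth ↑(X.presheaf.stalk y.1) ↑(X.presheaf.stalk y.1) : ℕ∞) :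
      WithBot ℕ∞)) = ⨅ y : Y, ringKrullDim ↑(X.presheaf.stalk y.1) := by
  apply le_antisymm
  · exact iInf_mono fun y => depth_stalk_le_dim y.1
  · rw [← hcodim]
    refine iInf_mono fun y => ?_
    rw [dim_fiberStalk_eq_depth f y.1 (hCM y.1), depth_stalk_eq_add f y.1]
    exact_mod_cast le_add_self

section Comp

variable (A B C : Type u) [CommRing A] [CommRing B] [CommRing C] [IsLocalRing A] [IsLocalRing B]
  [IsLocalRing C] [Algebra A B] [Algebra B C] [Algebra A C] [IsScalarTower A B C]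
  [IsLocalHom (algebraMap A B)] [IsLocalHom (algebraMap B C)]
  [IsNoetherianRing B] [IsNoetherianRing C]

/-- for `B → C` flat local, the closed fibre ring of `A → C` has dimension at least that of
`A → B`. -/
theorem dim_fib_le_of_flat [Module.Flat B C] :
    ringKrullDim (B ⧸ (maximalIdeal A).map (algebraMap A B)) ≤
      ringKrullDim (C ⧸ (maximalIdeal A).map (algebraMap A C)) := by
  have hI : (maximalIdeal A).map (algebraMap A B) ≤ maximalIdeal B :=
    map_maximalIdeal_le (algebraMap A B)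
  have hJ := map_map_maximalIdeal A B C
  haveI hlB := isLocalRing_quot B _ hI
  haveI hlC := isLocalRing_quot C _ (map_le_maximalIdeal B C _ hI)
  haveI := isLocalHom_quot B C _ hI
  haveI := flat_quotient B C ((maximalIdeal A).map (algebraMap A B))
  haveI : IsNoetherianRing (B ⧸ (maximalIdeal A).map (algebraMap A B)) :=
    isNoetherianRing_of_surjective B _ (Ideal.Quotient.mk _) Ideal.Quotient.mk_surjective
  haveI : IsNoetherianRing
      (C ⧸ ((maximalIdeal A).map (algebraMap A B)).map (algebraMap B C)) :=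
    isNoetherianRing_of_surjective C _ (Ideal.Quotient.mk _) Ideal.Quotient.mk_surjective
  have h := ringKrullDim_eq_add_of_flat (B ⧸ (maximalIdeal A).map (algebraMap A B))
    (C ⧸ ((maximalIdeal A).map (algebraMap A B)).map (algebraMap B C))
  rw [← ringKrullDim_eq_of_ringEquiv (Ideal.quotEquivOfEq hJ), h]
  exact le_add_of_nonneg_right ringKrullDim_nonneg_of_nontrivial

end Comp

/-- S14110 (Cohen–Macaulayness of `f` is not needed). -/
theorem main_14110 {X X' S : Scheme.{u}} [IsLocallyNoetherian X]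
    [IsLocallyNoetherian X'] (f : X ⟶ S) (g : X' ⟶ X) [Flat g]
    (Y : Set ↥X) :
    (⨅ y : Y, ringKrullDim ↑(CInt.fiberStalk f y.1)) ≤
      ⨅ y' : (fun x' => g x') ⁻¹' Y, ringKrullDim ↑(CInt.fiberStalk (g ≫ f) y'.1) := by
  refine le_iInf fun y' => ?_
  refine (iInf_le _ (⟨g y'.1, y'.2⟩ : Y)).trans ?_
  obtain ⟨x, hx⟩ := y'
  change ringKrullDim ↑(CInt.fiberStalk f (g x)) ≤ ringKrullDim ↑(CInt.fiberStalk (g ≫ f) x)
  obtain ⟨e1⟩ := Groth.Agent.H46.CMAt.nonempty_fibreStalk_equiv f (g x)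
  obtain ⟨e2⟩ := Groth.Agent.H46.CMAt.nonempty_fibreStalk_equiv (g ≫ f) x
  rw [← ringKrullDim_eq_of_ringEquiv e1, ← ringKrullDim_eq_of_ringEquiv e2]
  have hcomp : ((g ≫ f).stalkMap x) = f.stalkMap (g x) ≫ g.stalkMap x :=
    Scheme.Hom.stalkMap_comp g f x
  letI algAB : Algebra (S.presheaf.stalk (f.base (g.base x))) (X.presheaf.stalk (g.base x)) :=
    (f.stalkMap (g.base x)).hom.toAlgebra
  letI algBC : Algebra (X.presheaf.stalk (g.base x)) (X'.presheaf.stalk x) :=
    (g.stalkMap x).hom.toAlgebra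
  letI algAC : Algebra (S.presheaf.stalk (f.base (g.base x))) (X'.presheaf.stalk x) :=
    ((g.stalkMap x).hom.comp (f.stalkMap (g.base x)).hom).toAlgebra
  haveI : IsScalarTower (S.presheaf.stalk (f.base (g.base x))) (X.presheaf.stalk (g.base x))
      (X'.presheaf.stalk x) := IsScalarTower.of_algebraMap_eq (fun _ => rfl)
  haveI : IsLocalHom (algebraMap (S.presheaf.stalk (f.base (g.base x)))
      (X.presheaf.stalk (g.base x))) :=
    inferInstanceAs (IsLocalHom (f.stalkMap (g.base x)).hom)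
  haveI : IsLocalHom (algebraMap (X.presheaf.stalk (g.base x)) (X'.presheaf.stalk x)) :=
    inferInstanceAs (IsLocalHom (g.stalkMap x).hom)
  haveI : Module.Flat (X.presheaf.stalk (g.base x)) (X'.presheaf.stalk x) :=
    (Flat.stalkMap g x : (g.stalkMap x).hom.Flat)
  have hmapeq : ((g ≫ f).stalkMap x).hom =
      (g.stalkMap x).hom.comp (f.stalkMap (g.base x)).hom := by
    rw [hcomp]; rfl
  have hideal : Ideal.map ((g ≫ f).stalkMap x).hom
      (maximalIdeal (S.presheaf.stalk ((g ≫ f).base x))) =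
      Ideal.map (algebraMap (S.presheaf.stalk (f.base (g.base x))) (X'.presheaf.stalk x))
        (maximalIdeal (S.presheaf.stalk (f.base (g.base x)))) := by
    rw [hmapeq]; rfl
  rw [ringKrullDim_eq_of_ringEquiv (Ideal.quotEquivOfEq hideal)]
  exact dim_fib_le_of_flat (S.presheaf.stalk (f.base (g.base x))) (X.presheaf.stalk (g.base x))
    (X'.presheaf.stalk x)

end Groth.Agent.H46.CIntDepth
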