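import Mathlib
import Groth.Prelude.Def_Flat
import Groth.Agent.Lib.Helper55.LocalDim
import Groth.Agent.Lib.Helper55.KrullDimIntegral

/-!
# Relative Noether normalization at a point (helper46)
-/

set_option autoImplicit false
universe u

open TensorProduct

namespace Groth.Agent.H46.RelNoether

/-- If `B ⊗ κ(p) → C ⊗ κ(p)` is finite then `C` is quasi-finite over `B` at all primes over `p`. -/
theorem quasiFiniteAt_of_finite_fiber {R B C : Type u} [CommRing R] [CommRing B] [CommRing C]
    [Algebra R B] [Algebra R C] [Algebra B C] [IsScalarTower R B C] [Algebra.FiniteType B C]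
    (p : Ideal R) [p.IsPrime]
    (hfin : (Algebra.TensorProduct.map (IsScalarTower.toAlgHom R B C)
      (AlgHom.id R p.ResidueField)).toRingHom.Finite)
    (q' : Ideal C) [q'.IsPrime] (hq' : q'.under R = p) :
    Algebra.QuasiFiniteAt B q' := by
  have : Algebra.WeaklyQuasiFiniteAt B q' := by
    rw [Algebra.weaklyQuasiFiniteAt_iff]
    -- the intermediate algebras
    let D := B ⊗[R] p.ResidueField
    let E := C ⊗[R] p.ResidueField
    let _ : Algebra D E := (Algebra.TensorProduct.map (IsScalarTower.toAlgHom R B C)
      (AlgHom.id R p.ResidueField)).toRingHom.toAlgebra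
    have : IsScalarTower B D E := IsScalarTower.of_algebraMap_eq (fun b => by
      show algebraMap B E b = (Algebra.TensorProduct.map (IsScalarTower.toAlgHom R B C)
        (AlgHom.id R p.ResidueField)) (algebraMap B D b)
      simp [D, E, Algebra.TensorProduct.algebraMap_apply])
    have : Module.Finite D E := hfin
    have : Algebra.QuasiFinite B E := Algebra.QuasiFinite.trans B D E
    set T := Localization.AtPrime q' ⧸ (q'.under B).map (algebraMap B (Localization.AtPrime q'))
      with hT
    have hf₁ : p ≤ RingHom.ker (Algebra.ofId R T) := by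
      intro r hr
      rw [RingHom.mem_ker]
      show algebraMap R T r = 0
      rw [IsScalarTower.algebraMap_apply R (Localization.AtPrime q') T,
        Ideal.Quotient.algebraMap_eq, Ideal.Quotient.eq_zero_iff_mem,
        IsScalarTower.algebraMap_apply R B (Localization.AtPrime q')]
      apply Ideal.mem_map_of_mem
      rw [Ideal.under, Ideal.mem_comap, ← IsScalarTower.algebraMap_apply]
      rw [← hq'] at hr
      exact hr
    have hf₂ : p.primeCompl ≤ (IsUnit.submonoid T).comap (Algebra.ofId R T) := by
      intro r hr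
      rw [Submonoid.mem_comap, IsUnit.mem_submonoid_iff]
      show IsUnit (algebraMap R T r)
      rw [IsScalarTower.algebraMap_apply R (Localization.AtPrime q') T]
      apply IsUnit.map
      rw [IsScalarTower.algebraMap_apply R C (Localization.AtPrime q')]
      apply IsLocalization.map_units (Localization.AtPrime q') (⟨algebraMap R C r, ?_⟩ : q'.primeCompl)
      intro hmem
      apply hr
      rw [← hq']
      exact hmem
    let g : p.ResidueField →ₐ[R] T := Ideal.ResidueField.liftₐ p (Algebra.ofId R T) hf₁ hf₂
    let f : E →ₐ[C] T := Algebra.TensorProduct.lift (Algebra.ofId C T) g (fun _ _ => Commute.all _ _)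
    refine Algebra.QuasiFinite.of_forall_exists_mul_mem_range (f.restrictScalars B) ?_
    intro x
    obtain ⟨x, rfl⟩ := Ideal.Quotient.mk_surjective x
    obtain ⟨c, u, rfl⟩ := IsLocalization.exists_mk'_eq q'.primeCompl x
    have hfa : ∀ a : C, f (a ⊗ₜ 1) = algebraMap C T a := by
      intro a
      rw [Algebra.TensorProduct.lift_tmul, map_one, mul_one]
      rfl
    refine ⟨u.1 ⊗ₜ 1, ?_, c ⊗ₜ 1, ?_⟩
    · show IsUnit (f (u.1 ⊗ₜ 1))
      rw [hfa, IsScalarTower.algebraMap_apply C (Localization.AtPrime q') T]
      exact (IsLocalization.map_units (Localization.AtPrime q') u).map _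
    · show f (c ⊗ₜ 1) = _ * f (u.1 ⊗ₜ 1)
      rw [hfa, hfa, IsScalarTower.algebraMap_apply C (Localization.AtPrime q') T,
        IsScalarTower.algebraMap_apply C (Localization.AtPrime q') T,
        Ideal.Quotient.algebraMap_eq, ← map_mul, IsLocalization.mk'_spec]
  exact Algebra.QuasiFiniteAt.of_weaklyQuasiFiniteAt q'

/-- Noether normalization of the fibre, lifted to a map from a polynomial ring over `R`. -/
theorem exists_algHom_finite_fiber {R C : Type u} [CommRing R] [CommRing C] [Algebra R C]
    [Algebra.FiniteType R C] (p : Ideal R) [p.IsPrime] (n : ℕ) [Nontrivial (p.Fiber C)]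
    (hdim : ringKrullDim (p.Fiber C) ≤ (n : WithBot ℕ∞)) :
    ∃ φ : MvPolynomial (Fin n) R →ₐ[R] C,
      (Algebra.TensorProduct.map φ (AlgHom.id R p.ResidueField)).toRingHom.Finite := by
  classical
  obtain ⟨s₀, ψ₀, hinj, hfin⟩ := exists_finite_inj_algHom_of_fg p.ResidueField (p.Fiber C)
  have hs : s₀ ≤ n := by
    have h1 := Groth.Agent.Lib.Helper55.ringKrullDim_eq_of_ringHom_isIntegral_of_injective
      ψ₀.toRingHom hfin.to_isIntegral hinj
    rw [MvPolynomial.ringKrullDim_of_isNoetherianRing, ringKrullDim_eq_zero_of_field, zero_add,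
      Nat.card_eq_fintype_card, Fintype.card_fin] at h1
    rw [h1] at hdim
    exact_mod_cast hdim
  choose c hc x hx using fun i : Fin s₀ =>
    Ideal.Fiber.exists_smul_eq_one_tmul p (ψ₀ (MvPolynomial.X i))
  let xx : Fin n → C := fun j => if h : j.1 < s₀ then x ⟨j.1, h⟩ else 0
  let φ : MvPolynomial (Fin n) R →ₐ[R] C := MvPolynomial.aeval xx
  let θ : MvPolynomial (Fin s₀) p.ResidueField →ₐ[p.ResidueField]
      p.ResidueField ⊗[R] MvPolynomial (Fin n) R :=
    MvPolynomial.aeval (fun i => (algebraMap R p.ResidueField (c i))⁻¹ ⊗ₜ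
      MvPolynomial.X (Fin.castLE hs i))
  let m₁ : p.ResidueField ⊗[R] MvPolynomial (Fin n) R →ₐ[p.ResidueField] p.ResidueField ⊗[R] C :=
    Algebra.TensorProduct.map (AlgHom.id p.ResidueField p.ResidueField) φ
  have hcomp : m₁.comp θ = ψ₀ := by
    apply MvPolynomial.algHom_ext
    intro i
    have hci : algebraMap R p.ResidueField (c i) ≠ 0 := by
      rw [Ne, Ideal.algebraMap_residueField_eq_zero]
      exact hc i
    have hxx : xx (Fin.castLE hs i) = x i := by
      simp [xx]
    have h1 : ψ₀ (MvPolynomial.X i) =
        (algebraMap R p.ResidueField (c i))⁻¹ • ((1 : p.ResidueField) ⊗ₜ[R] x i) := by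
      rw [← hx i, ← algebraMap_smul p.ResidueField (c i) (ψ₀ (MvPolynomial.X i)), smul_smul,
        inv_mul_cancel₀ hci, one_smul]
    rw [h1]
    simp [θ, m₁, φ, hxx, TensorProduct.smul_tmul']
  have hm₁ : m₁.Finite := by
    apply AlgHom.Finite.of_comp_finite (f := θ)
    rw [hcomp]
    exact hfin
  have hkey : (Algebra.TensorProduct.map φ (AlgHom.id R p.ResidueField)).toRingHom =
      ((Algebra.TensorProduct.comm R p.ResidueField C).toAlgHom.toRingHom.comp m₁.toRingHom).comp
        (Algebra.TensorProduct.comm R (MvPolynomial (Fin n) R) p.ResidueField).toAlgHom.toRingHom := by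
    apply RingHom.ext
    intro t
    induction t with
    | zero => simp
    | tmul a b => simp [m₁]
    | add a b ha hb => rw [map_add, map_add, ha, hb]
  refine ⟨φ, ?_⟩
  rw [hkey]
  refine RingHom.Finite.comp (RingHom.Finite.comp ?_ hm₁) ?_
  · exact RingHom.Finite.of_surjective _ (Algebra.TensorProduct.comm R p.ResidueField C).surjective
  · exact RingHom.Finite.of_surjective _
      (Algebra.TensorProduct.comm R (MvPolynomial (Fin n) R) p.ResidueField).surjective

/-- The fibre of `S_g` is the localization of the fibre of `S` away from `1 ⊗ g`. -/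
theorem isLocalization_away_fiber (R S : Type u) [CommRing R] [CommRing S] [Algebra R S]
    (g : S) (p : Ideal R) [p.IsPrime] :
    letI : Algebra (p.Fiber S) (p.Fiber (Localization.Away g)) :=
      (Algebra.TensorProduct.map (AlgHom.id R p.ResidueField)
        (IsScalarTower.toAlgHom R S (Localization.Away g))).toRingHom.toAlgebra
    IsLocalization.Away ((1 : p.ResidueField) ⊗ₜ[R] g) (p.Fiber (Localization.Away g)) := by
  letI : Algebra (p.Fiber S) (p.Fiber (Localization.Away g)) :=
    (Algebra.TensorProduct.map (AlgHom.id R p.ResidueField)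
      (IsScalarTower.toAlgHom R S (Localization.Away g))).toRingHom.toAlgebra
  have htower : IsScalarTower p.ResidueField (p.Fiber S)
      (p.Fiber (Localization.Away g)) :=
    .of_algebraMap_eq (by
      intro x
      show algebraMap p.ResidueField (p.Fiber (Localization.Away g)) x =
        (Algebra.TensorProduct.map (AlgHom.id R p.ResidueField)
          (IsScalarTower.toAlgHom R S (Localization.Away g)))
          (algebraMap p.ResidueField (p.Fiber S) x)
      simp [Algebra.TensorProduct.algebraMap_apply])
  have := IsLocalization.tensorProduct_tensorProduct_right R p.ResidueField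
    (Submonoid.powers g) (Localization.Away g)
    (by ext; simp [RingHom.algebraMap_toAlgebra])
  simpa [Submonoid.map_powers] using this

theorem main (R S : Type u) [CommRing R] [CommRing S]
    [Algebra R S] [Algebra.FiniteType R S] (p : Ideal R) [p.IsPrime] (q : Ideal S) [q.IsPrime]
    [q.LiesOver p] (Q : PrimeSpectrum (p.Fiber S))
    (hQ : Q.asIdeal.comap (Algebra.TensorProduct.includeRight.toRingHom) = q) (n : ℕ)
    (hdim : FlatMor.localDim (PrimeSpectrum (p.Fiber S)) Q = (n : WithBot ℕ∞)) :
    ∃ g : S, g ∉ q ∧ ∃ φ : MvPolynomial (Fin n) R →ₐ[R] Localization.Away g,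
      φ.toRingHom.FiniteType ∧ φ.toRingHom.QuasiFinite := by
  -- Step A: a basic open neighbourhood of dimension ≤ n
  obtain ⟨G, hGQ, hG⟩ := Groth.Agent.Lib.Helper55.exists_notMem_forall_minimalPrimes
    p.ResidueField (p.Fiber S) Q.asIdeal
  have h1 := Groth.Agent.Lib.Helper55.topologicalKrullDim_basicOpen_le
    p.ResidueField (p.Fiber S) Q.asIdeal G hG
  rw [← Groth.Agent.Lib.Helper55.localDim_primeSpectrum_eq p.ResidueField (p.Fiber S) Q, hdim,
    ← Groth.Agent.Lib.Helper55.ringKrullDim_localizationAway_eq] at h1
  obtain ⟨c, hc, g₁, hcg⟩ := Ideal.Fiber.exists_smul_eq_one_tmul p G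
  have hunit : IsUnit (algebraMap R (p.Fiber S) c) := by
    rw [IsScalarTower.algebraMap_apply R p.ResidueField (p.Fiber S)]
    apply IsUnit.map
    rw [isUnit_iff_ne_zero, Ne, Ideal.algebraMap_residueField_eq_zero]
    exact hc
  have hcg' : algebraMap R (p.Fiber S) c * G = (1 : p.ResidueField) ⊗ₜ[R] g₁ := by
    rw [← hcg, Algebra.smul_def]
  have hassoc : Associated ((1 : p.ResidueField) ⊗ₜ[R] g₁) G :=
    ⟨hunit.unit⁻¹, by rw [← hcg', mul_comm, ← mul_assoc, IsUnit.val_inv_mul, one_mul]⟩
  have hg₁ : g₁ ∉ q := by
    intro hmem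
    rw [← hQ, Ideal.mem_comap] at hmem
    have hmem' : algebraMap R (p.Fiber S) c * G ∈ Q.asIdeal := by rw [hcg']; exact hmem
    rcases (Q.2.mem_or_mem hmem') with h | h
    · exact Q.2.ne_top (Ideal.eq_top_of_isUnit_mem _ h hunit)
    · exact hGQ h
  -- the prime of `S_{g₁}`
  have hdisj : Disjoint (Submonoid.powers g₁ : Set S) (q : Set S) := by
    rw [Set.disjoint_left]
    rintro x ⟨k, rfl⟩ hk
    exact hg₁ (Ideal.IsPrime.mem_of_pow_mem inferInstance k hk)
  have hqgprime : (q.map (algebraMap S (Localization.Away g₁))).IsPrime :=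
    IsLocalization.isPrime_of_isPrime_disjoint (Submonoid.powers g₁) _ q inferInstance hdisj
  have hqgcomap : (q.map (algebraMap S (Localization.Away g₁))).comap
      (algebraMap S (Localization.Away g₁)) = q :=
    IsLocalization.under_map_of_isPrime_disjoint (Submonoid.powers g₁) _ inferInstance hdisj
  have hqgunder : (q.map (algebraMap S (Localization.Away g₁))).under R = p := by
    rw [Ideal.under, IsScalarTower.algebraMap_eq R S (Localization.Away g₁), ← Ideal.comap_comap,
      hqgcomap]
    exact (Ideal.over_def q p).symm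
  -- the fibre of `S_{g₁}`
  have hntF : Nontrivial (p.Fiber (Localization.Away g₁)) := by
    refine (PrimeSpectrum.nontrivial_iff_mem_rangeComap ⟨p, inferInstance⟩).mpr
      ⟨⟨q.map (algebraMap S (Localization.Away g₁)), hqgprime⟩, ?_⟩
    ext1
    exact hqgunder
  have hdimF : ringKrullDim (p.Fiber (Localization.Away g₁)) ≤ (n : WithBot ℕ∞) := by
    letI : Algebra (p.Fiber S) (p.Fiber (Localization.Away g₁)) :=
      (Algebra.TensorProduct.map (AlgHom.id R p.ResidueField)
        (IsScalarTower.toAlgHom R S (Localization.Away g₁))).toRingHom.toAlgebra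
    have hloc1 := isLocalization_away_fiber R S g₁ p
    have hloc2 : IsLocalization.Away G (p.Fiber (Localization.Away g₁)) :=
      IsLocalization.Away.of_associated hassoc
    rw [ringKrullDim_eq_of_ringEquiv (IsLocalization.algEquiv (Submonoid.powers G)
      (p.Fiber (Localization.Away g₁)) (Localization.Away G)).toRingEquiv]
    exact h1
  -- Step B: the map from the polynomial ring
  obtain ⟨φ, hφ⟩ := exists_algHom_finite_fiber (C := Localization.Away g₁) p n hdimF
  letI : Algebra (MvPolynomial (Fin n) R) (Localization.Away g₁) := φ.toRingHom.toAlgebra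
  haveI : IsScalarTower R (MvPolynomial (Fin n) R) (Localization.Away g₁) :=
    IsScalarTower.of_algebraMap_eq (fun r => (φ.commutes r).symm)
  have hftRC : Algebra.FiniteType R (Localization.Away g₁) :=
    Algebra.FiniteType.trans (S := S) inferInstance (IsLocalization.finiteType_of_monoid_fg
      (Submonoid.powers g₁) _)
  haveI : Algebra.FiniteType (MvPolynomial (Fin n) R) (Localization.Away g₁) :=
    Algebra.FiniteType.of_restrictScalars_finiteType R _ _
  have htoAlg : IsScalarTower.toAlgHom R (MvPolynomial (Fin n) R) (Localization.Away g₁) = φ :=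
    AlgHom.ext (fun _ => rfl)
  haveI hQF : Algebra.QuasiFiniteAt (MvPolynomial (Fin n) R)
      (q.map (algebraMap S (Localization.Away g₁))) :=
    quasiFiniteAt_of_finite_fiber p (by rw [htoAlg]; exact hφ) _ hqgunder
  -- Step D: Zariski's main theorem
  obtain ⟨C', hC', r, hrq, hbij⟩ :=
    Algebra.QuasiFiniteAt.exists_fg_and_exists_notMem_and_awayMap_bijective
      (R := MvPolynomial (Fin n) R) (q.map (algebraMap S (Localization.Away g₁)))
  have : Module.Finite (MvPolynomial (Fin n) R) C' := ⟨(Submodule.fg_top _).mpr hC'⟩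
  have : Algebra.QuasiFinite (MvPolynomial (Fin n) R) (Localization.Away r) := .trans _ C' _
  have hQF2' : Algebra.QuasiFinite (MvPolynomial (Fin n) R) (Localization.Away (C'.val r)) :=
    Algebra.QuasiFinite.of_surjective_algHom
      (S := Localization.Away r) (T := Localization.Away (C'.val r))
      (Localization.awayMapₐ C'.val r) hbij.2
  have hQF2 : Algebra.QuasiFinite (MvPolynomial (Fin n) R) (Localization.Away r.1) := hQF2'
  -- Step E: back to a localization of `S`
  have hass := IsLocalization.Away.associated_sec_fst g₁ r.1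
  set a : S := (IsLocalization.Away.sec g₁ r.1).1 with ha
  have hloc : IsLocalization.Away (g₁ * a) (Localization.Away r.1) :=
    IsLocalization.Away.mul_of_associated g₁ a r.1 hass
  have haq : a ∉ q := by
    intro hmem
    apply hrq
    obtain ⟨u, hu⟩ := hass
    rw [← hu]
    exact Ideal.mul_mem_right _ _ (Ideal.mem_map_of_mem _ hmem)
  let e : Localization.Away (g₁ * a) ≃ₐ[S] Localization.Away r.1 :=
    IsLocalization.algEquiv (Submonoid.powers (g₁ * a)) _ _
  refine ⟨g₁ * a, fun h => (Ideal.IsPrime.mem_or_mem inferInstance h).elim hg₁ haq, ?_⟩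
  let φ' : MvPolynomial (Fin n) R →ₐ[R] Localization.Away (g₁ * a) :=
    (e.symm.toAlgHom.restrictScalars R).comp
      ((IsScalarTower.toAlgHom R (Localization.Away g₁) (Localization.Away r.1)).comp φ)
  refine ⟨φ', ?_, ?_⟩
  · have hft : Algebra.FiniteType R (Localization.Away (g₁ * a)) :=
      Algebra.FiniteType.trans (S := S) inferInstance (IsLocalization.finiteType_of_monoid_fg
        (Submonoid.powers (g₁ * a)) _)
    apply RingHom.FiniteType.of_comp_finiteType (f := algebraMap R (MvPolynomial (Fin n) R))
    have : φ'.toRingHom.comp (algebraMap R (MvPolynomial (Fin n) R)) =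
        algebraMap R (Localization.Away (g₁ * a)) := φ'.comp_algebraMap
    rw [this]
    exact RingHom.finiteType_algebraMap.mpr hft
  · letI : Algebra (MvPolynomial (Fin n) R) (Localization.Away (g₁ * a)) := φ'.toRingHom.toAlgebra
    show Algebra.QuasiFinite (MvPolynomial (Fin n) R) (Localization.Away (g₁ * a))
    let f : Localization.Away r.1 →ₐ[MvPolynomial (Fin n) R] Localization.Away (g₁ * a) :=
      { e.symm.toAlgHom.toRingHom with
        commutes' := fun b => rfl }
    exact Algebra.QuasiFinite.of_surjective_algHom f e.symm.surjective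

end Groth.Agent.H46.RelNoether
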