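import Groth.Prelude.Def_RegImm
import Mathlib

set_option autoImplicit false
universe u

namespace Groth.Agent.H46

open TensorProduct

/-- `IsGlobalCI` is invariant under algebra isomorphisms. -/
theorem isGlobalCI_of_algEquiv {k : Type u} [Field k] {A B : Type u} [CommRing A] [CommRing B]
    [Algebra k A] [Algebra k B] (e : A ≃ₐ[k] B) (h : Synt.IsGlobalCI k A) : Synt.IsGlobalCI k B := by
  rcases h with h | ⟨n, c, hc, φ, r, hφ, hker, hdim⟩
  · exact Or.inl (e.symm.toEquiv.subsingleton)
  · refine Or.inr ⟨n, c, hc, e.toAlgHom.comp φ, r, e.surjective.comp hφ, ?_, ?_⟩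
    · rw [← hker]
      ext x
      simp only [RingHom.mem_ker]
      show e (φ x) = 0 ↔ φ x = 0
      exact e.map_eq_zero_iff
    · rw [← hdim]
      exact (ringKrullDim_eq_of_ringEquiv e.toRingEquiv).symm

/-- Being a local complete intersection over a field is local on the spectrum. -/
theorem isLCIOver_of_span {k : Type u} [Field k] {F : Type u} [CommRing F] [Algebra k F]
    [Algebra.FiniteType k F] (s : Set F) (hs : Ideal.span s = ⊤)
    (h : ∀ g ∈ s, ∃ (Fg : Type u) (_ : CommRing Fg) (_ : Algebra k Fg) (_ : Algebra F Fg)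
      (_ : IsScalarTower k F Fg) (_ : IsLocalization.Away g Fg), Synt.IsLCIOver k Fg) :
    Synt.IsLCIOver k F := by
  refine ⟨inferInstance, fun q => ?_⟩
  -- some `g ∈ s` is not in `q`
  obtain ⟨g, hgs, hgq⟩ : ∃ g ∈ s, g ∉ q.asIdeal := by
    by_contra hcon
    push Not at hcon
    have : Ideal.span s ≤ q.asIdeal := Ideal.span_le.2 hcon
    rw [hs] at this
    exact q.2.ne_top (top_le_iff.1 this)
  obtain ⟨Fg, _, _, _, _, _, -, hLCI⟩ := h g hgs
  -- the prime of `Fg` corresponding to `q`
  have hdisj : Disjoint (Submonoid.powers g : Set F) (q.asIdeal : Set F) := by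
    rw [Set.disjoint_left]
    rintro _ ⟨n, rfl⟩ hn
    exact hgq (q.2.mem_of_pow_mem n hn)
  have hq' : (q.asIdeal.map (algebraMap F Fg)).IsPrime :=
    IsLocalization.isPrime_of_isPrime_disjoint (Submonoid.powers g) Fg q.asIdeal q.2 hdisj
  obtain ⟨h', hh'q, hCI⟩ := hLCI ⟨q.asIdeal.map (algebraMap F Fg), hq'⟩
  -- write `h'` as `a / g^n`
  let a : F := (IsLocalization.Away.sec g h').1
  have hassoc : Associated (algebraMap F Fg a) h' := IsLocalization.Away.associated_sec_fst g h'
  have haq : a ∉ q.asIdeal := by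
    intro ha
    apply hh'q
    obtain ⟨u, hu⟩ := hassoc
    show h' ∈ q.asIdeal.map (algebraMap F Fg)
    rw [← hu]
    exact Ideal.mul_mem_right _ _ (Ideal.mem_map_of_mem _ ha)
  have : IsLocalization.Away (g * a) (Localization.Away h') :=
    IsLocalization.Away.mul_of_associated g a h' hassoc
  refine ⟨g * a, fun hmem => (q.2.mem_or_mem hmem).elim hgq haq, ?_⟩
  have : IsScalarTower k F (Localization.Away h') := by
    refine IsScalarTower.of_algebraMap_eq' ?_
    rw [IsScalarTower.algebraMap_eq k Fg (Localization.Away h'),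
      IsScalarTower.algebraMap_eq F Fg (Localization.Away h'), RingHom.comp_assoc,
      ← IsScalarTower.algebraMap_eq k F Fg]
  exact isGlobalCI_of_algEquiv
    ((IsLocalization.algEquiv (Submonoid.powers (g * a)) (Localization.Away h')
      (Localization.Away (g * a))).restrictScalars k) hCI

end Groth.Agent.H46
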