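import Groth.Prelude.Def_RegImm
import Groth.Agent.H46.SyntLocal
import Groth.Agent.Lib.Helper55.Catenary
import Mathlib

set_option autoImplicit false
universe u

namespace Groth.Agent.H46.GCILocalize

open MvPolynomial

variable {k : Type u} [Field k]

/-- Krull's height theorem + dimension formula: a nonzero quotient of a polynomial ring in `m`
variables by an ideal generated by `d` elements has dimension `≥ m - d`. -/
theorem le_ringKrullDim_quotient_span (m d : ℕ) (r : Fin d → MvPolynomial (Fin m) k)
    (hne : Ideal.span (Set.range r) ≠ ⊤) :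
    (m : WithBot ℕ∞) ≤ ringKrullDim (MvPolynomial (Fin m) k ⧸ Ideal.span (Set.range r)) + (d : ℕ∞) := by
  obtain ⟨q, hq⟩ := Ideal.nonempty_minimalPrimes hne
  have hq_prime : q.IsPrime := hq.1.1
  have hht : q.height ≤ (Set.range r).ncard :=
    Ideal.height_le_card_of_mem_minimalPrimes_span (Set.finite_range r) hq
  have hcard : (Set.range r).ncard ≤ d := by
    have := Set.ncard_image_le (f := r) (s := Set.univ) Set.finite_univ
    rw [Set.image_univ] at this
    simpa using this
  have hht' : q.height ≤ (d : ℕ∞) := hht.trans (by exact_mod_cast hcard)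
  have hdim := Groth.Agent.Lib.Helper55.ringKrullDim_quotient_add_height k (MvPolynomial (Fin m) k) q
  have hm : ringKrullDim (MvPolynomial (Fin m) k) = m := by
    rw [MvPolynomial.ringKrullDim_of_isNoetherianRing, ringKrullDim_eq_zero_of_field]
    simp
  rw [hm] at hdim
  have hle : ringKrullDim (MvPolynomial (Fin m) k ⧸ q) ≤
      ringKrullDim (MvPolynomial (Fin m) k ⧸ Ideal.span (Set.range r)) :=
    ringKrullDim_le_of_surjective (Ideal.Quotient.factor hq.1.2)
      (Ideal.Quotient.factor_surjective hq.1.2)
  rw [← hdim]
  exact add_le_add hle (by exact_mod_cast hht')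

/-- presentation of `S_g` with one more generator and one more relation -/
theorem exists_presentation_away {S : Type u} [CommRing S] [Algebra k S] (g : S) {n c : ℕ}
    (φ : MvPolynomial (Fin n) k →ₐ[k] S) (r : Fin c → MvPolynomial (Fin n) k)
    (hφ : Function.Surjective φ) (hker : RingHom.ker φ.toRingHom = Ideal.span (Set.range r)) :
    ∃ (φ' : MvPolynomial (Fin (n + 1)) k →ₐ[k] Localization.Away g)
      (r' : Fin (c + 1) → MvPolynomial (Fin (n + 1)) k),
      Function.Surjective φ' ∧ RingHom.ker φ'.toRingHom = Ideal.span (Set.range r') := by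
  have hae : aeval (fun i => φ (X i)) = φ := by
    ext i; simp
  let G : Algebra.Generators k S (Fin n) :=
    Algebra.Generators.ofSurjective (fun i => φ (X i)) (by rw [hae]; exact hφ)
  let P : Algebra.Presentation k S (Fin n) (Fin c) :=
    { toGenerators := G
      relation := r
      span_range_relation_eq_ker := by
        rw [Algebra.Generators.ker_eq_ker_aeval_val]
        show _ = RingHom.ker (aeval fun i => φ (X i))
        rw [hae, ← hker]
        rfl }
  let Q := (Algebra.Presentation.localizationAway (Localization.Away g) g).comp P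
  let e : Fin (n + 1) ≃ Unit ⊕ Fin n := Fintype.equivOfCardEq (by simp; omega)
  let f : Fin (c + 1) ≃ Unit ⊕ Fin c := Fintype.equivOfCardEq (by simp; omega)
  let Q' := Q.reindex e f
  refine ⟨aeval Q'.val, Q'.relation, Q'.toGenerators.aeval_val_surjective, ?_⟩
  rw [Q'.span_range_relation_eq_ker, Algebra.Generators.ker_eq_ker_aeval_val]
  rfl

/-- `dim R_g ≤ dim R` -/
theorem ringKrullDim_localizationAway_le {R : Type*} [CommRing R] (g : R) :
    ringKrullDim (Localization.Away g) ≤ ringKrullDim R := by
  rw [← PrimeSpectrum.topologicalKrullDim_eq_ringKrullDim,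
    ← PrimeSpectrum.topologicalKrullDim_eq_ringKrullDim]
  have hemb := PrimeSpectrum.localization_away_isOpenEmbedding (Localization.Away g) g
  exact hemb.isEmbedding.isInducing.topologicalKrullDim_le

/-- a global complete intersection localizes -/
theorem isGlobalCI_away {S : Type u} [CommRing S] [Algebra k S] (g : S)
    (h : Synt.IsGlobalCI k S) : Synt.IsGlobalCI k (Localization.Away g) := by
  by_cases hsub : Subsingleton (Localization.Away g)
  · exact Or.inl hsub
  rw [not_subsingleton_iff_nontrivial] at hsub
  rcases h with h | ⟨n, c, hc, φ, r, hφ, hker, hdim⟩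
  · exfalso
    have : (1 : Localization.Away g) = 0 := by
      rw [← map_one (algebraMap S _), ← map_zero (algebraMap S _), Subsingleton.elim (1 : S) 0]
    exact one_ne_zero this
  obtain ⟨φ', r', hφ', hker'⟩ := exists_presentation_away g φ r hφ hker
  refine Or.inr ⟨n + 1, c + 1, by omega, φ', r', hφ', hker', ?_⟩
  have hnc : n + 1 - (c + 1) = n - c := by omega
  rw [hnc]
  apply le_antisymm
  · rw [← hdim]
    exact ringKrullDim_localizationAway_le g
  · -- lower bound
    have hne : Ideal.span (Set.range r') ≠ ⊤ := by
      rw [← hker']
      exact RingHom.ker_ne_top _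
    have h1 := le_ringKrullDim_quotient_span (n + 1) (c + 1) r' hne
    have e : (MvPolynomial (Fin (n + 1)) k ⧸ Ideal.span (Set.range r')) ≃+* Localization.Away g := by
      rw [← hker']
      exact RingHom.quotientKerEquivOfSurjective hφ'
    rw [ringKrullDim_eq_of_ringEquiv e] at h1
    generalize ringKrullDim (Localization.Away g) = D at h1 ⊢
    induction D using WithBot.recBotCoe with
    | bot =>
      exfalso
      rw [WithBot.bot_add] at h1
      exact (WithBot.coe_ne_bot (le_bot_iff.mp h1))
    | coe x =>
      induction x using ENat.recTopCoe with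
      | top => exact le_top
      | coe y =>
        have h2 : ((n + 1 : ℕ) : WithBot ℕ∞) ≤ ((y + (c + 1) : ℕ) : WithBot ℕ∞) := by
          refine h1.trans (le_of_eq ?_)
          push_cast
          rfl
        have h3 : n + 1 ≤ y + (c + 1) := by exact_mod_cast h2
        have h4 : n - c ≤ y := by omega
        have h5 : ((n - c : ℕ) : ℕ∞) ≤ (y : ℕ∞) := by exact_mod_cast h4
        exact WithBot.coe_le_coe.mpr h5

/-- a local complete intersection localizes -/
theorem isLCIOver_away {S : Type u} [CommRing S] [Algebra k S] (g : S)
    (h : Synt.IsLCIOver k S) : Synt.IsLCIOver k (Localization.Away g) := by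
  obtain ⟨hft, hloc⟩ := h
  refine ⟨inferInstance, fun P => ?_⟩
  obtain ⟨a, hap, hCI⟩ := hloc (PrimeSpectrum.comap (algebraMap S (Localization.Away g)) P)
  refine ⟨algebraMap S (Localization.Away g) a, hap, ?_⟩
  -- `T1 = (S_g)_a`, `T2 = (S_a)_g`
  have hCI2 : Synt.IsGlobalCI k (Localization.Away (algebraMap S (Localization.Away a) g)) :=
    isGlobalCI_away _ hCI
  have i1 : IsLocalization.Away (g * a)
      (Localization.Away (algebraMap S (Localization.Away g) a)) :=
    IsLocalization.Away.mul' (Localization.Away g) _ g a
  have i2 : IsLocalization.Away (g * a)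
      (Localization.Away (algebraMap S (Localization.Away a) g)) :=
    IsLocalization.Away.mul (Localization.Away a) _ a g
  have t1 : IsScalarTower k S (Localization.Away (algebraMap S (Localization.Away g) a)) :=
    inferInstance
  have t2 : IsScalarTower k S (Localization.Away (algebraMap S (Localization.Away a) g)) :=
    inferInstance
  exact isGlobalCI_of_algEquiv
    ((IsLocalization.algEquiv (Submonoid.powers (g * a))
      (Localization.Away (algebraMap S (Localization.Away a) g))
      (Localization.Away (algebraMap S (Localization.Away g) a))).restrictScalars k) hCI2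

end Groth.Agent.H46.GCILocalize
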