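import Groth.Agent.H46.LimSmooth

/-!
# Descent of smooth / étale morphisms through cofiltered limits, without compactness of the base
(helper46)
-/

set_option autoImplicit false
universe u

open CategoryTheory Limits AlgebraicGeometry TensorProduct

namespace Groth.Agent.H46.LimSmooth

open Groth.Agent.Lib.Helper13.LimDescent Groth.Agent.Lib.Helper48

section General

variable {J : Type u} [SmallCategory J] (E : J ⥤ Scheme.{u}) (cE : Cone E) (j₀ : J)
  {X₀ : Scheme.{u}} (f₀ : X₀ ⟶ E.obj j₀)

set_option backward.isDefEq.respectTransparency false in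
/-- Descent of a source-local property can be checked locally on the (compact) source. -/
theorem source_localize' (P : MorphismProperty Scheme.{u}) [P.IsStableUnderBaseChange]
    [IsZariskiLocalAtSource P] [IsCofiltered J] [CompactSpace X₀]
    (H : ∀ x : X₀, ∃ U : X₀.Opens, x ∈ U ∧
      ∃ k : Over j₀, P (pullback.fst (E.map k.hom) (U.ι ≫ f₀))) :
    ∃ k : Over j₀, P (pullback.fst (E.map k.hom) f₀) := by
  classical
  choose U hxU k hk using H
  have hcov : TopologicalSpace.IsOpenCover U := TopologicalSpace.IsOpenCover.mk (by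
    rw [eq_top_iff]
    intro x _
    exact TopologicalSpace.Opens.mem_iSup.mpr ⟨x, hxU x⟩)
  obtain ⟨s, hs⟩ := hcov.exists_finite_of_compactSpace
  obtain ⟨m, hm⟩ := IsCofiltered.inf_objs_exists (s.image k)
  refine ⟨m, ?_⟩
  let 𝒰 := X₀.openCoverOfIsOpenCover (fun i : s => U i.1) hs
  apply IsZariskiLocalAtSource.of_openCover (Scheme.Pullback.openCoverOfRight 𝒰 (E.map m.hom) f₀)
  intro (i : s)
  obtain ⟨a⟩ := hm (Finset.mem_image_of_mem k i.2)
  have key : pullback.fst (E.map m.hom) ((U i.1).ι ≫ f₀) =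
      (Scheme.Pullback.openCoverOfRight 𝒰 (E.map m.hom) f₀).f i ≫
        pullback.fst (E.map m.hom) f₀ := by
    simp [Scheme.Pullback.openCoverOfRight, 𝒰]
    rfl
  rw [← key]
  exact stage_of_hom E j₀ ((U i.1).ι ≫ f₀) P a (hk i.1)

/-- Post-composition with an open immersion does not change a property which is stable under
base change and composition and holds for open immersions. -/
lemma prop_comp_openImmersion_iff (P : MorphismProperty Scheme.{u}) [P.IsStableUnderBaseChange]
    [P.IsStableUnderComposition]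
    (hO : ∀ {B C : Scheme.{u}} (j : B ⟶ C) [IsOpenImmersion j], P j)
    {A B C : Scheme.{u}} (a : A ⟶ B) (j : B ⟶ C) [IsOpenImmersion j] : P (a ≫ j) ↔ P a := by
  constructor
  · intro h
    have sq : IsPullback (𝟙 A) a (a ≫ j) j := IsPullback.of_horiz_isIso_mono ⟨by simp⟩
    exact P.of_isPullback sq h
  · intro h
    exact P.comp_mem _ _ h (hO j)

lemma prop_fst_comp_iff (P : MorphismProperty Scheme.{u}) [P.IsStableUnderBaseChange]
    [P.IsStableUnderComposition]
    (hO : ∀ {B C : Scheme.{u}} (j : B ⟶ C) [IsOpenImmersion j], P j)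
    {B Y V U : Scheme.{u}} (b : B ⟶ Y) (v : V ⟶ Y) [IsOpenImmersion v] (w : U ⟶ V) :
    P (pullback.fst b (w ≫ v)) ↔ P (pullback.fst (pullback.snd b v) w) := by
  rw [← prop_comp_openImmersion_iff P hO (pullback.fst (pullback.snd b v) w) (pullback.fst b v),
    ← pullbackLeftPullbackSndIso_hom_fst, P.cancel_left_of_respectsIso]

variable [hE : ∀ {i j : J} (f : i ⟶ j), IsAffineHom (E.map f)]

set_option backward.isDefEq.respectTransparency false in
/-- Descent of a property local on the source, from its all-affine case; no compactness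
assumption on the base stage. -/
theorem exists_pullback_fst_of_affine_case' (P : MorphismProperty Scheme.{u})
    [P.IsStableUnderBaseChange] [P.IsStableUnderComposition] [IsZariskiLocalAtSource P]
    (hO : ∀ {B C : Scheme.{u}} (j : B ⟶ C) [IsOpenImmersion j], P j)
    (Haff : ∀ {J' : Type u} [SmallCategory J'] [IsCofiltered J'] (E' : J' ⥤ Scheme.{u})
      (cE' : Cone E') (j₀' : J') {X₀' : Scheme.{u}} (f₀' : X₀' ⟶ E'.obj j₀') (_ : IsLimit cE')
      [∀ j, IsAffine (E'.obj j)] [IsAffine X₀'] [LocallyOfFinitePresentation f₀'],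
      P (pullback.fst (cE'.π.app j₀') f₀') → ∃ k : Over j₀', P (pullback.fst (E'.map k.hom) f₀'))
    [IsCofiltered J] (hcE : IsLimit cE) [CompactSpace X₀] [LocallyOfFinitePresentation f₀]
    (h : P (pullback.fst (cE.π.app j₀) f₀)) :
    ∃ k : Over j₀, P (pullback.fst (E.map k.hom) f₀) := by
  refine source_localize' E j₀ f₀ P fun x => ?_
  obtain ⟨V, hV, hxV⟩ : ∃ V : (E.obj j₀).Opens, IsAffineOpen V ∧ f₀ x ∈ V := by
    obtain ⟨_, ⟨V, hV : IsAffineOpen V, rfl⟩, hxV, -⟩ :=
      (E.obj j₀).isBasis_affineOpens.exists_subset_of_mem_open (Set.mem_univ (f₀ x)) isOpen_univ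
    exact ⟨V, hV, hxV⟩
  obtain ⟨U, hU, hxU, hUV⟩ : ∃ U : X₀.Opens, IsAffineOpen U ∧ x ∈ U ∧ U ≤ f₀ ⁻¹ᵁ V := by
    obtain ⟨_, ⟨U, hU : IsAffineOpen U, rfl⟩, hxU, hUV⟩ :=
      X₀.isBasis_affineOpens.exists_subset_of_mem_open (show x ∈ (f₀ ⁻¹ᵁ V : Set X₀) from hxV)
        (f₀ ⁻¹ᵁ V).isOpen
    exact ⟨U, hU, hxU, hUV⟩
  refine ⟨U, hxU, ?_⟩
  let w : (U : Scheme.{u}) ⟶ (V : Scheme.{u}) := f₀.resLE V U hUV
  have hw : U.ι ≫ f₀ = w ≫ V.ι := (Scheme.Hom.resLE_comp_ι f₀ hUV).symm
  have h1 : P (pullback.fst (cE.π.app j₀) (U.ι ≫ f₀)) := by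
    rw [← restrictMap_fst]
    exact IsZariskiLocalAtSource.comp h _
  rw [hw] at h1 ⊢
  rw [prop_fst_comp_iff P hO] at h1
  refine Exists.imp (fun k hk => (prop_fst_comp_iff P hO (E.map k.hom) V.ι w).mpr hk)
    (relStep E cE j₀ w V.ι P ?_ h1)
  intro f₀' hf₀' hQ
  have : LocallyOfFinitePresentation f₀' := by
    rw [hf₀']
    exact (liftTop_prop_iff E j₀ _ _ @LocallyOfFinitePresentation).mpr inferInstance
  have : IsAffine (U : Scheme.{u}) := hU
  have : IsAffine (V : Scheme.{u}) := hV
  have : ∀ k, IsAffine ((sys E j₀ V.ι).obj k) := fun k => by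
    dsimp only [sys_obj]
    exact isAffine_of_isAffineHom (pullback.snd (E.map k.hom) V.ι)
  exact Haff (sys E j₀ V.ι) (sysCone E cE j₀ V.ι) (top j₀) f₀' (isLimitSysCone E cE j₀ V.ι hcE) hQ

set_option backward.isDefEq.respectTransparency false in
/-- **Descent of smooth morphisms** (locally of finite presentation, compact source). -/
theorem exists_smooth_pullback_fst' [IsCofiltered J] (hcE : IsLimit cE) [CompactSpace X₀]
    [LocallyOfFinitePresentation f₀] (h : Smooth (pullback.fst (cE.π.app j₀) f₀)) :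
    ∃ k : Over j₀, Smooth (pullback.fst (E.map k.hom) f₀) :=
  exists_pullback_fst_of_affine_case' E cE j₀ f₀ @Smooth (fun _ _ => inferInstance)
    (fun E' cE' j₀' _ f₀' hcE' => exists_smooth_pullback_fst_of_isAffine E' cE' j₀' f₀' hcE') hcE h

set_option backward.isDefEq.respectTransparency false in
/-- **Descent of étale morphisms** (locally of finite presentation, compact source). -/
theorem exists_etale_pullback_fst' [IsCofiltered J] (hcE : IsLimit cE) [CompactSpace X₀]
    [LocallyOfFinitePresentation f₀] (h : Etale (pullback.fst (cE.π.app j₀) f₀)) :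
    ∃ k : Over j₀, Etale (pullback.fst (E.map k.hom) f₀) :=
  exists_pullback_fst_of_affine_case' E cE j₀ f₀ @Etale (fun _ _ => inferInstance)
    (fun E' cE' j₀' _ f₀' hcE' => exists_etale_pullback_fst_of_isAffine E' cE' j₀' f₀' hcE') hcE h

end General

end Groth.Agent.H46.LimSmooth
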