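import Groth.Agent.Lib.Helper13.LimDescent7
import Groth.Agent.Lib.Helper48.LimitSmooth
import Mathlib

/-!
# Descent of smooth / étale morphisms through cofiltered limits (helper46)

Built on helper13's `LimDescent` framework and helper48's `AlgPathSystem` ring-level descent.
-/

set_option autoImplicit false
universe u

open CategoryTheory Limits AlgebraicGeometry TensorProduct

namespace Groth.Agent.H46.LimSmooth

open Groth.Agent.Lib.Helper13.LimDescent Groth.Agent.Lib.Helper48

section Ring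

/-- An iso-invariant property of ring maps can be read off on the tensor product for any pushout
square in `CommRingCat`. -/
lemma prop_iff_of_isPushout
    (P : ∀ {R S : Type u} [CommRing R] [CommRing S], (R →+* S) → Prop)
    (hP : RingHom.RespectsIso @P) {R A B X : CommRingCat.{u}} {f : R ⟶ A} {g : R ⟶ B}
    {a : A ⟶ X} {b : B ⟶ X} (H : IsPushout f g a b) :
    letI := f.hom.toAlgebra
    letI := g.hom.toAlgebra
    P a.hom ↔ P (algebraMap A (A ⊗[R] B)) := by
  let _ := f.hom.toAlgebra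
  let _ := g.hom.toAlgebra
  have H' := CommRingCat.isPushout_tensorProduct R A B
  have hf : CommRingCat.ofHom (algebraMap R A) = f := rfl
  have hg : CommRingCat.ofHom (algebraMap R B) = g := rfl
  rw [hf, hg] at H'
  let e := H.isoIsPushout _ _ H'
  have he : a ≫ e.hom = CommRingCat.ofHom
      (Algebra.TensorProduct.includeLeftRingHom : A →+* A ⊗[R] B) :=
    H.inl_isoIsPushout_hom _ _ H'
  rw [← hP.cancel_right_isIso a e.hom]
  have he' := congrArg CommRingCat.Hom.hom he
  rw [CommRingCat.hom_comp] at he'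
  rw [he']
  rfl

end Ring

section AffineCase

/-- For affine schemes, a property of morphisms given by a ring-hom property can be checked for
`pullback.fst g f` on the tensor product of global sections. -/
lemma prop_pullback_fst_iff (P : MorphismProperty Scheme.{u})
    (Q : ∀ {R S : Type u} [CommRing R] [CommRing S], (R →+* S) → Prop)
    [HasRingHomProperty P Q] {S T X : Scheme.{u}} [IsAffine S] [IsAffine T] [IsAffine X]
    (g : T ⟶ S) (f : X ⟶ S) :
    letI := g.appTop.hom.toAlgebra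
    letI := f.appTop.hom.toAlgebra
    P (pullback.fst g f) ↔ Q (algebraMap Γ(T, ⊤) (Γ(T, ⊤) ⊗[Γ(S, ⊤)] Γ(X, ⊤))) := by
  have : IsAffine (pullback g f) := inferInstance
  rw [HasRingHomProperty.iff_of_isAffine (P := P)]
  exact prop_iff_of_isPushout Q (HasRingHomProperty.isLocal_ringHomProperty P).respectsIso
    (isPushout_appTop_of_isPullback (IsPullback.of_hasPullback g f))

variable {J : Type u} [SmallCategory J] (E : J ⥤ Scheme.{u}) (cE : Cone E) (j₀ : J)
  {X₀ : Scheme.{u}} (f₀ : X₀ ⟶ E.obj j₀)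

/-- The algebra structure of the sections of a stage over the sections of the base stage. -/
@[reducible] noncomputable def algT (k : Over j₀) : Algebra Γ(E.obj j₀, ⊤) Γ(E.obj k.left, ⊤) :=
  (E.map k.hom).appTop.hom.toAlgebra

/-- The algebra structure of the sections of the limit over the sections of the base stage. -/
@[reducible] noncomputable def algL : Algebra Γ(E.obj j₀, ⊤) Γ(cE.pt, ⊤) :=
  (cE.π.app j₀).appTop.hom.toAlgebra

attribute [local instance] algT algL

/-- The projection maps on sections, as algebra maps. -/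
noncomputable def γ (k : Over j₀) : Γ(E.obj k.left, ⊤) →ₐ[Γ(E.obj j₀, ⊤)] Γ(cE.pt, ⊤) :=
  { (cE.π.app k.left).appTop.hom with
    commutes' := fun r => by
      change (cE.π.app k.left).appTop.hom ((E.map k.hom).appTop.hom r) =
        (cE.π.app j₀).appTop.hom r
      rw [← cE.w k.hom, Scheme.Hom.comp_appTop]
      rfl }

/-- The transition maps on sections. -/
def Tr (k k' : Over j₀) (φ : Γ(E.obj k.left, ⊤) →ₐ[Γ(E.obj j₀, ⊤)] Γ(E.obj k'.left, ⊤)) : Prop :=
  ∃ a : k' ⟶ k, ∀ x, φ x = (E.map a.left).appTop.hom x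

/-- The transition map on sections attached to a morphism of `Over j₀`. -/
noncomputable def trMap {k k' : Over j₀} (a : k' ⟶ k) :
    Γ(E.obj k.left, ⊤) →ₐ[Γ(E.obj j₀, ⊤)] Γ(E.obj k'.left, ⊤) :=
  { (E.map a.left).appTop.hom with
    commutes' := fun r => by
      change (E.map a.left).appTop.hom ((E.map k.hom).appTop.hom r) =
        (E.map k'.hom).appTop.hom r
      rw [← Over.w a, E.map_comp, Scheme.Hom.comp_appTop]
      rfl }

lemma tr_trMap {k k' : Over j₀} (a : k' ⟶ k) : Tr E j₀ k k' (trMap E j₀ a) := ⟨a, fun _ => rfl⟩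

theorem algPathSystem [IsCofiltered J] (hcE : IsLimit cE) [∀ j, IsAffine (E.obj j)] :
    AlgPathSystem Γ(E.obj j₀, ⊤) (fun k : Over j₀ => Γ(E.obj k.left, ⊤)) Γ(cE.pt, ⊤)
      (γ E cE j₀) (Tr E j₀) where
  comp_eq := by
    rintro k k' φ ⟨a, ha⟩
    ext x
    change (cE.π.app k'.left).appTop.hom (φ x) = (cE.π.app k.left).appTop.hom x
    rw [ha, ← cE.w a.left, Scheme.Hom.comp_appTop]
    rfl
  trans := by
    rintro k k' k'' φ ψ ⟨a, ha⟩ ⟨b, hb⟩
    refine ⟨b ≫ a, fun x => ?_⟩
    change ψ (φ x) = _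
    rw [hb, ha, Over.comp_left, E.map_comp, Scheme.Hom.comp_appTop]
    rfl
  dir := by
    intro k k'
    exact ⟨IsCofiltered.min k k', trMap E j₀ (IsCofiltered.minToLeft k k'),
      trMap E j₀ (IsCofiltered.minToRight k k'), tr_trMap E j₀ _, tr_trMap E j₀ _⟩
  surj := by
    intro n
    obtain ⟨i, t, ht⟩ := exists_appTop_π_eq_of_isAffine_of_isLimit E cE hcE n
    refine ⟨Over.mk (IsCofiltered.minToRight i j₀),
      (E.map (IsCofiltered.minToLeft i j₀)).appTop.hom t, ?_⟩
    change (cE.π.app (IsCofiltered.min i j₀)).appTop.hom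
      ((E.map (IsCofiltered.minToLeft i j₀)).appTop.hom t) = n
    rw [← ht, ← cE.w (IsCofiltered.minToLeft i j₀), Scheme.Hom.comp_appTop]
    rfl
  ker := by
    intro k x hx
    obtain ⟨j, f, hj⟩ := exists_appTop_map_eq_zero_of_isAffine_of_isLimit E cE hcE k.left x hx
    let k' : Over j₀ := Over.mk (f ≫ k.hom)
    let a : k' ⟶ k := Over.homMk f
    exact ⟨k', trMap E j₀ a, tr_trMap E j₀ a, hj⟩

set_option backward.isDefEq.respectTransparency false in
/-- **Descent of smooth morphisms**, all-affine case. -/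
theorem exists_smooth_pullback_fst_of_isAffine [IsCofiltered J] (hcE : IsLimit cE)
    [∀ j, IsAffine (E.obj j)] [IsAffine X₀] [LocallyOfFinitePresentation f₀]
    (h : Smooth (pullback.fst (cE.π.app j₀) f₀)) :
    ∃ k : Over j₀, Smooth (pullback.fst (E.map k.hom) f₀) := by
  have hpt : IsAffine cE.pt := Scheme.isAffine_of_isLimit cE hcE
  have hpt' : IsAffine (((Functor.const J).obj cE.pt).obj j₀) := hpt
  let _ : Algebra Γ(E.obj j₀, ⊤) Γ(X₀, ⊤) := f₀.appTop.hom.toAlgebra
  have hfp : Algebra.FinitePresentation Γ(E.obj j₀, ⊤) Γ(X₀, ⊤) :=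
    RingHom.finitePresentation_algebraMap.mp
      ((HasRingHomProperty.iff_of_isAffine (P := @LocallyOfFinitePresentation)).mp ‹_›)
  have hL : Algebra.Smooth Γ(cE.pt, ⊤) (Γ(cE.pt, ⊤) ⊗[Γ(E.obj j₀, ⊤)] Γ(X₀, ⊤)) :=
    RingHom.smooth_algebraMap.mp
      ((prop_pullback_fst_iff @Smooth @RingHom.Smooth (cE.π.app j₀) f₀).mp h)
  obtain ⟨i, φ₀, hφ₀, hi⟩ := (algPathSystem E cE j₀ hcE).exists_smooth Γ(X₀, ⊤) hL (top j₀)
  refine ⟨i, ?_⟩
  have h1 := hi i (trMap E j₀ (𝟙 i)) (tr_trMap E j₀ _)
  exact (prop_pullback_fst_iff @Smooth @RingHom.Smooth (E.map i.hom) f₀).mpr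
    (RingHom.smooth_algebraMap.mpr h1)

set_option backward.isDefEq.respectTransparency false in
/-- **Descent of étale morphisms**, all-affine case. -/
theorem exists_etale_pullback_fst_of_isAffine [IsCofiltered J] (hcE : IsLimit cE)
    [∀ j, IsAffine (E.obj j)] [IsAffine X₀] [LocallyOfFinitePresentation f₀]
    (h : Etale (pullback.fst (cE.π.app j₀) f₀)) :
    ∃ k : Over j₀, Etale (pullback.fst (E.map k.hom) f₀) := by
  have hpt : IsAffine cE.pt := Scheme.isAffine_of_isLimit cE hcE
  have hpt' : IsAffine (((Functor.const J).obj cE.pt).obj j₀) := hpt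
  let _ : Algebra Γ(E.obj j₀, ⊤) Γ(X₀, ⊤) := f₀.appTop.hom.toAlgebra
  have hfp : Algebra.FinitePresentation Γ(E.obj j₀, ⊤) Γ(X₀, ⊤) :=
    RingHom.finitePresentation_algebraMap.mp
      ((HasRingHomProperty.iff_of_isAffine (P := @LocallyOfFinitePresentation)).mp ‹_›)
  have hL : Algebra.Etale Γ(cE.pt, ⊤) (Γ(cE.pt, ⊤) ⊗[Γ(E.obj j₀, ⊤)] Γ(X₀, ⊤)) :=
    RingHom.etale_algebraMap.mp
      ((prop_pullback_fst_iff @Etale @RingHom.Etale (cE.π.app j₀) f₀).mp h)
  obtain ⟨i, φ₀, hφ₀, hi⟩ := (algPathSystem E cE j₀ hcE).exists_etale Γ(X₀, ⊤) hL (top j₀)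
  refine ⟨i, ?_⟩
  have h1 := hi i (trMap E j₀ (𝟙 i)) (tr_trMap E j₀ _)
  exact (prop_pullback_fst_iff @Etale @RingHom.Etale (E.map i.hom) f₀).mpr
    (RingHom.etale_algebraMap.mpr h1)

end AffineCase

section Localize

variable {J : Type u} [SmallCategory J] (E : J ⥤ Scheme.{u}) (cE : Cone E) (j₀ : J)
  {X₀ : Scheme.{u}} (f₀ : X₀ ⟶ E.obj j₀)

set_option backward.isDefEq.respectTransparency false in
/-- Descent of a source-local property can be checked on an affine open cover of the source. -/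
theorem source_localize (P : MorphismProperty Scheme.{u}) [P.IsStableUnderBaseChange]
    [IsZariskiLocalAtSource P] [IsCofiltered J] [CompactSpace X₀]
    (H : ∀ {U : Scheme.{u}} (u : U ⟶ X₀) [IsOpenImmersion u] [IsAffine U],
      P (pullback.fst (cE.π.app j₀) (u ≫ f₀)) →
      ∃ k : Over j₀, P (pullback.fst (E.map k.hom) (u ≫ f₀)))
    (h : P (pullback.fst (cE.π.app j₀) f₀)) :
    ∃ k : Over j₀, P (pullback.fst (E.map k.hom) f₀) := by
  classical
  let 𝒰 := X₀.affineCover.finiteSubcover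
  have hU : ∀ i, IsAffine (𝒰.X i) := fun i => by dsimp [𝒰]; infer_instance
  have key : ∀ {T : Scheme.{u}} (g : T ⟶ E.obj j₀) (i : 𝒰.I₀),
      pullback.fst g (𝒰.f i ≫ f₀) =
        (Scheme.Pullback.openCoverOfRight 𝒰 g f₀).f i ≫ pullback.fst g f₀ := by
    intro T g i
    simp [Scheme.Pullback.openCoverOfRight]
  have hstage : ∀ i, ∃ k : Over j₀, P (pullback.fst (E.map k.hom) (𝒰.f i ≫ f₀)) := fun i =>
    H (𝒰.f i) (by rw [key]; exact IsZariskiLocalAtSource.comp h _)
  choose k hk using hstage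
  obtain ⟨m, hm⟩ := IsCofiltered.inf_objs_exists (Finset.univ.image k)
  refine ⟨m, ?_⟩
  apply IsZariskiLocalAtSource.of_openCover (Scheme.Pullback.openCoverOfRight 𝒰 (E.map m.hom) f₀)
  intro (i : 𝒰.I₀)
  obtain ⟨a⟩ := hm (Finset.mem_image_of_mem k (Finset.mem_univ i))
  rw [← key]
  exact stage_of_hom E j₀ (𝒰.f i ≫ f₀) P a (hk i)

variable [hE : ∀ {i j : J} (f : i ⟶ j), IsAffineHom (E.map f)]

set_option backward.isDefEq.respectTransparency false in
/-- Descent of a property local on source and target, from its all-affine case. -/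
theorem exists_pullback_fst_of_affine_case (P : MorphismProperty Scheme.{u})
    [P.IsStableUnderBaseChange] [IsZariskiLocalAtTarget P] [IsZariskiLocalAtSource P]
    (Haff : ∀ {J' : Type u} [SmallCategory J'] [IsCofiltered J'] (E' : J' ⥤ Scheme.{u})
      (cE' : Cone E') (j₀' : J') {X₀' : Scheme.{u}} (f₀' : X₀' ⟶ E'.obj j₀') (_ : IsLimit cE')
      [∀ j, IsAffine (E'.obj j)] [IsAffine X₀'] [LocallyOfFinitePresentation f₀'],
      P (pullback.fst (cE'.π.app j₀') f₀') → ∃ k : Over j₀', P (pullback.fst (E'.map k.hom) f₀'))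
    [IsCofiltered J] (hcE : IsLimit cE) [CompactSpace (E.obj j₀)]
    [QuasiSeparatedSpace (E.obj j₀)] [CompactSpace X₀] [LocallyOfFinitePresentation f₀]
    (h : P (pullback.fst (cE.π.app j₀) f₀)) :
    ∃ k : Over j₀, P (pullback.fst (E.map k.hom) f₀) := by
  refine localize E cE j₀ f₀ P ?_ h
  intro V v _ _ hP
  have hP' := (prop_fst_fst_symm P (cE.π.app j₀) v f₀).mp hP
  refine Exists.imp (fun k hk => (prop_fst_fst_symm P (E.map k.hom) v f₀).mpr hk)
    (relStep E cE j₀ (pullback.fst v f₀) v P ?_ hP')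
  intro f₀' hf₀' hQ
  have : LocallyOfFinitePresentation f₀' := by
    rw [hf₀']
    exact (liftTop_prop_iff E j₀ _ _ @LocallyOfFinitePresentation).mpr inferInstance
  have : QuasiCompact f₀ := inferInstance
  have : CompactSpace (pullback v f₀ : Scheme.{u}) :=
    QuasiCompact.compactSpace_of_compactSpace (pullback.fst v f₀)
  have : ∀ k, IsAffine ((sys E j₀ v).obj k) := fun k => by
    dsimp only [sys_obj]
    exact isAffine_of_isAffineHom (pullback.snd (E.map k.hom) v)
  refine source_localize (sys E j₀ v) (sysCone E cE j₀ v) (top j₀) f₀' P ?_ hQ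
  intro U u _ _ hU
  exact Haff (sys E j₀ v) (sysCone E cE j₀ v) (top j₀) (u ≫ f₀') (isLimitSysCone E cE j₀ v hcE) hU

set_option backward.isDefEq.respectTransparency false in
/-- **Descent of smooth morphisms** (locally of finite presentation). -/
theorem exists_smooth_pullback_fst [IsCofiltered J] (hcE : IsLimit cE) [CompactSpace (E.obj j₀)]
    [QuasiSeparatedSpace (E.obj j₀)] [CompactSpace X₀] [LocallyOfFinitePresentation f₀]
    (h : Smooth (pullback.fst (cE.π.app j₀) f₀)) :
    ∃ k : Over j₀, Smooth (pullback.fst (E.map k.hom) f₀) :=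
  exists_pullback_fst_of_affine_case E cE j₀ f₀ @Smooth
    (fun E' cE' j₀' _ f₀' hcE' => exists_smooth_pullback_fst_of_isAffine E' cE' j₀' f₀' hcE') hcE h

set_option backward.isDefEq.respectTransparency false in
/-- **Descent of étale morphisms** (locally of finite presentation). -/
theorem exists_etale_pullback_fst [IsCofiltered J] (hcE : IsLimit cE) [CompactSpace (E.obj j₀)]
    [QuasiSeparatedSpace (E.obj j₀)] [CompactSpace X₀] [LocallyOfFinitePresentation f₀]
    (h : Etale (pullback.fst (cE.π.app j₀) f₀)) :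
    ∃ k : Over j₀, Etale (pullback.fst (E.map k.hom) f₀) :=
  exists_pullback_fst_of_affine_case E cE j₀ f₀ @Etale
    (fun E' cE' j₀' _ f₀' hcE' => exists_etale_pullback_fst_of_isAffine E' cE' j₀' f₀' hcE') hcE h

end Localize

end Groth.Agent.H46.LimSmooth
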