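import Groth.Agent.H46.SmoothLocalDim
import Groth.Agent.Lib.Helper55.LocalDimTop
import Mathlib

/-!
# Local dimension of a scheme smooth of relative dimension `n` over a field
-/

set_option autoImplicit false
universe u

open CategoryTheory CategoryTheory.Limits AlgebraicGeometry

namespace Groth.Agent.H46.SmoothFibreDim

theorem localDim_eq_of_smoothOfRelativeDimension (n : ℕ) (K : Type u) [Field K]
    {Z : Scheme.{u}} (g : Z ⟶ Spec (CommRingCat.of K)) [SmoothOfRelativeDimension n g] (z : Z) :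
    FlatMor.localDim Z z = (n : WithBot ℕ∞) := by
  obtain ⟨U, hU, V, hV, hzV, e, hss⟩ :=
    SmoothOfRelativeDimension.exists_isStandardSmoothOfRelativeDimension (n := n) (f := g) z
  -- `U = ⊤`
  have hUtop : U = ⊤ := by
    ext y
    simp only [TopologicalSpace.Opens.coe_top, Set.mem_univ, iff_true]
    have hgz : g z ∈ U := e hzV
    have hsub : Subsingleton (PrimeSpectrum K) := inferInstance
    have : y = g z := hsub.elim _ _
    rw [this]; exact hgz
  subst hUtop
  -- the ring map `R → Γ(Z, V)`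
  let eR : K ≃+* Γ(Spec (CommRingCat.of K), ⊤) :=
    (Scheme.ΓSpecIso (CommRingCat.of K)).symm.commRingCatIsoToRingEquiv
  let φ : K →+* Γ(Z, V) := (g.appLE ⊤ V e).hom.comp eR.toRingHom
  have hφ : φ.IsStandardSmoothOfRelativeDimension n :=
    (RingHom.isStandardSmoothOfRelativeDimension_respectsIso (n := n)).2 _ eR hss
  algebraize [φ]
  have hA : Algebra.IsStandardSmoothOfRelativeDimension n K Γ(Z, V) := hφ
  -- transfer along the open immersion `Spec Γ(Z, V) ⟶ Z`
  have hemb : Topology.IsOpenEmbedding hV.fromSpec := hV.fromSpec.isOpenEmbedding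
  have hpt : hV.fromSpec (hV.primeIdealOf ⟨z, hzV⟩) = z := hV.fromSpec_primeIdealOf ⟨z, hzV⟩
  have h1 := Groth.Agent.Lib.Helper55.localDim_eq_of_isOpenEmbedding _ hemb
    (hV.primeIdealOf ⟨z, hzV⟩)
  rw [hpt] at h1
  rw [← h1]
  exact Groth.Agent.H46.SmoothLocalDim.localDim_eq K n Γ(Z, V) (hV.primeIdealOf ⟨z, hzV⟩)

end Groth.Agent.H46.SmoothFibreDim
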