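import Mathlib
import Groth.Agent.S9374
import Groth.Agent.Lib.Helper13.ChevalleyAlg
import Groth.Agent.Lib.Helper82.CMDecomp
import Groth.Agent.Lib.Helper50.StalkBC
import Groth.Agent.H52.FibreDimChart
import Groth.Agent.H46.RelNoether

set_option autoImplicit false
set_option linter.style.haveILetI false
universe u

open AlgebraicGeometry CategoryTheory CategoryTheory.Limits TensorProduct

namespace Groth.Agent.H46.CMDecompRel

/-- A localization of a Cohen–Macaulay ring is Cohen–Macaulay. -/
theorem isCohenMacaulayRing_of_isLocalization {A B : Type u} [CommRing A] [CommRing B]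
    [Algebra A B] (M : Submonoid A) [IsLocalization M B] [hA : LocCoh.IsCohenMacaulayRing A] :
    LocCoh.IsCohenMacaulayRing B := by
  haveI : IsNoetherianRing B := IsLocalization.isNoetherianRing M B inferInstance
  refine ⟨fun P' _ => ?_⟩
  haveI : IsLocalization.AtPrime (Localization.AtPrime P') (P'.comap (algebraMap A B)) :=
    IsLocalization.isLocalization_isLocalization_atPrime_isLocalization M
      (Localization.AtPrime P') P'
  let E : Localization.AtPrime (P'.comap (algebraMap A B)) ≃ₐ[A] Localization.AtPrime P' :=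
    IsLocalization.algEquiv (P'.comap (algebraMap A B)).primeCompl _ _
  exact Groth.Agent.Lib.Helper29.isCohenMacaulayLocalRing_of_ringEquiv E.toRingEquiv
    (hA.isCohenMacaulayLocalRing_localization (P'.comap (algebraMap A B)))

/-- The fibre of a localization `T = S_g` is the localization of the fibre of `S` at `1 ⊗ g`. -/
theorem isLocalization_away_fiber (R S T : Type u) [CommRing R] [CommRing S] [CommRing T]
    [Algebra R S] [Algebra R T] [Algebra S T] [IsScalarTower R S T]
    (g : S) [IsLocalization.Away g T] (p : Ideal R) [p.IsPrime] :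
    letI : Algebra (p.Fiber S) (p.Fiber T) :=
      (Algebra.TensorProduct.map (AlgHom.id R p.ResidueField)
        (IsScalarTower.toAlgHom R S T)).toRingHom.toAlgebra
    IsLocalization.Away ((1 : p.ResidueField) ⊗ₜ[R] g) (p.Fiber T) := by
  letI : Algebra (p.Fiber S) (p.Fiber T) :=
    (Algebra.TensorProduct.map (AlgHom.id R p.ResidueField)
      (IsScalarTower.toAlgHom R S T)).toRingHom.toAlgebra
  have htower : IsScalarTower p.ResidueField (p.Fiber S) (p.Fiber T) :=
    .of_algebraMap_eq (by
      intro x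
      show algebraMap p.ResidueField (p.Fiber T) x =
        (Algebra.TensorProduct.map (AlgHom.id R p.ResidueField)
          (IsScalarTower.toAlgHom R S T))
          (algebraMap p.ResidueField (p.Fiber S) x)
      simp [Algebra.TensorProduct.algebraMap_apply])
  have := IsLocalization.tensorProduct_tensorProduct_right R p.ResidueField
    (Submonoid.powers g) T
    (by ext; simp [RingHom.algebraMap_toAlgebra])
  simpa [Submonoid.map_powers] using this

variable (R S : Type u) [CommRing R] [CommRing S] [Algebra R S]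

open Groth.Agent.Lib.Helper13.GenFibre Groth.Agent.Lib.Helper13.Chevalley in
/-- The ring-level local dimension of a fibre at a prime equals `fibreDimAt`. -/
theorem localDim_fiber_eq (p : PrimeSpectrum R) (Q : PrimeSpectrum (p.asIdeal.Fiber S)) :
    FlatMor.localDim (PrimeSpectrum (p.asIdeal.Fiber S)) Q =
      FlatMor.fibreDimAt (Spec.map (CommRingCat.ofHom (algebraMap R S)))
        (PrimeSpectrum.comap Algebra.TensorProduct.includeRight.toRingHom Q : PrimeSpectrum S) := by
  set f := Spec.map (CommRingCat.ofHom (algebraMap R S)) with hf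
  let y : Spec (.of R) := p
  let e := specFiberIso R S y
  let Q' : Spec (.of (y.asIdeal.Fiber S)) := Q
  let ζ : ↥(f.fiber y) := e.inv Q'
  have hζ : f.fiberι y ζ =
      (PrimeSpectrum.comap Algebra.TensorProduct.includeRight.toRingHom Q : PrimeSpectrum S) := by
    have h1 : e.inv ≫ pullback.fst f ((Spec (.of R)).fromSpecResidueField y) =
        Spec.map (CommRingCat.ofHom (R := S) (S := y.asIdeal.Fiber S)
          (RingHomClass.toRingHom Algebra.TensorProduct.includeRight)) := by
      rw [Iso.inv_comp_eq]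
      exact (specFiberIso_hom_includeRight R S y).symm
    have h2 := congr(($h1) Q')
    rw [Scheme.Hom.comp_apply] at h2
    exact h2
  have h1 := Groth.Agent.Lib.Helper55.localDim_fiber_eq_fibreDimAt f y ζ
  rw [hζ] at h1
  rw [← h1]
  exact Groth.Agent.Lib.Helper55.localDim_eq_of_isOpenEmbedding e.inv e.inv.isOpenEmbedding Q'

open Groth.Agent.Lib.Helper13.GenFibre in
/-- Cohen–Macaulay fibre rings give `IsCMAt` for the map of spectra. -/
theorem isCMAt_SpecMap [Module.Flat R S]
    (hCM : ∀ p : PrimeSpectrum R, LocCoh.IsCohenMacaulayRing (p.asIdeal.Fiber S))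
    (x : Spec (.of S)) :
    MoreMor.IsCMAt (Spec.map (CommRingCat.ofHom (algebraMap R S))) x := by
  set f := Spec.map (CommRingCat.ofHom (algebraMap R S)) with hf
  haveI : Flat f := by
    rw [hf, HasRingHomProperty.Spec_iff (P := @Flat)]
    exact (RingHom.flat_algebraMap_iff (R := R) (S := S)).mpr inferInstance
  refine ⟨Flat.stalkMap f x, ?_⟩
  let y : Spec (.of R) := f x
  let e := specFiberIso R S y
  obtain ⟨E1⟩ := Groth.Agent.Lib.Helper50.nonempty_ringEquiv_stalk_of_iso e (f.asFiber x)
  obtain ⟨E2⟩ := Groth.Agent.Lib.Helper50.nonempty_ringEquiv_stalk_spec (y.asIdeal.Fiber S)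
    (e.hom (f.asFiber x))
  have h := (hCM y).isCohenMacaulayLocalRing_localization (e.hom (f.asFiber x)).asIdeal
  exact Groth.Agent.Lib.Helper29.isCohenMacaulayLocalRing_of_ringEquiv (E1.trans E2).symm h


/-- One piece of the decomposition: Cohen–Macaulay fibres, equidimensional of dimension `d`. -/
theorem piece (T : Type u) [CommRing T] [Algebra R T] [Algebra S T] [IsScalarTower R S T]
    [Algebra.FiniteType R S]
    (g : S) [IsLocalization.Away g T] (d : ℕ)
    (hCM : ∀ p : PrimeSpectrum R, LocCoh.IsCohenMacaulayRing (p.asIdeal.Fiber S))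
    (hd : ∀ x : PrimeSpectrum S, g ∉ x.asIdeal →
      FlatMor.fibreDimAt (Spec.map (CommRingCat.ofHom (algebraMap R S))) x = (d : WithBot ℕ∞)) :
    (∀ p : PrimeSpectrum R, LocCoh.IsCohenMacaulayRing (p.asIdeal.Fiber T)) ∧
    ∀ (p : PrimeSpectrum R), ∀ P ∈ minimalPrimes (p.asIdeal.Fiber T),
      ringKrullDim (p.asIdeal.Fiber T ⧸ P) = (d : WithBot ℕ∞) := by
  have h1 : ∀ p : PrimeSpectrum R, LocCoh.IsCohenMacaulayRing (p.asIdeal.Fiber T) := by
    intro p
    letI : Algebra (p.asIdeal.Fiber S) (p.asIdeal.Fiber T) :=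
      (Algebra.TensorProduct.map (AlgHom.id R p.asIdeal.ResidueField)
        (IsScalarTower.toAlgHom R S T)).toRingHom.toAlgebra
    haveI := isLocalization_away_fiber R S T g p.asIdeal
    haveI := hCM p
    exact isCohenMacaulayRing_of_isLocalization
      (Submonoid.powers ((1 : p.asIdeal.ResidueField) ⊗ₜ[R] g))
  refine ⟨h1, ?_⟩
  intro p P hP
  haveI := h1 p
  haveI : Algebra.FiniteType S T := IsLocalization.finiteType_of_monoid_fg (Submonoid.powers g) T
  haveI : Algebra.FiniteType R T := Algebra.FiniteType.trans (S := S) inferInstance inferInstance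
  have hPprime : P.IsPrime := hP.1.1
  obtain ⟨𝔪, h𝔪, hP𝔪⟩ := Ideal.exists_le_maximal P hPprime.ne_top
  haveI h𝔪p : 𝔪.IsPrime := h𝔪.isPrime
  have hA := Groth.Agent.Lib.Helper82.CMDecomp.height_eq_ringKrullDim_quotient
    p.asIdeal.ResidueField 𝔪 h𝔪 P hP hP𝔪
  have hB := Groth.Agent.Lib.Helper55.localDim_primeSpectrum_eq p.asIdeal.ResidueField
    (p.asIdeal.Fiber T) ⟨𝔪, h𝔪p⟩
  have hfield : ringKrullDim (p.asIdeal.Fiber T ⧸ 𝔪) = 0 := by
    letI := Ideal.Quotient.field 𝔪
    exact ringKrullDim_eq_zero_of_field _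
  rw [hfield, zero_add] at hB
  have hC := localDim_fiber_eq R T p ⟨𝔪, h𝔪p⟩
  set qT : PrimeSpectrum T :=
    PrimeSpectrum.comap Algebra.TensorProduct.includeRight.toRingHom ⟨𝔪, h𝔪p⟩ with hqT
  haveI : IsOpenImmersion (Spec.map (CommRingCat.ofHom (algebraMap S T))) :=
    IsOpenImmersion.of_isLocalization g
  haveI : LocallyOfFiniteType (Spec.map (CommRingCat.ofHom (algebraMap R S))) := by
    rw [HasRingHomProperty.Spec_iff (P := @LocallyOfFiniteType)]
    exact (RingHom.finiteType_algebraMap (A := R) (B := S)).mpr inferInstance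
  have hD := Groth.Agent.H52.fibreDimAt_eq_of_etale_square
    (Spec.map (CommRingCat.ofHom (algebraMap S T))) (𝟙 (Spec (.of R)))
    (Spec.map (CommRingCat.ofHom (algebraMap R T))) (Spec.map (CommRingCat.ofHom (algebraMap R S)))
    (by
      rw [Category.comp_id, ← Spec.map_comp, ← CommRingCat.ofHom_comp,
        ← IsScalarTower.algebraMap_eq]) qT
  have hE : FlatMor.fibreDimAt (Spec.map (CommRingCat.ofHom (algebraMap R S)))
      ((Spec.map (CommRingCat.ofHom (algebraMap S T))) qT) = (d : WithBot ℕ∞) := by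
    apply hd
    intro hmem
    have hmem' : algebraMap S T g ∈ qT.asIdeal := hmem
    exact qT.isPrime.ne_top (Ideal.eq_top_of_isUnit_mem _ hmem'
      (IsLocalization.Away.algebraMap_isUnit g))
  rw [← hA, ← hB, hC, hD, hE]


theorem main [Module.Flat R S] [Algebra.FinitePresentation R S]
    (hCM : ∀ p : PrimeSpectrum R, LocCoh.IsCohenMacaulayRing (p.asIdeal.Fiber S)) :
    ∃ (N : ℕ) (T : Fin (N + 1) → Type u) (_ : ∀ d, CommRing (T d)) (_ : ∀ d, Algebra R (T d)),
      Nonempty (S ≃ₐ[R] ((d : Fin (N + 1)) → T d)) ∧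
        ∀ d : Fin (N + 1), Module.Flat R (T d) ∧ Algebra.FinitePresentation R (T d) ∧
          (∀ p : PrimeSpectrum R, LocCoh.IsCohenMacaulayRing (p.asIdeal.Fiber (T d))) ∧
          ∀ (p : PrimeSpectrum R), ∀ P ∈ minimalPrimes (p.asIdeal.Fiber (T d)),
            ringKrullDim (p.asIdeal.Fiber (T d) ⧸ P) = ((d : ℕ) : WithBot ℕ∞) := by
  classical
  set f := Spec.map (CommRingCat.ofHom (algebraMap R S)) with hf
  haveI : Flat f := by
    rw [hf, HasRingHomProperty.Spec_iff (P := @Flat)]
    exact (RingHom.flat_algebraMap_iff (R := R) (S := S)).mpr inferInstance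
  haveI : LocallyOfFinitePresentation f := by
    rw [hf, HasRingHomProperty.Spec_iff (P := @LocallyOfFinitePresentation)]
    exact (RingHom.finitePresentation_algebraMap (A := R) (B := S)).mpr inferInstance
  have hLC : IsLocallyConstant (fun x : ↑(Spec (.of S)) => FlatMor.fibreDimAt f x) :=
    Groth.Agent.S9374.result f (fun x => isCMAt_SpecMap R S hCM x)
  have hnat : ∀ x : Spec (.of S), ∃ k : ℕ, FlatMor.fibreDimAt f x = k :=
    fun x => Groth.Agent.Lib.Helper13.CMChart.exists_nat_fibreDimAt f x
  choose dim hdim using hnat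
  have hfin : (Set.range dim).Finite := by
    have h1 := hLC.range_finite
    have h2 : Set.range (fun x : ↑(Spec (.of S)) => FlatMor.fibreDimAt f x) =
        (fun n : ℕ => (n : WithBot ℕ∞)) '' Set.range dim := by
      rw [← Set.range_comp]
      congr 1
      funext x
      exact hdim x
    rw [h2] at h1
    exact h1.of_finite_image (fun a _ b _ h => by
      have h' : ((a : ℕ) : WithBot ℕ∞) = ((b : ℕ) : WithBot ℕ∞) := h
      exact_mod_cast h')
  obtain ⟨N, hN⟩ := hfin.bddAbove
  have hle : ∀ x, dim x ≤ N := fun x => hN ⟨x, rfl⟩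
  let Z : Fin (N + 1) → Set (PrimeSpectrum S) :=
    fun d => {x | FlatMor.fibreDimAt f x = ((d : ℕ) : WithBot ℕ∞)}
  have hclosed : ∀ d, IsClosed (Z d) := fun d => hLC.isClosed_fiber _
  have hdisj : ∀ i j, i ≠ j → ∀ x, x ∈ Z i → x ∉ Z j := by
    intro i j hij x hi hj
    have : ((i : ℕ) : WithBot ℕ∞) = ((j : ℕ) : WithBot ℕ∞) := hi.symm.trans hj
    exact hij (Fin.ext (by exact_mod_cast this))
  have hcover : ∀ x, ∃ d, x ∈ Z d :=
    fun x => ⟨⟨dim x, Nat.lt_succ_of_le (hle x)⟩, hdim x⟩
  obtain ⟨e, he, hZe⟩ := Groth.Agent.Lib.Helper82.CMDecomp.exists_completeOrthogonalIdempotents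
    Z hclosed hdisj hcover
  refine ⟨N, fun d => S ⧸ Ideal.span {1 - e d}, fun d => inferInstance, fun d => inferInstance,
    ?_, ?_⟩
  · exact ⟨AlgEquiv.ofBijective (AlgHom.pi (fun d => Ideal.Quotient.mkₐ R _))
      he.bijective_pi⟩
  · intro d
    haveI : IsLocalization.Away (e d) (S ⧸ Ideal.span {1 - e d}) :=
      IsLocalization.Away.quotient_of_isIdempotentElem (he.idem d)
    haveI : Algebra.FiniteType R S := Algebra.FiniteType.of_finitePresentation
    have hp := piece R S (S ⧸ Ideal.span {1 - e d}) (e d) d hCM (fun x hx => by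
      have : x ∈ Z d := by
        rw [hZe d]
        exact (PrimeSpectrum.mem_basicOpen _ _).mpr hx
      exact this)
    refine ⟨?_, ?_, hp.1, hp.2⟩
    · haveI : Module.Flat S (S ⧸ Ideal.span {1 - e d}) :=
        IsLocalization.flat _ (Submonoid.powers (e d))
      exact Module.Flat.trans R S _
    · exact Algebra.FinitePresentation.quotient (Submodule.fg_span_singleton _)

end Groth.Agent.H46.CMDecompRel
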