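import Mathlib

set_option autoImplicit false
universe u
open CategoryTheory CategoryTheory.Limits

namespace Groth.Agent.H46

namespace ColimFP

variable {R P A : Type u} [CommRing R] [CommRing P] [CommRing A] [Algebra R P] [Algebra R A]
  (f : P →ₐ[R] A)

/-- The poset of finitely generated ideals contained in the kernel of `f`. -/
def Idx : Type u := {J : Ideal P // J.FG ∧ J ≤ RingHom.ker f.toRingHom}

instance : Preorder (Idx f) := Subtype.preorder _

instance : Nonempty (Idx f) := ⟨⟨⊥, Submodule.fg_bot, bot_le⟩⟩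

instance : IsDirected (Idx f) (· ≤ ·) :=
  ⟨fun a b => ⟨⟨a.1 ⊔ b.1, Submodule.FG.sup a.2.1 b.2.1, sup_le a.2.2 b.2.2⟩,
    (le_sup_left : a.1 ≤ a.1 ⊔ b.1), (le_sup_right : b.1 ≤ a.1 ⊔ b.1)⟩⟩

/-- The singleton-generated index. -/
def single (x : P) (hx : f x = 0) : Idx f :=
  ⟨Ideal.span {x}, ⟨{x}, by simp⟩, by
    rw [Ideal.span_le]; intro y hy; rw [Set.mem_singleton_iff.1 hy]; exact hx⟩

/-- The bottom index. -/
def bot : Idx f := ⟨⊥, Submodule.fg_bot, bot_le⟩

/-- The diagram `J ↦ P ⧸ J`. -/
noncomputable def diagram : Idx f ⥤ Under (CommRingCat.of R) where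
  obj J := Under.mk (CommRingCat.ofHom (algebraMap R (P ⧸ J.1)))
  map {J₁ J₂} h := Under.homMk (CommRingCat.ofHom (Ideal.Quotient.factor (leOfHom h))) (by
    ext x
    rfl)
  map_id J := by
    ext x
    obtain ⟨x, rfl⟩ := Ideal.Quotient.mk_surjective x
    simp
  map_comp {J₁ J₂ J₃} h₁ h₂ := by
    ext x
    obtain ⟨x, rfl⟩ := Ideal.Quotient.mk_surjective x
    simp

/-- The cocone with point `A`. -/
noncomputable def cocone : Cocone (diagram f) where
  pt := Under.mk (CommRingCat.ofHom (algebraMap R A))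
  ι :=
    { app := fun J => Under.homMk (CommRingCat.ofHom
        (Ideal.Quotient.lift J.1 f.toRingHom (fun x hx => J.2.2 hx))) (by
          ext x
          exact f.commutes x)
      naturality := fun J₁ J₂ h => by
        ext x
        obtain ⟨x, rfl⟩ := Ideal.Quotient.mk_surjective x
        rfl }

lemma cocone_ι_mk (J : Idx f) (x : P) :
    ((cocone f).ι.app J).right.hom (Ideal.Quotient.mk J.1 x) = f x := rfl

variable {f}

lemma ι_mk_eq_bot (s : Cocone (diagram f)) (J : Idx f) (x : P) :
    (s.ι.app J).right.hom (Ideal.Quotient.mk J.1 x) =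
      (s.ι.app (bot f)).right.hom (Ideal.Quotient.mk (bot f).1 x) := by
  have hle : bot f ≤ J := (bot_le : (⊥ : Ideal P) ≤ J.1)
  have := s.w (homOfLE hle)
  rw [← this]
  rfl

/-- The ring map `P → s.pt` through the bottom stage. -/
noncomputable def g₀ (s : Cocone (diagram f)) : P →+* s.pt.right :=
  (s.ι.app (bot f)).right.hom.comp (Ideal.Quotient.mk (bot f).1)

lemma ker_le (s : Cocone (diagram f)) : RingHom.ker f.toRingHom ≤ RingHom.ker (g₀ s) := by
  intro x hx
  rw [RingHom.mem_ker] at hx ⊢
  have h1 : g₀ s x = (s.ι.app (single f x hx)).right.hom (Ideal.Quotient.mk (single f x hx).1 x) :=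
    (ι_mk_eq_bot s (single f x hx) x).symm
  rw [h1]
  have h2 : Ideal.Quotient.mk (single f x hx).1 x = 0 :=
    Ideal.Quotient.eq_zero_iff_mem.2 (Ideal.subset_span rfl)
  rw [h2]
  exact map_zero _

/-- The induced ring map `A → s.pt`. -/
noncomputable def descRing (hf : Function.Surjective f) (s : Cocone (diagram f)) :
    A →+* s.pt.right :=
  f.toRingHom.liftOfSurjective hf ⟨g₀ s, ker_le s⟩

lemma descRing_apply (hf : Function.Surjective f) (s : Cocone (diagram f)) (x : P) :
    descRing hf s (f x) = g₀ s x :=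
  f.toRingHom.liftOfRightInverse_comp_apply _ (Function.surjInv_eq hf) ⟨g₀ s, ker_le s⟩ x

/-- The cocone is a colimit cocone. -/
noncomputable def isColimit (hf : Function.Surjective f) : IsColimit (cocone f) where
  desc s := Under.homMk (CommRingCat.ofHom (descRing hf s)) (by
    ext r
    have h1 : algebraMap R A r = f (algebraMap R P r) := (f.commutes r).symm
    show descRing hf s (algebraMap R A r) = s.pt.hom.hom r
    rw [h1, descRing_apply]
    exact congr($(Under.w (s.ι.app (bot f))).hom r))
  fac s J := by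
    ext x
    obtain ⟨x, rfl⟩ := Ideal.Quotient.mk_surjective x
    show descRing hf s (f x) = _
    rw [descRing_apply, ι_mk_eq_bot s J x]
    rfl
  uniq s m hm := by
    ext a
    obtain ⟨x, rfl⟩ := hf a
    show m.right.hom (f x) = descRing hf s (f x)
    rw [descRing_apply]
    exact congr($(hm (bot f)).right.hom (Ideal.Quotient.mk _ x))

end ColimFP

end Groth.Agent.H46
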