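import Mathlib

set_option autoImplicit false
universe u
open CategoryTheory CategoryTheory.Limits

namespace Groth.Agent.H46

/-- Recognizing filtered colimits in `Under R` for `R : CommRingCat` on underlying sets. -/
noncomputable def isColimitUnderOfFiltered {J : Type u} [SmallCategory J] [IsFiltered J]
    {R : CommRingCat.{u}} (F : J ⥤ Under R) (c : Cocone F)
    (hsurj : ∀ x : c.pt.right, ∃ (i : J) (xi : (F.obj i).right), x = (c.ι.app i).right.hom xi)
    (hinj : ∀ (i : J) (x y : (F.obj i).right),
      (c.ι.app i).right.hom x = (c.ι.app i).right.hom y →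
        ∃ (k : J) (f : i ⟶ k), (F.map f).right.hom x = (F.map f).right.hom y) :
    IsColimit c := by
  haveI : IsConnected J := IsFiltered.isConnected J
  haveI : ReflectsColimitsOfShape J (forget CommRingCat.{u}) :=
    reflectsColimitsOfShape_of_reflectsIsomorphisms
  apply isColimitOfReflects (Under.forget R ⋙ forget CommRingCat.{u})
  refine Types.FilteredColimit.isColimitOf' _ _ ?_ ?_
  · intro x
    obtain ⟨i, xi, h⟩ := hsurj x
    exact ⟨i, xi, h⟩
  · intro i x y h
    obtain ⟨k, f, hf⟩ := hinj i x y h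
    exact ⟨k, f, hf⟩

namespace ColimFP2

open MvPolynomial

variable (R A : Type u) [CommRing R] [CommRing A] [Algebra R A]

/-- The tautological surjection `R[X_a : a ∈ A] → A`. -/
noncomputable def ev : MvPolynomial A R →ₐ[R] A := aeval id

/-- Extension of variables from a finite set `T` to all of `A`. -/
noncomputable def ext (T : Finset A) : MvPolynomial T R →ₐ[R] MvPolynomial A R :=
  rename Subtype.val

/-- Index: a finite set of variables and a finite set of relations in these variables. -/
def Idx : Type u :=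
  {TG : Finset A × Finset (MvPolynomial A R) //
    ∀ g ∈ TG.2, (∃ x : MvPolynomial TG.1 R, ext R A TG.1 x = g) ∧ ev R A g = 0}

instance : Preorder (Idx R A) := Subtype.preorder _

instance : Nonempty (Idx R A) := ⟨⟨(∅, ∅), by simp⟩⟩

variable {R A}

/-- Inclusion of polynomial rings. -/
noncomputable def inclT {T₁ T₂ : Finset A} (h : T₁ ⊆ T₂) : MvPolynomial T₁ R →ₐ[R] MvPolynomial T₂ R :=
  rename (fun t => ⟨t.1, h t.2⟩)

lemma ext_inclT {T₁ T₂ : Finset A} (h : T₁ ⊆ T₂) (x : MvPolynomial T₁ R) :
    ext R A T₂ (inclT h x) = ext R A T₁ x := by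
  rw [ext, ext, inclT, rename_rename]
  rfl

lemma ext_injective (T : Finset A) : Function.Injective (ext R A T) :=
  rename_injective _ Subtype.val_injective

variable (R A) in
instance : IsDirected (Idx R A) (· ≤ ·) := by
  classical
  refine ⟨fun a b => ⟨⟨(a.1.1 ∪ b.1.1, a.1.2 ∪ b.1.2), ?_⟩, ?_, ?_⟩⟩
  · intro g hg
    rcases Finset.mem_union.1 hg with h | h
    · obtain ⟨⟨x, hx⟩, h0⟩ := a.2 g h
      exact ⟨⟨inclT Finset.subset_union_left x, by rw [ext_inclT, hx]⟩, h0⟩
    · obtain ⟨⟨x, hx⟩, h0⟩ := b.2 g h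
      exact ⟨⟨inclT Finset.subset_union_right x, by rw [ext_inclT, hx]⟩, h0⟩
  · exact ⟨Finset.subset_union_left, Finset.subset_union_left⟩
  · exact ⟨Finset.subset_union_right, Finset.subset_union_right⟩

/-- The polynomial ring in the chosen variables. -/
abbrev Sub (i : Idx R A) : Type u := MvPolynomial i.1.1 R

/-- The ideal generated by the chosen relations. -/
noncomputable def rel (i : Idx R A) : Ideal (Sub i) := Ideal.span {x | ext R A i.1.1 x ∈ i.1.2}

lemma rel_fg (i : Idx R A) : (rel i).FG := by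
  have : {x : Sub i | ext R A i.1.1 x ∈ i.1.2}.Finite :=
    Set.Finite.preimage ((ext_injective i.1.1).injOn) i.1.2.finite_toSet
  exact ⟨this.toFinset, by simp [rel]⟩

/-- Inclusion of polynomial rings. -/
noncomputable def incl {i j : Idx R A} (h : i ≤ j) : Sub i →ₐ[R] Sub j := inclT h.1

lemma incl_coe {i j : Idx R A} (h : i ≤ j) (x : Sub i) :
    ext R A j.1.1 (incl h x) = ext R A i.1.1 x := ext_inclT _ _

lemma rel_le {i j : Idx R A} (h : i ≤ j) : rel i ≤ (rel j).comap (incl h).toRingHom := by
  rw [rel, Ideal.span_le]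
  intro x hx
  rw [SetLike.mem_coe, Ideal.mem_comap]
  refine Ideal.subset_span ?_
  rw [Set.mem_ofPred_eq, AlgHom.toRingHom_eq_coe, RingHom.coe_coe, incl_coe]
  exact h.2 hx

lemma rel_le_ker (i : Idx R A) :
    rel i ≤ RingHom.ker ((ev R A).toRingHom.comp (ext R A i.1.1).toRingHom) := by
  rw [rel, Ideal.span_le]
  intro x hx
  rw [SetLike.mem_coe, RingHom.mem_ker]
  exact (i.2 _ hx).2

lemma incl_refl (i : Idx R A) (x : Sub i) : incl (le_refl i) x = x :=
  ext_injective _ (incl_coe _ x)

lemma incl_trans {i j k : Idx R A} (h₁ : i ≤ j) (h₂ : j ≤ k) (x : Sub i) :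
    incl h₂ (incl h₁ x) = incl (h₁.trans h₂) x :=
  ext_injective _ (by rw [incl_coe, incl_coe, incl_coe])

/-- The transition ring maps. -/
noncomputable def trans {i j : Idx R A} (h : i ≤ j) : (Sub i ⧸ rel i) →+* (Sub j ⧸ rel j) :=
  Ideal.quotientMap (rel j) (incl h).toRingHom (rel_le h)

lemma trans_mk {i j : Idx R A} (h : i ≤ j) (x : Sub i) :
    trans h (Ideal.Quotient.mk (rel i) x) = Ideal.Quotient.mk (rel j) (incl h x) :=
  Ideal.quotientMap_mk

lemma trans_algebraMap {i j : Idx R A} (h : i ≤ j) (r : R) :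
    trans h (algebraMap R (Sub i ⧸ rel i) r) = algebraMap R (Sub j ⧸ rel j) r := by
  rw [IsScalarTower.algebraMap_apply R (Sub i) (Sub i ⧸ rel i),
    IsScalarTower.algebraMap_apply R (Sub j) (Sub j ⧸ rel j),
    Ideal.Quotient.algebraMap_eq, Ideal.Quotient.algebraMap_eq, trans_mk, AlgHom.commutes]

/-- The leg ring maps. -/
noncomputable def leg (i : Idx R A) : (Sub i ⧸ rel i) →+* A :=
  Ideal.Quotient.lift (rel i) ((ev R A).toRingHom.comp (ext R A i.1.1).toRingHom)
    (fun _ hx => rel_le_ker i hx)

lemma leg_mk (i : Idx R A) (x : Sub i) :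
    leg i (Ideal.Quotient.mk (rel i) x) = ev R A (ext R A i.1.1 x) :=
  Ideal.Quotient.lift_mk _ _ _

lemma leg_algebraMap (i : Idx R A) (r : R) :
    leg i (algebraMap R (Sub i ⧸ rel i) r) = algebraMap R A r := by
  rw [IsScalarTower.algebraMap_apply R (Sub i) (Sub i ⧸ rel i), Ideal.Quotient.algebraMap_eq,
    leg_mk, (ext R A i.1.1).commutes, (ev R A).commutes]

lemma leg_trans {i j : Idx R A} (h : i ≤ j) (x : Sub i ⧸ rel i) : leg j (trans h x) = leg i x := by
  obtain ⟨x, rfl⟩ := Ideal.Quotient.mk_surjective x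
  rw [trans_mk, leg_mk, leg_mk, incl_coe]

/-- The diagram of finitely presented algebras. -/
noncomputable def diagram : Idx R A ⥤ Under (CommRingCat.of R) where
  obj i := Under.mk (CommRingCat.ofHom (algebraMap R (Sub i ⧸ rel i)))
  map {i j} h := Under.homMk (CommRingCat.ofHom (trans (leOfHom h))) (by
      ext x
      exact trans_algebraMap (leOfHom h) x)
  map_id i := by
    ext x
    obtain ⟨x, rfl⟩ := Ideal.Quotient.mk_surjective x
    show trans _ _ = _
    rw [trans_mk, incl_refl]
    rfl
  map_comp {i j k} h₁ h₂ := by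
    ext x
    obtain ⟨x, rfl⟩ := Ideal.Quotient.mk_surjective x
    simp only [Under.comp_right, Under.homMk_right, CommRingCat.hom_comp, CommRingCat.hom_ofHom,
      RingHom.coe_comp, Function.comp_apply]
    rw [trans_mk, trans_mk, trans_mk, incl_trans]

lemma diagram_map_right {i j : Idx R A} (h : i ⟶ j) (x : Sub i ⧸ rel i) :
    ((diagram (R := R) (A := A)).map h).right.hom x = trans (leOfHom h) x := rfl

/-- The cocone with point `A`. -/
noncomputable def cocone : Cocone (diagram (R := R) (A := A)) where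
  pt := Under.mk (CommRingCat.ofHom (algebraMap R A))
  ι :=
    { app := fun i => Under.homMk (CommRingCat.ofHom (leg i)) (by
          ext x
          exact leg_algebraMap i x)
      naturality := fun i j h => by
        ext x
        exact leg_trans (leOfHom h) x }

lemma cocone_ι_right (i : Idx R A) (x : Sub i ⧸ rel i) :
    ((cocone (R := R) (A := A)).ι.app i).right.hom x = leg i x := rfl


/-- The cocone is a colimit. -/
noncomputable def isColimit : IsColimit (cocone (R := R) (A := A)) := by
  classical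
  refine isColimitUnderOfFiltered _ _ ?_ ?_
  · intro a
    let i : Idx R A := ⟨({a}, ∅), by simp⟩
    refine ⟨i, Ideal.Quotient.mk (rel i) (X ⟨a, Finset.mem_singleton_self a⟩), ?_⟩
    rw [cocone_ι_right, leg_mk]
    show a = ev R A (ext R A _ (X _))
    unfold ev ext
    rw [rename_X, aeval_X]
    rfl
  · intro i x y hxy
    obtain ⟨p, rfl⟩ := Ideal.Quotient.mk_surjective x
    obtain ⟨q, rfl⟩ := Ideal.Quotient.mk_surjective y
    rw [cocone_ι_right, cocone_ι_right, leg_mk, leg_mk] at hxy
    let d : MvPolynomial A R := ext R A i.1.1 (p - q)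
    have hd0 : ev R A d = 0 := by simp [d, hxy]
    let k : Idx R A := ⟨(i.1.1, insert d i.1.2), by
      intro g hg
      rcases Finset.mem_insert.1 hg with rfl | h
      · exact ⟨⟨p - q, rfl⟩, hd0⟩
      · exact i.2 g h⟩
    have hik : i ≤ k := ⟨le_rfl, Finset.subset_insert _ _⟩
    refine ⟨k, homOfLE hik, ?_⟩
    rw [diagram_map_right, diagram_map_right, trans_mk, trans_mk]
    refine (Ideal.Quotient.eq).2 ?_
    rw [← map_sub]
    refine Ideal.subset_span ?_
    rw [Set.mem_ofPred_eq, incl_coe]
    exact Finset.mem_insert_self _ _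

end ColimFP2

end Groth.Agent.H46
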