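import Mathlib

set_option autoImplicit false
universe u

open TensorProduct

namespace Groth.Agent.H46

/-- If `B → C` is surjective with kernel `J` and `J` kills `M`, then `m ↦ 1 ⊗ m : M → C ⊗[B] M`
is injective. -/
theorem eq_zero_of_one_tmul_eq_zero {B C M : Type*} [CommRing B] [CommRing C] [Algebra B C]
    [AddCommGroup M] [Module B M] (hBC : Function.Surjective (algebraMap B C))
    (hJ : ∀ j ∈ RingHom.ker (algebraMap B C), ∀ m : M, j • m = 0) (m : M)
    (hm : (1 : C) ⊗ₜ[B] m = 0) : m = 0 := by
  let J := RingHom.ker (algebraMap B C)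
  let e : (B ⧸ J) ≃ₐ[B] C := Ideal.quotientKerAlgEquivOfSurjective (f := Algebra.ofId B C) hBC
  have h1 : (LinearMap.rTensor M e.symm.toLinearMap) ((1 : C) ⊗ₜ[B] m) = 0 := by rw [hm, map_zero]
  rw [LinearMap.rTensor_tmul] at h1
  have h2 : e.symm.toLinearMap (1 : C) = (1 : B ⧸ J) := map_one e.symm
  rw [h2] at h1
  have h3 := congrArg (TensorProduct.quotTensorEquivQuotSMul M J) h1
  rw [TensorProduct.quotTensorEquivQuotSMul_mk_one_tmul, map_zero,
    Submodule.Quotient.mk_eq_zero] at h3
  have h4 : (J • (⊤ : Submodule B M)) = ⊥ := by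
    rw [eq_bot_iff, Submodule.smul_le]
    intro j hj n _
    rw [hJ j hj n]
    exact Submodule.zero_mem _
  rw [h4] at h3
  exact h3

end Groth.Agent.H46

namespace Groth.Agent.H46

open KaehlerDifferential in
theorem exact_mapCotangent_kerCotangentToTensor (A B C : Type u) [CommRing A] [CommRing B]
    [CommRing C] [Algebra A B] [Algebra B C] [Algebra A C] [IsScalarTower A B C]
    (hAC : Function.Surjective (algebraMap A C))
    (h : RingHom.ker (algebraMap A C) ≤ (RingHom.ker (algebraMap B C)).comap (Algebra.ofId A B)) :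
    Function.Exact
      (Ideal.mapCotangent (RingHom.ker (algebraMap A C)) (RingHom.ker (algebraMap B C))
        (Algebra.ofId A B) h)
      (KaehlerDifferential.kerCotangentToTensor A B C) := by
  have hBC : Function.Surjective (algebraMap B C) := by
    intro c
    obtain ⟨a, rfl⟩ := hAC c
    exact ⟨algebraMap A B a, (IsScalarTower.algebraMap_apply A B C a).symm⟩
  set I := RingHom.ker (algebraMap A C) with hIdef
  set J := RingHom.ker (algebraMap B C) with hJdef
  set f := Ideal.mapCotangent I J (Algebra.ofId A B) h with hf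
  choose σ hσ using hAC
  let τ : B → A := fun b => σ (algebraMap B C b)
  have hτ : ∀ b, b - algebraMap A B (τ b) ∈ J := by
    intro b
    rw [hJdef, RingHom.mem_ker, map_sub, ← IsScalarTower.algebraMap_apply, hσ, sub_self]
  have hI : ∀ a : A, algebraMap A B a ∈ J → a ∈ I := by
    intro a ha
    rw [hJdef, RingHom.mem_ker, ← IsScalarTower.algebraMap_apply] at ha
    exact ha
  have hsmul : ∀ (b : B) (z : J.Cotangent), b • z = τ b • z := by
    intro b z
    have := Ideal.Cotangent.smul_eq_zero_of_mem (hτ b) z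
    rw [sub_smul, sub_eq_zero] at this
    rw [this, algebraMap_smul]
  let N : Submodule B J.Cotangent :=
    { carrier := Set.range f
      add_mem' := by rintro _ _ ⟨x, rfl⟩ ⟨y, rfl⟩; exact ⟨x + y, map_add _ _ _⟩
      zero_mem' := ⟨0, map_zero _⟩
      smul_mem' := by rintro b _ ⟨x, rfl⟩; exact ⟨τ b • x, by rw [map_smul, hsmul]⟩ }
  let q : J →ₗ[B] (J.Cotangent ⧸ N) := N.mkQ ∘ₗ J.toCotangent
  have hJM : ∀ j ∈ RingHom.ker (algebraMap B C), ∀ m : J.Cotangent ⧸ N, j • m = 0 := by
    intro j hj m
    obtain ⟨z, rfl⟩ := N.mkQ_surjective m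
    rw [← map_smul, Ideal.Cotangent.smul_eq_zero_of_mem hj, map_zero]
  have hq0 : ∀ (a : A) (ha : algebraMap A B a ∈ J), q ⟨algebraMap A B a, ha⟩ = 0 := by
    intro a ha
    have : J.toCotangent ⟨algebraMap A B a, ha⟩ = f (I.toCotangent ⟨a, hI a ha⟩) := rfl
    show N.mkQ (J.toCotangent _) = 0
    rw [this, Submodule.mkQ_apply, Submodule.Quotient.mk_eq_zero]
    exact ⟨_, rfl⟩
  let d : B → J.Cotangent ⧸ N := fun b => q ⟨b - algebraMap A B (τ b), hτ b⟩
  have indep : ∀ (b : B) (a : A) (ha : b - algebraMap A B a ∈ J),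
      q ⟨b - algebraMap A B a, ha⟩ = d b := by
    intro b a ha
    have h1 : algebraMap A B (τ b - a) ∈ J := by
      have : algebraMap A B (τ b - a) = (b - algebraMap A B a) - (b - algebraMap A B (τ b)) := by
        rw [map_sub]; ring
      rw [this]
      exact J.sub_mem ha (hτ b)
    have h2 : (⟨b - algebraMap A B a, ha⟩ : J) =
        ⟨b - algebraMap A B (τ b), hτ b⟩ + ⟨algebraMap A B (τ b - a), h1⟩ := by
      apply Subtype.ext
      simp only [map_sub, AddMemClass.mk_add_mk]
      ring
    rw [h2, map_add, hq0, add_zero]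
  have d_add : ∀ b b', d (b + b') = d b + d b' := by
    intro b b'
    have ha : (b + b') - algebraMap A B (τ b + τ b') ∈ J := by
      have : (b + b') - algebraMap A B (τ b + τ b') =
          (b - algebraMap A B (τ b)) + (b' - algebraMap A B (τ b')) := by rw [map_add]; ring
      rw [this]; exact J.add_mem (hτ b) (hτ b')
    rw [← indep (b + b') (τ b + τ b') ha]
    show q _ = q _ + q _
    rw [← map_add]
    congr 1
    apply Subtype.ext
    simp only [map_add, AddMemClass.mk_add_mk]
    ring
  have d_smul : ∀ (r : A) (b : B), d (r • b) = r • d b := by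
    intro r b
    have ha : r • b - algebraMap A B (r * τ b) ∈ J := by
      have : r • b - algebraMap A B (r * τ b) = algebraMap A B r * (b - algebraMap A B (τ b)) := by
        rw [map_mul, Algebra.smul_def]; ring
      rw [this]; exact J.mul_mem_left _ (hτ b)
    rw [← indep (r • b) (r * τ b) ha, ← algebraMap_smul B r (d b)]
    show q _ = _ • q _
    rw [← map_smul]
    congr 1
    apply Subtype.ext
    simp only [map_mul, Algebra.smul_def, SetLike.mk_smul_mk, Algebra.algebraMap_self,
      RingHom.id_apply]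
    ring
  have d_mul : ∀ b b', d (b * b') = b • d b' + b' • d b := by
    intro b b'
    have ha : b * b' - algebraMap A B (τ b * τ b') ∈ J := by
      have : b * b' - algebraMap A B (τ b * τ b') =
          b * (b' - algebraMap A B (τ b')) + algebraMap A B (τ b') * (b - algebraMap A B (τ b)) := by
        rw [map_mul]; ring
      rw [this]; exact J.add_mem (J.mul_mem_left _ (hτ b')) (J.mul_mem_left _ (hτ b))
    have h3 : b' • d b = algebraMap A B (τ b') • d b := by
      have := hJM _ (hτ b') (d b)
      rw [sub_smul, sub_eq_zero] at this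
      exact this
    rw [← indep (b * b') (τ b * τ b') ha, h3]
    show q _ = _ • q _ + _ • q _
    rw [← map_smul, ← map_smul, ← map_add]
    congr 1
    apply Subtype.ext
    simp only [map_mul, SetLike.mk_smul_mk, smul_eq_mul, AddMemClass.mk_add_mk]
    ring
  let D' : Derivation A B (J.Cotangent ⧸ N) :=
    Derivation.mk' { toFun := d, map_add' := d_add, map_smul' := d_smul } d_mul
  have hD' : ∀ b, D' b = d b := fun _ => rfl
  let lift : Ω[B⁄A] →ₗ[B] (J.Cotangent ⧸ N) := D'.liftKaehlerDifferential
  intro y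
  constructor
  · intro hy
    obtain ⟨⟨j, hj⟩, rfl⟩ := Ideal.toCotangent_surjective _ y
    rw [kerCotangentToTensor_toCotangent] at hy
    have h1 := congrArg (LinearMap.lTensor C lift) hy
    rw [LinearMap.lTensor_tmul, map_zero, Derivation.liftKaehlerDifferential_comp_D] at h1
    have h2 : D' j = 0 := eq_zero_of_one_tmul_eq_zero hBC hJM _ h1
    rw [hD'] at h2
    have h3 : q ⟨j, hj⟩ = 0 := by
      have h4 : j - algebraMap A B 0 ∈ J := by rw [map_zero, sub_zero]; exact hj
      have := indep j 0 h4
      rw [h2] at this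
      rw [← this]
      congr 1
      apply Subtype.ext
      simp
    have h5 : N.mkQ (J.toCotangent ⟨j, hj⟩) = 0 := h3
    rw [Submodule.mkQ_apply, Submodule.Quotient.mk_eq_zero] at h5
    exact h5
  · rintro ⟨x, rfl⟩
    obtain ⟨⟨a, ha⟩, rfl⟩ := Ideal.toCotangent_surjective _ x
    rw [Ideal.mapCotangent_toCotangent, kerCotangentToTensor_toCotangent]
    show (1 : C) ⊗ₜ[B] (KaehlerDifferential.D A B) (algebraMap A B a) = 0
    rw [Derivation.map_algebraMap, tmul_zero]

end Groth.Agent.H46
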