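import Mathlib

set_option autoImplicit false
universe u

namespace Groth.Agent.H46

/-- A contractible three-term complex splits. -/
theorem nonempty_prod_linearEquiv_of_contraction {R : Type*} [CommRing R]
    {C₂ C₁ C₀ : Type*} [AddCommGroup C₂] [Module R C₂] [AddCommGroup C₁] [Module R C₁]
    [AddCommGroup C₀] [Module R C₀]
    (i : C₂ →ₗ[R] C₁) (p : C₁ →ₗ[R] C₀) (k₁ : C₁ →ₗ[R] C₂) (k₀ : C₀ →ₗ[R] C₁)
    (hpi : ∀ x, p (i x) = 0) (ha : ∀ x, k₁ (i x) = x) (hb : ∀ x, p (k₀ x) = x)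
    (hc : ∀ x, i (k₁ x) + k₀ (p x) = x) :
    Nonempty ((C₂ × C₀) ≃ₗ[R] C₁) := by
  let f : (C₂ × C₀) →ₗ[R] C₁ :=
    i.comp (LinearMap.fst R C₂ C₀ - (k₁.comp k₀).comp (LinearMap.snd R C₂ C₀)) +
      k₀.comp (LinearMap.snd R C₂ C₀)
  have hf : ∀ c₂ c₀, f (c₂, c₀) = i (c₂ - k₁ (k₀ c₀)) + k₀ c₀ := fun _ _ => rfl
  refine ⟨{ f with
    invFun := fun c => (k₁ c, p c)
    left_inv := ?_
    right_inv := ?_ }⟩
  · rintro ⟨c₂, c₀⟩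
    show (k₁ (f (c₂, c₀)), p (f (c₂, c₀))) = (c₂, c₀)
    rw [hf]
    simp only [map_add, map_sub, ha, hpi, hb, sub_add_cancel, zero_add, sub_self]
  · intro c
    show f (k₁ c, p c) = c
    rw [hf]
    have h1 := hc c
    have h2 := hc (k₀ (p c))
    rw [hb] at h2
    have h3 : i (k₁ (k₀ (p c))) = 0 := by
      have := h2
      rwa [add_eq_right] at this
    rw [map_sub, h3, sub_zero]
    exact h1

/-- Stacks-type lemma: homotopy equivalent two-term complexes. -/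
theorem nonempty_prod_linearEquiv_of_two_term_homotopy_equiv (R : Type*) [CommRing R]
    (A₁ A₀ B₁ B₀ : Type*) [AddCommGroup A₁] [Module R A₁] [AddCommGroup A₀] [Module R A₀]
    [AddCommGroup B₁] [Module R B₁] [AddCommGroup B₀] [Module R B₀]
    (dA : A₁ →ₗ[R] A₀) (dB : B₁ →ₗ[R] B₀) (φ₁ : A₁ →ₗ[R] B₁) (φ₀ : A₀ →ₗ[R] B₀)
    (ψ₁ : B₁ →ₗ[R] A₁) (ψ₀ : B₀ →ₗ[R] A₀) (hφ : dB ∘ₗ φ₁ = φ₀ ∘ₗ dA) (hψ : dA ∘ₗ ψ₁ = ψ₀ ∘ₗ dB)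
    (h : A₀ →ₗ[R] A₁) (hh₁ : LinearMap.id - ψ₁ ∘ₗ φ₁ = h ∘ₗ dA) (hh₀ : LinearMap.id - ψ₀ ∘ₗ φ₀ = dA ∘ₗ h)
    (h' : B₀ →ₗ[R] B₁) (hh'₁ : LinearMap.id - φ₁ ∘ₗ ψ₁ = h' ∘ₗ dB)
    (hh'₀ : LinearMap.id - φ₀ ∘ₗ ψ₀ = dB ∘ₗ h') :
    Nonempty ((A₁ × B₀) ≃ₗ[R] (B₁ × A₀)) := by
  have e1 : ∀ x, dB (φ₁ x) = φ₀ (dA x) := fun x => LinearMap.congr_fun hφ x
  have e2 : ∀ x, dA (ψ₁ x) = ψ₀ (dB x) := fun x => LinearMap.congr_fun hψ x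
  have e3 : ∀ x, x - ψ₁ (φ₁ x) = h (dA x) := fun x => LinearMap.congr_fun hh₁ x
  have e4 : ∀ x, x - ψ₀ (φ₀ x) = dA (h x) := fun x => LinearMap.congr_fun hh₀ x
  have e5 : ∀ x, x - φ₁ (ψ₁ x) = h' (dB x) := fun x => LinearMap.congr_fun hh'₁ x
  have e6 : ∀ x, x - φ₀ (ψ₀ x) = dB (h' x) := fun x => LinearMap.congr_fun hh'₀ x
  -- the correction term
  let δ : A₀ →ₗ[R] B₁ := h' ∘ₗ φ₀ - φ₁ ∘ₗ h
  have hδ : ∀ x, δ x = h' (φ₀ x) - φ₁ (h x) := fun _ => rfl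
  have hδ1 : ∀ x, dB (δ x) = 0 := by
    intro x
    rw [hδ, map_sub, ← e6, e1, ← e4, map_sub]
    abel
  have hδ2 : ∀ x, δ (dA x) = 0 := by
    intro x
    rw [hδ, ← e1, ← e5, ← e3, map_sub]
    abel
  let ε : B₀ →ₗ[R] B₁ := h' - δ ∘ₗ ψ₀
  have hε : ∀ x, ε x = h' x - δ (ψ₀ x) := fun _ => rfl
  -- the cone
  let i : A₁ →ₗ[R] (A₀ × B₁) := dA.prod (-φ₁)
  let p : (A₀ × B₁) →ₗ[R] B₀ := φ₀.coprod dB
  let k₁ : (A₀ × B₁) →ₗ[R] A₁ := h.coprod (-ψ₁)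
  let k₀ : B₀ →ₗ[R] (A₀ × B₁) := ψ₀.prod ε
  have hi : ∀ x, i x = (dA x, -φ₁ x) := fun _ => rfl
  have hp : ∀ x, p x = φ₀ x.1 + dB x.2 := fun _ => rfl
  have hk₁ : ∀ x, k₁ x = h x.1 + -ψ₁ x.2 := fun _ => rfl
  have hk₀ : ∀ x, k₀ x = (ψ₀ x, ε x) := fun _ => rfl
  obtain ⟨e⟩ := nonempty_prod_linearEquiv_of_contraction i p k₁ k₀
    (by
      intro x
      rw [hi, hp]
      simp only [map_neg, e1]
      abel)
    (by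
      intro x
      rw [hi, hk₁]
      simp only [map_neg, neg_neg, ← e3]
      abel)
    (by
      intro x
      rw [hk₀, hp]
      simp only [hε, map_sub, hδ1, ← e6]
      abel)
    (by
      rintro ⟨a₀, b₁⟩
      rw [hk₁, hp, hi, hk₀]
      ext
      · simp only [Prod.fst_add, map_add, map_neg, ← e4, e2]
        abel
      · simp only [Prod.snd_add, hε, map_add, map_neg, map_sub, neg_neg]
        have h1 := e5 b₁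
        have h2 : δ (ψ₀ (φ₀ a₀)) = δ a₀ := by
          have := e4 a₀
          have h3 : ψ₀ (φ₀ a₀) = a₀ - dA (h a₀) := by rw [← this]; abel
          rw [h3, map_sub, hδ2, sub_zero]
        have h3 : δ (ψ₀ (dB b₁)) = 0 := by rw [← e2, hδ2]
        rw [h2, h3, hδ, ← h1]
        abel)
  exact ⟨e.trans (LinearEquiv.prodComm R A₀ B₁)⟩

end Groth.Agent.H46
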