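import Mathlib
import Groth.Agent.H46.TwoTerm

set_option autoImplicit false
universe u v w

open Algebra Algebra.Extension

namespace Groth.Agent.H46

variable {R : Type u} {S : Type v} [CommRing R] [CommRing S] [Algebra R S]

/-- Schanuel-type lemma for naive cotangent complexes of two extensions. -/
theorem nonempty_cotangent_prod_linearEquiv {P₁ P₂ : Extension.{w} R S}
    (f₁ : P₁.Hom P₂) (f₂ : P₂.Hom P₁) :
    Nonempty ((P₁.Cotangent × P₂.CotangentSpace) ≃ₗ[S] (P₂.Cotangent × P₁.CotangentSpace)) := by
  refine nonempty_prod_linearEquiv_of_two_term_homotopy_equiv S P₁.Cotangent P₁.CotangentSpace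
    P₂.Cotangent P₂.CotangentSpace P₁.cotangentComplex P₂.cotangentComplex
    (Cotangent.map f₁) (CotangentSpace.map f₁) (Cotangent.map f₂) (CotangentSpace.map f₂)
    ?_ ?_ ((Hom.id P₁).sub (f₂.comp f₁)) ?_ ?_ ((Hom.id P₂).sub (f₁.comp f₂)) ?_ ?_
  · exact (CotangentSpace.map_comp_cotangentComplex f₁).symm
  · exact (CotangentSpace.map_comp_cotangentComplex f₂).symm
  · rw [← Cotangent.map_sub_map, Cotangent.map_id, Cotangent.map_comp]
    rfl
  · have := CotangentSpace.map_sub_map (Hom.id P₁) (f₂.comp f₁)
    rw [CotangentSpace.map_id, CotangentSpace.map_comp] at this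
    exact this
  · rw [← Cotangent.map_sub_map, Cotangent.map_id, Cotangent.map_comp]
    rfl
  · have := CotangentSpace.map_sub_map (Hom.id P₂) (f₁.comp f₂)
    rw [CotangentSpace.map_id, CotangentSpace.map_comp] at this
    exact this

end Groth.Agent.H46

namespace Groth.Agent.H46

variable {R : Type u} {S : Type v} [CommRing R] [CommRing S] [Algebra R S]

/-- A hom of extensions out of a polynomial presentation. -/
noncomputable def homOfMvPolynomial {n : ℕ} (α : MvPolynomial (Fin n) R →ₐ[R] S)
    (hα : Function.Surjective α) (Q : Extension.{u} R S) :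
    (Extension.ofSurjective α hα).Hom Q :=
  letI P := Extension.ofSurjective α hα
  Hom.ofAlgHom (P := P) (P' := Q)
    (MvPolynomial.aeval (fun i => Q.σ (α (MvPolynomial.X i)))) (by
      apply MvPolynomial.algHom_ext
      intro i
      have h1 : (IsScalarTower.toAlgHom R Q.Ring S)
          (MvPolynomial.aeval (R := R) (fun i => Q.σ (α (MvPolynomial.X i)))
            (MvPolynomial.X i : MvPolynomial (Fin n) R)) =
          α (MvPolynomial.X i) := by
        rw [MvPolynomial.aeval_X]
        exact Q.algebraMap_σ _
      exact h1)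

open TensorProduct in
/-- The cotangent space of a polynomial presentation is free on the variables. -/
noncomputable def cotangentSpaceEquivOfMvPolynomial {n : ℕ} (α : MvPolynomial (Fin n) R →ₐ[R] S)
    (hα : Function.Surjective α) :
    (Extension.ofSurjective α hα).CotangentSpace ≃ₗ[S] (Fin n → S) :=
  letI : Algebra (MvPolynomial (Fin n) R) S := α.toAlgebra
  letI b : Module.Basis (Fin n) S
      (S ⊗[MvPolynomial (Fin n) R] Ω[MvPolynomial (Fin n) R⁄R]) :=
    (KaehlerDifferential.mvPolynomialBasis R (Fin n)).baseChange (R := MvPolynomial (Fin n) R) S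
  b.equivFun

theorem nonempty_cotangent_prod_free_linearEquiv {R S : Type u} [CommRing R] [CommRing S]
    [Algebra R S] {n m : ℕ}
    (α : MvPolynomial (Fin n) R →ₐ[R] S) (hα : Function.Surjective α)
    (β : MvPolynomial (Fin m) R →ₐ[R] S) (hβ : Function.Surjective β) :
    Nonempty (((Algebra.Extension.ofSurjective α hα).Cotangent × (Fin m → S)) ≃ₗ[S]
      ((Algebra.Extension.ofSurjective β hβ).Cotangent × (Fin n → S))) := by
  obtain ⟨e⟩ := nonempty_cotangent_prod_linearEquiv
    (homOfMvPolynomial α hα (Extension.ofSurjective β hβ))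
    (homOfMvPolynomial β hβ (Extension.ofSurjective α hα))
  exact ⟨((LinearEquiv.refl S _).prodCongr (cotangentSpaceEquivOfMvPolynomial β hβ).symm).trans
    (e.trans ((LinearEquiv.refl S _).prodCongr (cotangentSpaceEquivOfMvPolynomial α hα)))⟩

end Groth.Agent.H46
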