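import Groth.Agent.S15294
import Mathlib

/-!
# Helper lemmas on de Rham differentials of Kähler differentials, computed in the exterior algebra
-/

set_option autoImplicit false
universe u

namespace Groth.Agent.H46.DR

open exteriorPower DeRham

section General
variable {A : Type u} [CommRing A] {M M' : Type u} [AddCommGroup M] [Module A M]
  [AddCommGroup M'] [Module A M']

lemma coe_ιMulti_succ (k : ℕ) (v : Fin (k + 1) → M) :
    ((ιMulti A (k + 1) v : ↥(⋀[A]^(k + 1) M)) : ExteriorAlgebra A M) =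
      ExteriorAlgebra.ι A (v 0) *
        ((ιMulti A k (Matrix.vecTail v) : ↥(⋀[A]^k M)) : ExteriorAlgebra A M) := by
  rw [ιMulti_apply_coe, ιMulti_apply_coe, ExteriorAlgebra.ιMulti_succ_apply]

lemma coe_ιMulti_cons (k : ℕ) (x : M) (v : Fin k → M) :
    ((ιMulti A (k + 1) (Fin.cons x v) : ↥(⋀[A]^(k + 1) M)) : ExteriorAlgebra A M) =
      ExteriorAlgebra.ι A x * ((ιMulti A k v : ↥(⋀[A]^k M)) : ExteriorAlgebra A M) := by
  rw [coe_ιMulti_succ]
  simp [Matrix.vecTail]

lemma coe_map (π : M →ₗ[A] M') (k : ℕ) (y : ↥(⋀[A]^k M)) :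
    ((exteriorPower.map k π y : ↥(⋀[A]^k M')) : ExteriorAlgebra A M') =
      ExteriorAlgebra.map π (y : ExteriorAlgebra A M) := by
  let L1 : ↥(⋀[A]^k M) →ₗ[A] ExteriorAlgebra A M' := (⋀[A]^k M').subtype ∘ₗ exteriorPower.map k π
  let L2 : ↥(⋀[A]^k M) →ₗ[A] ExteriorAlgebra A M' :=
    (ExteriorAlgebra.map π).toLinearMap ∘ₗ (⋀[A]^k M).subtype
  have h12 : L1 = L2 := by
    apply exteriorPower.linearMap_ext
    ext v
    show ((exteriorPower.map k π (ιMulti A k v) : ↥(⋀[A]^k M')) : ExteriorAlgebra A M') =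
      ExteriorAlgebra.map π ((ιMulti A k v : ↥(⋀[A]^k M)) : ExteriorAlgebra A M)
    rw [exteriorPower.map_apply_ιMulti, ιMulti_apply_coe, ιMulti_apply_coe,
      ExteriorAlgebra.map_apply_ιMulti]
  exact LinearMap.congr_fun h12 y

end General

section Leibniz

variable (R A : Type u) [CommRing R] [CommRing A] [Algebra R A]
  (dA : ∀ p : ℕ, ↥(⋀[A]^p (Ω[A⁄R])) →ₗ[R] ↥(⋀[A]^(p + 1) (Ω[A⁄R])))
  (hd : DeRham.IsDiff (KaehlerDifferential.D R A) dA)

include hd in
/-- Leibniz rule `d(a ω ∧ η) = a dω ∧ η + da ∧ ω ∧ η` for a one-form `ω` and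
`η = db₁ ∧ … ∧ db_k`, written in the exterior algebra. -/
lemma leibniz_identity (k : ℕ) (a : A) (b : Fin k → A) (y : ↥(⋀[A]^1 (Ω[A⁄R]))) :
    ((dA (k + 1) (a • ιMulti A (k + 1) (Fin.cons (oneEquiv A (Ω[A⁄R]) y)
        (fun i => KaehlerDifferential.D R A (b i)))) : ↥(⋀[A]^(k + 1 + 1) (Ω[A⁄R]))) :
          ExteriorAlgebra A (Ω[A⁄R])) =
      a • (((dA 1 y : ↥(⋀[A]^(1 + 1) (Ω[A⁄R]))) : ExteriorAlgebra A (Ω[A⁄R])) *
        ((ιMulti A k (fun i => KaehlerDifferential.D R A (b i)) : ↥(⋀[A]^k (Ω[A⁄R]))) :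
          ExteriorAlgebra A (Ω[A⁄R]))) +
      ExteriorAlgebra.ι A (KaehlerDifferential.D R A a) *
        (ExteriorAlgebra.ι A (oneEquiv A (Ω[A⁄R]) y) *
          ((ιMulti A k (fun i => KaehlerDifferential.D R A (b i)) : ↥(⋀[A]^k (Ω[A⁄R]))) :
            ExteriorAlgebra A (Ω[A⁄R]))) := by
  set W : ExteriorAlgebra A (Ω[A⁄R]) :=
    ((ιMulti A k (fun i => KaehlerDifferential.D R A (b i)) : ↥(⋀[A]^k (Ω[A⁄R]))) :
      ExteriorAlgebra A (Ω[A⁄R])) with hW
  let K : AddSubgroup ↥(⋀[A]^1 (Ω[A⁄R])) :=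
    { carrier := {y | ((dA (k + 1) (a • ιMulti A (k + 1) (Fin.cons (oneEquiv A (Ω[A⁄R]) y)
          (fun i => KaehlerDifferential.D R A (b i)))) : ↥(⋀[A]^(k + 1 + 1) (Ω[A⁄R]))) :
            ExteriorAlgebra A (Ω[A⁄R])) =
        a • (((dA 1 y : ↥(⋀[A]^(1 + 1) (Ω[A⁄R]))) : ExteriorAlgebra A (Ω[A⁄R])) * W) +
        ExteriorAlgebra.ι A (KaehlerDifferential.D R A a) *
          (ExteriorAlgebra.ι A (oneEquiv A (Ω[A⁄R]) y) * W)}
      add_mem' := by
        intro y y' hy hy'
        simp only [Set.mem_ofPred_eq] at hy hy' ⊢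
        have hcons := (ιMulti A (k + 1) (M := Ω[A⁄R])).toMultilinearMap.cons_add
          (fun i => KaehlerDifferential.D R A (b i)) (oneEquiv A (Ω[A⁄R]) y)
          (oneEquiv A (Ω[A⁄R]) y')
        simp only [AlternatingMap.coe_multilinearMap] at hcons
        rw [map_add, hcons, smul_add, map_add, Submodule.coe_add, hy, hy', map_add,
          Submodule.coe_add, map_add, add_mul, add_mul, smul_add, mul_add]
        abel
      zero_mem' := by
        simp only [Set.mem_ofPred_eq]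
        have hcons := (ιMulti A (k + 1) (M := Ω[A⁄R])).toMultilinearMap.cons_smul
          (fun i => KaehlerDifferential.D R A (b i)) (0 : A) (0 : Ω[A⁄R])
        simp only [AlternatingMap.coe_multilinearMap, zero_smul] at hcons
        simp [hcons]
      neg_mem' := by
        intro y hy
        simp only [Set.mem_ofPred_eq] at hy ⊢
        have hcons := (ιMulti A (k + 1) (M := Ω[A⁄R])).toMultilinearMap.cons_smul
          (fun i => KaehlerDifferential.D R A (b i)) (-1 : A) (oneEquiv A (Ω[A⁄R]) y)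
        simp only [AlternatingMap.coe_multilinearMap, neg_smul, one_smul] at hcons
        rw [map_neg, hcons, smul_neg, map_neg, Submodule.coe_neg, hy, map_neg, Submodule.coe_neg,
          map_neg, neg_mul, neg_mul, smul_neg, mul_neg]
        abel }
  suffices h : y ∈ K from h
  refine Groth.Agent.S15294.induction_gen_add R A 1 K (fun e f' => ?_) y
  show ((dA (k + 1) (a • ιMulti A (k + 1) (Fin.cons (oneEquiv A (Ω[A⁄R])
      (DeRham.gen (KaehlerDifferential.D R A) 1 e f'))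
        (fun i => KaehlerDifferential.D R A (b i)))) : ↥(⋀[A]^(k + 1 + 1) (Ω[A⁄R]))) :
          ExteriorAlgebra A (Ω[A⁄R])) =
      a • (((dA 1 (DeRham.gen (KaehlerDifferential.D R A) 1 e f') :
        ↥(⋀[A]^(1 + 1) (Ω[A⁄R]))) : ExteriorAlgebra A (Ω[A⁄R])) * W) +
      ExteriorAlgebra.ι A (KaehlerDifferential.D R A a) *
        (ExteriorAlgebra.ι A (oneEquiv A (Ω[A⁄R])
          (DeRham.gen (KaehlerDifferential.D R A) 1 e f')) * W)
  have h1 : oneEquiv A (Ω[A⁄R]) (DeRham.gen (KaehlerDifferential.D R A) 1 e f') =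
      e • KaehlerDifferential.D R A (f' 0) := by
    unfold DeRham.gen
    rw [map_smul, oneEquiv_ιMulti]
  have h2 : a • ιMulti A (k + 1) (Fin.cons (e • KaehlerDifferential.D R A (f' 0))
      (fun i => KaehlerDifferential.D R A (b i))) =
      DeRham.gen (KaehlerDifferential.D R A) (k + 1) (a * e) (Fin.cons (f' 0) b) := by
    have hcons := (ιMulti A (k + 1) (M := Ω[A⁄R])).toMultilinearMap.cons_smul
      (fun i => KaehlerDifferential.D R A (b i)) e (KaehlerDifferential.D R A (f' 0))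
    simp only [AlternatingMap.coe_multilinearMap] at hcons
    unfold DeRham.gen
    rw [hcons, smul_smul]
    congr 2
    funext i
    refine Fin.cases ?_ (fun j => ?_) i <;> simp
  have h3 : (fun i => KaehlerDifferential.D R A ((Fin.cons (f' 0) b : Fin (k + 1) → A) i)) =
      Fin.cons (KaehlerDifferential.D R A (f' 0)) (fun i => KaehlerDifferential.D R A (b i)) := by
    funext i
    refine Fin.cases ?_ (fun j => ?_) i <;> simp
  have h4 : (fun i => KaehlerDifferential.D R A (f' i)) =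
      Fin.cons (KaehlerDifferential.D R A (f' 0)) (fun i : Fin 0 => i.elim0) := by
    funext i
    refine Fin.cases ?_ (fun j => j.elim0) i
    simp
  have h0 : ((ιMulti A 0 (fun i : Fin 0 => i.elim0) : ↥(⋀[A]^0 (Ω[A⁄R]))) :
      ExteriorAlgebra A (Ω[A⁄R])) = 1 := by
    rw [ιMulti_apply_coe, ExteriorAlgebra.ιMulti_zero_apply]
  rw [h1, h2, hd.1 (k + 1), hd.1 1, coe_ιMulti_cons, h3, coe_ιMulti_cons, coe_ιMulti_cons, h4,
    coe_ιMulti_cons, h0, ← hW, Derivation.leibniz, map_add, map_smul, map_smul, map_smul]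
  simp only [mul_one, add_mul, smul_mul_assoc, mul_smul_comm, mul_assoc]

end Leibniz

end Groth.Agent.H46.DR
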