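/-
helper46: depth of a pulled back coherent module along a flat morphism (S2871).
-/
import Mathlib
import Groth.Prelude.Def_CInt
import Groth.Prelude.Def_Coh
import Groth.Agent.H46.CIntDepth
import Groth.Agent.Lib.Helper49.PullbackSupport
import Groth.Agent.Lib.Helper21.MaximalPoints

set_option autoImplicit false
universe u

open AlgebraicGeometry CategoryTheory Limits TensorProduct

namespace Groth.Agent.H46.DepthAlong

open Groth.Agent.Lib.Helper29 Groth.Agent.H46.CMFlatLocal IsLocalRing

variable {X X' : Scheme.{u}} [IsLocallyNoetherian X] [IsLocallyNoetherian X']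
  (g : X' ⟶ X) [Flat g] (F : X.Modules)

/-- pointwise depth formula for the pullback of a coherent module along a flat morphism. -/
theorem depth_stalk_pullback (hF : Coh.IsCoh F) (z' : X') :
    LocCoh.depth (X'.presheaf.stalk z')
        ↑(((Scheme.Modules.pullback g).obj F).presheaf.stalk z') =
      LocCoh.depth (X.presheaf.stalk (g z')) ↑(F.presheaf.stalk (g z')) +
        LocCoh.depth ↑(CInt.fiberStalk g z') ↑(CInt.fiberStalk g z') := by
  haveI : F.IsQuasicoherent := hF.1
  have hfin := Groth.Agent.Lib.Helper49.finite_stalk_of_isFiniteType F hF.2 (g.base z')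
  have hfl : (g.stalkMap z').hom.Flat := Flat.stalkMap g z'
  letI := (g.stalkMap z').hom.toAlgebra
  letI : Module (X.presheaf.stalk (g.base z'))
      (((Scheme.Modules.pullback g).obj F).presheaf.stalk z') :=
    FlatMod.moduleStalkOver g ((Scheme.Modules.pullback g).obj F) z'
  haveI : IsScalarTower (X.presheaf.stalk (g.base z')) (X'.presheaf.stalk z')
      (((Scheme.Modules.pullback g).obj F).presheaf.stalk z') := IsScalarTower.of_compHom _ _ _
  obtain ⟨ψ, hψ⟩ := Groth.Agent.Lib.Helper16.FlatPull.exists_isBaseChange_stalk g F z'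
  haveI : IsLocalHom (algebraMap (X.presheaf.stalk (g.base z')) (X'.presheaf.stalk z')) := by
    change IsLocalHom (g.stalkMap z').hom
    infer_instance
  haveI : Module.Flat (X.presheaf.stalk (g.base z')) (X'.presheaf.stalk z') := hfl
  have h1 := Groth.Agent.Lib.Helper93.DepthFlat.depth_tensor_of_flat
    (R := X.presheaf.stalk (g.base z')) (S := X'.presheaf.stalk z')
    (F.presheaf.stalk (g.base z')) (X'.presheaf.stalk z')
  have h2 : LocCoh.depth (X'.presheaf.stalk z')
      ((X'.presheaf.stalk z') ⊗[X.presheaf.stalk (g.base z')] (F.presheaf.stalk (g.base z'))) =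
      LocCoh.depth (X'.presheaf.stalk z')
        ↑(((Scheme.Modules.pullback g).obj F).presheaf.stalk z') :=
    idealDepth_congr _ hψ.equiv
  rw [← h2, h1]
  congr 1
  -- the fibre term
  have heq : ((maximalIdeal (X.presheaf.stalk (g.base z'))).map
      (algebraMap (X.presheaf.stalk (g.base z')) (X'.presheaf.stalk z'))) •
        (⊤ : Submodule (X'.presheaf.stalk z') (X'.presheaf.stalk z')) =
      (maximalIdeal (X.presheaf.stalk (g.base z'))).map
        (algebraMap (X.presheaf.stalk (g.base z')) (X'.presheaf.stalk z')) := by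
    rw [smul_eq_mul, Ideal.mul_top]
  have h4 : LocCoh.depth (X'.presheaf.stalk z')
      (X'.presheaf.stalk z' ⧸ ((maximalIdeal (X.presheaf.stalk (g.base z'))).map
        (algebraMap (X.presheaf.stalk (g.base z')) (X'.presheaf.stalk z'))) •
          (⊤ : Submodule (X'.presheaf.stalk z') (X'.presheaf.stalk z'))) =
      LocCoh.depth (X'.presheaf.stalk z')
        (X'.presheaf.stalk z' ⧸ (maximalIdeal (X.presheaf.stalk (g.base z'))).map
          (algebraMap (X.presheaf.stalk (g.base z')) (X'.presheaf.stalk z'))) :=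
    idealDepth_congr _ (Submodule.quotEquivOfEq _ _ heq)
  rw [h4, ← depth_self_eq_depth_of_surjective (R := X'.presheaf.stalk z')
    (R' := EGA4.FibRing (X.presheaf.stalk (g.base z')) (X'.presheaf.stalk z'))
    Ideal.Quotient.mk_surjective]
  obtain ⟨e⟩ := Groth.Agent.H46.CMAt.nonempty_fibreStalk_equiv g z'
  haveI hNF : IsNoetherianRing (EGA4.FibRing (X.presheaf.stalk (g.base z'))
      (X'.presheaf.stalk z')) :=
    isNoetherianRing_of_surjective (X'.presheaf.stalk z') _ (Ideal.Quotient.mk _)
      Ideal.Quotient.mk_surjective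
  exact depth_self_eq_of_ringEquiv e

omit [IsLocallyNoetherian X] [IsLocallyNoetherian X'] [Flat g] in
/-- transport of the depth of a stalk along an equality of points. -/
theorem depth_stalk_congr {a b : X} (h : a = b) :
    LocCoh.depth (X.presheaf.stalk a) ↑(F.presheaf.stalk a) =
      LocCoh.depth (X.presheaf.stalk b) ↑(F.presheaf.stalk b) := by
  subst h; rfl

/-- a maximal point of a scheme has a zero-dimensional local ring. -/
theorem ringKrullDim_stalk_eq_zero_of_maximal {Z : Scheme.{u}} (w : Z)
    (hw : Groth.Agent.Lib.Helper21.IsMaximalPoint w) :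
    ringKrullDim (Z.presheaf.stalk w) = 0 := by
  rw [ringKrullDim_stalk_eq_coheight]
  have : Order.coheight w = 0 := by
    rw [Order.coheight_eq_zero]
    intro b hb
    have : b = w := hw b hb
    rw [this]
  rw [this]
  rfl

/-- generic points of fibres: every point `z''` of `X'` has a generization `z'` in its fibre over
`X` such that the local ring of the fibre at `z'` has depth zero. -/
theorem exists_generization_fiber_depth_zero (z'' : X') :
    ∃ z' : X', z' ⤳ z'' ∧ g z' = g z'' ∧
      LocCoh.depth ↑(CInt.fiberStalk g z') ↑(CInt.fiberStalk g z') = 0 := by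
  obtain ⟨w, hw, hwmax⟩ := Groth.Agent.Lib.Helper21.exists_maximal_generization (g.asFiber z'')
  refine ⟨g.fiberι (g z'') w, ?_, ?_, ?_⟩
  · have := hw.map (g.fiberι (g z'')).continuous
    rwa [Scheme.Hom.fiberι_asFiber] at this
  · have h1 : g.fiberι (g z'') w ∈ Set.range (g.fiberι (g z'')) := ⟨w, rfl⟩
    rw [Scheme.Hom.range_fiberι] at h1
    exact h1
  · have hdim := ringKrullDim_stalk_eq_zero_of_maximal w hwmax
    obtain ⟨e1⟩ := Groth.Agent.H46.CMAt.nonempty_fibreStalk_equiv g (g.fiberι (g z'') w)
    have e2 := Groth.Agent.H46.CMAt.fibreStalkEquiv g (g z'') w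
    have e : (g.fiber (g z'')).presheaf.stalk w ≃+* ↑(CInt.fiberStalk g (g.fiberι (g z'') w)) :=
      e2.symm.trans e1
    haveI : IsNoetherianRing ↑(CInt.fiberStalk g (g.fiberι (g z'') w)) := by
      haveI : IsNoetherianRing (X'.presheaf.stalk (g.fiberι (g z'') w) ⧸
          Ideal.map (g.stalkMap (g.fiberι (g z'') w)).hom
            (maximalIdeal (X.presheaf.stalk (g.base (g.fiberι (g z'') w))))) :=
        isNoetherianRing_of_surjective (X'.presheaf.stalk (g.fiberι (g z'') w)) _
          (Ideal.Quotient.mk _) Ideal.Quotient.mk_surjective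
      exact isNoetherianRing_of_ringEquiv _ e1
    have h0 : ringKrullDim ↑(CInt.fiberStalk g (g.fiberι (g z'') w)) = 0 := by
      rw [← ringKrullDim_eq_of_ringEquiv e, hdim]
    have hle := depth_le_supportDim ↑(CInt.fiberStalk g (g.fiberι (g z'') w))
      ↑(CInt.fiberStalk g (g.fiberι (g z'') w))
    rw [Module.supportDim_self_eq_ringKrullDim, h0] at hle
    have : ((LocCoh.depth ↑(CInt.fiberStalk g (g.fiberι (g z'') w))
        ↑(CInt.fiberStalk g (g.fiberι (g z'') w)) : ℕ∞) : WithBot ℕ∞) ≤ ((0 : ℕ∞) : WithBot ℕ∞) :=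
      hle
    exact le_antisymm (WithBot.coe_le_coe.mp this) zero_le

/-- S2871. -/
theorem main (hF : Coh.IsCoh F) (Y : TopologicalSpace.Closeds ↥X) (y' : ↥X')
    (hy : g y' ∈ Y) :
    CInt.depthAlong ((Scheme.Modules.pullback g).obj F) ((fun x => g x) ⁻¹' (Y : Set ↥X)) y' =
      CInt.depthAlong F (Y : Set ↥X) (g y') := by
  unfold CInt.depthAlong
  apply le_antisymm
  · refine le_iInf fun ⟨z, hzY, hz⟩ => ?_
    obtain ⟨z'', hz'', hgz''⟩ := Flat.generalizingMap (f := g) hz
    obtain ⟨z', hz'z'', hgz', hdepth⟩ := exists_generization_fiber_depth_zero g z''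
    have hmem : z' ∈ (fun x => g x) ⁻¹' (Y : Set ↥X) := by
      change g z' ∈ (Y : Set ↥X)
      rw [hgz', hgz'']
      exact hzY
    refine (iInf_le _ (⟨z', hmem, hz'z''.trans hz''⟩ :
      {z : X' // z ∈ (fun x => g x) ⁻¹' (Y : Set ↥X) ∧ z ⤳ y'})).trans ?_
    change LocCoh.depth (X'.presheaf.stalk z')
        ↑(((Scheme.Modules.pullback g).obj F).presheaf.stalk z') ≤
      LocCoh.depth (X.presheaf.stalk z) ↑(F.presheaf.stalk z)
    rw [depth_stalk_pullback g F hF z', hdepth, add_zero,
      depth_stalk_congr F (hgz'.trans hgz'')]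
  · refine le_iInf fun ⟨z', hz'Y, hz'⟩ => ?_
    refine (iInf_le _ (⟨g z', hz'Y, hz'.map g.continuous⟩ :
      {z : X // z ∈ (Y : Set ↥X) ∧ z ⤳ g y'})).trans ?_
    change LocCoh.depth (X.presheaf.stalk (g z')) ↑(F.presheaf.stalk (g z')) ≤
      LocCoh.depth (X'.presheaf.stalk z')
        ↑(((Scheme.Modules.pullback g).obj F).presheaf.stalk z')
    rw [depth_stalk_pullback g F hF z']
    exact le_self_add

end Groth.Agent.H46.DepthAlong
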