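import Mathlib
import Groth.Prelude.Def_DiffOp

/-!
# Differential operators via the linearisation `S ⊗[R] M → N`
-/

set_option autoImplicit false
universe u

namespace Groth.Agent.H46.DiffOp

open TensorProduct

variable {R S : Type u} [CommRing R] [CommRing S] [Algebra R S] {M : Type u}
    [AddCommGroup M] [Module S M] [Module R M] [IsScalarTower R S M]

/-- `s ⊗ m ↦ s ⊗ b m - b s ⊗ m`. -/
noncomputable def τ (b : S) : S ⊗[R] M →ₗ[S] S ⊗[R] M :=
  AlgebraTensorModule.map (LinearMap.id : S →ₗ[S] S) ((LinearMap.lsmul S M b).restrictScalars R) -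
    LinearMap.lsmul S (S ⊗[R] M) b

lemma τ_tmul (b s : S) (m : M) : τ (R := R) b (s ⊗ₜ[R] m) = s ⊗ₜ (b • m) - (b * s) ⊗ₜ m := by
  simp [τ, TensorProduct.smul_tmul']

/-- Iterated `τ`. -/
noncomputable def τs : List S → (S ⊗[R] M →ₗ[S] S ⊗[R] M)
  | [] => LinearMap.id
  | b :: l => τ b ∘ₗ τs l

section
variable {N : Type u} [AddCommGroup N] [Module S N] [Module R N] [IsScalarTower R S N]

lemma lift_commutator (D : M →ₗ[R] N) (b : S) :
    LinearMap.liftBaseChange S (Diff16.commutator R S M N D b) =
      LinearMap.liftBaseChange S D ∘ₗ τ b := by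
  apply TensorProduct.AlgebraTensorModule.ext
  intro s m
  simp only [LinearMap.liftBaseChange_tmul, LinearMap.comp_apply, τ_tmul, map_sub]
  simp [Diff16.commutator, smul_sub, smul_smul, mul_comm]

lemma isDiffOpLE_iff (k : ℕ) (D : M →ₗ[R] N) :
    Diff16.IsDiffOpLE R S M N k D ↔
      ∀ l : List S, l.length = k + 1 → LinearMap.liftBaseChange S D ∘ₗ τs l = 0 := by
  induction k generalizing D with
  | zero =>
    constructor
    · intro h l hl
      obtain ⟨b, rfl⟩ := List.length_eq_one_iff.1 hl
      apply TensorProduct.AlgebraTensorModule.ext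
      intro s m
      have h' : D (b • m) = b • D m := h b m
      simp [τs, τ_tmul, h', smul_smul, mul_comm]
    · intro h b m
      have := LinearMap.congr_fun (h [b] rfl) (1 ⊗ₜ m)
      simp only [τs, LinearMap.comp_apply, LinearMap.id_apply, τ_tmul, map_sub,
        LinearMap.liftBaseChange_tmul, one_smul, mul_one, LinearMap.zero_apply] at this
      exact sub_eq_zero.1 this
  | succ k ih =>
    constructor
    · intro h l hl
      match l, hl with
      | b :: l', hl' =>
        have h1 : Diff16.IsDiffOpLE R S M N k (Diff16.commutator R S M N D b) := h b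
        have h2 := (ih _).1 h1 l' (by simpa using hl')
        rw [lift_commutator, LinearMap.comp_assoc] at h2
        exact h2
    · intro h b
      show Diff16.IsDiffOpLE R S M N k (Diff16.commutator R S M N D b)
      rw [ih]
      intro l hl
      rw [lift_commutator, LinearMap.comp_assoc]
      exact h (b :: l) (by simp [hl])

end

end Groth.Agent.H46.DiffOp
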