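import Groth.Agent.H46.SmoothDim
import Groth.Agent.Lib.Helper24.SmoothNormal
import Mathlib

set_option autoImplicit false
universe u
open TensorProduct

namespace Groth.Agent.H46.EtaleCrit

/-- a surjection from a Noetherian local domain of dimension `≤ n` onto a ring of dimension `n` is
injective -/
theorem injective_of_surjective_of_dim {D L : Type*} [CommRing D] [IsDomain D] [CommRing L]
    (ψ : D →+* L) (hψ : Function.Surjective ψ) (n : ℕ)
    (hD : ringKrullDim D ≤ n) (hL : ringKrullDim L = n) : Function.Injective ψ := by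
  rw [injective_iff_map_eq_zero]
  intro x hx
  by_contra hne
  have hmem : x ∈ nonZeroDivisors D := mem_nonZeroDivisors_of_ne_zero hne
  have h1 := ringKrullDim_quotient_succ_le_of_nonZeroDivisor hmem
  let ψ' : D ⧸ Ideal.span {x} →+* L := Ideal.Quotient.lift _ ψ (by
    intro a ha
    obtain ⟨b, rfl⟩ := Ideal.mem_span_singleton'.mp ha
    rw [map_mul, hx, mul_zero])
  have hψ' : Function.Surjective ψ' := Ideal.Quotient.lift_surjective_of_surjective _ _ hψ
  have h2 := ringKrullDim_le_of_surjective ψ' hψ'
  rw [hL] at h2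
  have h3 : ((n : ℕ) : WithBot ℕ∞) + 1 ≤ n := (add_le_add_left h2 1).trans (h1.trans hD)
  have h4 : ((n + 1 : ℕ) : WithBot ℕ∞) ≤ ((n : ℕ) : WithBot ℕ∞) := by exact_mod_cast h3
  have h5 : n + 1 ≤ n := by exact_mod_cast h4
  omega

open MvPolynomial in
/-- a finite type unramified algebra over `k[x_1..x_n]` is, at every prime whose local ring has
dimension `n`, isomorphic to a local ring of an étale algebra -/
theorem exists_etale_algEquiv_atPrime (k : Type u) [Field k] (n : ℕ) (A : Type u) [CommRing A]
    [Algebra (MvPolynomial (Fin n) k) A] [Algebra.FiniteType (MvPolynomial (Fin n) k) A]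
    [Algebra.FormallyUnramified (MvPolynomial (Fin n) k) A] (m : Ideal A) [m.IsPrime]
    (hdim : ringKrullDim (Localization.AtPrime m) = n) :
    ∃ (B : Type u) (_ : CommRing B) (_ : Algebra (MvPolynomial (Fin n) k) B)
      (_ : Algebra.Etale (MvPolynomial (Fin n) k) B) (n' : Ideal B) (_ : n'.IsPrime),
      Nonempty (Localization.AtPrime n' ≃ₐ[MvPolynomial (Fin n) k] Localization.AtPrime m) := by
  classical
  have hunr : Algebra.IsUnramifiedAt (MvPolynomial (Fin n) k) m := inferInstance
  obtain ⟨f, hf, Pair, φ, hφ⟩ :=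
    Algebra.IsUnramifiedAt.exists_hasStandardEtaleSurjectionOn (R := MvPolynomial (Fin n) k) m
  have hfu : IsUnit (algebraMap A (Localization.AtPrime m) f) :=
    IsLocalization.map_units (Localization.AtPrime m) (⟨f, hf⟩ : m.primeCompl)
  let τ : Localization.Away f →+* Localization.AtPrime m := IsLocalization.Away.lift f hfu
  have hτ : ∀ a, τ (algebraMap A _ a) = algebraMap A (Localization.AtPrime m) a :=
    IsLocalization.Away.lift_eq f hfu
  let χ : Pair.Ring →ₐ[MvPolynomial (Fin n) k] Localization.AtPrime m :=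
    { toRingHom := τ.comp φ.toRingHom
      commutes' := by
        intro p
        show τ (φ (algebraMap _ _ p)) = _
        rw [φ.commutes, IsScalarTower.algebraMap_apply (MvPolynomial (Fin n) k) A (Localization.Away f),
          hτ, ← IsScalarTower.algebraMap_apply] }
  have hχ : ∀ b, χ b = τ (φ b) := fun _ => rfl
  let n' : Ideal Pair.Ring := (IsLocalRing.maximalIdeal (Localization.AtPrime m)).comap χ.toRingHom
  have hn' : n'.IsPrime := Ideal.comap_isPrime _ _
  have hunits : ∀ y : n'.primeCompl, IsUnit (χ y) := by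
    intro y
    by_contra h
    exact y.2 ((IsLocalRing.mem_maximalIdeal _).mpr h)
  let ψ : Localization.AtPrime n' →ₐ[MvPolynomial (Fin n) k] Localization.AtPrime m :=
    IsLocalization.liftAlgHom (M := n'.primeCompl) (f := χ) hunits
  have hψsurj : Function.Surjective ψ := by
    intro y
    obtain ⟨a, s, rfl⟩ := IsLocalization.exists_mk'_eq m.primeCompl y
    obtain ⟨b, hb⟩ := hφ (algebraMap A _ a)
    obtain ⟨b', hb'⟩ := hφ (algebraMap A _ (s : A))
    have hχb : χ b = algebraMap A _ a := by rw [hχ, hb, hτ]
    have hχb' : χ b' = algebraMap A _ (s : A) := by rw [hχ, hb', hτ]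
    have hb'mem : b' ∈ n'.primeCompl := by
      intro hmem
      have : χ b' ∈ IsLocalRing.maximalIdeal (Localization.AtPrime m) := hmem
      rw [hχb'] at this
      exact (IsLocalRing.mem_maximalIdeal _).mp this (IsLocalization.map_units _ s)
    refine ⟨IsLocalization.mk' _ b ⟨b', hb'mem⟩, ?_⟩
    show IsLocalization.lift hunits _ = _
    rw [IsLocalization.lift_mk'_spec]
    show χ b = χ b' * _
    rw [hχb, hχb', IsLocalization.mk'_spec']
  have hint : IsIntegrallyClosed (MvPolynomial (Fin n) k) :=
    Groth.Agent.Lib.Helper24.isIntegrallyClosed_mvPolynomial_fin k n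
  have hDdom : IsDomain (Localization.AtPrime n') :=
    (Groth.Agent.Lib.Helper24.isNormalRing_of_etale (MvPolynomial (Fin n) k) Pair.Ring n').1
  have hnt : Nontrivial Pair.Ring := ⟨⟨0, 1, fun h => hn'.ne_top (by
    rw [Ideal.eq_top_iff_one, ← h]; exact Ideal.zero_mem _)⟩⟩
  have hDdim : ringKrullDim (Localization.AtPrime n') ≤ n := by
    rw [IsLocalization.AtPrime.ringKrullDim_eq_height n' (Localization.AtPrime n'),
      ← Groth.Agent.H46.SmoothDim.ringKrullDim_eq k n Pair.Ring]
    exact Ideal.height_le_ringKrullDim_of_ne_top hn'.ne_top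
  have hinj := injective_of_surjective_of_dim ψ.toRingHom hψsurj n hDdim hdim
  let e : Localization.AtPrime n' ≃ₐ[MvPolynomial (Fin n) k] Localization.AtPrime m :=
    AlgEquiv.ofBijective ψ ⟨hinj, hψsurj⟩
  exact ⟨Pair.Ring, inferInstance, inferInstance, inferInstance, n', hn', ⟨e⟩⟩

/-- a finite type unramified algebra over `k[x_1..x_n]` is flat at every prime whose local ring has
dimension `n` -/
theorem flat_atPrime (k : Type u) [Field k] (n : ℕ) (A : Type u) [CommRing A]
    [Algebra (MvPolynomial (Fin n) k) A] [Algebra.FiniteType (MvPolynomial (Fin n) k) A]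
    [Algebra.FormallyUnramified (MvPolynomial (Fin n) k) A] (m : Ideal A) [m.IsPrime]
    (hdim : ringKrullDim (Localization.AtPrime m) = n) :
    Module.Flat (MvPolynomial (Fin n) k) (Localization.AtPrime m) := by
  obtain ⟨B, _, _, _, n', _, ⟨e⟩⟩ := exists_etale_algEquiv_atPrime k n A m hdim
  have h1 : Module.Flat (MvPolynomial (Fin n) k) B := inferInstance
  have h2 : Module.Flat B (Localization.AtPrime n') :=
    IsLocalization.flat (Localization.AtPrime n') n'.primeCompl
  have h3 : Module.Flat (MvPolynomial (Fin n) k) (Localization.AtPrime n') :=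
    Module.Flat.trans (MvPolynomial (Fin n) k) B (Localization.AtPrime n')
  exact Module.Flat.of_linearEquiv e.symm.toLinearEquiv

/-- a finite type unramified algebra over `k[x_1..x_n]` is étale at every prime whose local ring
has dimension `n` -/
theorem isEtaleAt_of_dim (k : Type u) [Field k] (n : ℕ) (A : Type u) [CommRing A]
    [Algebra (MvPolynomial (Fin n) k) A] [Algebra.FiniteType (MvPolynomial (Fin n) k) A]
    [Algebra.FormallyUnramified (MvPolynomial (Fin n) k) A] (m : Ideal A) [m.IsPrime]
    (hdim : ringKrullDim (Localization.AtPrime m) = n) :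
    Algebra.IsEtaleAt (MvPolynomial (Fin n) k) m := by
  obtain ⟨B, _, _, _, n', _, ⟨e⟩⟩ := exists_etale_algEquiv_atPrime k n A m hdim
  have h2 : Algebra.FormallyEtale B (Localization.AtPrime n') :=
    Algebra.FormallyEtale.of_isLocalization n'.primeCompl
  have h3 : Algebra.FormallyEtale (MvPolynomial (Fin n) k) (Localization.AtPrime n') :=
    Algebra.FormallyEtale.comp (MvPolynomial (Fin n) k) B (Localization.AtPrime n')
  exact Algebra.FormallyEtale.of_equiv e

end Groth.Agent.H46.EtaleCrit
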