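import Groth.Agent.H46.EtaleCrit
import Groth.Agent.Lib.Helper55.LocalDim
import Groth.Agent.Lib.Helper55.LocalDimAffine
import Groth.Agent.Lib.Helper55.LocalDimTop
import Mathlib

/-!
# Unramified + local dimension `n` over `k[x_1..x_n]` implies étale at a point
-/

set_option autoImplicit false
universe u
open TensorProduct

namespace Groth.Agent.H46.EtaleCrit

/-- localizing `A_f` at a prime gives the localization of `A` at the contracted prime -/
theorem isLocalization_atPrime_of_away {A T : Type*} [CommRing A] [CommRing T] [Algebra A T]
    (f : A) [IsLocalization.Away f T] (pT : Ideal T) [pT.IsPrime] (q : Ideal A) [q.IsPrime]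
    (h : pT.comap (algebraMap A T) = q) :
    IsLocalization.AtPrime (Localization.AtPrime pT) q := by
  subst h
  exact IsLocalization.isLocalization_isLocalization_atPrime_isLocalization (.powers f) _ pT

/-- étaleness at a prime of `A_f` gives étaleness at the contracted prime of `A` -/
theorem isEtaleAt_of_away {R A T : Type*} [CommRing R] [CommRing A] [CommRing T] [Algebra R A]
    [Algebra A T] [Algebra R T] [IsScalarTower R A T]
    (f : A) [IsLocalization.Away f T] (pT : Ideal T) [pT.IsPrime] (q : Ideal A) [q.IsPrime]
    (h : pT.comap (algebraMap A T) = q) (het : Algebra.IsEtaleAt R pT) :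
    Algebra.IsEtaleAt R q := by
  have := isLocalization_atPrime_of_away f pT q h
  exact Algebra.FormallyEtale.of_equiv
    ((IsLocalization.algEquiv q.primeCompl (Localization.AtPrime q)
      (Localization.AtPrime pT)).restrictScalars R).symm

open MvPolynomial in
/-- a finite type algebra over `k[x_1..x_n]` is étale at every prime at which it is unramified and
has local dimension `n` -/
theorem isEtaleAt_of_localDim (k : Type u) [Field k] (n : ℕ) (A : Type u) [CommRing A]
    [Algebra k A] [Algebra.FiniteType k A]
    [Algebra (MvPolynomial (Fin n) k) A] [IsScalarTower k (MvPolynomial (Fin n) k) A]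
    (p : Ideal A) [p.IsPrime] [Algebra.IsUnramifiedAt (MvPolynomial (Fin n) k) p]
    (hn : FlatMor.localDim (PrimeSpectrum A) ⟨p, inferInstance⟩ = (n : WithBot ℕ∞)) :
    Algebra.IsEtaleAt (MvPolynomial (Fin n) k) p := by
  classical
  have hftP : Algebra.FiniteType (MvPolynomial (Fin n) k) A :=
    Algebra.FiniteType.of_restrictScalars_finiteType k (MvPolynomial (Fin n) k) A
  obtain ⟨f, hf, hunr⟩ :=
    Algebra.exists_formallyUnramified_of_isUnramifiedAt (R := MvPolynomial (Fin n) k) p
  have hdisj : Disjoint (Submonoid.powers f : Set A) (p : Set A) := by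
    rwa [Ideal.disjoint_powers_iff_notMem_of_isPrime]
  have hpT : (p.map (algebraMap A (Localization.Away f))).IsPrime :=
    IsLocalization.isPrime_of_isPrime_disjoint (Submonoid.powers f) _ p inferInstance hdisj
  have hcomap : (p.map (algebraMap A (Localization.Away f))).comap
      (algebraMap A (Localization.Away f)) = p :=
    IsLocalization.under_map_of_isPrime_disjoint (Submonoid.powers f) _ inferInstance hdisj
  -- local dimension in `A_f`
  have hemb := PrimeSpectrum.localization_away_isOpenEmbedding (Localization.Away f) f
  have h1 := Groth.Agent.Lib.Helper55.localDim_eq_of_isOpenEmbedding _ hemb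
    (⟨p.map (algebraMap A (Localization.Away f)), hpT⟩ : PrimeSpectrum (Localization.Away f))
  have hpt : PrimeSpectrum.comap (algebraMap A (Localization.Away f))
      ⟨p.map (algebraMap A (Localization.Away f)), hpT⟩ = ⟨p, inferInstance⟩ :=
    PrimeSpectrum.ext hcomap
  rw [hpt, hn] at h1
  have hftT : Algebra.FiniteType k (Localization.Away f) :=
    Algebra.FiniteType.trans (inferInstance : Algebra.FiniteType k A)
      (IsLocalization.finiteType_of_monoid_fg (Submonoid.powers f) (Localization.Away f))
  have hftPT : Algebra.FiniteType (MvPolynomial (Fin n) k) (Localization.Away f) :=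
    Algebra.FiniteType.of_restrictScalars_finiteType k (MvPolynomial (Fin n) k) _
  rw [Groth.Agent.Lib.Helper55.localDim_primeSpectrum_eq k (Localization.Away f)] at h1
  obtain ⟨m, hm, hpm, hht⟩ := Groth.Agent.Lib.Helper55.exists_isMaximal_height_eq k
    (Localization.Away f) (p.map (algebraMap A (Localization.Away f)))
  have hmp : m.IsPrime := hm.isPrime
  have hdim : ringKrullDim (Localization.AtPrime m) = n := by
    rw [IsLocalization.AtPrime.ringKrullDim_eq_height m (Localization.AtPrime m), hht]
    exact h1
  have hetm := isEtaleAt_of_dim k n (Localization.Away f) m hdim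
  have hfp : Algebra.FinitePresentation (MvPolynomial (Fin n) k) (Localization.Away f) :=
    Algebra.FinitePresentation.of_finiteType.mp hftPT
  have hopen := Algebra.isOpen_etaleLocus (R := MvPolynomial (Fin n) k) (A := Localization.Away f)
  have hspec : (⟨p.map (algebraMap A (Localization.Away f)), hpT⟩ :
      PrimeSpectrum (Localization.Away f)) ⤳ ⟨m, hmp⟩ :=
    (PrimeSpectrum.le_iff_specializes _ _).mp hpm
  have hetp : (⟨p.map (algebraMap A (Localization.Away f)), hpT⟩ :
      PrimeSpectrum (Localization.Away f)) ∈
      Algebra.etaleLocus (MvPolynomial (Fin n) k) (Localization.Away f) :=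
    hspec.mem_open hopen hetm
  exact isEtaleAt_of_away f (p.map (algebraMap A (Localization.Away f))) p hcomap hetp

end Groth.Agent.H46.EtaleCrit
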