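import Mathlib

/-!
# Exterior powers commute with base change

For a ring map `A → B`, an `A`-module `M`, a `B`-module `N` and a base change map `f : M → N`,
the canonical `B`-linear map `B ⊗[A] ⋀[A]^p M → ⋀[B]^p N` is bijective.
-/

set_option autoImplicit false

namespace Groth.Agent.H46.ExtBC

open TensorProduct exteriorPower

universe u v w w'
variable (A : Type u) (B : Type v) [CommRing A] [CommRing B] [Algebra A B]
  {M : Type w} [AddCommGroup M] [Module A M]
  {N : Type w'} [AddCommGroup N] [Module B N] [Module A N] [IsScalarTower A B N]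

theorem isScalarTower_extPow (p : ℕ) : IsScalarTower A B ↥(⋀[B]^p N) :=
  Submodule.isScalarTower' _

attribute [local instance] isScalarTower_extPow

/-- `ιMulti` over `B`, as an `A`-alternating map. -/
noncomputable def ιMultiRestrict (p : ℕ) : N [⋀^Fin p]→ₗ[A] ↥(⋀[B]^p N) :=
  { (ιMulti B p (M := N)).toMultilinearMap.restrictScalars A with
    map_eq_zero_of_eq' := fun v _ _ h hij => (ιMulti B p (M := N)).map_eq_zero_of_eq v h hij }

/-- The `A`-linear map `⋀[A]^p M → ⋀[B]^p N` induced by an `A`-linear map `M → N`. -/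
noncomputable def extMap (f : M →ₗ[A] N) (p : ℕ) : ↥(⋀[A]^p M) →ₗ[A] ↥(⋀[B]^p N) :=
  alternatingMapLinearEquiv ((ιMultiRestrict A B p).compLinearMap f)

lemma extMap_ιMulti (f : M →ₗ[A] N) (p : ℕ) (m : Fin p → M) :
    extMap A B f p (ιMulti A p m) = ιMulti B p (fun i => f (m i)) := by
  rw [extMap, alternatingMapLinearEquiv_apply_ιMulti]
  rfl

/-- The canonical `B`-linear map `B ⊗[A] ⋀[A]^p M → ⋀[B]^p N`. -/
noncomputable def bcMap (f : M →ₗ[A] N) (p : ℕ) : B ⊗[A] ↥(⋀[A]^p M) →ₗ[B] ↥(⋀[B]^p N) :=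
  LinearMap.liftBaseChange B (extMap A B f p)

lemma bcMap_tmul (f : M →ₗ[A] N) (p : ℕ) (b : B) (x : ↥(⋀[A]^p M)) :
    bcMap A B f p (b ⊗ₜ x) = b • extMap A B f p x := rfl

variable {A B}

theorem bcMap_surjective {f : M →ₗ[A] N} (hf : IsBaseChange B f) (p : ℕ) :
    Function.Surjective (bcMap A B f p) := by
  have hs : Submodule.span B (Set.range f) = ⊤ := by
    rw [eq_top_iff]
    intro n _
    refine hf.inductionOn n (fun n => n ∈ Submodule.span B (Set.range f)) (Submodule.zero_mem _)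
      (fun m => Submodule.subset_span ⟨m, rfl⟩) (fun s n hn => Submodule.smul_mem _ s hn)
      (fun n₁ n₂ h₁ h₂ => Submodule.add_mem _ h₁ h₂)
  rw [← LinearMap.range_eq_top, eq_top_iff, ← ιMulti_span_of_span B p N hs, Submodule.span_le]
  rintro _ ⟨v, hv, rfl⟩
  choose m hm using fun i => hv (Set.mem_range_self i)
  refine ⟨1 ⊗ₜ ιMulti A p m, ?_⟩
  rw [bcMap_tmul, one_smul, extMap_ιMulti]
  congr 1
  funext i
  exact hm i

variable (A B M) in
/-- `b ⊗ m ↦ b ⊗ ι m`. -/
noncomputable def hMap : B ⊗[A] M →ₗ[B] B ⊗[A] ExteriorAlgebra A M :=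
  (ExteriorAlgebra.ι A).baseChange B

lemma hMap_tmul (b : B) (m : M) : hMap A B M (b ⊗ₜ m) = b ⊗ₜ ExteriorAlgebra.ι A m := rfl

lemma hMap_anticomm (t t' : B ⊗[A] M) :
    hMap A B M t * hMap A B M t' + hMap A B M t' * hMap A B M t = 0 := by
  induction t with
  | zero => simp
  | add x y hx hy =>
    rw [map_add, add_mul, mul_add]
    calc _ = (hMap A B M x * hMap A B M t' + hMap A B M t' * hMap A B M x) +
        (hMap A B M y * hMap A B M t' + hMap A B M t' * hMap A B M y) := by abel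
      _ = 0 := by rw [hx, hy, add_zero]
  | tmul b m =>
    induction t' with
    | zero => simp
    | add x y hx hy =>
      rw [map_add, add_mul, mul_add]
      calc _ = (hMap A B M (b ⊗ₜ m) * hMap A B M x + hMap A B M x * hMap A B M (b ⊗ₜ m)) +
          (hMap A B M (b ⊗ₜ m) * hMap A B M y + hMap A B M y * hMap A B M (b ⊗ₜ m)) := by abel
        _ = 0 := by rw [hx, hy, add_zero]
    | tmul b' m' =>
      rw [hMap_tmul, hMap_tmul, Algebra.TensorProduct.tmul_mul_tmul,
        Algebra.TensorProduct.tmul_mul_tmul, mul_comm b' b, ← tmul_add,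
        ExteriorAlgebra.ι_add_mul_swap, tmul_zero]

lemma hMap_sq (t : B ⊗[A] M) : hMap A B M t * hMap A B M t = 0 := by
  induction t with
  | zero => simp
  | add x y hx hy =>
    rw [map_add, add_mul, mul_add, mul_add, hx, hy, zero_add, add_zero]
    exact hMap_anticomm x y
  | tmul b m =>
    rw [hMap_tmul, Algebra.TensorProduct.tmul_mul_tmul, ExteriorAlgebra.ι_sq_zero, tmul_zero]

/-- The `B`-algebra map `⋀_B N → B ⊗[A] ⋀_A M` attached to a base change `f : M → N`. -/
noncomputable def G {f : M →ₗ[A] N} (hf : IsBaseChange B f) :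
    ExteriorAlgebra B N →ₐ[B] B ⊗[A] ExteriorAlgebra A M :=
  ExteriorAlgebra.lift B ⟨hMap A B M ∘ₗ hf.equiv.symm.toLinearMap, fun _ => hMap_sq _⟩

lemma G_ι {f : M →ₗ[A] N} (hf : IsBaseChange B f) (m : M) :
    G hf (ExteriorAlgebra.ι B (f m)) = 1 ⊗ₜ ExteriorAlgebra.ι A m := by
  rw [G, ExteriorAlgebra.lift_ι_apply]
  show hMap A B M (hf.equiv.symm (f m)) = _
  rw [hf.equiv_symm_apply, hMap_tmul]

lemma G_ιMulti {f : M →ₗ[A] N} (hf : IsBaseChange B f) (p : ℕ) (m : Fin p → M) :
    G hf (ExteriorAlgebra.ιMulti B p (fun i => f (m i))) =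
      1 ⊗ₜ ExteriorAlgebra.ιMulti A p m := by
  rw [ExteriorAlgebra.ιMulti_apply, ExteriorAlgebra.ιMulti_apply, map_list_prod, List.map_ofFn]
  have h1 : (⇑(G hf) ∘ fun i => ExteriorAlgebra.ι B (f (m i))) =
      fun i => (Algebra.TensorProduct.includeRight : ExteriorAlgebra A M →ₐ[A] B ⊗[A] _)
        (ExteriorAlgebra.ι A (m i)) := by
    funext i
    exact G_ι hf (m i)
  rw [h1]
  have h2 := map_list_prod (Algebra.TensorProduct.includeRight :
    ExteriorAlgebra A M →ₐ[A] B ⊗[A] ExteriorAlgebra A M)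
    (List.ofFn fun i => ExteriorAlgebra.ι A (m i))
  rw [List.map_ofFn] at h2
  exact h2.symm

variable (A M) in
/-- The projection of the exterior algebra onto its degree `p` part. -/
noncomputable def retr (p : ℕ) : ExteriorAlgebra A M →ₗ[A] ↥(⋀[A]^p M) :=
  DirectSum.component A ℕ (fun i => ↥(⋀[A]^i M)) p ∘ₗ
    (DirectSum.decomposeLinearEquiv (fun i => ⋀[A]^i M)).toLinearMap

lemma retr_coe (p : ℕ) (x : ↥(⋀[A]^p M)) : retr A M p (x : ExteriorAlgebra A M) = x := by
  simp [retr]

theorem bcMap_injective {f : M →ₗ[A] N} (hf : IsBaseChange B f) (p : ℕ) :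
    Function.Injective (bcMap A B f p) := by
  have hx : ∀ x : ↥(⋀[A]^p M), G hf ((extMap A B f p x : ↥(⋀[B]^p N)) : ExteriorAlgebra B N) =
      1 ⊗ₜ (x : ExteriorAlgebra A M) := by
    let L1 : ↥(⋀[A]^p M) →ₗ[A] B ⊗[A] ExteriorAlgebra A M :=
      ((G hf).toLinearMap.restrictScalars A) ∘ₗ ((⋀[B]^p N).subtype.restrictScalars A) ∘ₗ
        extMap A B f p
    let L2 : ↥(⋀[A]^p M) →ₗ[A] B ⊗[A] ExteriorAlgebra A M :=
      (TensorProduct.mk A B (ExteriorAlgebra A M) 1) ∘ₗ (⋀[A]^p M).subtype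
    have h12 : L1 = L2 := by
      apply exteriorPower.linearMap_ext
      ext m
      show G hf ((extMap A B f p (ιMulti A p m) : ↥(⋀[B]^p N)) : ExteriorAlgebra B N) =
        1 ⊗ₜ ((ιMulti A p m : ↥(⋀[A]^p M)) : ExteriorAlgebra A M)
      rw [extMap_ιMulti, ιMulti_apply_coe, ιMulti_apply_coe, G_ιMulti]
    intro x
    exact LinearMap.congr_fun h12 x
  have key : ∀ t : B ⊗[A] ↥(⋀[A]^p M),
      G hf ((bcMap A B f p t : ↥(⋀[B]^p N)) : ExteriorAlgebra B N) =
        LinearMap.lTensor B ((⋀[A]^p M).subtype) t := by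
    intro t
    induction t with
    | zero => simp
    | add x y hx' hy' =>
      rw [map_add, Submodule.coe_add, map_add, hx', hy', map_add]
    | tmul b x =>
      rw [bcMap_tmul, Submodule.coe_smul, map_smul, hx, LinearMap.lTensor_tmul,
        TensorProduct.smul_tmul', smul_eq_mul, mul_one]
      rfl
  have hinj : Function.Injective (LinearMap.lTensor B ((⋀[A]^p M).subtype)) := by
    have hleft : Function.LeftInverse (LinearMap.lTensor B (retr A M p))
        (LinearMap.lTensor B ((⋀[A]^p M).subtype)) := by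
      intro t
      rw [← LinearMap.comp_apply, ← LinearMap.lTensor_comp]
      have : retr A M p ∘ₗ (⋀[A]^p M).subtype = LinearMap.id :=
        LinearMap.ext fun x => retr_coe p x
      rw [this, LinearMap.lTensor_id, LinearMap.id_apply]
    exact hleft.injective
  intro t t' h
  apply hinj
  rw [← key, ← key, h]

theorem bcMap_bijective {f : M →ₗ[A] N} (hf : IsBaseChange B f) (p : ℕ) :
    Function.Bijective (bcMap A B f p) :=
  ⟨bcMap_injective hf p, bcMap_surjective hf p⟩

end Groth.Agent.H46.ExtBC
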