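import Mathlib

/-!
# Kernel of the map on exterior powers induced by a surjective linear map
-/

set_option autoImplicit false

namespace Groth.Agent.H46.ExtKer

open exteriorPower

universe u v w
variable {A : Type u} [CommRing A] {M : Type v} {M' : Type w} [AddCommGroup M] [Module A M]
  [AddCommGroup M'] [Module A M']

lemma mkQ_ιMulti_congr (π : M →ₗ[A] M') (p : ℕ) (Z : Submodule A ↥(⋀[A]^p M))
    (hZ : ∀ v : Fin p → M, (∃ i, v i ∈ LinearMap.ker π) → ιMulti A p v ∈ Z)
    (v w : Fin p → M) (hvw : ∀ j, π (v j) = π (w j)) :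
    Z.mkQ (ιMulti A p v) = Z.mkQ (ιMulti A p w) := by
  classical
  let n : Fin p → M := fun j => w j - v j
  have hn : ∀ j, n j ∈ LinearMap.ker π := fun j => by
    simp [n, LinearMap.mem_ker, map_sub, hvw j]
  have hw : w = v + n := by
    funext j
    simp [n]
  have hsum := (ιMulti A p (M := M)).toMultilinearMap.map_add_univ v n
  simp only [AlternatingMap.coe_multilinearMap] at hsum
  rw [hw, hsum, map_sum, Finset.sum_eq_single Finset.univ]
  · simp [Finset.piecewise_univ]
  · intro s _ hs
    obtain ⟨i, hi⟩ : ∃ i, i ∉ s := by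
      by_contra h
      push Not at h
      exact hs (Finset.eq_univ_iff_forall.2 h)
    have hmem : ιMulti A p (s.piecewise v n) ∈ Z :=
      hZ _ ⟨i, by simpa [Finset.piecewise, hi] using hn i⟩
    simpa using hmem
  · intro h
    exact absurd (Finset.mem_univ _) h

/-- The alternating map `M'^p → ⋀^p M ⧸ Z` obtained by lifting along a surjection. -/
noncomputable def altMap (π : M →ₗ[A] M') (hπ : Function.Surjective π) (p : ℕ)
    (Z : Submodule A ↥(⋀[A]^p M))
    (hZ : ∀ v : Fin p → M, (∃ i, v i ∈ LinearMap.ker π) → ιMulti A p v ∈ Z) :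
    M' [⋀^Fin p]→ₗ[A] (↥(⋀[A]^p M) ⧸ Z) where
  toFun v' := Z.mkQ (ιMulti A p (fun j => Function.surjInv hπ (v' j)))
  map_update_add' := by
    intro _ v' i x y
    have key : ∀ z : M', ∀ z₀ : M, π z₀ = z →
        Z.mkQ (ιMulti A p (fun j => Function.surjInv hπ (Function.update v' i z j))) =
        Z.mkQ (ιMulti A p (Function.update (fun j => Function.surjInv hπ (v' j)) i z₀)) := by
      intro z z₀ hz
      apply mkQ_ιMulti_congr π p Z hZ
      intro j
      rw [Function.surjInv_eq hπ]
      by_cases hj : j = i
      · subst hj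
        simp [hz]
      · simp [Function.update_of_ne hj, Function.surjInv_eq hπ]
    rw [key (x + y) (Function.surjInv hπ x + Function.surjInv hπ y)
        (by rw [map_add, Function.surjInv_eq hπ, Function.surjInv_eq hπ]),
      key x (Function.surjInv hπ x) (Function.surjInv_eq hπ x),
      key y (Function.surjInv hπ y) (Function.surjInv_eq hπ y),
      (ιMulti A p (M := M)).map_update_add, map_add]
  map_update_smul' := by
    intro _ v' i c x
    have key : ∀ z : M', ∀ z₀ : M, π z₀ = z →
        Z.mkQ (ιMulti A p (fun j => Function.surjInv hπ (Function.update v' i z j))) =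
        Z.mkQ (ιMulti A p (Function.update (fun j => Function.surjInv hπ (v' j)) i z₀)) := by
      intro z z₀ hz
      apply mkQ_ιMulti_congr π p Z hZ
      intro j
      rw [Function.surjInv_eq hπ]
      by_cases hj : j = i
      · subst hj
        simp [hz]
      · simp [Function.update_of_ne hj, Function.surjInv_eq hπ]
    rw [key (c • x) (c • Function.surjInv hπ x)
        (by rw [map_smul, Function.surjInv_eq hπ]),
      key x (Function.surjInv hπ x) (Function.surjInv_eq hπ x),
      (ιMulti A p (M := M)).map_update_smul, map_smul]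
  map_eq_zero_of_eq' := by
    intro v' i j h hij
    have h0 : ιMulti A p (fun j => Function.surjInv hπ (v' j)) = 0 :=
      (ιMulti A p (M := M)).map_eq_zero_of_eq _ (by simp [h]) hij
    simp [h0]

/-- If `Z` contains all `ιMulti v` with some `v i` in the kernel of the surjection `π`, then `Z`
contains the kernel of `⋀^p π`. -/
theorem ker_map_le (π : M →ₗ[A] M') (hπ : Function.Surjective π) (p : ℕ)
    (Z : Submodule A ↥(⋀[A]^p M))
    (hZ : ∀ v : Fin p → M, (∃ i, v i ∈ LinearMap.ker π) → ιMulti A p v ∈ Z) :
    LinearMap.ker (exteriorPower.map p π) ≤ Z := by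
  let Q := alternatingMapLinearEquiv (altMap π hπ p Z hZ)
  have hQ : Q ∘ₗ exteriorPower.map p π = Z.mkQ := by
    apply linearMap_ext
    ext v
    show Q (map p π (ιMulti A p v)) = Z.mkQ (ιMulti A p v)
    rw [map_apply_ιMulti, alternatingMapLinearEquiv_apply_ιMulti]
    exact mkQ_ιMulti_congr π p Z hZ _ _ (fun j => Function.surjInv_eq hπ _)
  intro x hx
  have h1 := LinearMap.congr_fun hQ x
  rw [LinearMap.comp_apply, LinearMap.mem_ker.1 hx, map_zero] at h1
  exact (Submodule.Quotient.mk_eq_zero Z).1 h1.symm

end Groth.Agent.H46.ExtKer
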