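/-
helper46: fibrewise effective Cartier ideals are effective Cartier (Stacks 062Y), for flat
morphisms locally of finite presentation, no Noetherian hypotheses.
-/
import Mathlib
import Groth.Agent.H46.FibreDepthTwo
import Groth.Agent.Lib.Helper12.FourTermFlat
import Groth.Agent.Lib.Helper49.FiberStalk
import Groth.Agent.H8.RelCartier
import Groth.Prelude.Def_BlowUp2
import Groth.Prelude.Def_CurvBase
import Groth.Agent.H8.SubschemeStalk

set_option autoImplicit false
universe u

open RingTheory.Sequence IsLocalRing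

namespace Groth.Agent.H46.FibreCartier

section Algebra

/-- `R ⧸ I R` is `A`-flat when `B ⧸ I` is. -/
theorem flat_quotient_map {A B : Type u} [CommRing A] [CommRing B] [Algebra A B]
    (W : Submonoid B) (R : Type u) [CommRing R] [Algebra B R]
    [IsLocalization W R] [Algebra A R] [IsScalarTower A B R]
    (I : Ideal B) [Module.Flat A (B ⧸ I)] :
    Module.Flat A (R ⧸ I.map (algebraMap B R)) := by
  haveI : Module.Flat A (R ⧸ (I.localized' R W (Algebra.linearMap B R))) :=
    Groth.Agent.Lib.Helper12.FourTermFlat.flat_of_isLocalizedModule (A := A) (B := B)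
      W (I.toLocalizedQuotient' R W (Algebra.linearMap B R))
  have h : I.localized' R W (Algebra.linearMap B R) = I.map (algebraMap B R) :=
    Ideal.localized'_eq_map R W I
  exact Module.Flat.of_linearEquiv ((Submodule.quotEquivOfEq _ _ h).symm.restrictScalars A)

variable {A B : Type u} [CommRing A] [CommRing B] [Algebra A B] [Algebra.FinitePresentation A B]
  (q : Ideal B) [q.IsPrime] (R : Type u) [CommRing R] [IsLocalRing R] [Algebra B R]
  [IsLocalization.AtPrime R q] [Algebra A R] [IsScalarTower A B R] [Module.Flat A R]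

/-- Core: if the ideal `I R` of the local ring `R = B_q` becomes principal generated by a
nonzerodivisor on the fibre ring `O = R / pR`, and `B / I` is `A`-flat, then `I R` is generated by
a nonzerodivisor coming from `I`. -/
theorem core (I : Ideal B) (hI : I.FG) [Module.Flat A (B ⧸ I)]
    {O : Type u} [CommRing O] (π : R →+* O) (hπ : Function.Surjective π)
    (hker : RingHom.ker π = (q.comap (algebraMap A B)).map (algebraMap A R))
    (g : O) (hg : g ∈ nonZeroDivisors O)
    (hIg : (I.map (algebraMap B R)).map π = Ideal.span {g}) :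
    ∃ a ∈ I, I.map (algebraMap B R) = Ideal.span {algebraMap B R a} ∧
      algebraMap B R a ∈ nonZeroDivisors R := by
  set J : Ideal R := I.map (algebraMap B R) with hJdef
  set 𝔭 : Ideal R := (q.comap (algebraMap A B)).map (algebraMap A R) with h𝔭
  have h𝔭le : 𝔭 ≤ maximalIdeal R := by
    rw [h𝔭, Ideal.map_le_iff_le_comap]
    intro a ha
    rw [Ideal.mem_comap, IsScalarTower.algebraMap_apply A B R]
    have := (IsLocalization.AtPrime.to_map_mem_maximal_iff R q (algebraMap A B a)).mpr ha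
    exact this
  have hgJ : g ∈ J.map π := hIg ▸ Ideal.subset_span rfl
  obtain ⟨f₀, hf₀J, hf₀⟩ := (Ideal.mem_map_iff_of_surjective π hπ).mp hgJ
  have hreg : IsSMulRegular R f₀ :=
    Groth.Agent.H46.FibreDepthTwo.isSMulRegular_of_fibre q R f₀ (fun y hy => by
      rw [← h𝔭, ← hker, RingHom.mem_ker] at hy ⊢
      rw [map_mul, hf₀] at hy
      exact (mem_nonZeroDivisors_iff.mp hg).1 _ hy)
  haveI : Module.Flat A (R ⧸ J) := flat_quotient_map q.primeCompl R I
  have hJ : J = Ideal.span {f₀} := by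
    apply le_antisymm
    · have hfg : J.FG := hI.map _
      refine Submodule.le_of_le_smul_of_le_jacobson_bot (I := 𝔭) hfg ?_ ?_
      · rw [IsLocalRing.jacobson_eq_maximalIdeal ⊥ bot_ne_top]
        exact h𝔭le
      · intro z hz
        have hz' : π z ∈ Ideal.span {g} := hIg ▸ Ideal.mem_map_of_mem π hz
        obtain ⟨c', hc'⟩ := Ideal.mem_span_singleton'.mp hz'
        obtain ⟨c, rfl⟩ := hπ c'
        have hzJ : z - c * f₀ ∈ J := J.sub_mem hz (J.mul_mem_left c hf₀J)
        have hzp : z - c * f₀ ∈ 𝔭 := by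
          rw [← hker, RingHom.mem_ker, map_sub, map_mul, hf₀, hc', sub_self]
        have key := Groth.Agent.Lib.Helper12.FourTermFlat.mem_smul_top_of_flat_coker
          (A := A) (B := R) (Submodule.subtype J) (Submodule.mkQ J)
          (Submodule.subtype_injective J)
          (LinearMap.exact_subtype_mkQ J) (Submodule.mkQ_surjective J)
          (q.comap (algebraMap A B)) ⟨z - c * f₀, hzJ⟩
          (by
            rw [Ideal.smul_top_eq_map]
            change z - c * f₀ ∈ Ideal.map (algebraMap R R) 𝔭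
            rw [Algebra.algebraMap_self, Ideal.map_id]
            exact hzp)
        have key2 : z - c * f₀ ∈ 𝔭 • J := by
          have h1 : (Submodule.subtype J) ⟨z - c * f₀, hzJ⟩ ∈
              Submodule.map (Submodule.subtype J) (𝔭 • (⊤ : Submodule R J)) :=
            Submodule.mem_map_of_mem key
          rw [Submodule.map_smul'', Submodule.map_top, Submodule.range_subtype] at h1
          exact h1
        have : z = c * f₀ + (z - c * f₀) := by ring
        rw [this]
        exact Submodule.add_mem_sup (Ideal.mem_span_singleton'.mpr ⟨c, rfl⟩) key2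
    · rw [Ideal.span_singleton_le_iff_mem]
      exact hf₀J
  obtain ⟨⟨⟨a, ha⟩, m⟩, h⟩ := (IsLocalization.mem_map_algebraMap_iff q.primeCompl R).mp hf₀J
  have hu : IsUnit (algebraMap B R m) := IsLocalization.map_units R m
  refine ⟨a, ha, ?_, ?_⟩
  · rw [hJ]
    simp only at h
    rw [← h]
    exact (Ideal.span_singleton_mul_right_unit hu f₀).symm
  · simp only at h
    rw [← h]
    refine mul_mem ?_ hu.mem_nonZeroDivisors
    refine mem_nonZeroDivisors_iff_right.mpr (fun x hx => hreg ?_)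
    change f₀ * x = f₀ * 0
    rw [mul_zero, mul_comm]
    exact hx

/-- Principal case with flatness of the quotient (EGA IV 11.3.8, one element). -/
theorem core_principal (f : B)
    (H1 : ∀ y : R, algebraMap B R f * y ∈ (q.comap (algebraMap A B)).map (algebraMap A R) →
      y ∈ (q.comap (algebraMap A B)).map (algebraMap A R)) :
    algebraMap B R f ∈ nonZeroDivisors R ∧
      Module.Flat A (R ⧸ Ideal.span {algebraMap B R f}) := by
  set J : Submodule B R :=
    ((q.comap (algebraMap A B)).map (algebraMap A B)) • (⊤ : Submodule B R) with hJ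
  have hreg : IsWeaklyRegular (R ⧸ J) [f] := by
    rw [isWeaklyRegular_singleton_iff, isSMulRegular_quotient_iff_mem_of_smul_mem]
    intro y hy
    rw [hJ, Groth.Agent.H46.FibreDepthTwo.mem_smul_top_iff] at hy ⊢
    rw [Algebra.smul_def] at hy
    exact H1 _ hy
  obtain ⟨h1, h2⟩ := Groth.Agent.Lib.Helper62.FibReg.list_step A B q [f] B R
    (Algebra.linearMap B R) hreg
  constructor
  · rw [isWeaklyRegular_singleton_iff] at h1
    refine mem_nonZeroDivisors_iff_right.mpr (fun x hx => h1 ?_)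
    change f • x = f • (0 : R)
    rw [smul_zero, Algebra.smul_def, mul_comm]
    exact hx
  · have h3 := h2 1 (by simp)
    have heq : Ideal.ofList (List.take 1 [f]) • (⊤ : Submodule B R) =
        (Ideal.span {algebraMap B R f}).restrictScalars B := by
      have : List.take 1 [f] = [f] := rfl
      rw [this, Ideal.ofList_singleton, Ideal.smul_top_eq_map, Ideal.map_span,
        Set.image_singleton]
    exact Module.Flat.of_linearEquiv
      (((Submodule.quotEquivOfEq _ _ heq).trans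
        (Submodule.Quotient.restrictScalarsEquiv B (Ideal.span {algebraMap B R f}))).restrictScalars
          A).symm

/-- Spreading out a principal generator of a localized finitely generated ideal. -/
theorem exists_mul_mem_span {B : Type u} [CommRing B] (q : Ideal B) [q.IsPrime] (R : Type u)
    [CommRing R] [Algebra B R] [IsLocalization.AtPrime R q] (a : B) (I : Ideal B)
    (hspan : I.map (algebraMap B R) = Ideal.span {algebraMap B R a}) (N : Submodule B B)
    (hN : N.FG) : N ≤ I → ∃ h ∉ q, ∀ b ∈ N, h * b ∈ Ideal.span {a} := by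
  refine Submodule.fg_induction
    (motive := fun N _ => N ≤ I → ∃ h ∉ q, ∀ b ∈ N, h * b ∈ Ideal.span {a}) ?_ ?_ N hN
  · intro x hx
    have hxI : x ∈ I := hx (Submodule.subset_span rfl)
    have h1 : algebraMap B R x ∈ (Ideal.span {a}).map (algebraMap B R) := by
      rw [Ideal.map_span, Set.image_singleton, ← hspan]
      exact Ideal.mem_map_of_mem _ hxI
    obtain ⟨⟨⟨c, hc⟩, m⟩, h⟩ := (IsLocalization.mem_map_algebraMap_iff q.primeCompl R).mp h1
    simp only at h
    rw [← map_mul] at h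
    obtain ⟨m', hm'⟩ := (IsLocalization.eq_iff_exists q.primeCompl R).mp h
    refine ⟨m' * m, fun hmem => ?_, fun b hb => ?_⟩
    · rcases Ideal.IsPrime.mem_or_mem inferInstance hmem with h' | h'
      · exact m'.2 h'
      · exact m.2 h'
    · obtain ⟨r, rfl⟩ := Submodule.mem_span_singleton.mp hb
      have : (m' : B) * m * (r • x) = r * ((m' : B) * (x * m)) := by
        rw [smul_eq_mul]; ring
      rw [this, hm']
      exact Ideal.mul_mem_left _ _ (Ideal.mul_mem_left _ _ hc)
  · intro M₁ M₂ _ _ h₁ h₂ hle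
    obtain ⟨k₁, hk₁, H₁⟩ := h₁ (le_sup_left.trans hle)
    obtain ⟨k₂, hk₂, H₂⟩ := h₂ (le_sup_right.trans hle)
    refine ⟨k₁ * k₂, fun hmem => ?_, fun b hb => ?_⟩
    · rcases Ideal.IsPrime.mem_or_mem inferInstance hmem with h' | h'
      · exact hk₁ h'
      · exact hk₂ h'
    · obtain ⟨b₁, hb₁, b₂, hb₂, rfl⟩ := Submodule.mem_sup.mp hb
      have : k₁ * k₂ * (b₁ + b₂) = k₂ * (k₁ * b₁) + k₁ * (k₂ * b₂) := by ring
      rw [this]
      exact Ideal.add_mem _ (Ideal.mul_mem_left _ _ (H₁ b₁ hb₁))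
        (Ideal.mul_mem_left _ _ (H₂ b₂ hb₂))

end Algebra

section Scheme

open AlgebraicGeometry CategoryTheory Limits

variable {X S : Scheme.{u}} (φ : X ⟶ S)

/-- On a chart `U ≤ φ⁻¹ V`, the extension of the prime of `Γ(S,V)` below `x` to the stalk at `x` is
`m_s O_{X,x}`. -/
theorem chart_ideal_eq {U : X.Opens} {V : S.Opens} (hU : IsAffineOpen U) (hV : IsAffineOpen V)
    (e : U ≤ φ ⁻¹ᵁ V) (x : X) (hxU : x ∈ U) :
    (((hU.primeIdealOf ⟨x, hxU⟩).asIdeal.comap (φ.appLE V U e).hom).map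
      ((X.presheaf.germ U x hxU).hom.comp (φ.appLE V U e).hom)) =
      Ideal.map (φ.stalkMap x).hom (maximalIdeal (S.presheaf.stalk (φ.base x))) := by
  have hsV : φ.base x ∈ V := e hxU
  letI algAB : Algebra Γ(S, V) Γ(X, U) := (φ.appLE V U e).hom.toAlgebra
  letI algBR : Algebra Γ(X, U) (X.presheaf.stalk x) :=
    TopCat.Presheaf.algebra_section_stalk X.presheaf (⟨x, hxU⟩ : U)
  letI algAS : Algebra Γ(S, V) (S.presheaf.stalk (φ.base x)) :=
    TopCat.Presheaf.algebra_section_stalk S.presheaf (⟨φ.base x, hsV⟩ : V)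
  letI algAR : Algebra Γ(S, V) (X.presheaf.stalk x) :=
    ((algebraMap Γ(X, U) (X.presheaf.stalk x)).comp (algebraMap Γ(S, V) Γ(X, U))).toAlgebra
  haveI tower : IsScalarTower Γ(S, V) Γ(X, U) (X.presheaf.stalk x) :=
    IsScalarTower.of_algebraMap_eq (fun _ => rfl)
  haveI locR : IsLocalization.AtPrime (X.presheaf.stalk x) (hU.primeIdealOf ⟨x, hxU⟩).asIdeal :=
    hU.isLocalization_stalk ⟨x, hxU⟩
  haveI locS : IsLocalization.AtPrime (S.presheaf.stalk (φ.base x))
      (hV.primeIdealOf ⟨φ.base x, hsV⟩).asIdeal := hV.isLocalization_stalk ⟨_, hsV⟩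
  have hcompat : ∀ a : Γ(S, V),
      (φ.stalkMap x).hom (algebraMap Γ(S, V) (S.presheaf.stalk (φ.base x)) a) =
        algebraMap Γ(S, V) (X.presheaf.stalk x) a := by
    intro a
    change (φ.stalkMap x).hom (S.presheaf.germ V (φ.base x) hsV a) = _
    rw [Scheme.Hom.germ_stalkMap_apply]
    change _ = algebraMap Γ(X, U) (X.presheaf.stalk x) (algebraMap Γ(S, V) Γ(X, U) a)
    simp only [RingHom.algebraMap_toAlgebra, Scheme.Hom.appLE, homOfLE_leOfHom,
      CommRingCat.hom_comp, RingHom.coe_comp, Function.comp_apply]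
    change _ = X.presheaf.germ U x hxU _
    rw [X.presheaf.germ_res_apply]
  set q : Ideal Γ(X, U) := (hU.primeIdealOf ⟨x, hxU⟩).asIdeal with hq
  change (q.comap (algebraMap Γ(S, V) Γ(X, U))).map (algebraMap Γ(S, V) (X.presheaf.stalk x)) = _
  have h1 : q = (maximalIdeal (X.presheaf.stalk x)).comap
      (algebraMap Γ(X, U) (X.presheaf.stalk x)) :=
    (IsLocalization.AtPrime.comap_maximalIdeal (X.presheaf.stalk x) q).symm
  have h2 : algebraMap Γ(S, V) (X.presheaf.stalk x) =
      (φ.stalkMap x).hom.comp (algebraMap Γ(S, V) (S.presheaf.stalk (φ.base x))) := by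
    ext a; exact (hcompat a).symm
  have h3 : (maximalIdeal (X.presheaf.stalk x)).comap (φ.stalkMap x).hom =
      maximalIdeal (S.presheaf.stalk (φ.base x)) :=
    have h0 : IsLocalHom (φ.stalkMap x).hom := inferInstance
    ((IsLocalRing.local_hom_TFAE (φ.stalkMap x).hom).out 0 4).mp h0
  have h4 : q.comap (algebraMap Γ(S, V) Γ(X, U)) =
      (maximalIdeal (S.presheaf.stalk (φ.base x))).comap
        (algebraMap Γ(S, V) (S.presheaf.stalk (φ.base x))) := by
    rw [h1, Ideal.comap_comap, ← IsScalarTower.algebraMap_eq, h2, ← Ideal.comap_comap, h3]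
  rw [h4, h2, ← Ideal.map_map,
    IsLocalization.map_comap (hV.primeIdealOf ⟨φ.base x, hsV⟩).asIdeal.primeCompl]

open Groth.Agent.H8.RelCartier in
/-- On a chart, the ideal of a closed subscheme locally of finite presentation over `S` inside `X`
locally of finite presentation over `S` is finitely generated. -/
theorem ideal_fg (𝓘 : X.IdealSheafData) [LocallyOfFinitePresentation φ]
    [LocallyOfFinitePresentation (𝓘.subschemeι ≫ φ)] (V : S.affineOpens) (U : X.affineOpens)
    (e : U.1 ≤ φ ⁻¹ᵁ V.1) : (𝓘.ideal U).FG := by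
  have h1 : ((𝓘.subschemeι ≫ φ).appLE V.1 (𝓘.subschemeι ⁻¹ᵁ U.1)
      (preimage_le 𝓘 φ V.1 U.1 e)).hom.FinitePresentation :=
    HasRingHomProperty.appLE (P := @LocallyOfFinitePresentation) (𝓘.subschemeι ≫ φ)
      inferInstance V ⟨𝓘.subschemeι ⁻¹ᵁ U.1, U.2.preimage 𝓘.subschemeι⟩
      (preimage_le 𝓘 φ V.1 U.1 e)
  rw [subschemeι_comp_appLE 𝓘 φ V U e] at h1
  have hbij : Function.Bijective (𝓘.subschemeObjIso U).hom.hom :=
    (ConcreteCategory.isIso_iff_bijective _).mp inferInstance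
  have h2 : ((Ideal.Quotient.mk (𝓘.ideal U)).comp (φ.appLE V.1 U.1 e).hom).FinitePresentation := by
    have h := RingHom.FinitePresentation.comp (RingHom.FinitePresentation.of_bijective hbij) h1
    have e1 : (𝓘.subschemeObjIso U).hom.hom.comp
        (φ.appLE V.1 U.1 e ≫ CommRingCat.ofHom (Ideal.Quotient.mk (𝓘.ideal U)) ≫
          (𝓘.subschemeObjIso U).inv).hom =
        (Ideal.Quotient.mk (𝓘.ideal U)).comp (φ.appLE V.1 U.1 e).hom := by
      ext b
      simp
    rwa [e1] at h
  have h3 : (φ.appLE V.1 U.1 e).hom.FiniteType :=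
    RingHom.FiniteType.of_finitePresentation
      (HasRingHomProperty.appLE (P := @LocallyOfFinitePresentation) φ inferInstance V U e)
  have h4 : (Ideal.Quotient.mk (𝓘.ideal U)).FinitePresentation :=
    RingHom.FinitePresentation.of_comp_finiteType _ h2 h3
  haveI : Algebra.FinitePresentation Γ(X, U.1) (Γ(X, U.1) ⧸ 𝓘.ideal U) := by
    rw [← RingHom.finitePresentation_algebraMap]
    exact h4
  have h5 := Algebra.FinitePresentation.ker_fG_of_surjective
    (Ideal.Quotient.mkₐ Γ(X, U.1) (𝓘.ideal U)) (Ideal.Quotient.mkₐ_surjective _ _)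
  rw [AlgHom.toRingHom_eq_coe, Ideal.Quotient.mkₐ_ker] at h5
  exact h5

set_option linter.style.haveILetI false in
open Groth.Agent.H8.RelCartier Groth.Agent.H8.EffCartier Groth.Agent.Lib.Helper18 in
/-- Stalk form of Stacks 062Y: at every point, the stalk of `𝓘` is generated by a nonzerodivisor
which comes from the chart ideal. -/
theorem stalk_claim [Flat φ] [LocallyOfFinitePresentation φ] (𝓘 : X.IdealSheafData)
    [Flat (𝓘.subschemeι ≫ φ)] [LocallyOfFinitePresentation (𝓘.subschemeι ≫ φ)]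
    (hfib : ∀ s : S, BlowUp.IsEffCartierIdeal (𝓘.comap (φ.fiberι s)))
    (V : S.affineOpens) (U : X.affineOpens) (e : U.1 ≤ φ ⁻¹ᵁ V.1)
    (x : X) (hxU : x ∈ U.1) (s : S) (y : ↥(φ.fiber s)) (hy : (φ.fiberι s).base y = x) :
    ∃ a ∈ 𝓘.ideal U,
      (𝓘.ideal U).map (X.presheaf.germ U.1 x hxU).hom =
        Ideal.span {(X.presheaf.germ U.1 x hxU).hom a} ∧
      (X.presheaf.germ U.1 x hxU).hom a ∈ nonZeroDivisors (X.presheaf.stalk x) := by
  subst hy
  set x := (φ.fiberι s).base y with hx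
  have hU := U.2
  have hV := V.2
  have hsV : φ.base x ∈ V.1 := e hxU
  letI algAB : Algebra Γ(S, V.1) Γ(X, U.1) := (φ.appLE V.1 U.1 e).hom.toAlgebra
  letI algBR : Algebra Γ(X, U.1) (X.presheaf.stalk x) :=
    TopCat.Presheaf.algebra_section_stalk X.presheaf (⟨x, hxU⟩ : U.1)
  letI algAR : Algebra Γ(S, V.1) (X.presheaf.stalk x) :=
    ((algebraMap Γ(X, U.1) (X.presheaf.stalk x)).comp (algebraMap Γ(S, V.1) Γ(X, U.1))).toAlgebra
  haveI tower : IsScalarTower Γ(S, V.1) Γ(X, U.1) (X.presheaf.stalk x) :=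
    IsScalarTower.of_algebraMap_eq (fun _ => rfl)
  haveI locR : IsLocalization.AtPrime (X.presheaf.stalk x) (hU.primeIdealOf ⟨x, hxU⟩).asIdeal :=
    hU.isLocalization_stalk ⟨x, hxU⟩
  haveI fp : Algebra.FinitePresentation Γ(S, V.1) Γ(X, U.1) :=
    HasRingHomProperty.appLE (P := @LocallyOfFinitePresentation) φ inferInstance V U e
  haveI flAB : Module.Flat Γ(S, V.1) Γ(X, U.1) :=
    HasRingHomProperty.appLE (P := @Flat) φ inferInstance V U e
  haveI flBR : Module.Flat Γ(X, U.1) (X.presheaf.stalk x) :=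
    IsLocalization.flat _ (hU.primeIdealOf ⟨x, hxU⟩).asIdeal.primeCompl
  haveI flAR : Module.Flat Γ(S, V.1) (X.presheaf.stalk x) :=
    Module.Flat.trans Γ(S, V.1) Γ(X, U.1) (X.presheaf.stalk x)
  haveI flQ : Module.Flat Γ(S, V.1) (Γ(X, U.1) ⧸ 𝓘.ideal U) := by
    have h := flat_quotient_of_flat 𝓘 φ V U e
    rw [← RingHom.flat_algebraMap_iff]
    exact h
  have hfg : (𝓘.ideal U).FG := ideal_fg φ 𝓘 V U e
  -- the fibre
  obtain ⟨W, hyW, hWU, g, hg, hWg⟩ := exists_generator_le (𝓘.comap (φ.fiberι s)) (hfib s) y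
    ((φ.fiberι s) ⁻¹ᵁ U.1) hxU
  rw [ideal_comap_of_le (φ.fiberι s) 𝓘 W U hWU] at hWg
  have hcomp : ((φ.fiberι s).stalkMap y).hom.comp (X.presheaf.germ U.1 x hxU).hom =
      ((φ.fiber s).presheaf.germ W.1 y hyW).hom.comp ((φ.fiberι s).appLE U.1 W.1 hWU).hom := by
    ext b
    simp only [RingHom.coe_comp, Function.comp_apply]
    rw [Scheme.Hom.germ_stalkMap_apply]
    simp only [Scheme.Hom.appLE, homOfLE_leOfHom, CommRingCat.hom_comp, RingHom.coe_comp,
      Function.comp_apply]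
    rw [(φ.fiber s).presheaf.germ_res_apply]
  have hgn : ((φ.fiber s).presheaf.germ W.1 y hyW).hom g ∈
      nonZeroDivisors ((φ.fiber s).presheaf.stalk y) := by
    refine map_mem_nonZeroDivisors_of_flat _ ?_ hg
    letI : Algebra Γ(φ.fiber s, W.1) ((φ.fiber s).presheaf.stalk y) :=
      TopCat.Presheaf.algebra_section_stalk (φ.fiber s).presheaf (⟨y, hyW⟩ : W.1)
    haveI : IsLocalization.AtPrime ((φ.fiber s).presheaf.stalk y)
        (W.2.primeIdealOf ⟨y, hyW⟩).asIdeal := W.2.isLocalization_stalk ⟨y, hyW⟩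
    have : Module.Flat Γ(φ.fiber s, W.1) ((φ.fiber s).presheaf.stalk y) :=
      IsLocalization.flat _ (W.2.primeIdealOf ⟨y, hyW⟩).asIdeal.primeCompl
    exact (RingHom.flat_algebraMap_iff).mpr this
  have hker : RingHom.ker ((φ.fiberι s).stalkMap y).hom =
      ((hU.primeIdealOf ⟨x, hxU⟩).asIdeal.comap (algebraMap Γ(S, V.1) Γ(X, U.1))).map
        (algebraMap Γ(S, V.1) (X.presheaf.stalk x)) := by
    have h1 := chart_ideal_eq φ hU hV e x hxU
    change _ = Ideal.map (φ.stalkMap x).hom (maximalIdeal (S.presheaf.stalk (φ.base x))) at h1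
    change _ = (((hU.primeIdealOf ⟨x, hxU⟩).asIdeal.comap (φ.appLE V.1 U.1 e).hom).map
      ((X.presheaf.germ U.1 x hxU).hom.comp (φ.appLE V.1 U.1 e).hom))
    rw [h1]
    exact (le_antisymm (Groth.Agent.Lib.Helper49.map_le_ker φ s y)
      (Groth.Agent.Lib.Helper49.ker_le_map φ s y)).symm
  have hIg : ((𝓘.ideal U).map (algebraMap Γ(X, U.1) (X.presheaf.stalk x))).map
      ((φ.fiberι s).stalkMap y).hom =
      Ideal.span {((φ.fiber s).presheaf.germ W.1 y hyW).hom g} := by
    change ((𝓘.ideal U).map (X.presheaf.germ U.1 x hxU).hom).map _ = _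
    rw [Ideal.map_map, hcomp, ← Ideal.map_map, hWg, Ideal.map_span, Set.image_singleton]
  exact core (hU.primeIdealOf ⟨x, hxU⟩).asIdeal (X.presheaf.stalk x) (𝓘.ideal U) hfg
    ((φ.fiberι s).stalkMap y).hom ((φ.fiberι s).stalkMap_surjective y) hker _ hgn hIg

/-- Compatibility of germs, `appLE` and stalk maps. -/
theorem stalkMap_comp_germ {U : X.Opens} {V : S.Opens} (e : U ≤ φ ⁻¹ᵁ V) (x : X) (hxU : x ∈ U) :
    (φ.stalkMap x).hom.comp (S.presheaf.germ V (φ.base x) (e hxU)).hom =
      (X.presheaf.germ U x hxU).hom.comp (φ.appLE V U e).hom := by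
  ext a
  simp only [RingHom.coe_comp, Function.comp_apply]
  rw [Scheme.Hom.germ_stalkMap_apply]
  simp only [Scheme.Hom.appLE, homOfLE_leOfHom, CommRingCat.hom_comp, RingHom.coe_comp,
    Function.comp_apply]
  rw [X.presheaf.germ_res_apply]

set_option linter.style.haveILetI false in
open Groth.Agent.H8.RelCartier Groth.Agent.H8.EffCartier Groth.Agent.Lib.Helper18 in
/-- Principal version of the stalk claim, with flatness of the quotient. -/
theorem stalk_claim_principal [Flat φ] [LocallyOfFinitePresentation φ] (𝓘 : X.IdealSheafData)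
    (hfib : ∀ s : S, BlowUp.IsEffCartierIdeal (𝓘.comap (φ.fiberι s)))
    (V : S.affineOpens) (U : X.affineOpens) (e : U.1 ≤ φ ⁻¹ᵁ V.1)
    (f : Γ(X, U.1)) (hI : 𝓘.ideal U = Ideal.span {f})
    (x : X) (hxU : x ∈ U.1) (s : S) (y : ↥(φ.fiber s)) (hy : (φ.fiberι s).base y = x) :
    (X.presheaf.germ U.1 x hxU).hom f ∈ nonZeroDivisors (X.presheaf.stalk x) ∧
      ((Ideal.Quotient.mk (Ideal.span {(X.presheaf.germ U.1 x hxU).hom f})).comp
        ((X.presheaf.germ U.1 x hxU).hom.comp (φ.appLE V.1 U.1 e).hom)).Flat := by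
  subst hy
  set x := (φ.fiberι s).base y with hx
  have hU := U.2
  have hV := V.2
  have hsV : φ.base x ∈ V.1 := e hxU
  letI algAB : Algebra Γ(S, V.1) Γ(X, U.1) := (φ.appLE V.1 U.1 e).hom.toAlgebra
  letI algBR : Algebra Γ(X, U.1) (X.presheaf.stalk x) :=
    TopCat.Presheaf.algebra_section_stalk X.presheaf (⟨x, hxU⟩ : U.1)
  letI algAR : Algebra Γ(S, V.1) (X.presheaf.stalk x) :=
    ((algebraMap Γ(X, U.1) (X.presheaf.stalk x)).comp (algebraMap Γ(S, V.1) Γ(X, U.1))).toAlgebra
  haveI tower : IsScalarTower Γ(S, V.1) Γ(X, U.1) (X.presheaf.stalk x) :=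
    IsScalarTower.of_algebraMap_eq (fun _ => rfl)
  haveI locR : IsLocalization.AtPrime (X.presheaf.stalk x) (hU.primeIdealOf ⟨x, hxU⟩).asIdeal :=
    hU.isLocalization_stalk ⟨x, hxU⟩
  haveI fp : Algebra.FinitePresentation Γ(S, V.1) Γ(X, U.1) :=
    HasRingHomProperty.appLE (P := @LocallyOfFinitePresentation) φ inferInstance V U e
  haveI flAB : Module.Flat Γ(S, V.1) Γ(X, U.1) :=
    HasRingHomProperty.appLE (P := @Flat) φ inferInstance V U e
  haveI flBR : Module.Flat Γ(X, U.1) (X.presheaf.stalk x) :=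
    IsLocalization.flat _ (hU.primeIdealOf ⟨x, hxU⟩).asIdeal.primeCompl
  haveI flAR : Module.Flat Γ(S, V.1) (X.presheaf.stalk x) :=
    Module.Flat.trans Γ(S, V.1) Γ(X, U.1) (X.presheaf.stalk x)
  -- the fibre
  obtain ⟨W, hyW, hWU, g, hg, hWg⟩ := exists_generator_le (𝓘.comap (φ.fiberι s)) (hfib s) y
    ((φ.fiberι s) ⁻¹ᵁ U.1) hxU
  rw [ideal_comap_of_le (φ.fiberι s) 𝓘 W U hWU, hI, Ideal.map_span, Set.image_singleton] at hWg
  have hcomp : ((φ.fiberι s).stalkMap y).hom.comp (X.presheaf.germ U.1 x hxU).hom =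
      ((φ.fiber s).presheaf.germ W.1 y hyW).hom.comp ((φ.fiberι s).appLE U.1 W.1 hWU).hom := by
    ext b
    simp only [RingHom.coe_comp, Function.comp_apply]
    rw [Scheme.Hom.germ_stalkMap_apply]
    simp only [Scheme.Hom.appLE, homOfLE_leOfHom, CommRingCat.hom_comp, RingHom.coe_comp,
      Function.comp_apply]
    rw [(φ.fiber s).presheaf.germ_res_apply]
  have hgn : ((φ.fiber s).presheaf.germ W.1 y hyW).hom g ∈
      nonZeroDivisors ((φ.fiber s).presheaf.stalk y) := by
    refine map_mem_nonZeroDivisors_of_flat _ ?_ hg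
    letI : Algebra Γ(φ.fiber s, W.1) ((φ.fiber s).presheaf.stalk y) :=
      TopCat.Presheaf.algebra_section_stalk (φ.fiber s).presheaf (⟨y, hyW⟩ : W.1)
    haveI : IsLocalization.AtPrime ((φ.fiber s).presheaf.stalk y)
        (W.2.primeIdealOf ⟨y, hyW⟩).asIdeal := W.2.isLocalization_stalk ⟨y, hyW⟩
    have : Module.Flat Γ(φ.fiber s, W.1) ((φ.fiber s).presheaf.stalk y) :=
      IsLocalization.flat _ (W.2.primeIdealOf ⟨y, hyW⟩).asIdeal.primeCompl
    exact (RingHom.flat_algebraMap_iff).mpr this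
  have hker : RingHom.ker ((φ.fiberι s).stalkMap y).hom =
      ((hU.primeIdealOf ⟨x, hxU⟩).asIdeal.comap (algebraMap Γ(S, V.1) Γ(X, U.1))).map
        (algebraMap Γ(S, V.1) (X.presheaf.stalk x)) := by
    have h1 := chart_ideal_eq φ hU hV e x hxU
    change _ = Ideal.map (φ.stalkMap x).hom (maximalIdeal (S.presheaf.stalk (φ.base x))) at h1
    change _ = (((hU.primeIdealOf ⟨x, hxU⟩).asIdeal.comap (φ.appLE V.1 U.1 e).hom).map
      ((X.presheaf.germ U.1 x hxU).hom.comp (φ.appLE V.1 U.1 e).hom))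
    rw [h1]
    exact (le_antisymm (Groth.Agent.Lib.Helper49.map_le_ker φ s y)
      (Groth.Agent.Lib.Helper49.ker_le_map φ s y)).symm
  have hπf : ((φ.fiberι s).stalkMap y).hom ((X.presheaf.germ U.1 x hxU).hom f) =
      ((φ.fiber s).presheaf.germ W.1 y hyW).hom (((φ.fiberι s).appLE U.1 W.1 hWU).hom f) :=
    congrArg (fun h => h f) hcomp
  have hgmem : g ∈ Ideal.span {((φ.fiberι s).appLE U.1 W.1 hWU).hom f} :=
    hWg ▸ Ideal.subset_span rfl
  obtain ⟨v, hv⟩ := Ideal.mem_span_singleton'.mp hgmem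
  have H1 : ∀ y' : X.presheaf.stalk x, algebraMap Γ(X, U.1) (X.presheaf.stalk x) f * y' ∈
      ((hU.primeIdealOf ⟨x, hxU⟩).asIdeal.comap (algebraMap Γ(S, V.1) Γ(X, U.1))).map
        (algebraMap Γ(S, V.1) (X.presheaf.stalk x)) →
      y' ∈ ((hU.primeIdealOf ⟨x, hxU⟩).asIdeal.comap (algebraMap Γ(S, V.1) Γ(X, U.1))).map
        (algebraMap Γ(S, V.1) (X.presheaf.stalk x)) := by
    intro y' hy'
    rw [← hker, RingHom.mem_ker] at hy' ⊢
    change ((φ.fiberι s).stalkMap y).hom ((X.presheaf.germ U.1 x hxU).hom f * y') = 0 at hy'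
    rw [map_mul, hπf] at hy'
    have h0 : ((φ.fiber s).presheaf.germ W.1 y hyW).hom g *
        ((φ.fiberι s).stalkMap y).hom y' = 0 := by
      rw [← hv, map_mul, mul_assoc, hy', mul_zero]
    have := (mem_nonZeroDivisors_iff.mp hgn).1 _ h0
    exact this
  obtain ⟨h1, h2⟩ := core_principal (hU.primeIdealOf ⟨x, hxU⟩).asIdeal (X.presheaf.stalk x) f H1
  refine ⟨h1, ?_⟩
  exact (RingHom.flat_algebraMap_iff).mpr h2

/-- On a chart where `𝓘` is principal, the generator is a nonzerodivisor. -/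
theorem nzd_of_span [Flat φ] [LocallyOfFinitePresentation φ] (𝓘 : X.IdealSheafData)
    [Flat (𝓘.subschemeι ≫ φ)] [LocallyOfFinitePresentation (𝓘.subschemeι ≫ φ)]
    (hfib : ∀ s : S, BlowUp.IsEffCartierIdeal (𝓘.comap (φ.fiberι s)))
    (V : S.affineOpens) (U' : X.affineOpens) (e' : U'.1 ≤ φ ⁻¹ᵁ V.1) (f : Γ(X, U'.1))
    (hI' : 𝓘.ideal U' = Ideal.span {f}) : f ∈ nonZeroDivisors Γ(X, U'.1) := by
  rw [mem_nonZeroDivisors_iff_right]
  intro b hb
  refine TopCat.Presheaf.section_ext X.sheaf U'.1 b 0 (fun x₂ hx₂ => ?_)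
  rw [map_zero]
  obtain ⟨a₂, -, hspan₂, hnzd₂⟩ := stalk_claim φ 𝓘 hfib V U' e' x₂ hx₂
    (φ.base x₂) (φ.asFiber x₂) (φ.fiberι_asFiber x₂)
  rw [hI', Ideal.map_span, Set.image_singleton] at hspan₂
  have hmem : (X.presheaf.germ U'.1 x₂ hx₂).hom a₂ ∈
      Ideal.span {(X.presheaf.germ U'.1 x₂ hx₂).hom f} :=
    hspan₂ ▸ Ideal.subset_span rfl
  obtain ⟨v, hv⟩ := Ideal.mem_span_singleton'.mp hmem
  have h0 : (X.presheaf.germ U'.1 x₂ hx₂).hom b *
      (X.presheaf.germ U'.1 x₂ hx₂).hom a₂ = 0 := by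
    rw [← hv, mul_left_comm, ← map_mul, hb, map_zero, mul_zero]
  exact (mem_nonZeroDivisors_iff_right.mp hnzd₂) _ h0

set_option linter.style.haveILetI false in
open Groth.Agent.Lib.Helper18 in
/-- **Stacks 062Y** (S8847): a fibrewise effective Cartier ideal with flat finitely presented
closed subscheme is effective Cartier. -/
theorem main_8847 [Flat φ] [LocallyOfFinitePresentation φ] (𝓘 : X.IdealSheafData)
    [Flat (𝓘.subschemeι ≫ φ)] [LocallyOfFinitePresentation (𝓘.subschemeι ≫ φ)]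
    (hfib : ∀ s : S, BlowUp.IsEffCartierIdeal (𝓘.comap (φ.fiberι s))) :
    BlowUp.IsEffCartierIdeal 𝓘 := by
  intro x
  obtain ⟨U, V, hxU, e⟩ := exists_affineOpens_le_preimage φ x
  have hfg := ideal_fg φ 𝓘 V U e
  obtain ⟨a, haI, hspan, -⟩ := stalk_claim φ 𝓘 hfib V U e x hxU (φ.base x) (φ.asFiber x)
    (φ.fiberι_asFiber x)
  letI algBR : Algebra Γ(X, U.1) (X.presheaf.stalk x) :=
    TopCat.Presheaf.algebra_section_stalk X.presheaf (⟨x, hxU⟩ : U.1)
  haveI locR : IsLocalization.AtPrime (X.presheaf.stalk x) (U.2.primeIdealOf ⟨x, hxU⟩).asIdeal :=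
    U.2.isLocalization_stalk ⟨x, hxU⟩
  obtain ⟨h, hq, H⟩ := exists_mul_mem_span (U.2.primeIdealOf ⟨x, hxU⟩).asIdeal
    (X.presheaf.stalk x) a (𝓘.ideal U) hspan (𝓘.ideal U) hfg le_rfl
  have hxh : x ∈ X.basicOpen h := by
    rw [Scheme.mem_basicOpen _ _ _ hxU]
    exact (IsLocalization.AtPrime.isUnit_to_map_iff (X.presheaf.stalk x)
      (U.2.primeIdealOf ⟨x, hxU⟩).asIdeal h).mpr hq
  set res := (X.presheaf.map (homOfLE (X.basicOpen_le h)).op).hom with hres
  have hUU' : (X.affineBasicOpen h).1 ≤ U.1 := X.basicOpen_le h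
  have e' : (X.affineBasicOpen h).1 ≤ φ ⁻¹ᵁ V.1 := hUU'.trans e
  have hkey : Ideal.map res (𝓘.ideal U) = Ideal.span {res a} := by
    apply le_antisymm
    · rw [Ideal.map_le_iff_le_comap]
      intro b hb
      rw [Ideal.mem_comap]
      have h1 : res (h * b) ∈ Ideal.span {res a} := by
        have := Ideal.mem_map_of_mem res (H b hb)
        rwa [Ideal.map_span, Set.image_singleton] at this
      rw [map_mul] at h1
      have hu : IsUnit (res h) := X.toRingedSpace.isUnit_res_basicOpen h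
      exact (Ideal.unit_mul_mem_iff_mem _ hu).mp h1
    · rw [Ideal.span_singleton_le_iff_mem]
      exact Ideal.mem_map_of_mem _ haI
  have hI' : 𝓘.ideal (X.affineBasicOpen h) = Ideal.span {res a} :=
    (𝓘.map_ideal_basicOpen U h).symm.trans hkey
  exact ⟨X.affineBasicOpen h, hxh, res a,
    nzd_of_span φ 𝓘 hfib V (X.affineBasicOpen h) e' (res a) hI', hI'⟩

/-- A locally principal ideal sheaf is principal on small affine charts around every point
(also away from its support). -/
theorem exists_principal_chart (𝓘 : X.IdealSheafData) (hZ : Curv2.IsLocPrincipal 𝓘) (x : X) :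
    ∃ (U : X.affineOpens) (V : S.affineOpens) (_ : x ∈ U.1) (_ : U.1 ≤ φ ⁻¹ᵁ V.1)
      (f : Γ(X, U.1)), 𝓘.ideal U = Ideal.span {f} := by
  -- first: some affine neighbourhood on which the ideal is principal
  obtain ⟨U₀, hxU₀, f₀, hf₀⟩ : ∃ U₀ : X.affineOpens, x ∈ U₀.1 ∧
      ∃ f₀ : Γ(X, U₀.1), 𝓘.ideal U₀ = Ideal.span {f₀} := by
    by_cases hx : x ∈ 𝓘.support
    · exact hZ x hx
    · rw [Scheme.IdealSheafData.mem_support_iff] at hx
      push Not at hx
      obtain ⟨U₁, hU₁⟩ := hx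
      rw [Scheme.mem_zeroLocus_iff] at hU₁
      push Not at hU₁
      obtain ⟨t, ht, hxt⟩ := hU₁
      refine ⟨X.affineBasicOpen t, hxt, 1, ?_⟩
      rw [Ideal.span_singleton_one, ← 𝓘.map_ideal_basicOpen U₁ t]
      refine Ideal.eq_top_of_isUnit_mem _ (Ideal.mem_map_of_mem _ ht) ?_
      exact X.toRingedSpace.isUnit_res_basicOpen t
  -- shrink into a chart
  obtain ⟨V, hV, hsV, -⟩ := TopologicalSpace.Opens.isBasis_iff_nbhd.mp S.isBasis_affineOpens
    (show φ.base x ∈ (⊤ : S.Opens) from trivial)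
  obtain ⟨U, hU, hxU, hUle⟩ := TopologicalSpace.Opens.isBasis_iff_nbhd.mp X.isBasis_affineOpens
    (show x ∈ U₀.1 ⊓ φ ⁻¹ᵁ V from ⟨hxU₀, hsV⟩)
  have hUU₀ : U ≤ U₀.1 := hUle.trans inf_le_left
  refine ⟨⟨U, hU⟩, ⟨V, hV⟩, hxU, hUle.trans inf_le_right,
    (X.presheaf.map (homOfLE hUU₀).op).hom f₀, ?_⟩
  rw [← 𝓘.map_ideal' (U := ⟨U, hU⟩) (V := U₀) (homOfLE hUU₀).op, hf₀, Ideal.map_span,
    Set.image_singleton]

set_option linter.style.haveILetI false in
/-- **S8848**: a locally principal, fibrewise effective Cartier ideal is a relative effective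
Cartier divisor. -/
theorem main_8848 [Flat φ] [LocallyOfFinitePresentation φ] (𝓘 : X.IdealSheafData)
    (hZ : Curv2.IsLocPrincipal 𝓘)
    (hfib : ∀ s : S, BlowUp.IsEffCartierIdeal (𝓘.comap (φ.fiberι s))) :
    BlowUp.IsEffCartierIdeal 𝓘 ∧ Flat (𝓘.subschemeι ≫ φ) := by
  constructor
  · intro x
    obtain ⟨U, V, hxU, e, f, hf⟩ := exists_principal_chart φ 𝓘 hZ x
    refine ⟨U, hxU, f, ?_, hf⟩
    rw [mem_nonZeroDivisors_iff_right]
    intro b hb
    refine TopCat.Presheaf.section_ext X.sheaf U.1 b 0 (fun x₂ hx₂ => ?_)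
    rw [map_zero]
    obtain ⟨hnzd, -⟩ := stalk_claim_principal φ 𝓘 hfib V U e f hf x₂ hx₂ (φ.base x₂)
      (φ.asFiber x₂) (φ.fiberι_asFiber x₂)
    have h0 : (X.presheaf.germ U.1 x₂ hx₂).hom b * (X.presheaf.germ U.1 x₂ hx₂).hom f = 0 := by
      rw [← map_mul, hb, map_zero]
    exact (mem_nonZeroDivisors_iff_right.mp hnzd) _ h0
  · rw [Flat.iff_flat_stalkMap]
    intro z
    obtain ⟨U, V, hxU, e, f, hf⟩ := exists_principal_chart φ 𝓘 hZ (𝓘.subschemeι z)
    obtain ⟨-, hflat⟩ := stalk_claim_principal φ 𝓘 hfib V U e f hf (𝓘.subschemeι z) hxU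
      (φ.base (𝓘.subschemeι z)) (φ.asFiber (𝓘.subschemeι z)) (φ.fiberι_asFiber (𝓘.subschemeι z))
    rw [Scheme.Hom.stalkMap_comp]
    set x := 𝓘.subschemeι z with hx
    set ρ := (𝓘.subschemeι.stalkMap z).hom with hρ
    set θ := (φ.stalkMap x).hom with hθ
    set γX := (X.presheaf.germ U.1 x hxU).hom with hγX
    set γS := (S.presheaf.germ V.1 (φ.base x) (e hxU)).hom with hγS
    set α := (φ.appLE V.1 U.1 e).hom with hα
    have hsq : θ.comp γS = γX.comp α := stalkMap_comp_germ φ e x hxU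
    have hρs : Function.Surjective ρ := Groth.Agent.H8.SubschemeStalk.stalkMap_surjective 𝓘 z
    have hker : RingHom.ker ρ = Ideal.span {γX f} := by
      rw [hρ, Groth.Agent.H8.SubschemeStalk.ker_stalkMap 𝓘 z U hxU, hf, Ideal.map_span,
        Set.image_singleton]
    -- Step 1
    have h1 : (ρ.comp (γX.comp α)).Flat := by
      have hle : Ideal.span {γX f} ≤ RingHom.ker ρ := hker.ge
      set ρbar := Ideal.Quotient.lift (Ideal.span {γX f}) ρ (fun a ha => hle ha) with hρbar
      have hbij : Function.Bijective ρbar := by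
        constructor
        · rw [injective_iff_map_eq_zero]
          intro a ha
          obtain ⟨a, rfl⟩ := Ideal.Quotient.mk_surjective a
          rw [hρbar, Ideal.Quotient.lift_mk] at ha
          rw [Ideal.Quotient.eq_zero_iff_mem, ← hker]
          exact ha
        · intro c
          obtain ⟨r, rfl⟩ := hρs c
          exact ⟨Ideal.Quotient.mk _ r, Ideal.Quotient.lift_mk _ _ _⟩
      have hfac : ρ.comp (γX.comp α) =
          ρbar.comp ((Ideal.Quotient.mk (Ideal.span {γX f})).comp (γX.comp α)) := by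
        ext a
        simp [hρbar]
      rw [hfac, RingHom.Flat.comp_iff_of_bijective_left hbij]
      exact hflat
    -- Step 2
    rw [← hsq, ← RingHom.comp_assoc] at h1
    change (ρ.comp θ).Flat
    letI algAA' : Algebra Γ(S, V.1) (S.presheaf.stalk (φ.base x)) :=
      TopCat.Presheaf.algebra_section_stalk S.presheaf (⟨φ.base x, e hxU⟩ : V.1)
    haveI locS : IsLocalization.AtPrime (S.presheaf.stalk (φ.base x))
        (V.2.primeIdealOf ⟨φ.base x, e hxU⟩).asIdeal := V.2.isLocalization_stalk ⟨_, e hxU⟩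
    letI algA'C : Algebra (S.presheaf.stalk (φ.base x)) (𝓘.subscheme.presheaf.stalk z) :=
      (ρ.comp θ).toAlgebra
    letI algAC : Algebra Γ(S, V.1) (𝓘.subscheme.presheaf.stalk z) :=
      ((ρ.comp θ).comp γS).toAlgebra
    haveI : IsScalarTower Γ(S, V.1) (S.presheaf.stalk (φ.base x))
        (𝓘.subscheme.presheaf.stalk z) := IsScalarTower.of_algebraMap_eq (fun _ => rfl)
    have hA : Module.Flat Γ(S, V.1) (𝓘.subscheme.presheaf.stalk z) := h1
    exact (Module.flat_iff_of_isLocalization (S.presheaf.stalk (φ.base x))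
      (V.2.primeIdealOf ⟨φ.base x, e hxU⟩).asIdeal.primeCompl
      (𝓘.subscheme.presheaf.stalk z)).mpr hA

end Scheme

end Groth.Agent.H46.FibreCartier
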