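/-
helper46: universally schematically dense opens of flat lfp morphisms are detected on fibres
(EGA IV 11.10.10).
-/
import Mathlib
import Groth.Prelude.Def_CInt
import Groth.Agent.H46.BigOpenDense
import Groth.Agent.Lib.Helper49.FiberStalk
import Groth.Agent.H8.EffCartier

set_option autoImplicit false
universe u

open IsLocalRing

namespace Groth.Agent.H46.FibreDense

/-- (copied from S15715) an ideal of a Noetherian ring with no nonzero element killed by it contains
a nonzerodivisor. -/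
theorem exists_nonZeroDivisor_mem {R : Type*} [CommRing R] [IsNoetherianRing R] (I : Ideal R)
    (hI : ∀ y : R, (∀ r ∈ I, r * y = 0) → y = 0) : ∃ r ∈ I, r ∈ nonZeroDivisors R := by
  by_contra hcon
  push Not at hcon
  have hsub : (I : Set R) ⊆ ⋃ p ∈ associatedPrimes R R, (id p : Ideal R) := by
    simp only [id]
    rw [biUnion_associatedPrimes_eq_compl_nonZeroDivisors]
    intro r hr; exact hcon r hr
  have hfin := associatedPrimes.finite R R
  obtain ⟨p, hp, hIp⟩ := (Ideal.subset_union_prime_finite hfin ⊤ ⊤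
    (fun i hi _ _ => (AssociatedPrimes.mem_iff.mp hi).isPrime)).mp hsub
  obtain ⟨hprime, y, hy⟩ := isAssociatedPrime_iff.mp (AssociatedPrimes.mem_iff.mp hp)
  have hy0 : y = 0 := by
    apply hI
    intro r hr
    have : r ∈ (⊥ : Submodule R R).colon {y} := hy ▸ hIp hr
    rw [Submodule.mem_colon_singleton] at this
    simpa using this
  apply hprime.ne_top
  rw [hy, hy0]
  rw [Ideal.eq_top_iff_one, Submodule.mem_colon_singleton]
  simp

section Scheme

open AlgebraicGeometry CategoryTheory Limits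

/-- **Lemma L**: if every point outside `U` has a nonzerodivisor in the maximal ideal of its local
ring, then `U` is schematically dense. -/
theorem isSchematicallyDense_of_regular {P : Scheme.{u}} (U : P.Opens)
    (hU : ∀ x : P, x ∉ U → ∃ x1 ∈ maximalIdeal (P.presheaf.stalk x),
      IsSMulRegular (P.presheaf.stalk x) x1) :
    CInt.IsSchematicallyDense U := by
  intro V
  rw [injective_iff_map_eq_zero (P.presheaf.map (homOfLE (inf_le_left : V ⊓ U ≤ V)).op).hom]
  intro g hg
  by_contra hne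
  obtain ⟨x, hxV, hgx⟩ : ∃ x, ∃ hx : x ∈ V, P.presheaf.germ V x hx g ≠ 0 := by
    by_contra hcon
    simp only [not_exists, not_not] at hcon
    exact hne (TopCat.Presheaf.section_ext P.sheaf V g 0
      (fun x hx => (hcon x hx).trans (map_zero _).symm))
  obtain ⟨W, hW, hxW, hWV0⟩ := exists_isAffineOpen_mem_and_subset (x := x) (U := V) hxV
  have hWV : W ≤ V := hWV0
  set gW : Γ(P, W) := P.presheaf.map (homOfLE hWV).op g with hgWdef
  have hgW : gW ≠ 0 := by
    intro h0
    apply hgx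
    have h1 := P.presheaf.germ_res_apply (homOfLE hWV) x hxW g
    rw [← h1]
    change P.presheaf.germ W x hxW gW = 0
    rw [h0, map_zero]
  obtain ⟨𝔮, hprime, H⟩ := Groth.Agent.H46.BigOpenDense.exists_prime_ann gW hgW
  let z : W := hW.isoSpec.inv.base ⟨𝔮, hprime⟩
  have hz : hW.primeIdealOf z = ⟨𝔮, hprime⟩ := by
    simp only [IsAffineOpen.primeIdealOf, z]
    rw [← Scheme.Hom.comp_apply, Iso.inv_hom_id]
    rfl
  letI : Algebra Γ(P, W) (P.presheaf.stalk z.1) :=
    TopCat.Presheaf.algebra_section_stalk P.presheaf z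
  haveI : IsLocalization.AtPrime (P.presheaf.stalk z.1) 𝔮 := by
    have h := hW.isLocalization_stalk z
    rwa [hz] at h
  obtain ⟨hne0, hnil⟩ := H (P.presheaf.stalk z.1)
  have hzU : z.1 ∉ U := by
    intro hzU
    apply hne0
    change P.presheaf.germ W z.1 z.2 gW = 0
    rw [hgWdef, P.presheaf.germ_res_apply (homOfLE hWV) z.1 z.2 g]
    have h2 := P.presheaf.germ_res_apply (homOfLE (inf_le_left : V ⊓ U ≤ V)) z.1
      ⟨hWV z.2, hzU⟩ g
    rw [← h2]
    have hg' : (P.presheaf.map (homOfLE (inf_le_left : V ⊓ U ≤ V)).op) g = 0 := hg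
    rw [hg', map_zero]
  obtain ⟨x1, hx1m, hx1reg⟩ := hU z.1 hzU
  obtain ⟨n, hn⟩ := hnil x1 hx1m
  apply hne0
  apply (hx1reg.pow n)
  simp only [smul_eq_mul, mul_zero]
  exact hn

set_option linter.style.haveILetI false in
/-- **Lemma N**: on a locally Noetherian scheme, a point outside a schematically dense open has a
nonzerodivisor in the maximal ideal of its local ring. -/
theorem exists_regular_of_dense {Y : Scheme.{u}} [IsLocallyNoetherian Y] (W : Y.Opens)
    (hW : CInt.IsSchematicallyDense W) (y : Y) (hy : y ∉ W) :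
    ∃ t ∈ maximalIdeal (Y.presheaf.stalk y), t ∈ nonZeroDivisors (Y.presheaf.stalk y) := by
  apply exists_nonZeroDivisor_mem
  intro c hc
  by_contra hc0
  obtain ⟨V₀, hV₀, hyV₀, -⟩ := exists_isAffineOpen_mem_and_subset (x := y) (U := ⊤) trivial
  haveI : IsNoetherianRing Γ(Y, V₀) := IsLocallyNoetherian.component_noetherian ⟨V₀, hV₀⟩
  letI : Algebra Γ(Y, V₀) (Y.presheaf.stalk y) :=
    TopCat.Presheaf.algebra_section_stalk Y.presheaf (⟨y, hyV₀⟩ : V₀)
  set q : Ideal Γ(Y, V₀) := (hV₀.primeIdealOf ⟨y, hyV₀⟩).asIdeal with hq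
  haveI : IsLocalization.AtPrime (Y.presheaf.stalk y) q := hV₀.isLocalization_stalk ⟨y, hyV₀⟩
  obtain ⟨⟨c₀, u⟩, hcu⟩ := IsLocalization.surj q.primeCompl c
  simp only at hcu
  have hqfg : q.FG := IsNoetherian.noetherian q
  -- a multiple of `c₀` killed by `q`
  have key : ∀ (N : Submodule Γ(Y, V₀) Γ(Y, V₀)), N.FG → N ≤ q →
      ∃ u' ∉ q, ∀ t ∈ N, u' * t * c₀ = 0 := by
    intro N hN
    refine Submodule.fg_induction
      (motive := fun N _ => N ≤ q → ∃ u' ∉ q, ∀ t ∈ N, u' * t * c₀ = 0) ?_ ?_ N hN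
    · intro t ht
      have htq : t ∈ q := ht (Submodule.subset_span rfl)
      have h1 : algebraMap Γ(Y, V₀) (Y.presheaf.stalk y) t ∈ maximalIdeal (Y.presheaf.stalk y) :=
        (IsLocalization.AtPrime.to_map_mem_maximal_iff (Y.presheaf.stalk y) q t).mpr htq
      have h2 : algebraMap Γ(Y, V₀) (Y.presheaf.stalk y) (t * c₀) = 0 := by
        rw [map_mul, ← hcu, ← mul_assoc, hc _ h1, zero_mul]
      obtain ⟨m, hm⟩ := (IsLocalization.map_eq_zero_iff q.primeCompl (Y.presheaf.stalk y) _).mp h2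
      refine ⟨m, m.2, fun b hb => ?_⟩
      obtain ⟨r, rfl⟩ := Submodule.mem_span_singleton.mp hb
      rw [smul_eq_mul]
      have : (m : Γ(Y, V₀)) * (r * t) * c₀ = r * (m * (t * c₀)) := by ring
      rw [this, hm, mul_zero]
    · intro M₁ M₂ _ _ h₁ h₂ hle
      obtain ⟨k₁, hk₁, H₁⟩ := h₁ (le_sup_left.trans hle)
      obtain ⟨k₂, hk₂, H₂⟩ := h₂ (le_sup_right.trans hle)
      refine ⟨k₁ * k₂, fun hmem => ?_, fun b hb => ?_⟩
      · rcases Ideal.IsPrime.mem_or_mem inferInstance hmem with h' | h'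
        · exact hk₁ h'
        · exact hk₂ h'
      · obtain ⟨b₁, hb₁, b₂, hb₂, rfl⟩ := Submodule.mem_sup.mp hb
        have : k₁ * k₂ * (b₁ + b₂) * c₀ = k₂ * (k₁ * b₁ * c₀) + k₁ * (k₂ * b₂ * c₀) := by ring
        rw [this, H₁ b₁ hb₁, H₂ b₂ hb₂, mul_zero, mul_zero, add_zero]
  obtain ⟨u', hu', Hu'⟩ := key q hqfg le_rfl
  set c₁ : Γ(Y, V₀) := u' * c₀ with hc₁
  have hc₁ne : c₁ ≠ 0 := by
    intro h0
    apply hc0
    have h1 : algebraMap Γ(Y, V₀) (Y.presheaf.stalk y) c₁ = 0 := by rw [h0, map_zero]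
    rw [hc₁, map_mul, ← hcu, ← mul_assoc, mul_comm _ c, mul_assoc] at h1
    have hunit : IsUnit (algebraMap Γ(Y, V₀) (Y.presheaf.stalk y) u' *
        algebraMap Γ(Y, V₀) (Y.presheaf.stalk y) u) :=
      (IsLocalization.map_units (Y.presheaf.stalk y) (⟨u', hu'⟩ : q.primeCompl)).mul
        (IsLocalization.map_units (Y.presheaf.stalk y) u)
    exact (hunit.mul_left_eq_zero).mp h1
  have hkill : ∀ t ∈ q, t * c₁ = 0 := by
    intro t ht
    rw [hc₁, ← mul_assoc, mul_comm t u']
    exact Hu' t ht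
  -- `c₁` vanishes on `V₀ ⊓ W`
  apply hc₁ne
  apply hW V₀
  rw [map_zero]
  refine TopCat.Presheaf.section_ext Y.sheaf (V₀ ⊓ W) _ 0 (fun w hw => ?_)
  refine Eq.trans ?_ (map_zero _).symm
  change Y.presheaf.germ (V₀ ⊓ W) w hw (Y.presheaf.map (homOfLE inf_le_left).op c₁) = 0
  rw [Y.presheaf.germ_res_apply (homOfLE (inf_le_left : V₀ ⊓ W ≤ V₀)) w hw c₁]
  letI : Algebra Γ(Y, V₀) (Y.presheaf.stalk w) :=
    TopCat.Presheaf.algebra_section_stalk Y.presheaf (⟨w, hw.1⟩ : V₀)
  haveI : IsLocalization.AtPrime (Y.presheaf.stalk w) (hV₀.primeIdealOf ⟨w, hw.1⟩).asIdeal :=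
    hV₀.isLocalization_stalk ⟨w, hw.1⟩
  obtain ⟨t, htq, htw⟩ : ∃ t ∈ q, t ∉ (hV₀.primeIdealOf ⟨w, hw.1⟩).asIdeal := by
    by_contra hcon
    push Not at hcon
    have hle : hV₀.primeIdealOf ⟨y, hyV₀⟩ ≤ hV₀.primeIdealOf ⟨w, hw.1⟩ := hcon
    have hsp := (PrimeSpectrum.le_iff_specializes _ _).mp hle
    have hsp2 := hsp.map hV₀.fromSpec.continuous
    rw [hV₀.fromSpec_primeIdealOf, hV₀.fromSpec_primeIdealOf] at hsp2
    exact hy (hsp2.mem_open W.2 hw.2)
  have hunit : IsUnit (algebraMap Γ(Y, V₀) (Y.presheaf.stalk w) t) :=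
    IsLocalization.map_units (Y.presheaf.stalk w)
      (⟨t, htw⟩ : (hV₀.primeIdealOf ⟨w, hw.1⟩).asIdeal.primeCompl)
  have h0 : algebraMap Γ(Y, V₀) (Y.presheaf.stalk w) t *
      algebraMap Γ(Y, V₀) (Y.presheaf.stalk w) c₁ = 0 := by
    rw [← map_mul, hkill t htq, map_zero]
  exact (hunit.mul_right_eq_zero).mp h0

/-- The fibre of a base change maps flatly to the fibre of the original morphism. -/
theorem exists_fibre_map {X S S' : Scheme.{u}} (φ : X ⟶ S) (g : S' ⟶ S) (s' : S') :
    ∃ μ : (pullback.snd φ g).fiber s' ⟶ φ.fiber (g s'),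
      Flat μ ∧ μ ≫ φ.fiberι (g s') = (pullback.snd φ g).fiberι s' ≫ pullback.fst φ g := by
  set π' := pullback.snd φ g with hπ'
  have h1 : IsPullback (π'.fiberι s') (π'.fiberToSpecResidueField s') π'
      (S'.fromSpecResidueField s') := IsPullback.of_hasPullback _ _
  have h2 : IsPullback (pullback.fst φ g) π' φ g := IsPullback.of_hasPullback φ g
  have h12 : IsPullback (π'.fiberι s' ≫ pullback.fst φ g) (π'.fiberToSpecResidueField s') φ
      (S'.fromSpecResidueField s' ≫ g) := h1.paste_horiz h2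
  have hres : S'.fromSpecResidueField s' ≫ g =
      Spec.map (g.residueFieldMap s') ≫ S.fromSpecResidueField (g s') :=
    (Scheme.Hom.SpecMap_residueFieldMap_fromSpecResidueField g s').symm
  have h3 : IsPullback (φ.fiberι (g s')) (φ.fiberToSpecResidueField (g s')) φ
      (S.fromSpecResidueField (g s')) := IsPullback.of_hasPullback _ _
  have hcomm : (π'.fiberι s' ≫ pullback.fst φ g) ≫ φ =
      (π'.fiberToSpecResidueField s' ≫ Spec.map (g.residueFieldMap s')) ≫
        S.fromSpecResidueField (g s') := by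
    rw [Category.assoc (π'.fiberToSpecResidueField s'), ← hres]
    exact h12.w
  set μ := h3.lift _ _ hcomm with hμ
  have hμ1 : μ ≫ φ.fiberι (g s') = π'.fiberι s' ≫ pullback.fst φ g := h3.lift_fst _ _ hcomm
  have hμ2 : μ ≫ φ.fiberToSpecResidueField (g s') =
      π'.fiberToSpecResidueField s' ≫ Spec.map (g.residueFieldMap s') := h3.lift_snd _ _ hcomm
  have hbig : IsPullback (μ ≫ φ.fiberι (g s')) (π'.fiberToSpecResidueField s') φ
      (Spec.map (g.residueFieldMap s') ≫ S.fromSpecResidueField (g s')) := by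
    rw [hμ1, ← hres]
    exact h12
  have hleft : IsPullback μ (π'.fiberToSpecResidueField s') (φ.fiberToSpecResidueField (g s'))
      (Spec.map (g.residueFieldMap s')) := IsPullback.of_right hbig hμ2 h3
  have hflat : Flat (Spec.map (g.residueFieldMap s')) := inferInstance
  exact ⟨μ, MorphismProperty.of_isPullback hleft.flip hflat, hμ1⟩

set_option linter.style.haveILetI false in
/-- EGA IV 11.10.10, the nontrivial direction. -/
theorem dense_of_fibrewise {X S : Scheme.{u}} (φ : X ⟶ S) [Flat φ]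
    [LocallyOfFinitePresentation φ] (U : X.Opens)
    (h : ∀ s : S, CInt.IsSchematicallyDense ((φ.fiberι s) ⁻¹ᵁ U)) (S' : Scheme.{u}) (g : S' ⟶ S) :
    CInt.IsSchematicallyDense ((pullback.fst φ g) ⁻¹ᵁ U) := by
  set π' := pullback.snd φ g with hπ'
  haveI : Flat π' := inferInstance
  haveI : LocallyOfFinitePresentation π' := inferInstance
  apply isSchematicallyDense_of_regular
  intro x hx
  have key : ∀ (s' : S') (y : ↥(π'.fiber s')) (x₁ : ↥(pullback φ g)),
      (π'.fiberι s').base y = x₁ → x₁ ∉ (pullback.fst φ g) ⁻¹ᵁ U →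
      ∃ x1 ∈ maximalIdeal ((pullback φ g).presheaf.stalk x₁),
        IsSMulRegular ((pullback φ g).presheaf.stalk x₁) x1 := by
    intro s' y x₁ hy hx₁
    subst hy
    obtain ⟨μ, hμflat, hμ⟩ := exists_fibre_map φ g s'
    have hy₀ : μ.base y ∉ (φ.fiberι (g s')) ⁻¹ᵁ U := by
      intro hmem
      apply hx₁
      have e1 : (φ.fiberι (g s')).base (μ.base y) =
          (pullback.fst φ g).base ((π'.fiberι s').base y) := by
        rw [← Scheme.Hom.comp_apply, hμ, Scheme.Hom.comp_apply]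
      change (pullback.fst φ g).base ((π'.fiberι s').base y) ∈ U
      rw [← e1]
      exact hmem
    haveI : LocallyOfFinitePresentation (φ.fiberToSpecResidueField (g s')) :=
      (inferInstance : LocallyOfFinitePresentation
        (pullback.snd φ (S.fromSpecResidueField (g s'))))
    haveI : IsLocallyNoetherian (φ.fiber (g s')) :=
      LocallyOfFiniteType.isLocallyNoetherian (φ.fiberToSpecResidueField (g s'))
    obtain ⟨t, htm, htn⟩ := exists_regular_of_dense _ (h (g s')) (μ.base y) hy₀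
    have ht'n : (μ.stalkMap y).hom t ∈ nonZeroDivisors ((π'.fiber s').presheaf.stalk y) :=
      Groth.Agent.H8.EffCartier.map_mem_nonZeroDivisors_of_flat _ (Flat.stalkMap μ y) htn
    have ht'm : (μ.stalkMap y).hom t ∈ maximalIdeal ((π'.fiber s').presheaf.stalk y) := by
      have h0 : IsLocalHom (μ.stalkMap y).hom := inferInstance
      have h1 : (maximalIdeal ((φ.fiber (g s')).presheaf.stalk (μ.base y))).map
          (μ.stalkMap y).hom ≤ maximalIdeal ((π'.fiber s').presheaf.stalk y) :=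
        ((IsLocalRing.local_hom_TFAE (μ.stalkMap y).hom).out 0 2).mp h0
      exact h1 (Ideal.mem_map_of_mem _ htm)
    obtain ⟨x1, hx1⟩ := (π'.fiberι s').stalkMap_surjective y ((μ.stalkMap y).hom t)
    have hker := le_antisymm (Groth.Agent.Lib.Helper49.map_le_ker π' s' y)
      (Groth.Agent.Lib.Helper49.ker_le_map π' s' y)
    refine ⟨x1, ?_, (Groth.Agent.H46.FibreDepthTwo.lift π' _).1 x1 ?_⟩
    · by_contra hnm
      have hu : IsUnit x1 := by
        by_contra hnu
        exact hnm ((IsLocalRing.mem_maximalIdeal _).mpr hnu)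
      have hu' := hu.map ((π'.fiberι s').stalkMap y).hom
      rw [hx1] at hu'
      exact ((IsLocalRing.mem_maximalIdeal _).mp ht'm) hu'
    · intro z hz
      rw [hker, RingHom.mem_ker] at hz ⊢
      rw [map_mul, hx1] at hz
      exact (mem_nonZeroDivisors_iff.mp ht'n).1 _ hz
  exact key (π'.base x) (π'.asFiber x) x (π'.fiberι_asFiber x) hx

/-- **EGA IV 11.10.10** (S4871). -/
theorem main_4871 {X S : Scheme.{u}} (φ : X ⟶ S) [Flat φ]
    [LocallyOfFinitePresentation φ] (U : X.Opens) :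
    (∀ (S' : Scheme.{u}) (g : S' ⟶ S), CInt.IsSchematicallyDense ((pullback.fst φ g) ⁻¹ᵁ U)) ↔
      ∀ s : S, CInt.IsSchematicallyDense ((φ.fiberι s) ⁻¹ᵁ U) :=
  ⟨fun H s => H _ (S.fromSpecResidueField s), fun H S' g => dense_of_fibrewise φ U H S' g⟩

end Scheme

end Groth.Agent.H46.FibreDense
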