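/-
helper46: dimension inequality for local homomorphisms and fibre local rings of a composite (S14109).
-/
import Mathlib
import Groth.Agent.H46.DepthAlong

set_option autoImplicit false
universe u

open AlgebraicGeometry CategoryTheory Limits

namespace Groth.Agent.H46.FibreGeneric

open Groth.Agent.Lib.Helper29 Groth.Agent.H46.CMFlatLocal IsLocalRing

section Local

variable (A B : Type u) [CommRing A] [CommRing B] [IsLocalRing A] [IsLocalRing B]
  [IsNoetherianRing A] [IsNoetherianRing B] [Algebra A B]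
  [IsLocalHom (algebraMap A B)]

/-- Dimension inequality for a local homomorphism: `dim B ≤ dim A + dim B/m_A B`. -/
theorem ringKrullDim_le_add :
    ringKrullDim B ≤ ringKrullDim A +
      ringKrullDim (B ⧸ (maximalIdeal A).map (algebraMap A B)) := by
  have h1 := Ideal.height_le_height_add_of_liesOver (maximalIdeal A) (maximalIdeal B)
  have hne : (maximalIdeal A).map (algebraMap A B) ≠ ⊤ :=
    ((map_maximalIdeal_le (algebraMap A B)).trans_lt (maximalIdeal.isMaximal B).lt_top).ne
  have : Nontrivial (B ⧸ (maximalIdeal A).map (algebraMap A B)) :=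
    Ideal.Quotient.nontrivial_iff.mpr hne
  have hloc : IsLocalRing (B ⧸ (maximalIdeal A).map (algebraMap A B)) :=
    IsLocalRing.of_surjective' _ Ideal.Quotient.mk_surjective
  have h2 : (maximalIdeal B).map (Ideal.Quotient.mk ((maximalIdeal A).map (algebraMap A B))) =
      maximalIdeal (B ⧸ (maximalIdeal A).map (algebraMap A B)) := by
    have hmax : ((maximalIdeal B).map
        (Ideal.Quotient.mk ((maximalIdeal A).map (algebraMap A B)))).IsMaximal := by
      apply Ideal.IsMaximal.map_of_surjective_of_ker_le Ideal.Quotient.mk_surjective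
      rw [Ideal.mk_ker]
      exact map_maximalIdeal_le (algebraMap A B)
    exact (IsLocalRing.eq_maximalIdeal hmax)
  rw [h2] at h1
  rw [← IsLocalRing.maximalIdeal_height_eq_ringKrullDim,
    ← IsLocalRing.maximalIdeal_height_eq_ringKrullDim,
    ← IsLocalRing.maximalIdeal_height_eq_ringKrullDim]
  exact_mod_cast h1

end Local

section Comp

variable (A B C : Type u) [CommRing A] [CommRing B] [CommRing C] [IsLocalRing A] [IsLocalRing B]
  [IsLocalRing C] [Algebra A B] [Algebra B C] [Algebra A C] [IsScalarTower A B C]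
  [IsLocalHom (algebraMap A B)] [IsLocalHom (algebraMap B C)]
  [IsNoetherianRing B] [IsNoetherianRing C]

/-- `dim (C / m_A C) ≤ dim (B / m_A B) + dim (C / m_B C)`. -/
theorem dim_fib_le_add :
    ringKrullDim (C ⧸ (maximalIdeal A).map (algebraMap A C)) ≤
      ringKrullDim (B ⧸ (maximalIdeal A).map (algebraMap A B)) +
        ringKrullDim (C ⧸ (maximalIdeal B).map (algebraMap B C)) := by
  have hI : (maximalIdeal A).map (algebraMap A B) ≤ maximalIdeal B :=
    map_maximalIdeal_le (algebraMap A B)
  have hJ := map_map_maximalIdeal A B C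
  haveI hlB := isLocalRing_quot B _ hI
  haveI hlC := isLocalRing_quot C _ (map_le_maximalIdeal B C _ hI)
  haveI := isLocalHom_quot B C _ hI
  haveI : IsNoetherianRing (B ⧸ (maximalIdeal A).map (algebraMap A B)) :=
    isNoetherianRing_of_surjective B _ (Ideal.Quotient.mk _) Ideal.Quotient.mk_surjective
  haveI : IsNoetherianRing
      (C ⧸ ((maximalIdeal A).map (algebraMap A B)).map (algebraMap B C)) :=
    isNoetherianRing_of_surjective C _ (Ideal.Quotient.mk _) Ideal.Quotient.mk_surjective
  have h := ringKrullDim_le_add (B ⧸ (maximalIdeal A).map (algebraMap A B))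
    (C ⧸ ((maximalIdeal A).map (algebraMap A B)).map (algebraMap B C))
  rw [← ringKrullDim_eq_of_ringEquiv (Ideal.quotEquivOfEq hJ)]
  refine h.trans (le_of_eq ?_)
  congr 1
  exact ringKrullDim_eq_of_ringEquiv (fibRingQuotEquiv B C _ hI)

end Comp

/-- dim-zero version of `exists_generization_fiber_depth_zero`. -/
theorem exists_generization_fiber_dim_zero {X X' : Scheme.{u}} (g : X' ⟶ X) (z'' : X') :
    ∃ z' : X', z' ⤳ z'' ∧ g z' = g z'' ∧ ringKrullDim ↑(CInt.fiberStalk g z') = 0 := by
  obtain ⟨w, hw, hwmax⟩ := Groth.Agent.Lib.Helper21.exists_maximal_generization (g.asFiber z'')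
  refine ⟨g.fiberι (g z'') w, ?_, ?_, ?_⟩
  · have := hw.map (g.fiberι (g z'')).continuous
    rwa [Scheme.Hom.fiberι_asFiber] at this
  · have h1 : g.fiberι (g z'') w ∈ Set.range (g.fiberι (g z'')) := ⟨w, rfl⟩
    rw [Scheme.Hom.range_fiberι] at h1
    exact h1
  · have hdim := Groth.Agent.H46.DepthAlong.ringKrullDim_stalk_eq_zero_of_maximal w hwmax
    obtain ⟨e1⟩ := Groth.Agent.H46.CMAt.nonempty_fibreStalk_equiv g (g.fiberι (g z'') w)
    have e2 := Groth.Agent.H46.CMAt.fibreStalkEquiv g (g z'') w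
    rw [← ringKrullDim_eq_of_ringEquiv (e2.symm.trans e1), hdim]

/-- S14109. -/
theorem main_14109 {X X' S : Scheme.{u}} [IsLocallyNoetherian X]
    [IsLocallyNoetherian X'] (f : X ⟶ S) (g : X' ⟶ X) [Surjective g]
    (Y : Set ↥X) :
    (⨅ y' : (fun x' => g x') ⁻¹' Y, ringKrullDim ↑(CInt.fiberStalk (g ≫ f) y'.1)) ≤
      ⨅ y : Y, ringKrullDim ↑(CInt.fiberStalk f y.1) := by
  refine le_iInf fun ⟨y, hy⟩ => ?_
  obtain ⟨z'', rfl⟩ := g.surjective y
  obtain ⟨x, -, hgx, hdim⟩ := exists_generization_fiber_dim_zero g z''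
  have hmem : x ∈ (fun x' => g x') ⁻¹' Y := by
    change g x ∈ Y
    rw [hgx]; exact hy
  refine (iInf_le _ (⟨x, hmem⟩ : (fun x' => g x') ⁻¹' Y)).trans ?_
  change ringKrullDim ↑(CInt.fiberStalk (g ≫ f) x) ≤ ringKrullDim ↑(CInt.fiberStalk f (g z''))
  have key : ∀ y1 : X, g x = y1 →
      ringKrullDim ↑(CInt.fiberStalk (g ≫ f) x) ≤ ringKrullDim ↑(CInt.fiberStalk f y1) := by
    rintro _ rfl
    obtain ⟨e1⟩ := Groth.Agent.H46.CMAt.nonempty_fibreStalk_equiv f (g x)
    obtain ⟨e2⟩ := Groth.Agent.H46.CMAt.nonempty_fibreStalk_equiv (g ≫ f) x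
    obtain ⟨e3⟩ := Groth.Agent.H46.CMAt.nonempty_fibreStalk_equiv g x
    rw [← ringKrullDim_eq_of_ringEquiv e1, ← ringKrullDim_eq_of_ringEquiv e2]
    rw [← ringKrullDim_eq_of_ringEquiv e3] at hdim
    have hcomp : ((g ≫ f).stalkMap x) = f.stalkMap (g x) ≫ g.stalkMap x :=
      Scheme.Hom.stalkMap_comp g f x
    letI algAB : Algebra (S.presheaf.stalk (f.base (g.base x))) (X.presheaf.stalk (g.base x)) :=
      (f.stalkMap (g.base x)).hom.toAlgebra
    letI algBC : Algebra (X.presheaf.stalk (g.base x)) (X'.presheaf.stalk x) :=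
      (g.stalkMap x).hom.toAlgebra
    letI algAC : Algebra (S.presheaf.stalk (f.base (g.base x))) (X'.presheaf.stalk x) :=
      ((g.stalkMap x).hom.comp (f.stalkMap (g.base x)).hom).toAlgebra
    haveI : IsScalarTower (S.presheaf.stalk (f.base (g.base x))) (X.presheaf.stalk (g.base x))
        (X'.presheaf.stalk x) := IsScalarTower.of_algebraMap_eq (fun _ => rfl)
    haveI : IsLocalHom (algebraMap (S.presheaf.stalk (f.base (g.base x)))
        (X.presheaf.stalk (g.base x))) :=
      inferInstanceAs (IsLocalHom (f.stalkMap (g.base x)).hom)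
    haveI : IsLocalHom (algebraMap (X.presheaf.stalk (g.base x)) (X'.presheaf.stalk x)) :=
      inferInstanceAs (IsLocalHom (g.stalkMap x).hom)
    have hmapeq : ((g ≫ f).stalkMap x).hom =
        (g.stalkMap x).hom.comp (f.stalkMap (g.base x)).hom := by
      rw [hcomp]; rfl
    have hideal : Ideal.map ((g ≫ f).stalkMap x).hom
        (maximalIdeal (S.presheaf.stalk ((g ≫ f).base x))) =
        Ideal.map (algebraMap (S.presheaf.stalk (f.base (g.base x))) (X'.presheaf.stalk x))
          (maximalIdeal (S.presheaf.stalk (f.base (g.base x)))) := by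
      rw [hmapeq]; rfl
    rw [ringKrullDim_eq_of_ringEquiv (Ideal.quotEquivOfEq hideal)]
    have h := dim_fib_le_add (S.presheaf.stalk (f.base (g.base x))) (X.presheaf.stalk (g.base x))
      (X'.presheaf.stalk x)
    have hdim' : ringKrullDim (X'.presheaf.stalk x ⧸
        (maximalIdeal (X.presheaf.stalk (g.base x))).map
          (algebraMap (X.presheaf.stalk (g.base x)) (X'.presheaf.stalk x))) = 0 := hdim
    rw [hdim', add_zero] at h
    exact h
  exact key _ hgx

end Groth.Agent.H46.FibreGeneric
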