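/-
helper46: relative codimension of a closed subset under base change (S14105).
-/
import Mathlib
import Groth.Prelude.Def_CInt
import Groth.Agent.H46.FibreGeneric
import Groth.Agent.H46.FibreDense
import Groth.Agent.Lib.Helper9.Hens.Dimension

set_option autoImplicit false
universe u

open AlgebraicGeometry CategoryTheory Limits IsLocalRing

namespace Groth.Agent.H46.FibreCodimBC

/-- The dimension of the local ring of a fibre at a point over `y` is that of `fiberStalk f y`. -/
theorem dim_stalk_eq {X S : Scheme.{u}} (f : X ⟶ S) (s : S) (z : ↥(f.fiber s)) (y : X)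
    (h : (f.fiberι s).base z = y) :
    ringKrullDim ((f.fiber s).presheaf.stalk z) = ringKrullDim (CInt.fiberStalk f y) := by
  subst h
  obtain ⟨e1⟩ := Groth.Agent.H46.CMAt.nonempty_fibreStalk_equiv f ((f.fiberι s).base z)
  have e2 := Groth.Agent.H46.CMAt.fibreStalkEquiv f s z
  exact ringKrullDim_eq_of_ringEquiv (e2.symm.trans e1)

/-- Local rings of fibres of a morphism from a locally Noetherian scheme are Noetherian. -/
theorem isNoetherianRing_stalk_fiber {X S : Scheme.{u}} [IsLocallyNoetherian X] (f : X ⟶ S) (s : S)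
    (z : ↥(f.fiber s)) : IsNoetherianRing ((f.fiber s).presheaf.stalk z) := by
  have e2 := Groth.Agent.H46.CMAt.fibreStalkEquiv f s z
  haveI : IsNoetherianRing (X.presheaf.stalk ((f.fiberι s).base z)) := inferInstance
  exact isNoetherianRing_of_ringEquiv _ e2

set_option linter.style.haveILetI false in
theorem dim_le {X S S' : Scheme.{u}} (f : X ⟶ S) (g : S' ⟶ S) (y' : ↥(pullback f g)) :
    ringKrullDim (CInt.fiberStalk f ((pullback.fst f g).base y')) ≤
      ringKrullDim (CInt.fiberStalk (pullback.snd f g) y') := by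
  set π' := pullback.snd f g with hπ'
  obtain ⟨μ, hμflat, hμ⟩ := Groth.Agent.H46.FibreDense.exists_fibre_map f g (π'.base y')
  have hw : (f.fiberι (g.base (π'.base y'))).base (μ.base (π'.asFiber y')) =
      (pullback.fst f g).base y' := by
    rw [← Scheme.Hom.comp_apply, hμ, Scheme.Hom.comp_apply, Scheme.Hom.fiberι_asFiber]
  rw [← dim_stalk_eq f _ _ _ hw]
  change _ ≤ ringKrullDim ((π'.fiber (π'.base y')).presheaf.stalk (π'.asFiber y'))
  letI alg : Algebra ((f.fiber (g.base (π'.base y'))).presheaf.stalk (μ.base (π'.asFiber y')))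
      ((π'.fiber (π'.base y')).presheaf.stalk (π'.asFiber y')) :=
    (μ.stalkMap (π'.asFiber y')).hom.toAlgebra
  haveI : Module.Flat ((f.fiber (g.base (π'.base y'))).presheaf.stalk (μ.base (π'.asFiber y')))
      ((π'.fiber (π'.base y')).presheaf.stalk (π'.asFiber y')) := Flat.stalkMap μ (π'.asFiber y')
  haveI : IsLocalHom (algebraMap
      ((f.fiber (g.base (π'.base y'))).presheaf.stalk (μ.base (π'.asFiber y')))
      ((π'.fiber (π'.base y')).presheaf.stalk (π'.asFiber y'))) :=
    inferInstanceAs (IsLocalHom (μ.stalkMap (π'.asFiber y')).hom)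
  haveI : Module.FaithfullyFlat
      ((f.fiber (g.base (π'.base y'))).presheaf.stalk (μ.base (π'.asFiber y')))
      ((π'.fiber (π'.base y')).presheaf.stalk (π'.asFiber y')) :=
    Module.FaithfullyFlat.of_flat_of_isLocalHom
  exact Groth.Agent.Lib.Helper9.ringKrullDim_le_of_faithfullyFlat

set_option linter.style.haveILetI false in
theorem exists_dim_le {X S S' : Scheme.{u}} [IsLocallyNoetherian X] (f : X ⟶ S) (g : S' ⟶ S)
    [IsLocallyNoetherian (pullback f g)] (y' : ↥(pullback f g)) :
    ∃ y'' : ↥(pullback f g), (pullback.fst f g).base y'' = (pullback.fst f g).base y' ∧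
      ringKrullDim (CInt.fiberStalk (pullback.snd f g) y'') ≤
        ringKrullDim (CInt.fiberStalk f ((pullback.fst f g).base y')) := by
  set π' := pullback.snd f g with hπ'
  obtain ⟨μ, hμflat, hμ⟩ := Groth.Agent.H46.FibreDense.exists_fibre_map f g (π'.base y')
  obtain ⟨z'', -, hz'', hdim⟩ :=
    Groth.Agent.H46.FibreGeneric.exists_generization_fiber_dim_zero μ (π'.asFiber y')
  have h1 : ∀ z : ↥(π'.fiber (π'.base y')),
      (pullback.fst f g).base ((π'.fiberι (π'.base y')).base z) =
        (f.fiberι (g.base (π'.base y'))).base (μ.base z) := by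
    intro z
    rw [← Scheme.Hom.comp_apply, ← hμ, Scheme.Hom.comp_apply]
  have hfst : (pullback.fst f g).base ((π'.fiberι (π'.base y')).base z'') =
      (pullback.fst f g).base y' := by
    rw [h1 z'']
    have : μ.base z'' = μ.base (π'.asFiber y') := hz''
    rw [this, ← h1, Scheme.Hom.fiberι_asFiber]
  refine ⟨(π'.fiberι (π'.base y')).base z'', hfst, ?_⟩
  rw [← dim_stalk_eq π' (π'.base y') z'' _ rfl,
    ← dim_stalk_eq f (g.base (π'.base y')) (μ.base z'') ((pullback.fst f g).base y')
      ((h1 z'').symm.trans hfst)]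
  haveI := isNoetherianRing_stalk_fiber f (g.base (π'.base y')) (μ.base z'')
  haveI := isNoetherianRing_stalk_fiber π' (π'.base y') z''
  letI alg : Algebra ((f.fiber (g.base (π'.base y'))).presheaf.stalk (μ.base z''))
      ((π'.fiber (π'.base y')).presheaf.stalk z'') := (μ.stalkMap z'').hom.toAlgebra
  haveI : IsLocalHom (algebraMap
      ((f.fiber (g.base (π'.base y'))).presheaf.stalk (μ.base z''))
      ((π'.fiber (π'.base y')).presheaf.stalk z'')) :=
    inferInstanceAs (IsLocalHom (μ.stalkMap z'').hom)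
  have hle := Groth.Agent.H46.FibreGeneric.ringKrullDim_le_add
    ((f.fiber (g.base (π'.base y'))).presheaf.stalk (μ.base z''))
    ((π'.fiber (π'.base y')).presheaf.stalk z'')
  obtain ⟨e⟩ := Groth.Agent.H46.CMAt.nonempty_fibreStalk_equiv μ z''
  have h0 : ringKrullDim (((π'.fiber (π'.base y')).presheaf.stalk z'') ⧸
      (maximalIdeal ((f.fiber (g.base (π'.base y'))).presheaf.stalk (μ.base z''))).map
        (algebraMap ((f.fiber (g.base (π'.base y'))).presheaf.stalk (μ.base z''))
          ((π'.fiber (π'.base y')).presheaf.stalk z''))) = 0 := by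
    rw [← hdim]
    exact ringKrullDim_eq_of_ringEquiv e
  rw [h0, add_zero] at hle
  exact hle

/-- **S14105**. -/
theorem main_14105 {X S S' : Scheme.{u}} (f : X ⟶ S) (g : S' ⟶ S)
    [IsLocallyNoetherian X] [IsLocallyNoetherian (pullback f g)] (Y : Set ↥X) :
    ((⨅ y : Y, ringKrullDim ↑(CInt.fiberStalk f y.1)) ≤
      ⨅ y' : (fun x' => (pullback.fst f g) x') ⁻¹' Y,
        ringKrullDim ↑(CInt.fiberStalk (pullback.snd f g) y'.1)) ∧
    (Y ⊆ Set.range (pullback.fst f g).base →
      (⨅ y' : (fun x' => (pullback.fst f g) x') ⁻¹' Y,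
        ringKrullDim ↑(CInt.fiberStalk (pullback.snd f g) y'.1)) =
        ⨅ y : Y, ringKrullDim ↑(CInt.fiberStalk f y.1)) := by
  have part1 : (⨅ y : Y, ringKrullDim ↑(CInt.fiberStalk f y.1)) ≤
      ⨅ y' : (fun x' => (pullback.fst f g) x') ⁻¹' Y,
        ringKrullDim ↑(CInt.fiberStalk (pullback.snd f g) y'.1) := by
    refine le_iInf fun ⟨y', hy'⟩ => ?_
    exact (iInf_le _ (⟨(pullback.fst f g).base y', hy'⟩ : Y)).trans (dim_le f g y')
  refine ⟨part1, fun hsurj => le_antisymm ?_ part1⟩
  refine le_iInf fun ⟨y, hy⟩ => ?_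
  obtain ⟨y', rfl⟩ := hsurj hy
  obtain ⟨y'', hy'', hdim⟩ := exists_dim_le f g y'
  have hmem : y'' ∈ (fun x' => (pullback.fst f g) x') ⁻¹' Y := by
    change (pullback.fst f g).base y'' ∈ Y
    rw [hy'']; exact hy
  exact (iInf_le _ (⟨y'', hmem⟩ : (fun x' => (pullback.fst f g) x') ⁻¹' Y)).trans hdim

end Groth.Agent.H46.FibreCodimBC
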