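/-
helper46: containment of closed subschemes flat over a reduced Noetherian base can be checked on
fibres (S17814).
-/
import Mathlib
import Groth.Prelude.Def_BlowUp2
import Groth.Agent.H46.FibreCartier
import Groth.Agent.Lib.Helper45.ModulesBasic
import Groth.Agent.Lib.Helper18.IdealComap

set_option autoImplicit false
universe u

open IsLocalRing TensorProduct

namespace Groth.Agent.H46.FibreContain

section Algebra

variable {A B : Type u} [CommRing A] [CommRing B] [Algebra A B]

/-- Step 1: if `s • m ∈ 𝔭 M` with `s ∉ 𝔭` and `M` flat, then `m ⊗ 1 = 0` in `M ⊗ A/𝔭`. -/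
theorem tmul_one_eq_zero_of_smul_mem {M : Type u} [AddCommGroup M] [Module A M] [Module.Flat A M]
    (p : Ideal A) [p.IsPrime] (s : A) (hs : s ∉ p) (m : M)
    (hm : s • m ∈ p • (⊤ : Submodule A M)) : (m ⊗ₜ[A] (1 : A ⧸ p) : M ⊗[A] (A ⧸ p)) = 0 := by
  have h1 : ((s • m) ⊗ₜ[A] (1 : A ⧸ p) : M ⊗[A] (A ⧸ p)) = 0 := by
    apply (TensorProduct.tensorQuotEquivQuotSMul M p).injective
    rw [map_zero, ← map_one (Ideal.Quotient.mk p), TensorProduct.tensorQuotEquivQuotSMul_tmul_mk,
      one_smul]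
    exact (Submodule.Quotient.mk_eq_zero _).mpr hm
  set f : (A ⧸ p) →ₗ[A] (A ⧸ p) := LinearMap.lsmul A (A ⧸ p) s with hf
  have hinj : Function.Injective f := by
    rw [← LinearMap.ker_eq_bot, LinearMap.ker_eq_bot']
    intro x hx
    obtain ⟨x, rfl⟩ := Ideal.Quotient.mk_surjective x
    have hx' : s • (Ideal.Quotient.mk p x) = 0 := hx
    rw [Algebra.smul_def, Ideal.Quotient.algebraMap_eq, ← map_mul,
      Ideal.Quotient.eq_zero_iff_mem] at hx'
    rw [Ideal.Quotient.eq_zero_iff_mem]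
    exact (Ideal.IsPrime.mem_or_mem inferInstance hx').resolve_left hs
  have h2 := Module.Flat.lTensor_preserves_injective_linearMap (M := M) f hinj
  apply h2
  rw [map_zero, LinearMap.lTensor_tmul]
  have : f (1 : A ⧸ p) = s • (1 : A ⧸ p) := rfl
  rw [this, ← TensorProduct.smul_tmul]
  exact h1

/-- Step 2: over a reduced Noetherian ring, an element of a flat module vanishing in `M ⊗ A/𝔭` for
all minimal primes `𝔭` is zero. -/
theorem eq_zero_of_forall_minimalPrimes [IsNoetherianRing A] [IsReduced A]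
    {M : Type u} [AddCommGroup M] [Module A M] [Module.Flat A M] (m : M)
    (H : ∀ p ∈ minimalPrimes A, (m ⊗ₜ[A] (1 : A ⧸ p) : M ⊗[A] (A ⧸ p)) = 0) : m = 0 := by
  classical
  have hfin : (minimalPrimes A).Finite := minimalPrimes.finite_of_isNoetherianRing A
  haveI : Fintype ↥(minimalPrimes A) := hfin.fintype
  set φ : A →ₗ[A] (∀ p : ↥(minimalPrimes A), A ⧸ p.1) :=
    LinearMap.pi (fun p => Submodule.mkQ p.1) with hφ
  have hinj : Function.Injective φ := by
    rw [← LinearMap.ker_eq_bot, LinearMap.ker_eq_bot']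
    intro x hx
    have hx' : ∀ p : ↥(minimalPrimes A), x ∈ p.1 := by
      intro p
      have := congrFun hx p
      exact (Submodule.Quotient.mk_eq_zero _).mp this
    have h1 : x ∈ sInf (minimalPrimes A) := by
      rw [Ideal.mem_sInf]
      intro p hp
      exact hx' ⟨p, hp⟩
    have h2 : sInf (minimalPrimes A) = (⊥ : Ideal A) := by
      change sInf ((⊥ : Ideal A).minimalPrimes) = ⊥
      rw [Ideal.sInf_minimalPrimes]
      exact nilradical_eq_zero A
    rw [h2] at h1
    exact h1
  have h2 := Module.Flat.lTensor_preserves_injective_linearMap (M := M) φ hinj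
  have h3 : (m ⊗ₜ[A] (1 : A) : M ⊗[A] A) = 0 := by
    apply h2
    rw [map_zero, LinearMap.lTensor_tmul]
    apply (TensorProduct.piRight A A M (fun p : ↥(minimalPrimes A) => A ⧸ p.1)).injective
    rw [map_zero, TensorProduct.piRight_apply, TensorProduct.piRightHom_tmul]
    funext p
    exact H p.1 p.2
  have h4 := congrArg (TensorProduct.rid A M) h3
  rwa [map_zero, TensorProduct.rid_tmul, one_smul] at h4

/-- The algebraic core: if `B/I'` is flat over the reduced Noetherian ring `A`, membership in `I'`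
can be tested at the primes of `B` lying over minimal primes of `A`, modulo those primes. -/
theorem mem_of_fibrewise [IsNoetherianRing A] [IsReduced A] (I' : Ideal B)
    [Module.Flat A (B ⧸ I')] (a : B)
    (H : ∀ (q : Ideal B) [q.IsPrime], q.comap (algebraMap A B) ∈ minimalPrimes A →
      ∃ s ∉ q, s * a ∈ I' ⊔ (q.comap (algebraMap A B)).map (algebraMap A B)) :
    a ∈ I' := by
  rw [← Ideal.Quotient.eq_zero_iff_mem]
  apply eq_zero_of_forall_minimalPrimes (A := A)
  intro p hp
  haveI : p.IsPrime := hp.1.1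
  set K : Ideal B := I' ⊔ p.map (algebraMap A B) with hK
  -- elements of `K` die in `M/𝔭M`
  have hKmem : ∀ x ∈ K, (Ideal.Quotient.mk I' x) ∈ p • (⊤ : Submodule A (B ⧸ I')) := by
    intro x hx
    rw [← Groth.Agent.Lib.Helper93.DepthFlat.mem_map_smul_top_iff (S := B)]
    obtain ⟨i, hi, y, hy, rfl⟩ := Submodule.mem_sup.mp hx
    rw [map_add, Ideal.Quotient.eq_zero_iff_mem.mpr hi, zero_add]
    have : Ideal.Quotient.mk I' y = y • (Ideal.Quotient.mk I' 1) := by
      rw [Algebra.smul_def, Ideal.Quotient.algebraMap_eq, ← map_mul, mul_one]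
    rw [this]
    exact Submodule.smul_mem_smul hy Submodule.mem_top
  -- find `s ∉ 𝔭` with `s a ∈ K`
  obtain ⟨s, hs, hsa⟩ : ∃ s : A, s ∉ p ∧ algebraMap A B s * a ∈ K := by
    by_contra hcon
    push Not at hcon
    set J : Ideal B := Submodule.colon K ({a} : Set B) with hJ
    have hJmem : ∀ b, b ∈ J ↔ b * a ∈ K := fun b => by
      rw [hJ, Submodule.mem_colon_singleton, smul_eq_mul]
    have hdisj : Disjoint (J : Set B) (Submonoid.map (algebraMap A B) p.primeCompl : Set B) := by
      rw [Set.disjoint_left]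
      rintro b hbJ ⟨s, hs, rfl⟩
      exact hcon s hs ((hJmem _).mp hbJ)
    obtain ⟨q, hqprime, hJq, hqdisj⟩ := Ideal.exists_le_prime_disjoint J _ hdisj
    have hqp : q.comap (algebraMap A B) = p := by
      apply le_antisymm
      · intro s hs
        by_contra hsp
        exact Set.disjoint_left.mp hqdisj hs ⟨s, hsp, rfl⟩
      · intro s hs
        apply hJq
        rw [hJmem]
        exact Ideal.mul_mem_right _ _ (Ideal.mem_sup_right (Ideal.mem_map_of_mem _ hs))
    obtain ⟨s', hs'q, hs'a⟩ := H q (hqp ▸ hp)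
    rw [hqp] at hs'a
    exact hs'q (hJq ((hJmem _).mpr hs'a))
  apply tmul_one_eq_zero_of_smul_mem p s hs
  have h1 := hKmem _ hsa
  rw [map_mul, ← Ideal.Quotient.algebraMap_eq, ← Algebra.smul_def, Ideal.Quotient.algebraMap_eq,
    algebraMap_smul] at h1
  exact h1

end Algebra

section Scheme

open AlgebraicGeometry CategoryTheory Limits Groth.Agent.H46.FibreCartier

variable {X S : Scheme.{u}} (φ : X ⟶ S)

open Groth.Agent.Lib.Helper18 in
/-- Stalk form of a containment of ideal sheaves on a fibre. -/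
theorem stalk_mem (D D' : X.IdealSheafData) (U : X.affineOpens)
    (x : X) (hxU : x ∈ U.1) (s : S) (y : ↥(φ.fiber s)) (hy : (φ.fiberι s).base y = x)
    (hfib : D.comap (φ.fiberι s) ≤ D'.comap (φ.fiberι s)) (a : Γ(X, U.1)) (ha : a ∈ D.ideal U) :
    (X.presheaf.germ U.1 x hxU).hom a ∈ (D'.ideal U).map (X.presheaf.germ U.1 x hxU).hom ⊔
      Ideal.map (φ.stalkMap x).hom (maximalIdeal (S.presheaf.stalk (φ.base x))) := by
  subst hy
  set x := (φ.fiberι s).base y with hx
  obtain ⟨W, hW, hyW, hWU⟩ := TopologicalSpace.Opens.isBasis_iff_nbhd.mp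
    (φ.fiber s).isBasis_affineOpens (show y ∈ (φ.fiberι s) ⁻¹ᵁ U.1 from hxU)
  have h1 := Scheme.IdealSheafData.le_def.mp hfib ⟨W, hW⟩
  rw [ideal_comap_of_le (φ.fiberι s) D ⟨W, hW⟩ U hWU,
    ideal_comap_of_le (φ.fiberι s) D' ⟨W, hW⟩ U hWU] at h1
  have h2 : ((φ.fiberι s).appLE U.1 W hWU).hom a ∈
      (D'.ideal U).map ((φ.fiberι s).appLE U.1 W hWU).hom := h1 (Ideal.mem_map_of_mem _ ha)
  have hcomp : ((φ.fiberι s).stalkMap y).hom.comp (X.presheaf.germ U.1 x hxU).hom =
      ((φ.fiber s).presheaf.germ W y hyW).hom.comp ((φ.fiberι s).appLE U.1 W hWU).hom := by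
    ext b
    simp only [RingHom.coe_comp, Function.comp_apply]
    rw [Scheme.Hom.germ_stalkMap_apply]
    simp only [Scheme.Hom.appLE, homOfLE_leOfHom, CommRingCat.hom_comp, RingHom.coe_comp,
      Function.comp_apply]
    rw [(φ.fiber s).presheaf.germ_res_apply]
  have h3 : ((φ.fiberι s).stalkMap y).hom ((X.presheaf.germ U.1 x hxU).hom a) ∈
      ((D'.ideal U).map (X.presheaf.germ U.1 x hxU).hom).map ((φ.fiberι s).stalkMap y).hom := by
    rw [Ideal.map_map, hcomp, ← Ideal.map_map]
    have := Ideal.mem_map_of_mem ((φ.fiber s).presheaf.germ W y hyW).hom h2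
    have e2 : ((φ.fiberι s).stalkMap y).hom ((X.presheaf.germ U.1 x hxU).hom a) =
        ((φ.fiber s).presheaf.germ W y hyW).hom (((φ.fiberι s).appLE U.1 W hWU).hom a) :=
      congrFun (congrArg DFunLike.coe hcomp) a
    rw [e2]
    exact this
  obtain ⟨z, hz, hze⟩ := (Ideal.mem_map_iff_of_surjective _
    ((φ.fiberι s).stalkMap_surjective y)).mp h3
  have hker := le_antisymm (Groth.Agent.Lib.Helper49.map_le_ker φ s y)
    (Groth.Agent.Lib.Helper49.ker_le_map φ s y)
  have h4 : (X.presheaf.germ U.1 x hxU).hom a - z ∈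
      Ideal.map (φ.stalkMap x).hom (maximalIdeal (S.presheaf.stalk (φ.base x))) := by
    rw [hker, RingHom.mem_ker, map_sub, hze, sub_self]
  have h5 : (X.presheaf.germ U.1 x hxU).hom a = z + ((X.presheaf.germ U.1 x hxU).hom a - z) := by
    ring
  rw [h5]
  exact Ideal.add_mem _ (Ideal.mem_sup_left hz) (Ideal.mem_sup_right h4)

set_option linter.style.haveILetI false in
open Groth.Agent.H8.RelCartier Groth.Agent.Lib.Helper45 in
/-- On a chart, containment on fibres gives containment. -/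
theorem ideal_le_of_fibrewise [IsLocallyNoetherian S] [IsReduced S]
    (D D' : X.IdealSheafData) [Flat (D'.subschemeι ≫ φ)]
    (hfib : ∀ s : S, D.comap (φ.fiberι s) ≤ D'.comap (φ.fiberι s))
    (U : X.affineOpens) (V : S.affineOpens) (e : U.1 ≤ φ ⁻¹ᵁ V.1) :
    D.ideal U ≤ D'.ideal U := by
  intro a ha
  have hU := U.2
  have hV := V.2
  letI algAB : Algebra Γ(S, V.1) Γ(X, U.1) := (φ.appLE V.1 U.1 e).hom.toAlgebra
  haveI : IsNoetherianRing Γ(S, V.1) := IsLocallyNoetherian.component_noetherian V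
  haveI : _root_.IsReduced Γ(S, V.1) := inferInstance
  haveI flQ : Module.Flat Γ(S, V.1) (Γ(X, U.1) ⧸ D'.ideal U) := by
    have h := flat_quotient_of_flat D' φ V U e
    rw [← RingHom.flat_algebraMap_iff]
    exact h
  apply mem_of_fibrewise (A := Γ(S, V.1)) (D'.ideal U) a
  intro q hqprime _
  obtain ⟨xU, hxq⟩ := exists_primeIdealOf_eq hU ⟨q, hqprime⟩
  have hq : q = (hU.primeIdealOf xU).asIdeal := by rw [hxq]
  subst hq
  letI algBR : Algebra Γ(X, U.1) (X.presheaf.stalk xU.1) :=
    TopCat.Presheaf.algebra_section_stalk X.presheaf xU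
  haveI locR : IsLocalization.AtPrime (X.presheaf.stalk xU.1) (hU.primeIdealOf xU).asIdeal :=
    hU.isLocalization_stalk xU
  have h1 := stalk_mem φ D D' U xU.1 xU.2 (φ.base xU.1) (φ.asFiber xU.1) (φ.fiberι_asFiber xU.1)
    (hfib _) a ha
  rw [← chart_ideal_eq φ hU hV e xU.1 xU.2] at h1
  set p : Ideal Γ(S, V.1) := (hU.primeIdealOf xU).asIdeal.comap (algebraMap Γ(S, V.1) Γ(X, U.1))
    with hp
  have h2 : algebraMap Γ(X, U.1) (X.presheaf.stalk xU.1) a ∈
      (D'.ideal U ⊔ p.map (algebraMap Γ(S, V.1) Γ(X, U.1))).map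
        (algebraMap Γ(X, U.1) (X.presheaf.stalk xU.1)) := by
    rw [Ideal.map_sup, Ideal.map_map]
    exact h1
  obtain ⟨⟨⟨c, hc⟩, m⟩, h⟩ := (IsLocalization.mem_map_algebraMap_iff
    (hU.primeIdealOf xU).asIdeal.primeCompl (X.presheaf.stalk xU.1)).mp h2
  simp only at h
  rw [← map_mul] at h
  obtain ⟨m', hm'⟩ := (IsLocalization.eq_iff_exists (hU.primeIdealOf xU).asIdeal.primeCompl
    (X.presheaf.stalk xU.1)).mp h
  refine ⟨m' * m, fun hmem => ?_, ?_⟩
  · rcases Ideal.IsPrime.mem_or_mem inferInstance hmem with h' | h'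
    · exact m'.2 h'
    · exact m.2 h'
  · have : (m' : Γ(X, U.1)) * m * a = m' * (a * m) := by ring
    rw [this, hm']
    exact Ideal.mul_mem_left _ _ hc

open Groth.Agent.Lib.Helper18 in
/-- **Containment of closed subschemes flat over a reduced locally Noetherian base is fibrewise.** -/
theorem le_of_fibrewise [IsLocallyNoetherian S] [IsReduced S]
    (D D' : X.IdealSheafData) [Flat (D'.subschemeι ≫ φ)]
    (hfib : ∀ s : S, D.comap (φ.fiberι s) ≤ D'.comap (φ.fiberι s)) : D ≤ D' := by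
  rw [← sup_eq_right]
  refine ext_of_le_preimage φ (fun U V e => ?_)
  rw [Scheme.IdealSheafData.ideal_sup, Pi.sup_apply]
  exact sup_eq_right.mpr (ideal_le_of_fibrewise φ D D' hfib U V e)

end Scheme

end Groth.Agent.H46.FibreContain
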