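/-
helper46: module version of EGA IV 11.10.10 (S4879): for `F` finitely presented and flat over `S`,
`F → j_* j^* F` is universally injective iff it is so on fibres.
-/
import Mathlib
import Groth.Prelude.Def_CInt
import Groth.Prelude.Def_FlatMod2
import Groth.Prelude.Def_RefHull
import Groth.Agent.H46.FibreDense
import Groth.Agent.Lib.Helper45.QCohStalk
import Groth.Agent.Lib.Helper45.ModulesBasic
import Groth.Agent.Lib.Helper16.FlatPull.BaseChange
import Groth.Agent.Lib.Helper49.FinLocFree
import Groth.Agent.H34.HilbertBurch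
import Groth.Agent.S8913

set_option autoImplicit false
universe u

open IsLocalRing RingTheory.Sequence

namespace Groth.Agent.H46.FibreDenseMod

section Algebra

/-- A nonzero element `g` of a module has a prime `𝔮` (minimal over its annihilator) such that in
the localization at `𝔮` the image of `g` is nonzero but killed by a power of every element of the
maximal ideal. -/
theorem exists_prime_ann_module {B : Type u} [CommRing B] {N : Type u} [AddCommGroup N]
    [Module B N] (g : N) (hg : g ≠ 0) :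
    ∃ (𝔮 : Ideal B) (_ : 𝔮.IsPrime), ∀ (R : Type u) [CommRing R] [IsLocalRing R] [Algebra B R]
      [IsLocalization.AtPrime R 𝔮] (N' : Type u) [AddCommGroup N'] [Module B N'] [Module R N']
      [IsScalarTower B R N'] (ℓ : N →ₗ[B] N') [IsLocalizedModule 𝔮.primeCompl ℓ],
      ℓ g ≠ 0 ∧ ∀ y ∈ maximalIdeal R, ∃ n : ℕ, y ^ n • ℓ g = 0 := by
  set J : Ideal B := (Submodule.span B {g}).annihilator with hJ
  have hJmem : ∀ t, t ∈ J ↔ t • g = 0 := fun t => by
    rw [hJ, Submodule.mem_annihilator_span_singleton]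
  have hJne : J ≠ ⊤ := by
    intro h
    have h1 : (1 : B) ∈ J := h ▸ Submodule.mem_top
    rw [hJmem, one_smul] at h1
    exact hg h1
  obtain ⟨𝔮, h𝔮⟩ := Ideal.nonempty_minimalPrimes hJne
  have hprime : 𝔮.IsPrime := h𝔮.1.1
  have hJq : J ≤ 𝔮 := h𝔮.1.2
  have hmin : ∀ p' : Ideal B, p'.IsPrime → J ≤ p' → p' ≤ 𝔮 → 𝔮 ≤ p' := fun p' h1 h2 h3 =>
    h𝔮.2 ⟨h1, h2⟩ h3
  clear_value J
  clear h𝔮
  refine ⟨𝔮, hprime, ?_⟩
  intro R _ _ _ hloc N' _ _ _ _ ℓ _
  constructor
  · intro h0
    rw [IsLocalizedModule.eq_zero_iff 𝔮.primeCompl ℓ] at h0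
    obtain ⟨m, hm⟩ := h0
    exact m.2 (hJq ((hJmem _).mpr hm))
  · intro y hy
    have hrad : y ∈ (J.map (algebraMap B R)).radical := by
      rw [Ideal.radical_eq_sInf, Ideal.mem_sInf]
      rintro P' ⟨hle, hP'⟩
      have h1 : J ≤ P'.comap (algebraMap B R) := Ideal.le_comap_of_map_le hle
      have h2 : P'.comap (algebraMap B R) ≤ 𝔮 := by
        rw [← IsLocalization.AtPrime.comap_maximalIdeal R 𝔮]
        exact Ideal.comap_mono (IsLocalRing.le_maximalIdeal hP'.ne_top)
      have h3 : 𝔮 ≤ P'.comap (algebraMap B R) := hmin _ (Ideal.comap_isPrime _ _) h1 h2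
      have h4 : P'.comap (algebraMap B R) = 𝔮 := le_antisymm h2 h3
      have h5 : P' = maximalIdeal R := by
        have h4' : Ideal.under B P' = 𝔮 := h4
        rw [← IsLocalization.map_under 𝔮.primeCompl R P', h4',
          IsLocalization.AtPrime.map_eq_maximalIdeal]
      exact h5 ▸ hy
    obtain ⟨n, hn⟩ := hrad
    refine ⟨n, ?_⟩
    have key : ∀ t ∈ J.map (algebraMap B R), t • ℓ g = 0 := by
      intro t ht
      refine Submodule.span_induction ?_ ?_ ?_ ?_ ht
      · rintro _ ⟨j, hj, rfl⟩
        rw [algebraMap_smul, ← map_smul, (hJmem j).mp hj, map_zero]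
      · rw [zero_smul]
      · intro a b _ _ ha hb
        rw [add_smul, ha, hb, add_zero]
      · intro r a _ ha
        rw [smul_eq_mul, mul_smul, ha, smul_zero]
    exact key _ hn

variable {A B : Type u} [CommRing A] [CommRing B] [Algebra A B] [Algebra.FinitePresentation A B]
  (q : Ideal B) [q.IsPrime] (R : Type u) [CommRing R] [IsLocalRing R] [Algebra B R]
  [IsLocalization.AtPrime R q] [Algebra A R] [IsScalarTower A B R]
  (M : Type u) [AddCommGroup M] [Module B M] [Module.FinitePresentation B M]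
  (N : Type u) [AddCommGroup N] [Module B N] [Module A N] [IsScalarTower A B N] [Module R N]
  [IsScalarTower B R N]
  (ℓ : M →ₗ[B] N) [IsLocalizedModule q.primeCompl ℓ] [Module.Flat A N]

include M ℓ in
/-- EGA IV 11.3.8 for one element on a module: regular on the fibre implies regular. -/
theorem isSMulRegular_of_fibre_module (x1 : R)
    (H1 : ∀ n : N, x1 • n ∈ (q.comap (algebraMap A B)) • (⊤ : Submodule A N) →
      n ∈ (q.comap (algebraMap A B)) • (⊤ : Submodule A N)) :
    IsSMulRegular N x1 := by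
  obtain ⟨⟨g1, s1⟩, h1⟩ := IsLocalization.surj q.primeCompl x1
  have hu1 : IsUnit (algebraMap B R s1) := IsLocalization.map_units R s1
  simp only at h1
  set J : Submodule B N :=
    ((q.comap (algebraMap A B)).map (algebraMap A B)) • (⊤ : Submodule B N) with hJ
  have hJiff : ∀ n : N, n ∈ J ↔ n ∈ (q.comap (algebraMap A B)) • (⊤ : Submodule A N) :=
    fun n => Groth.Agent.Lib.Helper93.DepthFlat.mem_map_smul_top_iff (S := B) _ n
  have hsunit : ∀ n : N, (s1 : B) • n ∈ J → n ∈ J := by
    intro n hn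
    obtain ⟨v, hv⟩ := hu1
    have h2 : (↑v⁻¹ : R) • ((s1 : B) • n) = n := by
      rw [← algebraMap_smul R (s1 : B) n, ← hv, smul_smul, Units.inv_mul, one_smul]
    rw [← h2]
    -- `J` is stable under `R`
    refine Submodule.smul_induction_on hn (fun a ha m _ => ?_) (fun a b ha hb => ?_)
    · rw [smul_comm]
      exact Submodule.smul_mem_smul ha Submodule.mem_top
    · rw [smul_add]
      exact J.add_mem ha hb
  have hreg : IsWeaklyRegular (N ⧸ J) [g1] := by
    rw [isWeaklyRegular_singleton_iff, isSMulRegular_quotient_iff_mem_of_smul_mem]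
    intro n hn
    apply hsunit
    rw [hJiff] at hn ⊢
    apply H1
    have : x1 • ((s1 : B) • n) = g1 • n := by
      rw [← algebraMap_smul R (s1 : B) n, smul_smul, h1, algebraMap_smul]
    rw [this]
    exact hn
  have h := (Groth.Agent.Lib.Helper62.FibReg.list_step A B q [g1] M N ℓ hreg).1
  rw [isWeaklyRegular_singleton_iff] at h
  intro a b hab
  apply h
  change g1 • a = g1 • b
  have hab' : x1 • a = x1 • b := hab
  rw [← algebraMap_smul R g1 a, ← algebraMap_smul R g1 b, ← h1, mul_comm, mul_smul, mul_smul,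
    hab']


/-- The kernel of a base change along a surjective ring map `R → R'` is `ker • M`. -/
theorem mem_smul_top_of_isBaseChange_eq_zero {R R' : Type u} [CommRing R] [CommRing R']
    [Algebra R R'] (hsurj : Function.Surjective (algebraMap R R')) {M M' : Type u}
    [AddCommGroup M] [Module R M] [AddCommGroup M'] [Module R M'] [Module R' M']
    [IsScalarTower R R' M'] {ψ : M →ₗ[R] M'} (hψ : IsBaseChange R' ψ) (n : M) (hn : ψ n = 0) :
    n ∈ (RingHom.ker (algebraMap R R')) • (⊤ : Submodule R M) := by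
  set I := RingHom.ker (algebraMap R R') with hI
  have h1 : (1 : R') ⊗ₜ[R] n = 0 := by
    apply hψ.equiv.injective
    rw [map_zero, IsBaseChange.equiv_tmul, one_smul, hn]
  let e : (R ⧸ I) ≃ₐ[R] R' :=
    Ideal.quotientKerAlgEquivOfSurjective (f := Algebra.ofId R R') hsurj
  have h2 : (1 : R ⧸ I) ⊗ₜ[R] n = 0 := by
    apply (TensorProduct.congr e.toLinearEquiv (LinearEquiv.refl R M)).injective
    rw [map_zero, TensorProduct.congr_tmul]
    have : e.toLinearEquiv 1 = 1 := map_one e
    rw [this]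
    exact h1
  have h3 := congrArg (TensorProduct.quotTensorEquivQuotSMul M I) h2
  rw [map_zero, TensorProduct.quotTensorEquivQuotSMul_mk_one_tmul] at h3
  exact (Submodule.Quotient.mk_eq_zero _).mp h3

/-- A base change along `R → R'` kills `ker • M`. -/
theorem isBaseChange_eq_zero_of_mem_smul_top {R R' : Type u} [CommRing R] [CommRing R']
    [Algebra R R'] {M M' : Type u}
    [AddCommGroup M] [Module R M] [AddCommGroup M'] [Module R M'] [Module R' M']
    [IsScalarTower R R' M'] (ψ : M →ₗ[R] M') (n : M)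
    (hn : n ∈ (RingHom.ker (algebraMap R R')) • (⊤ : Submodule R M)) : ψ n = 0 := by
  refine Submodule.smul_induction_on hn (fun a ha m _ => ?_) (fun a b ha hb => ?_)
  · rw [map_smul, ← algebraMap_smul R' a (ψ m), (RingHom.mem_ker).mp ha, zero_smul]
  · rw [map_add, ha, hb, add_zero]

/-- Flat base change preserves regular elements. -/
theorem isSMulRegular_of_flat_of_isBaseChange {R R' : Type u} [CommRing R] [CommRing R']
    [Algebra R R'] [Module.Flat R R'] {M M' : Type u}
    [AddCommGroup M] [Module R M] [AddCommGroup M'] [Module R M'] [Module R' M']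
    [IsScalarTower R R' M'] {ψ : M →ₗ[R] M'} (hψ : IsBaseChange R' ψ) (t : R)
    (ht : IsSMulRegular M t) : IsSMulRegular M' (algebraMap R R' t) := by
  have h1 : IsWeaklyRegular M [t] := (isWeaklyRegular_singleton_iff M t).mpr ht
  have h2 := h1.of_flat_of_isBaseChange hψ
  simpa [isWeaklyRegular_singleton_iff] using h2

end Algebra

section Scheme

open AlgebraicGeometry CategoryTheory Limits Groth.Agent.Lib.Helper45

attribute [local instance] Groth.Agent.Lib.Helper45.stalkModuleSections

set_option linter.style.haveILetI false in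
/-- **Lemma L, module version**: if every point outside `U` has an element of the maximal ideal of
its local ring which is regular on the stalk of `M`, then sections of `M` are determined by their
restriction to `U`. -/
theorem injective_restrict_of_regular {P : Scheme.{u}} (M : P.Modules) [M.IsQuasicoherent]
    (U : P.Opens)
    (hU : ∀ x : P, x ∉ U → ∃ x1 ∈ maximalIdeal (P.presheaf.stalk x),
      IsSMulRegular (M.presheaf.stalk x) x1) (V : P.Opens) :
    Function.Injective (M.presheaf.map (homOfLE (inf_le_left : V ⊓ U ≤ V)).op) := by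
  rw [injective_iff_map_eq_zero (M.presheaf.map (homOfLE (inf_le_left : V ⊓ U ≤ V)).op).hom]
  intro g hg
  by_contra hne
  obtain ⟨x, hxV, hgx⟩ : ∃ x, ∃ hx : x ∈ V, M.presheaf.germ V x hx g ≠ 0 := by
    by_contra hcon
    simp only [not_exists, not_not] at hcon
    exact hne (section_ext_germ M V g 0 (fun x hx => (hcon x hx).trans (map_zero _).symm))
  obtain ⟨W, hW, hxW, hWV0⟩ := exists_isAffineOpen_mem_and_subset (x := x) (U := V) hxV
  have hWV : W ≤ V := hWV0
  set gW : Γ(M, W) := M.presheaf.map (homOfLE hWV).op g with hgWdef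
  have hgW : gW ≠ 0 := by
    intro h0
    apply hgx
    have h1 := TopCat.Presheaf.germ_res_apply M.presheaf (homOfLE hWV) x hxW g
    rw [← h1]
    change M.presheaf.germ W x hxW gW = 0
    rw [h0, map_zero]
  obtain ⟨𝔮, hprime, H⟩ := exists_prime_ann_module (B := Γ(P, W)) gW hgW
  obtain ⟨z, hz⟩ := exists_primeIdealOf_eq hW ⟨𝔮, hprime⟩
  letI : Algebra Γ(P, W) (P.presheaf.stalk z.1) :=
    TopCat.Presheaf.algebra_section_stalk P.presheaf z
  haveI : IsLocalization.AtPrime (P.presheaf.stalk z.1) 𝔮 := by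
    have h := hW.isLocalization_stalk z
    rwa [hz] at h
  haveI : IsLocalizedModule 𝔮.primeCompl (germₗ M z) := by
    have h := isLocalizedModule_germₗ hW M z
    rwa [hz] at h
  obtain ⟨hne0, hnil⟩ := H (P.presheaf.stalk z.1) (M.presheaf.stalk z.1) (germₗ M z)
  have hzU : z.1 ∉ U := by
    intro hzU
    apply hne0
    change M.presheaf.germ W z.1 z.2 gW = 0
    rw [hgWdef, TopCat.Presheaf.germ_res_apply M.presheaf (homOfLE hWV) z.1 z.2 g]
    have h2 := TopCat.Presheaf.germ_res_apply M.presheaf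
      (homOfLE (inf_le_left : V ⊓ U ≤ V)) z.1 ⟨hWV z.2, hzU⟩ g
    rw [← h2]
    have hg' : (M.presheaf.map (homOfLE (inf_le_left : V ⊓ U ≤ V)).op) g = 0 := hg
    rw [hg', map_zero]
  obtain ⟨x1, hx1m, hx1reg⟩ := hU z.1 hzU
  obtain ⟨n, hn⟩ := hnil x1 hx1m
  apply hne0
  apply (hx1reg.pow n)
  simp only [smul_zero]
  exact hn

set_option linter.style.haveILetI false in
/-- **Lemma N, module version**: on a locally Noetherian scheme, if sections of a quasi-coherent
module with finite stalks are determined on the open `W`, then at a point outside `W` some element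
of the maximal ideal is regular on the stalk. -/
theorem exists_regular_of_injective_restrict {Y : Scheme.{u}} [IsLocallyNoetherian Y]
    (G : Y.Modules) [G.IsQuasicoherent]
    (hfin : ∀ y : Y, Module.Finite (Y.presheaf.stalk y) (G.presheaf.stalk y))
    (W : Y.Opens)
    (hW : ∀ V : Y.Opens,
      Function.Injective (G.presheaf.map (homOfLE (inf_le_left : V ⊓ W ≤ V)).op))
    (y : Y) (hy : y ∉ W) :
    ∃ t ∈ maximalIdeal (Y.presheaf.stalk y), IsSMulRegular (G.presheaf.stalk y) t := by
  haveI := hfin y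
  apply Groth.Agent.H34.HilbertBurch.exists_isSMulRegular_of_forall
  intro c hc
  by_contra hc0
  obtain ⟨V₀, hV₀, hyV₀, -⟩ := exists_isAffineOpen_mem_and_subset (x := y) (U := ⊤) trivial
  haveI : IsNoetherianRing Γ(Y, V₀) := IsLocallyNoetherian.component_noetherian ⟨V₀, hV₀⟩
  obtain ⟨yV, rfl⟩ : ∃ yV : V₀, (yV : Y) = y := ⟨⟨y, hyV₀⟩, rfl⟩
  letI : Algebra Γ(Y, V₀) (Y.presheaf.stalk yV.1) :=
    TopCat.Presheaf.algebra_section_stalk Y.presheaf yV
  set q : Ideal Γ(Y, V₀) := (hV₀.primeIdealOf yV).asIdeal with hq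
  haveI : IsLocalization.AtPrime (Y.presheaf.stalk yV.1) q := hV₀.isLocalization_stalk yV
  haveI hlocM : IsLocalizedModule q.primeCompl (germₗ G yV) :=
    isLocalizedModule_germₗ hV₀ G yV
  obtain ⟨⟨c₀, u⟩, hcu⟩ := IsLocalizedModule.surj q.primeCompl (germₗ G yV) c
  simp only at hcu
  have hqfg : q.FG := IsNoetherian.noetherian q
  have key : ∀ (N : Submodule Γ(Y, V₀) Γ(Y, V₀)), N.FG → N ≤ q →
      ∃ u' ∉ q, ∀ t ∈ N, (u' * t) • c₀ = 0 := by
    intro N hN
    refine Submodule.fg_induction
      (motive := fun N _ => N ≤ q → ∃ u' ∉ q, ∀ t ∈ N, (u' * t) • c₀ = 0) ?_ ?_ N hN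
    · intro t ht
      have htq : t ∈ q := ht (Submodule.subset_span rfl)
      have h1 : algebraMap Γ(Y, V₀) (Y.presheaf.stalk yV.1) t ∈ maximalIdeal (Y.presheaf.stalk yV.1) :=
        (IsLocalization.AtPrime.to_map_mem_maximal_iff (Y.presheaf.stalk yV.1) q t).mpr htq
      have h2 : germₗ G yV (t • c₀) = 0 := by
        rw [map_smul, ← hcu, smul_comm, ← algebraMap_smul (Y.presheaf.stalk yV.1) t c, hc _ h1,
          smul_zero]
      obtain ⟨m, hm⟩ := (IsLocalizedModule.eq_zero_iff q.primeCompl
        (germₗ G yV)).mp h2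
      refine ⟨m, m.2, fun b hb => ?_⟩
      obtain ⟨r, rfl⟩ := Submodule.mem_span_singleton.mp hb
      rw [smul_eq_mul]
      have : ((m : Γ(Y, V₀)) * (r * t)) • c₀ = r • ((m : Γ(Y, V₀)) • (t • c₀)) := by
        rw [smul_smul, smul_smul]; congr 1; ring
      rw [this]
      have hm' : (m : Γ(Y, V₀)) • (t • c₀) = 0 := hm
      rw [hm', smul_zero]
    · intro M₁ M₂ _ _ h₁ h₂ hle
      obtain ⟨k₁, hk₁, H₁⟩ := h₁ (le_sup_left.trans hle)
      obtain ⟨k₂, hk₂, H₂⟩ := h₂ (le_sup_right.trans hle)
      refine ⟨k₁ * k₂, fun hmem => ?_, fun b hb => ?_⟩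
      · rcases Ideal.IsPrime.mem_or_mem inferInstance hmem with h' | h'
        · exact hk₁ h'
        · exact hk₂ h'
      · obtain ⟨b₁, hb₁, b₂, hb₂, rfl⟩ := Submodule.mem_sup.mp hb
        have : (k₁ * k₂ * (b₁ + b₂)) • c₀ = k₂ • ((k₁ * b₁) • c₀) + k₁ • ((k₂ * b₂) • c₀) := by
          rw [smul_smul, smul_smul, ← add_smul]; congr 1; ring
        rw [this, H₁ b₁ hb₁, H₂ b₂ hb₂, smul_zero, smul_zero, add_zero]
  obtain ⟨u', hu', Hu'⟩ := key q hqfg le_rfl
  set c₁ : Γ(G, V₀) := u' • c₀ with hc₁
  have hkill : ∀ t ∈ q, t • c₁ = 0 := by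
    intro t ht
    rw [hc₁, smul_smul, mul_comm]
    exact Hu' t ht
  have hc₁ne : germₗ G yV c₁ ≠ 0 := by
    intro h0
    apply hc0
    rw [hc₁, map_smul, ← hcu, Submonoid.smul_def, smul_smul] at h0
    have hmem : u' * (u : Γ(Y, V₀)) ∈ q.primeCompl :=
      Submonoid.mul_mem _ (show u' ∈ q.primeCompl from hu') u.2
    have hunit := IsLocalizedModule.map_units (germₗ G yV)
      (⟨u' * (u : Γ(Y, V₀)), hmem⟩ : q.primeCompl)
    rw [Module.End.isUnit_iff] at hunit
    apply hunit.1
    rw [Module.algebraMap_end_apply, Module.algebraMap_end_apply, smul_zero]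
    exact h0
  apply hc₁ne
  have hc₁0 : c₁ = 0 := by
    apply hW V₀
    rw [map_zero]
    refine section_ext_germ G (V₀ ⊓ W) _ 0 (fun w hw => ?_)
    refine Eq.trans ?_ (map_zero _).symm
    rw [TopCat.Presheaf.germ_res_apply G.presheaf (homOfLE (inf_le_left : V₀ ⊓ W ≤ V₀)) w hw c₁]
    obtain ⟨wV, rfl⟩ : ∃ wV : V₀, (wV : Y) = w := ⟨⟨w, hw.1⟩, rfl⟩
    letI : Algebra Γ(Y, V₀) (Y.presheaf.stalk wV.1) :=
      TopCat.Presheaf.algebra_section_stalk Y.presheaf wV
    haveI : IsLocalization.AtPrime (Y.presheaf.stalk wV.1) (hV₀.primeIdealOf wV).asIdeal :=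
      hV₀.isLocalization_stalk wV
    obtain ⟨t, htq, htw⟩ : ∃ t ∈ q, t ∉ (hV₀.primeIdealOf wV).asIdeal := by
      by_contra hcon
      push Not at hcon
      have hle : hV₀.primeIdealOf yV ≤ hV₀.primeIdealOf wV := hcon
      have hsp := (PrimeSpectrum.le_iff_specializes _ _).mp hle
      have hsp2 := hsp.map hV₀.fromSpec.continuous
      rw [hV₀.fromSpec_primeIdealOf, hV₀.fromSpec_primeIdealOf] at hsp2
      exact hy (hsp2.mem_open W.2 hw.2)
    have hunit : IsUnit (algebraMap Γ(Y, V₀) (Y.presheaf.stalk wV.1) t) :=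
      IsLocalization.map_units (Y.presheaf.stalk wV.1)
        (⟨t, htw⟩ : (hV₀.primeIdealOf wV).asIdeal.primeCompl)
    have h0 : algebraMap Γ(Y, V₀) (Y.presheaf.stalk wV.1) t •
        germₗ G wV c₁ = 0 := by
      rw [algebraMap_smul, ← map_smul, hkill t htq, map_zero]
    obtain ⟨v, hv⟩ := hunit
    have h1 := congrArg (fun z => (↑v⁻¹ : Y.presheaf.stalk wV.1) • z) h0
    simp only [smul_zero] at h1
    rw [← hv, smul_smul, Units.inv_mul, one_smul] at h1
    exact h1
  rw [hc₁0, map_zero]


set_option linter.style.haveILetI false in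
/-- **EGA IV 11.3.8 for modules, scheme level, one element.**  Let `π : P ⟶ S` be locally of finite
presentation, `M` a quasi-coherent `O_P`-module of finite presentation which is flat over `S` at
`x`. If `x1 ∈ O_{P,x}` is regular on `M_x / 𝔪_s M_x`, then `x1` is regular on `M_x`. -/
theorem lift_module {P S : Scheme.{u}} (π : P ⟶ S) [LocallyOfFinitePresentation π]
    (M : P.Modules) [M.IsQuasicoherent]
    (hM : SheafOfModules.IsFinitePresentation (R := P.ringCatSheaf) M) (x : P)
    (hflat : FlatMod.IsFlatOverAt π M x) (x1 : P.presheaf.stalk x)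
    (H1 : ∀ n : M.presheaf.stalk x,
      x1 • n ∈ (Ideal.map (π.stalkMap x).hom (maximalIdeal (S.presheaf.stalk (π.base x)))) •
        (⊤ : Submodule (P.presheaf.stalk x) (M.presheaf.stalk x)) →
      n ∈ (Ideal.map (π.stalkMap x).hom (maximalIdeal (S.presheaf.stalk (π.base x)))) •
        (⊤ : Submodule (P.presheaf.stalk x) (M.presheaf.stalk x))) :
    IsSMulRegular (M.presheaf.stalk x) x1 := by
  obtain ⟨V, U, hV, hU, hUV, hxU⟩ := Groth.Agent.Lib.Helper16.FlatPull.exists_charts π x
  obtain ⟨xU, rfl⟩ : ∃ xU : U, (xU : P) = x := ⟨⟨x, hxU⟩, rfl⟩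
  have hsV : π.base xU.1 ∈ V := hUV xU.2
  letI algAB : Algebra Γ(S, V) Γ(P, U) := (π.appLE V U hUV).hom.toAlgebra
  letI algBR : Algebra Γ(P, U) (P.presheaf.stalk xU.1) :=
    TopCat.Presheaf.algebra_section_stalk P.presheaf xU
  letI algAS : Algebra Γ(S, V) (S.presheaf.stalk (π.base xU.1)) :=
    TopCat.Presheaf.algebra_section_stalk S.presheaf (⟨π.base xU.1, hsV⟩ : V)
  letI algAR : Algebra Γ(S, V) (P.presheaf.stalk xU.1) :=
    ((algebraMap Γ(P, U) (P.presheaf.stalk xU.1)).comp (algebraMap Γ(S, V) Γ(P, U))).toAlgebra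
  haveI tower : IsScalarTower Γ(S, V) Γ(P, U) (P.presheaf.stalk xU.1) :=
    IsScalarTower.of_algebraMap_eq (fun _ => rfl)
  haveI locR : IsLocalization.AtPrime (P.presheaf.stalk xU.1) (hU.primeIdealOf xU).asIdeal :=
    hU.isLocalization_stalk xU
  haveI locS : IsLocalization.AtPrime (S.presheaf.stalk (π.base xU.1))
      (hV.primeIdealOf ⟨π.base xU.1, hsV⟩).asIdeal := hV.isLocalization_stalk ⟨_, hsV⟩
  haveI fp : Algebra.FinitePresentation Γ(S, V) Γ(P, U) :=
    HasRingHomProperty.appLE (P := @LocallyOfFinitePresentation) π inferInstance ⟨V, hV⟩ ⟨U, hU⟩ hUV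
  have hcompat : ∀ a : Γ(S, V),
      (π.stalkMap xU.1).hom (algebraMap Γ(S, V) (S.presheaf.stalk (π.base xU.1)) a) =
        algebraMap Γ(S, V) (P.presheaf.stalk xU.1) a := by
    intro a
    change (π.stalkMap xU.1).hom (S.presheaf.germ V (π.base xU.1) hsV a) = _
    rw [Scheme.Hom.germ_stalkMap_apply]
    change _ = algebraMap Γ(P, U) (P.presheaf.stalk xU.1) (algebraMap Γ(S, V) Γ(P, U) a)
    simp only [RingHom.algebraMap_toAlgebra, Scheme.Hom.appLE, homOfLE_leOfHom,
      CommRingCat.hom_comp, RingHom.coe_comp, Function.comp_apply]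
    change _ = P.presheaf.germ U xU.1 xU.2 _
    rw [P.presheaf.germ_res_apply]
  set q : Ideal Γ(P, U) := (hU.primeIdealOf xU).asIdeal with hq
  have hI : (q.comap (algebraMap Γ(S, V) Γ(P, U))).map
      (algebraMap Γ(S, V) (P.presheaf.stalk xU.1)) =
      Ideal.map (π.stalkMap xU.1).hom (maximalIdeal (S.presheaf.stalk (π.base xU.1))) := by
    have h1 : q = (maximalIdeal (P.presheaf.stalk xU.1)).comap
        (algebraMap Γ(P, U) (P.presheaf.stalk xU.1)) :=
      (IsLocalization.AtPrime.comap_maximalIdeal (P.presheaf.stalk xU.1) q).symm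
    have h2 : algebraMap Γ(S, V) (P.presheaf.stalk xU.1) =
        (π.stalkMap xU.1).hom.comp (algebraMap Γ(S, V) (S.presheaf.stalk (π.base xU.1))) := by
      ext a; exact (hcompat a).symm
    have h3 : (maximalIdeal (P.presheaf.stalk xU.1)).comap (π.stalkMap xU.1).hom =
        maximalIdeal (S.presheaf.stalk (π.base xU.1)) :=
      have h0 : IsLocalHom (π.stalkMap xU.1).hom := inferInstance
      ((IsLocalRing.local_hom_TFAE (π.stalkMap xU.1).hom).out 0 4).mp h0
    have h4 : q.comap (algebraMap Γ(S, V) Γ(P, U)) =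
        (maximalIdeal (S.presheaf.stalk (π.base xU.1))).comap
          (algebraMap Γ(S, V) (S.presheaf.stalk (π.base xU.1))) := by
      rw [h1, Ideal.comap_comap, ← IsScalarTower.algebraMap_eq, h2, ← Ideal.comap_comap, h3]
    rw [h4, h2, ← Ideal.map_map,
      IsLocalization.map_comap (hV.primeIdealOf ⟨π.base xU.1, hsV⟩).asIdeal.primeCompl]
  -- module structures on `N = M_x`
  letI modAN : Module Γ(S, V) (M.presheaf.stalk xU.1) :=
    Module.compHom _ (algebraMap Γ(S, V) (P.presheaf.stalk xU.1))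
  haveI tARN : IsScalarTower Γ(S, V) (P.presheaf.stalk xU.1) (M.presheaf.stalk xU.1) :=
    IsScalarTower.of_compHom _ _ _
  haveI tABN : IsScalarTower Γ(S, V) Γ(P, U) (M.presheaf.stalk xU.1) :=
    IsScalarTower.of_algebraMap_smul (fun _ _ => rfl)
  letI modA'N : Module (S.presheaf.stalk (π.base xU.1)) (M.presheaf.stalk xU.1) :=
    FlatMod.moduleStalkOver π M xU.1
  haveI tAA'N : IsScalarTower Γ(S, V) (S.presheaf.stalk (π.base xU.1))
      (M.presheaf.stalk xU.1) :=
    IsScalarTower.of_algebraMap_smul (fun a n => by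
      change (π.stalkMap xU.1).hom (algebraMap Γ(S, V) (S.presheaf.stalk (π.base xU.1)) a) • n =
        algebraMap Γ(S, V) (P.presheaf.stalk xU.1) a • n
      rw [hcompat])
  haveI flAA' : Module.Flat Γ(S, V) (S.presheaf.stalk (π.base xU.1)) :=
    IsLocalization.flat _ (hV.primeIdealOf ⟨π.base xU.1, hsV⟩).asIdeal.primeCompl
  haveI flA'N : Module.Flat (S.presheaf.stalk (π.base xU.1)) (M.presheaf.stalk xU.1) := hflat
  haveI flAN : Module.Flat Γ(S, V) (M.presheaf.stalk xU.1) :=
    Module.Flat.trans Γ(S, V) (S.presheaf.stalk (π.base xU.1)) (M.presheaf.stalk xU.1)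
  haveI fpM : Module.FinitePresentation Γ(P, U) Γ(M, U) :=
    Groth.Agent.Lib.Helper49.finitePresentation_sections_of_isFinitePresentation M hM hU
  haveI hlocM : IsLocalizedModule q.primeCompl (germₗ M xU) := isLocalizedModule_germₗ hU M xU
  have hconv : ∀ n : M.presheaf.stalk xU.1,
      n ∈ (q.comap (algebraMap Γ(S, V) Γ(P, U))) • (⊤ : Submodule Γ(S, V) (M.presheaf.stalk xU.1)) ↔
      n ∈ (Ideal.map (π.stalkMap xU.1).hom (maximalIdeal (S.presheaf.stalk (π.base xU.1)))) •
        (⊤ : Submodule (P.presheaf.stalk xU.1) (M.presheaf.stalk xU.1)) := by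
    intro n
    rw [← hI]
    exact (Groth.Agent.Lib.Helper93.DepthFlat.mem_map_smul_top_iff
      (S := P.presheaf.stalk xU.1) _ n).symm
  exact isSMulRegular_of_fibre_module q (P.presheaf.stalk xU.1) Γ(M, U) (M.presheaf.stalk xU.1)
    (germₗ M xU) x1 (fun n hn => (hconv n).mpr (H1 n ((hconv _).mp hn)))

/-- An isomorphism of `O_X`-modules induces linear equivalences on stalks. -/
noncomputable def stalkEquivₗ {X : Scheme.{u}} {F G : X.Modules} (e : F ≅ G) (x : X) :
    F.presheaf.stalk x ≃ₗ[X.presheaf.stalk x] G.presheaf.stalk x :=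
  LinearEquiv.ofLinear (RefHull.stalkMapₗ e.hom x) (RefHull.stalkMapₗ e.inv x)
    (by
      apply LinearMap.ext
      intro v
      obtain ⟨U, hx, m, rfl⟩ := TopCat.Presheaf.exists_germ_eq G.presheaf v
      rw [LinearMap.comp_apply, RefHull.stalkMapₗ_germ, RefHull.stalkMapₗ_germ,
        ← ConcreteCategory.comp_apply (Scheme.Modules.Hom.app e.inv U),
        ← Scheme.Modules.Hom.comp_app, e.inv_hom_id, Scheme.Modules.Hom.id_app]
      rfl)
    (by
      apply LinearMap.ext
      intro v
      obtain ⟨U, hx, m, rfl⟩ := TopCat.Presheaf.exists_germ_eq F.presheaf v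
      rw [LinearMap.comp_apply, RefHull.stalkMapₗ_germ, RefHull.stalkMapₗ_germ,
        ← ConcreteCategory.comp_apply (Scheme.Modules.Hom.app e.hom U),
        ← Scheme.Modules.Hom.comp_app, e.hom_inv_id, Scheme.Modules.Hom.id_app]
      rfl)


open Groth.Agent.Lib.Helper16.FlatPull in
set_option linter.style.haveILetI false in
/-- Regular elements pull back along a morphism which is flat at the point. -/
theorem isSMulRegular_pullback_of_flat {X Y : Scheme.{u}} (h : X ⟶ Y) (G : Y.Modules)
    [G.IsQuasicoherent] (x : X) (hflat : (h.stalkMap x).hom.Flat)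
    (t : Y.presheaf.stalk (h.base x)) (ht : IsSMulRegular (G.presheaf.stalk (h.base x)) t) :
    IsSMulRegular (((Scheme.Modules.pullback h).obj G).presheaf.stalk x)
      ((h.stalkMap x).hom t) := by
  letI algA'B' : Algebra (Y.presheaf.stalk (h.base x)) (X.presheaf.stalk x) :=
    (h.stalkMap x).hom.toAlgebra
  letI modA'O : Module (Y.presheaf.stalk (h.base x))
      (((Scheme.Modules.pullback h).obj G).presheaf.stalk x) :=
    FlatMod.moduleStalkOver h ((Scheme.Modules.pullback h).obj G) x
  haveI tA'B'O : IsScalarTower (Y.presheaf.stalk (h.base x)) (X.presheaf.stalk x)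
      (((Scheme.Modules.pullback h).obj G).presheaf.stalk x) := IsScalarTower.of_compHom _ _ _
  obtain ⟨ψ, hψ⟩ := exists_isBaseChange_stalk h G x
  haveI hfl : Module.Flat (Y.presheaf.stalk (h.base x)) (X.presheaf.stalk x) := hflat
  exact isSMulRegular_of_flat_of_isBaseChange hψ t ht

open Groth.Agent.Lib.Helper16.FlatPull in
set_option linter.style.haveILetI false in
/-- If the stalk map of `h` at `x` is surjective with kernel `I` and the image of `x1` is regular on
`(h^* G)_x`, then `x1` is regular on `G_{h x} / I G_{h x}`. -/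
theorem regular_mod_ker_of_pullback {X Y : Scheme.{u}} (h : X ⟶ Y) (G : Y.Modules)
    [G.IsQuasicoherent] (x : X) (hsurj : Function.Surjective (h.stalkMap x).hom)
    (x1 : Y.presheaf.stalk (h.base x))
    (hreg : IsSMulRegular (((Scheme.Modules.pullback h).obj G).presheaf.stalk x)
      ((h.stalkMap x).hom x1))
    (n : G.presheaf.stalk (h.base x))
    (hn : x1 • n ∈ (RingHom.ker (h.stalkMap x).hom) •
      (⊤ : Submodule (Y.presheaf.stalk (h.base x)) (G.presheaf.stalk (h.base x)))) :
    n ∈ (RingHom.ker (h.stalkMap x).hom) •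
      (⊤ : Submodule (Y.presheaf.stalk (h.base x)) (G.presheaf.stalk (h.base x))) := by
  letI algA'B' : Algebra (Y.presheaf.stalk (h.base x)) (X.presheaf.stalk x) :=
    (h.stalkMap x).hom.toAlgebra
  letI modA'O : Module (Y.presheaf.stalk (h.base x))
      (((Scheme.Modules.pullback h).obj G).presheaf.stalk x) :=
    FlatMod.moduleStalkOver h ((Scheme.Modules.pullback h).obj G) x
  haveI tA'B'O : IsScalarTower (Y.presheaf.stalk (h.base x)) (X.presheaf.stalk x)
      (((Scheme.Modules.pullback h).obj G).presheaf.stalk x) := IsScalarTower.of_compHom _ _ _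
  obtain ⟨ψ, hψ⟩ := exists_isBaseChange_stalk h G x
  have h0 : ψ (x1 • n) = 0 := isBaseChange_eq_zero_of_mem_smul_top ψ _ hn
  rw [map_smul] at h0
  have h1 : (h.stalkMap x).hom x1 • ψ n = 0 := h0
  have h2 : ψ n = 0 := hreg.right_eq_zero_of_smul h1
  exact mem_smul_top_of_isBaseChange_eq_zero hsurj hψ n h2


open Groth.Agent.Lib.Helper16.FlatPull in
set_option linter.style.haveILetI false in
/-- EGA IV 11.10.10 for modules, the nontrivial direction. -/
theorem injective_of_fibrewise {X S : Scheme.{u}} (f : X ⟶ S) [LocallyOfFinitePresentation f]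
    (F : X.Modules) [F.IsQuasicoherent]
    (hF : SheafOfModules.IsFinitePresentation (R := X.ringCatSheaf) F)
    (hflat : FlatMod.IsFlatOver f F) (U : X.Opens)
    (H : ∀ (s : S) (V : (↑(f.fiber s) : Scheme.{u}).Opens),
      Function.Injective (((Scheme.Modules.pullback (f.fiberι s)).obj F).presheaf.map
        (homOfLE (inf_le_left : V ⊓ (f.fiberι s) ⁻¹ᵁ U ≤ V)).op))
    (S' : Scheme.{u}) (g : S' ⟶ S) (V : (↑(pullback f g) : Scheme.{u}).Opens) :
    Function.Injective (((Scheme.Modules.pullback (pullback.fst f g)).obj F).presheaf.map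
        (homOfLE (inf_le_left : V ⊓ (pullback.fst f g) ⁻¹ᵁ U ≤ V)).op) := by
  set π' := pullback.snd f g with hπ'
  haveI : LocallyOfFinitePresentation π' := inferInstance
  set F' := (Scheme.Modules.pullback (pullback.fst f g)).obj F with hF'
  haveI hqF' : F'.IsQuasicoherent := isQuasicoherent_pullback _ F
  have hfpF' : SheafOfModules.IsFinitePresentation (R := (pullback f g).ringCatSheaf) F' :=
    Groth.Agent.S8913.isFinitePresentation_pullback _ F hF
  have hflatF' : ∀ x, FlatMod.IsFlatOverAt π' F' x := fun x =>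
    isFlatOverAt_baseChange f π' (pullback.fst f g) g (IsPullback.of_hasPullback f g) F x (hflat _)
  apply injective_restrict_of_regular F' _ _ V
  intro x hx
  have key : ∀ (s' : S') (y : ↥(π'.fiber s')) (x₁ : ↥(pullback f g)),
      (π'.fiberι s').base y = x₁ → x₁ ∉ (pullback.fst f g) ⁻¹ᵁ U →
      ∃ x1 ∈ maximalIdeal ((pullback f g).presheaf.stalk x₁),
        IsSMulRegular (F'.presheaf.stalk x₁) x1 := by
    intro s' y x₁ hy hx₁
    subst hy
    obtain ⟨μ, hμflat, hμ⟩ := Groth.Agent.H46.FibreDense.exists_fibre_map f g s'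
    have hy₀ : μ.base y ∉ (f.fiberι (g s')) ⁻¹ᵁ U := by
      intro hmem
      apply hx₁
      have e1 : (f.fiberι (g s')).base (μ.base y) =
          (pullback.fst f g).base ((π'.fiberι s').base y) := by
        rw [← Scheme.Hom.comp_apply, hμ, Scheme.Hom.comp_apply]
      change (pullback.fst f g).base ((π'.fiberι s').base y) ∈ U
      rw [← e1]
      exact hmem
    haveI : LocallyOfFinitePresentation (f.fiberToSpecResidueField (g s')) :=
      (inferInstance : LocallyOfFinitePresentation
        (pullback.snd f (S.fromSpecResidueField (g s'))))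
    haveI : IsLocallyNoetherian (f.fiber (g s')) :=
      LocallyOfFiniteType.isLocallyNoetherian (f.fiberToSpecResidueField (g s'))
    set G := (Scheme.Modules.pullback (f.fiberι (g s'))).obj F with hG
    haveI hqG : G.IsQuasicoherent := isQuasicoherent_pullback _ F
    have hfpG : SheafOfModules.IsFinitePresentation (R := (f.fiber (g s')).ringCatSheaf) G :=
      Groth.Agent.S8913.isFinitePresentation_pullback _ F hF
    have hfinG : ∀ z : ↥(f.fiber (g s')),
        Module.Finite ((f.fiber (g s')).presheaf.stalk z) (G.presheaf.stalk z) := fun z => by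
      haveI := Groth.Agent.Lib.Helper49.finitePresentation_stalk_of_isFinitePresentation G hfpG z
      infer_instance
    obtain ⟨t, htm, htreg⟩ := exists_regular_of_injective_restrict G hfinG _ (H (g s'))
      (μ.base y) hy₀
    -- pull back along the flat map `μ`
    have ht1 := isSMulRegular_pullback_of_flat μ G y (Flat.stalkMap μ y) t htreg
    -- identify `μ^* ι^* F` with `ι'^* F'`
    let e : (Scheme.Modules.pullback μ).obj G ≅ (Scheme.Modules.pullback (π'.fiberι s')).obj F' :=
      (Scheme.Modules.pullbackComp μ (f.fiberι (g s'))).app F ≪≫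
        (Scheme.Modules.pullbackCongr hμ).app F ≪≫
        ((Scheme.Modules.pullbackComp (π'.fiberι s') (pullback.fst f g)).app F).symm
    have ht2 : IsSMulRegular
        (((Scheme.Modules.pullback (π'.fiberι s')).obj F').presheaf.stalk y)
        ((μ.stalkMap y).hom t) :=
      ((stalkEquivₗ e y).isSMulRegular_congr _).mp ht1
    have ht'm : (μ.stalkMap y).hom t ∈ maximalIdeal ((π'.fiber s').presheaf.stalk y) := by
      have h0 : IsLocalHom (μ.stalkMap y).hom := inferInstance
      have h1 : (maximalIdeal ((f.fiber (g s')).presheaf.stalk (μ.base y))).map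
          (μ.stalkMap y).hom ≤ maximalIdeal ((π'.fiber s').presheaf.stalk y) :=
        ((IsLocalRing.local_hom_TFAE (μ.stalkMap y).hom).out 0 2).mp h0
      exact h1 (Ideal.mem_map_of_mem _ htm)
    obtain ⟨x1, hx1⟩ := (π'.fiberι s').stalkMap_surjective y ((μ.stalkMap y).hom t)
    have hker := le_antisymm (Groth.Agent.Lib.Helper49.map_le_ker π' s' y)
      (Groth.Agent.Lib.Helper49.ker_le_map π' s' y)
    refine ⟨x1, ?_, lift_module π' F' hfpF' _ (hflatF' _) x1 ?_⟩
    · by_contra hnm
      have hu : IsUnit x1 := by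
        by_contra hnu
        exact hnm ((IsLocalRing.mem_maximalIdeal _).mpr hnu)
      have hu' := hu.map ((π'.fiberι s').stalkMap y).hom
      rw [hx1] at hu'
      exact ((IsLocalRing.mem_maximalIdeal _).mp ht'm) hu'
    · intro n hn
      rw [hker] at hn ⊢
      rw [← hx1] at ht2
      exact regular_mod_ker_of_pullback (π'.fiberι s') F' y
        ((π'.fiberι s').stalkMap_surjective y) x1 ht2 n hn
  exact key (π'.base x) (π'.asFiber x) x (π'.fiberι_asFiber x) hx

/-- **EGA IV 11.10.10 for modules** (S4879). -/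
theorem main_4879 {X S : Scheme.{u}} (f : X ⟶ S) [LocallyOfFinitePresentation f]
    (F : X.Modules) [F.IsQuasicoherent]
    (hF : SheafOfModules.IsFinitePresentation (R := X.ringCatSheaf) F)
    (hflat : FlatMod.IsFlatOver f F) (U : X.Opens) :
    (∀ (S' : Scheme.{u}) (g : S' ⟶ S) (V : (↑(pullback f g) : Scheme.{u}).Opens),
      Function.Injective (((Scheme.Modules.pullback (pullback.fst f g)).obj F).presheaf.map
        (homOfLE (inf_le_left : V ⊓ (pullback.fst f g) ⁻¹ᵁ U ≤ V)).op)) ↔
    ∀ (s : S) (V : (↑(f.fiber s) : Scheme.{u}).Opens),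
      Function.Injective (((Scheme.Modules.pullback (f.fiberι s)).obj F).presheaf.map
        (homOfLE (inf_le_left : V ⊓ (f.fiberι s) ⁻¹ᵁ U ≤ V)).op) :=
  ⟨fun H s V => H _ (S.fromSpecResidueField s) V,
    fun H S' g V => injective_of_fibrewise f F hF hflat U H S' g V⟩

end Scheme

end Groth.Agent.H46.FibreDenseMod
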