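/-
helper46: a finitely presented module, flat over the base, whose fibre is free, is free
(no Noetherian hypotheses); application to relative torsion-free sheaves at points of fibre
codimension ≤ 1 of a smooth morphism.
-/
import Mathlib
import Groth.Agent.Lib.Helper12.FourTermFlat
import Groth.Prelude.Def_CInt
import Groth.Prelude.Def_TorSh
import Groth.Agent.Lib.Helper49.FiberStalk
import Groth.Agent.Lib.Helper49.FinLocFree
import Groth.Agent.Lib.Helper16.FlatPull.Stalk
import Groth.Agent.Lib.Helper70.DedekindFlatA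
import Groth.Agent.Lib.Helper85.RegularLocal
import Groth.Agent.S1535

set_option autoImplicit false
universe u

open IsLocalRing TensorProduct

namespace Groth.Agent.H46.FibreFree

section Algebra

variable {A R : Type u} [CommRing A] [CommRing R] [IsLocalRing R] [Algebra A R]
  (𝔞 : Ideal A)
  (M : Type u) [AddCommGroup M] [Module R M] [Module A M] [IsScalarTower A R M]
  (O : Type u) [CommRing O] [Algebra R O]
  (N : Type u) [AddCommGroup N] [Module O N] [Module R N] [IsScalarTower R O N]
  (ψ : M →ₗ[R] N)

omit [IsLocalRing R] in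
theorem surjective_of_isBaseChange (hsurj : Function.Surjective (algebraMap R O))
    (hψ : IsBaseChange O ψ) : Function.Surjective ψ := by
  intro n
  refine hψ.inductionOn n (fun n => ∃ m, ψ m = n) ⟨0, map_zero _⟩ (fun m => ⟨m, rfl⟩) ?_ ?_
  · rintro o n ⟨m, rfl⟩
    obtain ⟨r, rfl⟩ := hsurj o
    exact ⟨r • m, by rw [map_smul, algebraMap_smul]⟩
  · rintro n₁ n₂ ⟨m₁, rfl⟩ ⟨m₂, rfl⟩
    exact ⟨m₁ + m₂, map_add _ _ _⟩

omit [IsLocalRing R] in
theorem mem_smul_top_of_map_eq_zero (hsurj : Function.Surjective (algebraMap R O))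
    (hψ : IsBaseChange O ψ) (m : M) (hm : ψ m = 0) :
    m ∈ (RingHom.ker (algebraMap R O)) • (⊤ : Submodule R M) := by
  have h1 : (1 : O) ⊗ₜ[R] m = 0 := by
    rw [← hψ.equiv_symm_apply, hm, map_zero]
  let e : (R ⧸ RingHom.ker (algebraMap R O)) ≃ₗ[R] O :=
    (Ideal.quotientKerAlgEquivOfSurjective (f := Algebra.ofId R O) hsurj).toLinearEquiv
  have he1 : e 1 = 1 := map_one (Ideal.quotientKerAlgEquivOfSurjective (f := Algebra.ofId R O) hsurj)
  let E := TensorProduct.congr e (LinearEquiv.refl R M)
  have h2 : E ((1 : R ⧸ RingHom.ker (algebraMap R O)) ⊗ₜ[R] m) = 0 := by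
    rw [TensorProduct.congr_tmul, he1]
    exact h1
  have h3 : (1 : R ⧸ RingHom.ker (algebraMap R O)) ⊗ₜ[R] m = 0 := by
    apply E.injective
    rw [h2, map_zero]
  have h4 := congrArg (TensorProduct.quotTensorEquivQuotSMul M (RingHom.ker (algebraMap R O))) h3
  rw [TensorProduct.quotTensorEquivQuotSMul_mk_one_tmul, map_zero,
    Submodule.Quotient.mk_eq_zero] at h4
  exact h4

theorem free_of_fibre_free (h𝔞 : 𝔞.map (algebraMap A R) ≤ maximalIdeal R)
    [Module.FinitePresentation R M] [Module.Flat A M]
    (hsurj : Function.Surjective (algebraMap R O))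
    (hker : RingHom.ker (algebraMap R O) = 𝔞.map (algebraMap A R))
    (hψ : IsBaseChange O ψ) [Module.Free O N] : Module.Free R M := by
  classical
  set I : Ideal R := 𝔞.map (algebraMap A R) with hI
  have hjac : I ≤ Ideal.jacobson ⊥ := by
    rw [IsLocalRing.jacobson_eq_maximalIdeal ⊥ bot_ne_top]
    exact h𝔞
  have hψs := surjective_of_isBaseChange M O N ψ hsurj hψ
  have hψk : ∀ m, ψ m = 0 → m ∈ I • (⊤ : Submodule R M) := fun m hm => by
    rw [← hker]
    exact mem_smul_top_of_map_eq_zero M O N ψ hsurj hψ m hm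
  haveI : Module.Finite R N := Module.Finite.of_surjective ψ hψs
  haveI : Module.Finite O N := Module.Finite.of_restrictScalars_finite R O N
  let b := Module.Free.chooseBasis O N
  let ι := Module.Free.ChooseBasisIndex O N
  choose e he using fun i : ι => hψs (b i)
  let φ : (ι → R) →ₗ[R] M := Fintype.linearCombination R e
  have hφ : ∀ r : ι → R, ψ (φ r) = ∑ i, algebraMap R O (r i) • b i := by
    intro r
    simp only [φ, Fintype.linearCombination_apply, map_sum, map_smul, he, algebraMap_smul]
  -- surjectivity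
  have hφs : Function.Surjective φ := by
    rw [← LinearMap.range_eq_top, eq_top_iff]
    refine Submodule.le_of_le_smul_of_le_jacobson_bot (Module.Finite.fg_top) hjac ?_
    intro m _
    choose r hr using fun i => hsurj (b.repr (ψ m) i)
    have h1 : ψ (φ r) = ψ m := by
      rw [hφ]
      simp only [hr]
      exact b.sum_repr (ψ m)
    have h2 : m - φ r ∈ I • (⊤ : Submodule R M) := hψk _ (by rw [map_sub, h1, sub_self])
    have h3 : m = φ r + (m - φ r) := by abel
    rw [h3]
    exact Submodule.add_mem_sup (LinearMap.mem_range_self φ r) h2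
  -- the kernel
  set K : Submodule R (ι → R) := LinearMap.ker φ with hK
  have hKfg : K.FG := Module.FinitePresentation.fg_ker φ hφs
  have hKI : ∀ k ∈ K, k ∈ I • (⊤ : Submodule R (ι → R)) := by
    intro k hk
    have h1 : ∑ i, algebraMap R O (k i) • b i = 0 := by
      rw [← hφ, (LinearMap.mem_ker.mp hk), map_zero]
    have h2 : ∀ i, k i ∈ I := by
      intro i
      have := (Fintype.linearIndependent_iff.mp b.linearIndependent) _ h1 i
      rw [← hker]
      exact this
    rw [pi_eq_sum_univ k]
    refine Submodule.sum_mem _ fun i _ => ?_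
    exact Submodule.smul_mem_smul (h2 i) Submodule.mem_top
  have hpure : ∀ z : K, z ∈ I • (⊤ : Submodule R K) := by
    intro z
    exact Groth.Agent.Lib.Helper12.FourTermFlat.mem_smul_top_of_flat_coker (A := A) (B := R)
      K.subtype φ (Submodule.injective_subtype K) (LinearMap.exact_subtype_ker_map φ) hφs 𝔞 z
      (hKI z.1 z.2)
  haveI : Module.Finite R K := Module.Finite.iff_fg.mpr hKfg
  have htop : (⊤ : Submodule R K) = ⊥ :=
    Submodule.eq_bot_of_le_smul_of_le_jacobson_bot I ⊤ Module.Finite.fg_top
      (fun z _ => hpure z) hjac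
  have hφi : Function.Injective φ := by
    rw [← LinearMap.ker_eq_bot, eq_bot_iff]
    intro k hk
    have h1 : (⟨k, hk⟩ : K) ∈ (⊤ : Submodule R K) := Submodule.mem_top
    rw [htop, Submodule.mem_bot] at h1
    exact congrArg Subtype.val h1
  exact Module.Free.of_equiv (LinearEquiv.ofBijective φ ⟨hφi, hφs⟩)

end Algebra

section Scheme

open AlgebraicGeometry CategoryTheory Limits

variable {P S : Scheme.{u}} (π : P ⟶ S)

set_option linter.style.haveILetI false in
/-- Key statement, at a point of a fibre. -/
theorem free_stalk_fiberι [Smooth π] (F : P.Modules) (hfp : CohB1.IsFP F)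
    (hfl : FlatMod.IsFlatOver π F)
    (htf : ∀ s : S, TorSh.IsTorsionFree ((Scheme.Modules.pullback (π.fiberι s)).obj F))
    (s : S) (y : ↥(π.fiber s))
    (hy : ringKrullDim ((π.fiber s).presheaf.stalk y) ≤ 1) :
    Module.Free (P.presheaf.stalk ((π.fiberι s).base y))
      ↑(F.presheaf.stalk ((π.fiberι s).base y)) := by
  haveI hqc : F.IsQuasicoherent :=
    Groth.Agent.Lib.Helper49.isQuasicoherent_of_isFinitePresentation F hfp
  set x' := (π.fiberι s).base y with hx'
  -- the fibre local ring is a PID
  haveI hreg : IsRegularLocalRing ((π.fiber s).presheaf.stalk y) := by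
    letI : (π.fiber s).Over (Spec (CommRingCat.of (S.residueField s))) :=
      ⟨π.fiberToSpecResidueField s⟩
    haveI : Smooth (π.fiber s ↘ Spec (CommRingCat.of (S.residueField s))) :=
      (inferInstance : Smooth (pullback.snd π (S.fromSpecResidueField s)))
    exact Groth.Agent.S1535.result (S.residueField s) (π.fiber s) y
  haveI hdom : IsDomain ((π.fiber s).presheaf.stalk y) :=
    Groth.Agent.Lib.Helper85.isDomain_of_isRegularLocalRing _
  haveI hpid : IsPrincipalIdealRing ((π.fiber s).presheaf.stalk y) :=
    Groth.Agent.Lib.Helper70.DedekindFlatA.isPrincipalIdealRing_of_regular_dim_le_one _ hy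
  -- algebra structures
  letI algAR : Algebra (S.presheaf.stalk (π.base x')) (P.presheaf.stalk x') :=
    (π.stalkMap x').hom.toAlgebra
  letI algRO : Algebra (P.presheaf.stalk x') ((π.fiber s).presheaf.stalk y) :=
    ((π.fiberι s).stalkMap y).hom.toAlgebra
  letI modAM : Module (S.presheaf.stalk (π.base x')) (F.presheaf.stalk x') :=
    FlatMod.moduleStalkOver π F x'
  haveI towAM : IsScalarTower (S.presheaf.stalk (π.base x')) (P.presheaf.stalk x')
      (F.presheaf.stalk x') := IsScalarTower.of_compHom _ _ _
  haveI flat : Module.Flat (S.presheaf.stalk (π.base x')) (F.presheaf.stalk x') := hfl x'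
  haveI fpM : Module.FinitePresentation (P.presheaf.stalk x') (F.presheaf.stalk x') :=
    Groth.Agent.Lib.Helper49.finitePresentation_stalk_of_isFinitePresentation F hfp x'
  letI modRN : Module (P.presheaf.stalk x')
      (((Scheme.Modules.pullback (π.fiberι s)).obj F).presheaf.stalk y) :=
    FlatMod.moduleStalkOver (π.fiberι s) ((Scheme.Modules.pullback (π.fiberι s)).obj F) y
  haveI towRN : IsScalarTower (P.presheaf.stalk x') ((π.fiber s).presheaf.stalk y)
      (((Scheme.Modules.pullback (π.fiberι s)).obj F).presheaf.stalk y) :=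
    IsScalarTower.of_compHom _ _ _
  obtain ⟨ψ, hψ⟩ := Groth.Agent.Lib.Helper16.FlatPull.exists_isBaseChange_stalk (π.fiberι s) F y
  have hsurj : Function.Surjective
      (algebraMap (P.presheaf.stalk x') ((π.fiber s).presheaf.stalk y)) :=
    (π.fiberι s).stalkMap_surjective y
  have hker : RingHom.ker (algebraMap (P.presheaf.stalk x') ((π.fiber s).presheaf.stalk y)) =
      (maximalIdeal (S.presheaf.stalk (π.base x'))).map
        (algebraMap (S.presheaf.stalk (π.base x')) (P.presheaf.stalk x')) :=
    (le_antisymm (Groth.Agent.Lib.Helper49.map_le_ker π s y)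
      (Groth.Agent.Lib.Helper49.ker_le_map π s y)).symm
  have h𝔞 : (maximalIdeal (S.presheaf.stalk (π.base x'))).map
      (algebraMap (S.presheaf.stalk (π.base x')) (P.presheaf.stalk x')) ≤
        maximalIdeal (P.presheaf.stalk x') := by
    have h0 : IsLocalHom (π.stalkMap x').hom := inferInstance
    exact ((IsLocalRing.local_hom_TFAE (π.stalkMap x').hom).out 0 2).mp h0
  -- freeness of the fibre module
  haveI finM : Module.Finite (P.presheaf.stalk x') (F.presheaf.stalk x') := inferInstance
  haveI finN : Module.Finite ((π.fiber s).presheaf.stalk y)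
      (((Scheme.Modules.pullback (π.fiberι s)).obj F).presheaf.stalk y) :=
    Module.Finite.equiv hψ.equiv
  haveI tfN : Module.IsTorsionFree ((π.fiber s).presheaf.stalk y)
      (((Scheme.Modules.pullback (π.fiberι s)).obj F).presheaf.stalk y) := htf s y
  haveI freeN : Module.Free ((π.fiber s).presheaf.stalk y)
      (((Scheme.Modules.pullback (π.fiberι s)).obj F).presheaf.stalk y) :=
    Module.free_of_finite_type_torsion_free'
  exact free_of_fibre_free (maximalIdeal (S.presheaf.stalk (π.base x')))
    (F.presheaf.stalk x') ((π.fiber s).presheaf.stalk y)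
    (((Scheme.Modules.pullback (π.fiberι s)).obj F).presheaf.stalk y) ψ h𝔞 hsurj hker hψ

/-- S16424, general form. -/
theorem exists_free_nhd [Smooth π] (F : P.Modules) (hfp : CohB1.IsFP F)
    (hfl : FlatMod.IsFlatOver π F)
    (htf : ∀ s : S, TorSh.IsTorsionFree ((Scheme.Modules.pullback (π.fiberι s)).obj F))
    (x : P) (hx : ringKrullDim (CInt.fiberStalk π x) ≤ 1) :
    ∃ (V : P.Opens) (n : ℕ), x ∈ V ∧ Nonempty (F.restrict V.ι ≅ FlatMod.freeMod (↑V) n) := by
  have key : ∀ x₁ : P, (π.fiberι (π.base x)).base (π.asFiber x) = x₁ →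
      Module.Free (P.presheaf.stalk x₁) ↑(F.presheaf.stalk x₁) := by
    rintro _ rfl
    exact free_stalk_fiberι π F hfp hfl htf (π.base x) (π.asFiber x) hx
  exact Groth.Agent.Lib.Helper49.exists_iso_restrict_freeMod_of_stalk_free F hfp x
    (key x (π.fiberι_asFiber x))

end Scheme

end Groth.Agent.H46.FibreFree
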