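/-
helper46: flat over the base + flat on the fibre (finitely presented) ⇒ free near the point.
-/
import Mathlib
import Groth.Agent.H46.FibreFree

set_option autoImplicit false
universe u

open IsLocalRing TensorProduct

namespace Groth.Agent.H46.FibreFree

theorem isBaseChange_mkQ {R : Type u} [CommRing R] (I : Ideal R) (M : Type u) [AddCommGroup M]
    [Module R M] : IsBaseChange (R ⧸ I) (Submodule.mkQ (I • (⊤ : Submodule R M))) := by
  refine IsBaseChange.of_equiv
    ((TensorProduct.quotTensorEquivQuotSMul M I).extendScalarsOfSurjective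
      Ideal.Quotient.mk_surjective) ?_
  intro x
  simp

/-- Algebra form: `M` f.p. over local `R`, flat over `A`, `M/IM` flat over `R/I` with
`I = 𝔞R ⊆ m_R` ⇒ `M` free. -/
theorem free_of_fibre_flat {A R : Type u} [CommRing A] [CommRing R] [IsLocalRing R] [Algebra A R]
    (𝔞 : Ideal A) (M : Type u) [AddCommGroup M] [Module R M] [Module A M] [IsScalarTower A R M]
    (h𝔞 : 𝔞.map (algebraMap A R) ≤ maximalIdeal R)
    [Module.FinitePresentation R M] [Module.Flat A M]
    (hfl : Module.Flat (R ⧸ 𝔞.map (algebraMap A R))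
      (M ⧸ (𝔞.map (algebraMap A R)) • (⊤ : Submodule R M))) : Module.Free R M := by
  set I := 𝔞.map (algebraMap A R) with hI
  have hbc := isBaseChange_mkQ I M
  haveI : Nontrivial (R ⧸ I) := Ideal.Quotient.nontrivial_iff.mpr
    (fun h => (maximalIdeal.isMaximal R).ne_top (top_le_iff.mp (h ▸ h𝔞)))
  haveI : IsLocalRing (R ⧸ I) :=
    IsLocalRing.of_surjective' (Ideal.Quotient.mk I) Ideal.Quotient.mk_surjective
  haveI : Module.FinitePresentation (R ⧸ I) (M ⧸ I • (⊤ : Submodule R M)) :=
    _root_.FinitePresentation.of_isBaseChange _ hbc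
  haveI : Module.Free (R ⧸ I) (M ⧸ I • (⊤ : Submodule R M)) :=
    Module.free_of_flat_of_isLocalRing
  exact free_of_fibre_free 𝔞 M (R ⧸ I) (M ⧸ I • (⊤ : Submodule R M))
    (Submodule.mkQ (I • (⊤ : Submodule R M))) h𝔞 Ideal.Quotient.mk_surjective
    (by rw [Ideal.Quotient.algebraMap_eq, Ideal.mk_ker]) hbc

section Scheme

open AlgebraicGeometry CategoryTheory Limits

set_option linter.style.haveILetI false in
theorem main_1393 {X S : Scheme.{u}} (f : X ⟶ S)
    (F : X.Modules) (hFp : CohB1.IsFP F) (x : X) (h1 : FlatMod.IsFlatOverAt f F x)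
    (h2 : Module.Flat (↑(X.presheaf.stalk x) ⧸ Ideal.map (f.stalkMap x).hom (IsLocalRing.maximalIdeal ↑(S.presheaf.stalk (f x))))
      (↑(F.presheaf.stalk x) ⧸ (Ideal.map (f.stalkMap x).hom (IsLocalRing.maximalIdeal ↑(S.presheaf.stalk (f x))) • (⊤ : Submodule ↑(X.presheaf.stalk x) ↑(F.presheaf.stalk x))))) :
    ∃ (U : X.Opens) (n : ℕ), x ∈ U ∧ Nonempty (F.restrict U.ι ≅ FlatMod.freeMod (↑U) n) := by
  letI algAR : Algebra (S.presheaf.stalk (f.base x)) (X.presheaf.stalk x) :=
    (f.stalkMap x).hom.toAlgebra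
  letI modAM : Module (S.presheaf.stalk (f.base x)) (F.presheaf.stalk x) :=
    FlatMod.moduleStalkOver f F x
  haveI towAM : IsScalarTower (S.presheaf.stalk (f.base x)) (X.presheaf.stalk x)
      (F.presheaf.stalk x) := IsScalarTower.of_compHom _ _ _
  haveI flat : Module.Flat (S.presheaf.stalk (f.base x)) (F.presheaf.stalk x) := h1
  haveI fpM : Module.FinitePresentation (X.presheaf.stalk x) (F.presheaf.stalk x) :=
    Groth.Agent.Lib.Helper49.finitePresentation_stalk_of_isFinitePresentation F hFp x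
  have h𝔞 : (maximalIdeal (S.presheaf.stalk (f.base x))).map
      (algebraMap (S.presheaf.stalk (f.base x)) (X.presheaf.stalk x)) ≤
        maximalIdeal (X.presheaf.stalk x) := by
    have h0 : IsLocalHom (f.stalkMap x).hom := inferInstance
    exact ((IsLocalRing.local_hom_TFAE (f.stalkMap x).hom).out 0 2).mp h0
  have hfree : Module.Free (X.presheaf.stalk x) (F.presheaf.stalk x) :=
    free_of_fibre_flat (maximalIdeal (S.presheaf.stalk (f.base x))) (F.presheaf.stalk x) h𝔞 h2
  exact Groth.Agent.Lib.Helper49.exists_iso_restrict_freeMod_of_stalk_free F hFp x hfree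

end Scheme

end Groth.Agent.H46.FibreFree
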