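/-
helper46: spreading out weakly regular sequences with flat quotients from a point to a basic open
neighbourhood (finitely presented, non-Noetherian setting).
-/
import Mathlib
import Groth.Agent.H76.FlatLocusFP
import Groth.Agent.H76.FlatKerFP
import Groth.Agent.Lib.Helper62.FibReg13
import Groth.Agent.Lib.Helper23.CokerFlatOpen

set_option autoImplicit false
universe u

open IsLocalRing RingTheory.Sequence TensorProduct
open scoped Pointwise

namespace Groth.Agent.H46.RegSpread

section IterLoc

variable {B : Type u} [CommRing B] (h : B) (M : Type u) [AddCommGroup M] [Module B M]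

/-- Localizing `M_h` at a prime `P'` of `B_h` is localizing `M` at the contraction of `P'`. -/
theorem isLocalizedModule_comp (P' : Ideal (Localization.Away h)) [P'.IsPrime] :
    IsLocalizedModule (P'.comap (algebraMap B (Localization.Away h))).primeCompl
      (((LocalizedModule.mkLinearMap P'.primeCompl
        (LocalizedModule (Submonoid.powers h) M)).restrictScalars B) ∘ₗ
        (LocalizedModule.mkLinearMap (Submonoid.powers h) M)) := by
  set q := P'.comap (algebraMap B (Localization.Away h)) with hq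
  set M' := LocalizedModule (Submonoid.powers h) M with hM'
  set ℓ := LocalizedModule.mkLinearMap (Submonoid.powers h) M with hℓ
  set ℓ' := LocalizedModule.mkLinearMap P'.primeCompl M' with hℓ'
  have hunit : IsUnit (algebraMap B (Localization.Away h) h) :=
    IsLocalization.Away.algebraMap_isUnit h
  have hhq : h ∉ q := by
    intro hmem
    have : algebraMap B (Localization.Away h) h ∈ P' := hmem
    exact (Ideal.IsPrime.ne_top inferInstance) (Ideal.eq_top_of_isUnit_mem _ this hunit)
  have hpow : ∀ k : ℕ, h ^ k ∉ q := fun k hk =>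
    hhq (Ideal.IsPrime.mem_of_pow_mem inferInstance k hk)
  refine ⟨?_, ?_, ?_⟩
  · intro s
    have hs : algebraMap B (Localization.Away h) s.1 ∈ P'.primeCompl := s.2
    have hu := IsLocalizedModule.map_units ℓ' ⟨_, hs⟩
    rw [Module.End.isUnit_iff] at hu ⊢
    have e : ∀ y : LocalizedModule P'.primeCompl M',
        (algebraMap B (Module.End B (LocalizedModule P'.primeCompl M')) s.1) y =
        (algebraMap (Localization.Away h) (Module.End (Localization.Away h)
          (LocalizedModule P'.primeCompl M')) (algebraMap B (Localization.Away h) s.1)) y := by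
      intro y
      rw [Module.algebraMap_end_apply, Module.algebraMap_end_apply, algebraMap_smul]
    constructor
    · intro a b hab
      apply hu.1
      rw [← e, ← e]
      exact hab
    · intro y
      obtain ⟨a, ha⟩ := hu.2 y
      exact ⟨a, (e a).trans ha⟩
  · intro y
    obtain ⟨⟨m', t'⟩, hy⟩ := IsLocalizedModule.surj P'.primeCompl ℓ' y
    obtain ⟨⟨m₀, u⟩, hm'⟩ := IsLocalizedModule.surj (Submonoid.powers h) ℓ m'
    obtain ⟨⟨b, v⟩, hb⟩ := IsLocalization.surj (Submonoid.powers h) (t' : Localization.Away h)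
    simp only at hy hm' hb
    have hbq : b ∉ q := by
      intro hmem
      have h1 : algebraMap B (Localization.Away h) b ∈ P' := hmem
      rw [← hb] at h1
      rcases Ideal.IsPrime.mem_or_mem inferInstance h1 with h2 | h2
      · exact t'.2 h2
      · obtain ⟨k, hk⟩ := v.2
        have : algebraMap B (Localization.Away h) (v : B) ∈ P' := h2
        rw [← hk] at this
        exact hpow k this
    have huq : (u : B) ∉ q := by
      obtain ⟨k, hk⟩ := u.2
      rw [← hk]
      exact hpow k
    refine ⟨⟨(v : B) • m₀, ⟨b * (u : B), fun hmem => ?_⟩⟩, ?_⟩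
    · rcases Ideal.IsPrime.mem_or_mem inferInstance hmem with h2 | h2
      · exact hbq h2
      · exact huq h2
    · change (b * (u : B)) • y = ℓ' (ℓ ((v : B) • m₀))
      have hℓ'B : ∀ (c : B) (x : M'), ℓ' (c • x) = c • ℓ' x := fun c x => by
        rw [← algebraMap_smul (Localization.Away h) c x, map_smul, algebraMap_smul]
      have hy' : (t' : Localization.Away h) • y = ℓ' m' := hy
      have h1 : b • y = ℓ' ((v : B) • m') := by
        rw [hℓ'B, ← algebraMap_smul (Localization.Away h) b y, ← hb, mul_comm, mul_smul, hy',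
          algebraMap_smul]
      have h2 : (u : B) • m' = ℓ m₀ := hm'
      rw [mul_comm, mul_smul, h1, ← hℓ'B, smul_comm, h2, ← map_smul]
  · intro m₁ m₂ hm
    have hm' : ℓ' (ℓ m₁) = ℓ' (ℓ m₂) := hm
    obtain ⟨t', ht'⟩ := IsLocalizedModule.exists_of_eq (S := P'.primeCompl) hm'
    obtain ⟨⟨b, v⟩, hb⟩ := IsLocalization.surj (Submonoid.powers h) (t' : Localization.Away h)
    simp only at hb
    have hbq : b ∉ q := by
      intro hmem
      have h1 : algebraMap B (Localization.Away h) b ∈ P' := hmem
      rw [← hb] at h1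
      rcases Ideal.IsPrime.mem_or_mem inferInstance h1 with h2 | h2
      · exact t'.2 h2
      · obtain ⟨k, hk⟩ := v.2
        have : algebraMap B (Localization.Away h) (v : B) ∈ P' := h2
        rw [← hk] at this
        exact hpow k this
    have ht'' : (t' : Localization.Away h) • ℓ m₁ = (t' : Localization.Away h) • ℓ m₂ := ht'
    have h3 : ℓ (b • m₁) = ℓ (b • m₂) := by
      rw [map_smul, map_smul, ← algebraMap_smul (Localization.Away h) b (ℓ m₁),
        ← algebraMap_smul (Localization.Away h) b (ℓ m₂), ← hb, mul_comm, mul_smul, mul_smul, ht'']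
    obtain ⟨w, hw⟩ := IsLocalizedModule.exists_of_eq (S := Submonoid.powers h) h3
    refine ⟨⟨(w : B) * b, fun hmem => ?_⟩, ?_⟩
    · rcases Ideal.IsPrime.mem_or_mem inferInstance hmem with h2 | h2
      · obtain ⟨k, hk⟩ := w.2
        rw [← hk] at h2
        exact hpow k h2
      · exact hbq h2
    · change ((w : B) * b) • m₁ = ((w : B) * b) • m₂
      rw [mul_smul, mul_smul]
      exact hw

end IterLoc

section Ra
variable {A B : Type u} [CommRing A] [CommRing B] [Algebra A B] (h : B) (M : Type u)
  [AddCommGroup M] [Module B M] [Module A M] [IsScalarTower A B M]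

theorem flat_localizedModule_away
    (H : ∀ (q : Ideal B) [q.IsPrime], h ∉ q → Module.Flat A (LocalizedModule q.primeCompl M)) :
    Module.Flat A (LocalizedModule (Submonoid.powers h) M) := by
  refine Module.flat_of_isLocalized_maximal (R := A) (Localization.Away h)
    (LocalizedModule (Submonoid.powers h) M)
    (fun P _ => LocalizedModule P.primeCompl (LocalizedModule (Submonoid.powers h) M))
    (fun P _ => LocalizedModule.mkLinearMap P.primeCompl _) (fun P hP => ?_)
  haveI : P.IsPrime := hP.isPrime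
  set q := P.comap (algebraMap B (Localization.Away h)) with hq
  have hhq : h ∉ q := by
    intro hmem
    have : algebraMap B (Localization.Away h) h ∈ P := hmem
    exact (Ideal.IsPrime.ne_top inferInstance)
      (Ideal.eq_top_of_isUnit_mem _ this (IsLocalization.Away.algebraMap_isUnit h))
  haveI hqp : q.IsPrime := Ideal.comap_isPrime _ _
  haveI hfl : Module.Flat A (LocalizedModule q.primeCompl M) := H q hhq
  haveI := isLocalizedModule_comp h M P
  let e := IsLocalizedModule.linearEquiv q.primeCompl
    (LocalizedModule.mkLinearMap q.primeCompl M)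
    (((LocalizedModule.mkLinearMap P.primeCompl
        (LocalizedModule (Submonoid.powers h) M)).restrictScalars B) ∘ₗ
        (LocalizedModule.mkLinearMap (Submonoid.powers h) M))
  exact Module.Flat.of_linearEquiv (e.symm.restrictScalars A)

end Ra

section KL
open Groth.Agent.Lib.Helper62.FibReg

variable {A B : Type u} [CommRing A] [CommRing B] [Algebra A B] [Algebra.FinitePresentation A B]
  (M : Type u) [AddCommGroup M] [Module B M] [Module A M] [IsScalarTower A B M]
  [Module.FinitePresentation B M]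
  (r : B) (q : Ideal B) [q.IsPrime]
  {N : Type u} [AddCommGroup N] [Module B N] [Module A N] [IsScalarTower A B N]
  (ℓ : M →ₗ[B] N) [IsLocalizedModule q.primeCompl ℓ]

/-- A common killer outside `q` for a finitely generated submodule each of whose elements is
killed by something outside `q`. -/
theorem exists_notMem_smul_eq_zero {B₁ L : Type u} [CommRing B₁] [Algebra B B₁] [AddCommGroup L]
    [Module B L] [Module B₁ L] [IsScalarTower B B₁ L] (K : Submodule B₁ L) (hK : K.FG)
    (h : ∀ k ∈ K, ∃ t : B, t ∉ q ∧ t • k = 0) : ∃ b : B, b ∉ q ∧ ∀ k ∈ K, b • k = 0 := by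
  obtain ⟨s, hs⟩ := hK
  classical
  have key : ∀ s' : Finset L, (∀ k ∈ s', k ∈ K) → ∃ b : B, b ∉ q ∧ ∀ k ∈ s', b • k = 0 := by
    intro s'
    induction s' using Finset.induction_on with
    | empty => exact fun _ => ⟨1, fun h1 => (Ideal.IsPrime.ne_top inferInstance)
        ((Ideal.eq_top_iff_one _).mpr h1), fun k hk => by simp at hk⟩
    | insert a s' ha ih =>
      intro hmem
      obtain ⟨b, hb, hbk⟩ := ih (fun k hk => hmem k (Finset.mem_insert_of_mem hk))
      obtain ⟨t, ht, hta⟩ := h a (hmem a (Finset.mem_insert_self _ _))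
      refine ⟨b * t, fun hbt => (Ideal.IsPrime.mem_or_mem inferInstance hbt).elim hb ht, ?_⟩
      intro k hk
      rcases Finset.mem_insert.mp hk with rfl | hk
      · rw [mul_smul, hta, smul_zero]
      · rw [mul_comm, mul_smul, hbk k hk, smul_zero]
  obtain ⟨b, hb, hbk⟩ := key s (fun k hk => by rw [← hs]; exact Submodule.subset_span hk)
  refine ⟨b, hb, fun k hk => ?_⟩
  rw [← hs] at hk
  refine Submodule.span_induction (p := fun k _ => b • k = 0) (fun x hx => hbk x hx) (smul_zero _)
    (fun x y _ _ hx hy => by rw [smul_add, hx, hy, add_zero])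
    (fun a x _ hx => ?_) hk
  rw [← algebraMap_smul B₁ b (a • x), smul_comm, algebraMap_smul, hx, smul_zero]


include ℓ in
set_option maxHeartbeats 800000 in
theorem exists_pow_smul_eq_zero (hreg : IsSMulRegular N r)
    (hflat : Module.Flat A (QuotSMulTop r N)) :
    ∃ h : B, h ∉ q ∧ ∀ m : M, r • m = 0 → ∃ n : ℕ, h ^ n • m = 0 := by
  haveI hCfp : Module.FinitePresentation B (QuotSMulTop r M) := finitePresentation_quotSMulTop M r
  haveI hlocC : IsLocalizedModule q.primeCompl (QuotSMulTop.map r ℓ) :=
    isLocalizedModule_quotSMulTop_map q.primeCompl ℓ r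
  have hflatq : Module.Flat A (LocalizedModule q.primeCompl (QuotSMulTop r M)) := by
    let e := IsLocalizedModule.linearEquiv q.primeCompl
      (LocalizedModule.mkLinearMap q.primeCompl (QuotSMulTop r M)) (QuotSMulTop.map r ℓ)
    exact Module.Flat.of_linearEquiv (e.restrictScalars A)
  have hopen := Groth.Agent.H76.FlatLocusFP.isOpen_flatLocus (R := A) (S := B)
    (M := QuotSMulTop r M)
  have hmem : (⟨q, inferInstance⟩ : PrimeSpectrum B) ∈ {q' : PrimeSpectrum B |
      Module.Flat A (LocalizedModule q'.asIdeal.primeCompl (QuotSMulTop r M))} := hflatq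
  obtain ⟨_, ⟨h₁, rfl⟩, hq₁, hsub⟩ :=
    PrimeSpectrum.isTopologicalBasis_basic_opens.exists_subset_of_mem_open hmem hopen
  have hh₁q : h₁ ∉ q := hq₁
  have hC₁flat : Module.Flat A (LocalizedModule (Submonoid.powers h₁) (QuotSMulTop r M)) :=
    flat_localizedModule_away h₁ _ (fun q' _ hq' =>
      hsub (show (⟨q', inferInstance⟩ : PrimeSpectrum B) ∈ _ from hq'))
  haveI : Algebra.FinitePresentation A (Localization.Away h₁) :=
    Algebra.FinitePresentation.trans A B (Localization.Away h₁)
  let π₁ : LocalizedModule (Submonoid.powers h₁) M →ₗ[Localization.Away h₁]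
      LocalizedModule (Submonoid.powers h₁) (QuotSMulTop r M) :=
    LocalizedModule.map (Submonoid.powers h₁) (Submodule.mkQ (r • (⊤ : Submodule B M)))
  have hπ₁ : Function.Surjective π₁ :=
    LocalizedModule.map_surjective _ _ (Submodule.mkQ_surjective _)
  haveI hkerfp : Module.FinitePresentation (Localization.Away h₁) (LinearMap.ker π₁) :=
    Groth.Agent.H76.FlatKerFP.finitePresentation_ker A π₁ hπ₁
  let φ₁ : LocalizedModule (Submonoid.powers h₁) M →ₗ[Localization.Away h₁]
      LocalizedModule (Submonoid.powers h₁) M :=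
    LocalizedModule.map (Submonoid.powers h₁) (LinearMap.lsmul B M r)
  have hex0 : Function.Exact (LinearMap.lsmul B M r) (Submodule.mkQ (r • (⊤ : Submodule B M))) := by
    intro m
    rw [Submodule.mkQ_apply, Submodule.Quotient.mk_eq_zero, Submodule.mem_smul_pointwise_iff_exists]
    constructor
    · rintro ⟨m', -, rfl⟩
      exact ⟨m', rfl⟩
    · rintro ⟨m', rfl⟩
      exact ⟨m', Submodule.mem_top, rfl⟩
  have hex : Function.Exact φ₁ π₁ :=
    LocalizedModule.map_exact (Submonoid.powers h₁) _ _ hex0
  -- the kernel of `φ₁` is finitely generated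
  let φ₁' : LocalizedModule (Submonoid.powers h₁) M →ₗ[Localization.Away h₁] LinearMap.ker π₁ :=
    φ₁.codRestrict (LinearMap.ker π₁) (fun x => hex.apply_apply_eq_zero x)
  have hφ₁' : Function.Surjective φ₁' := by
    rintro ⟨y, hy⟩
    obtain ⟨x, hx⟩ := (hex y).mp hy
    exact ⟨x, Subtype.ext hx⟩
  have hfg : (LinearMap.ker φ₁).FG := by
    have := Module.FinitePresentation.fg_ker φ₁' hφ₁'
    rwa [LinearMap.ker_codRestrict] at this
  -- each element of the kernel is killed by something outside `q`
  have hkill : ∀ k ∈ LinearMap.ker φ₁, ∃ t : B, t ∉ q ∧ t • k = 0 := by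
    intro k hk
    induction k using LocalizedModule.induction_on with
    | h m s =>
      rw [LinearMap.mem_ker, LocalizedModule.map_mk, ← LocalizedModule.zero_mk s,
        LocalizedModule.mk_eq] at hk
      obtain ⟨u, hu⟩ := hk
      rw [smul_zero, smul_zero, LinearMap.lsmul_apply] at hu
      have h1 : r • ((u * s : Submonoid.powers h₁) : B) • m = 0 := by
        rw [smul_comm, Submonoid.coe_mul, mul_smul]
        exact hu
      have h2 : ℓ (((u * s : Submonoid.powers h₁) : B) • m) = 0 := by
        apply hreg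
        show r • ℓ (((u * s : Submonoid.powers h₁) : B) • m) = r • 0
        rw [smul_zero, ← map_smul, h1, map_zero]
      obtain ⟨t, ht, h3⟩ := exists_smul_eq_zero_of_map_eq_zero q.primeCompl ℓ h2
      refine ⟨t, ht, ?_⟩
      rw [LocalizedModule.smul'_mk, ← LocalizedModule.zero_mk s, LocalizedModule.mk_eq]
      refine ⟨u * s, ?_⟩
      rw [smul_zero, smul_zero, smul_comm (u * s) s, smul_comm (u * s) t,
        Submonoid.smul_def (u * s), h3, smul_zero]
  obtain ⟨b, hbq, hb⟩ := exists_notMem_smul_eq_zero q (LinearMap.ker φ₁) hfg hkill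
  refine ⟨h₁ * b, fun hmem => (Ideal.IsPrime.mem_or_mem inferInstance hmem).elim hh₁q hbq, ?_⟩
  intro m hm
  have hk : LocalizedModule.mk m (1 : Submonoid.powers h₁) ∈ LinearMap.ker φ₁ := by
    rw [LinearMap.mem_ker, LocalizedModule.map_mk, LinearMap.lsmul_apply, hm,
      LocalizedModule.zero_mk]
  have h4 := hb _ hk
  rw [LocalizedModule.smul'_mk, ← LocalizedModule.zero_mk 1, LocalizedModule.mk_eq] at h4
  obtain ⟨⟨_, n, rfl⟩, hu⟩ := h4
  rw [one_smul, one_smul, smul_zero] at hu
  have hu' : h₁ ^ n • b • m = 0 := hu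
  refine ⟨n + 1, ?_⟩
  have e : (h₁ * b) ^ (n + 1) = (h₁ * b ^ n) * (h₁ ^ n * b) := by ring
  rw [e, mul_smul, mul_smul (h₁ ^ n), hu', smul_zero]

end KL

section SP
open Groth.Agent.Lib.Helper62.FibReg

variable {A B : Type u} [CommRing A] [CommRing B] [Algebra A B] [Algebra.FinitePresentation A B]
  (q : Ideal B) [q.IsPrime]

/-- regularity on a localization from the elementwise killing property. -/
theorem isSMulRegular_of_forall_pow_smul {M N' : Type u} [AddCommGroup M] [Module B M]
    [AddCommGroup N'] [Module B N'] (r h : B)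
    (hk : ∀ m : M, r • m = 0 → ∃ n : ℕ, h ^ n • m = 0) (T : Submonoid B) (ℓ' : M →ₗ[B] N')
    [IsLocalizedModule T ℓ'] (hT : ∃ t ∈ T, h ∣ t) : IsSMulRegular N' r := by
  obtain ⟨t, ht, c, rfl⟩ := hT
  rw [isSMulRegular_iff_right_eq_zero_of_smul]
  intro x hx
  obtain ⟨m, w, hw, hm⟩ := exists_smul_eq_map T ℓ' x
  have h1 : ℓ' (r • m) = 0 := by rw [map_smul, ← hm, smul_comm, hx, smul_zero]
  obtain ⟨w', hw', h2⟩ := exists_smul_eq_zero_of_map_eq_zero T ℓ' h1
  have h3 : r • (w' • m) = 0 := by rw [smul_comm]; exact h2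
  obtain ⟨n, hn⟩ := hk _ h3
  have h4 : ((h * c) ^ n * w') • m = 0 := by
    rw [mul_pow, mul_comm (h ^ n), mul_assoc, mul_smul, mul_smul, hn, smul_zero]
  have h5 : ℓ' m = 0 := by
    apply unit_smul_eq_zero T ℓ' (T.mul_mem (T.pow_mem ht n) hw')
    rw [← map_smul, h4, map_zero]
  apply unit_smul_eq_zero T ℓ' hw
  rw [hm, h5]

theorem spread_weaklyRegular (rs : List B) :
    ∀ (M : Type u) [AddCommGroup M] [Module B M] [Module A M] [IsScalarTower A B M]
      [Module.FinitePresentation B M] (N : Type u) [AddCommGroup N] [Module B N] [Module A N]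
      [IsScalarTower A B N] (ℓ : M →ₗ[B] N) [IsLocalizedModule q.primeCompl ℓ],
      IsWeaklyRegular N rs →
      (∀ j ≤ rs.length, Module.Flat A (N ⧸ (Ideal.ofList (rs.take j) • (⊤ : Submodule B N)))) →
      ∃ h : B, h ∉ q ∧ ∀ (T : Submonoid B) (N' : Type u) [AddCommGroup N'] [Module B N']
        (ℓ' : M →ₗ[B] N') [IsLocalizedModule T ℓ'], (∃ t ∈ T, h ∣ t) → IsWeaklyRegular N' rs := by
  induction rs with
  | nil =>
    intro M _ _ _ _ _ N _ _ _ _ ℓ _ _ _
    exact ⟨1, fun h1 => (Ideal.IsPrime.ne_top inferInstance) ((Ideal.eq_top_iff_one _).mpr h1),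
      fun T N' _ _ ℓ' _ _ => IsWeaklyRegular.nil B N'⟩
  | cons r l ih =>
    intro M _ _ _ _ _ N _ _ _ _ ℓ _ hreg hflat
    rw [isWeaklyRegular_cons_iff] at hreg
    have hflatQ : Module.Flat A (QuotSMulTop r N) := by
      have h1 := hflat 1 (by simp)
      rw [List.take_succ_cons, List.take_zero] at h1
      let e1 := Submodule.quotOfListConsSMulTopEquivQuotSMulTopInner N r []
      let e2 : (QuotSMulTop r N ⧸ (Ideal.ofList ([] : List B) •
          (⊤ : Submodule B (QuotSMulTop r N)))) ≃ₗ[B] QuotSMulTop r N :=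
        Submodule.quotEquivOfEqBot _ (by rw [Ideal.ofList_nil, Submodule.bot_smul])
      exact Module.Flat.of_linearEquiv ((e1 ≪≫ₗ e2).symm.restrictScalars A)
    obtain ⟨h₁, hh₁, hk₁⟩ := exists_pow_smul_eq_zero M r q ℓ hreg.1 hflatQ
    haveI hfp : Module.FinitePresentation B (QuotSMulTop r M) := finitePresentation_quotSMulTop M r
    haveI hloc : IsLocalizedModule q.primeCompl (QuotSMulTop.map r ℓ) :=
      isLocalizedModule_quotSMulTop_map q.primeCompl ℓ r
    have hflat' : ∀ j ≤ l.length, Module.Flat A (QuotSMulTop r N ⧸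
        (Ideal.ofList (l.take j) • (⊤ : Submodule B (QuotSMulTop r N)))) := by
      intro j hj
      have h1 := hflat (j + 1) (by simpa using hj)
      rw [List.take_succ_cons] at h1
      exact Module.Flat.of_linearEquiv
        ((Submodule.quotOfListConsSMulTopEquivQuotSMulTopInner N r (l.take j)).symm.restrictScalars A)
    obtain ⟨h₂, hh₂, hk₂⟩ := ih (QuotSMulTop r M) (QuotSMulTop r N) (QuotSMulTop.map r ℓ)
      hreg.2 hflat'
    refine ⟨h₁ * h₂, fun hmem => (Ideal.IsPrime.mem_or_mem inferInstance hmem).elim hh₁ hh₂, ?_⟩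
    intro T N' _ _ ℓ' _ hT
    obtain ⟨t, ht, hdvd⟩ := hT
    rw [isWeaklyRegular_cons_iff]
    refine ⟨isSMulRegular_of_forall_pow_smul r h₁ hk₁ T ℓ'
      ⟨t, ht, dvd_trans (Dvd.intro _ rfl) hdvd⟩, ?_⟩
    haveI : IsLocalizedModule T (QuotSMulTop.map r ℓ') := isLocalizedModule_quotSMulTop_map T ℓ' r
    exact hk₂ T (QuotSMulTop r N') (QuotSMulTop.map r ℓ')
      ⟨t, ht, dvd_trans (Dvd.intro_left _ rfl) hdvd⟩

end SP

section LocalData
open Groth.Agent.Lib.Helper62.FibReg

variable {A B : Type u} [CommRing A] [CommRing B] [Algebra A B] [Module.Flat A B]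
  [Algebra.FinitePresentation A B]

/-- A quasi-regular sequence with `A`-flat quotient is, at a prime containing it, weakly regular
with `A`-flat successive quotients. -/
theorem local_weaklyRegular {r : ℕ} (f : Fin r → B) (hq : CAlgX.IsQuasiRegular f)
    (hflat : Module.Flat A (B ⧸ Ideal.span (Set.range f))) (q : Ideal B) [q.IsPrime]
    (hf : ∀ i, f i ∈ q) :
    IsWeaklyRegular (Localization.AtPrime q) (List.ofFn f) ∧
      ∀ i ≤ (List.ofFn f).length, Module.Flat A (Localization.AtPrime q ⧸
        (Ideal.ofList ((List.ofFn f).take i) • (⊤ : Submodule B (Localization.AtPrime q)))) := by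
  set p := q.comap (algebraMap A B) with hp
  have h1 := Groth.Agent.S9272.result A B p.ResidueField r f hflat hq
  let E : p.ResidueField ⊗[A] B ≃ₐ[A] B ⊗[A] p.ResidueField :=
    Algebra.TensorProduct.comm A p.ResidueField B
  have hE : ∀ b : B, E ((1 : p.ResidueField) ⊗ₜ[A] b) = b ⊗ₜ[A] 1 := fun b => by simp [E]
  have h2 := Groth.Agent.Lib.Helper10.RegSeqFlat.isQuasiRegular_map E.toRingEquiv.toRingHom
    (RingHom.Flat.of_bijective E.bijective) _ h1
  have hqr : CAlgX.IsQuasiRegular (fun i => (f i ⊗ₜ[A] 1 : FibRing (A' := A) q)) := by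
    convert h2 using 2
    exact (hE _).symm
  have hwr := isWeaklyRegular_XMod q f hf hqr
  set N := Localization.AtPrime q with hN
  set ℓ : B →ₗ[B] N := Algebra.linearMap B N with hℓ
  have hloc : IsLocalizedModule q.primeCompl ℓ := inferInstance
  have e := fibreEquiv A B q ℓ
  have hregF : IsWeaklyRegular
      (N ⧸ ((q.comap (algebraMap A B)).map (algebraMap A B)) • (⊤ : Submodule B N))
      (List.ofFn f) := (e.isWeaklyRegular_congr _).mpr hwr
  exact list_step A B q (List.ofFn f) B N ℓ hregF

/-- from the elementwise spreading to a regular sequence on a basic open. -/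
theorem isRegular_away_of_spread (rs : List B) (q : Ideal B) [q.IsPrime]
    (hle : Ideal.ofList rs ≤ q) (h : B) (hh : h ∉ q)
    (H : ∀ (T : Submonoid B) (N' : Type u) [AddCommGroup N'] [Module B N']
        (ℓ' : B →ₗ[B] N') [IsLocalizedModule T ℓ'], (∃ t ∈ T, h ∣ t) → IsWeaklyRegular N' rs)
    (B' : Type u) [CommRing B'] [Algebra B B'] [IsLocalization.Away h B'] :
    IsRegular B' (rs.map (algebraMap B B')) := by
  haveI : IsLocalizedModule (Submonoid.powers h) (Algebra.linearMap B B') :=
    (isLocalizedModule_iff_isLocalization).mpr inferInstance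
  have h1 : IsWeaklyRegular B' rs := H (Submonoid.powers h) B' (Algebra.linearMap B B')
    ⟨h, Submonoid.mem_powers h, dvd_rfl⟩
  refine ⟨(isWeaklyRegular_map_algebraMap_iff B' B' rs).mpr h1, ?_⟩
  rw [← Ideal.map_ofList, smul_eq_mul, Ideal.mul_top]
  intro htop
  have hdisj : Disjoint (Submonoid.powers h : Set B) (q : Set B) := by
    rw [Set.disjoint_left]
    rintro _ ⟨n, rfl⟩ hn
    exact hh (Ideal.IsPrime.mem_of_pow_mem inferInstance n hn)
  have h2 := (IsLocalization.map_algebraMap_ne_top_iff_disjoint (Submonoid.powers h) B' q).mpr hdisj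
  exact h2 (top_le_iff.mp (htop.le.trans (Ideal.map_mono hle)))

theorem exists_away_isRegular (rs : List B) (hq : CAlgX.IsQuasiRegular rs.get)
    (hflat : Module.Flat A (B ⧸ Ideal.ofList rs)) (q : Ideal B) [q.IsPrime]
    (hle : Ideal.ofList rs ≤ q) :
    ∃ h : B, h ∉ q ∧ ∀ (B' : Type u) [CommRing B'] [Algebra B B'] [IsLocalization.Away h B'],
      IsRegular B' (rs.map (algebraMap B B')) := by
  have hspan : Ideal.ofList rs = Ideal.span (Set.range rs.get) := by
    rw [← ofList_ofFn, List.ofFn_get]
  have hf : ∀ i, rs.get i ∈ q := fun i => hle (Ideal.subset_span (List.get_mem rs i))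
  rw [hspan] at hflat
  obtain ⟨hwr, hfl⟩ := local_weaklyRegular rs.get hq hflat q hf
  rw [List.ofFn_get] at hwr hfl
  obtain ⟨h, hh, H⟩ := spread_weaklyRegular q rs B (Localization.AtPrime q)
    (Algebra.linearMap B (Localization.AtPrime q)) hwr hfl
  exact ⟨h, hh, fun B' _ _ _ => isRegular_away_of_spread rs q hle h hh H B'⟩

/-- ring-hom form of `exists_away_isRegular`. -/
theorem exists_away_isRegular' (rs : List B) (hq : CAlgX.IsQuasiRegular rs.get)
    (hflat : Module.Flat A (B ⧸ Ideal.ofList rs)) (q : Ideal B) [q.IsPrime]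
    (hle : Ideal.ofList rs ≤ q) :
    ∃ h : B, h ∉ q ∧ ∀ (B' : Type u) [CommRing B'] (φ : B →+* B'),
      (letI := φ.toAlgebra; IsLocalization.Away h B') → IsRegular B' (rs.map φ) := by
  obtain ⟨h, hh, H⟩ := exists_away_isRegular rs hq hflat q hle
  refine ⟨h, hh, fun B' _ φ hφ => ?_⟩
  letI := φ.toAlgebra
  exact H B'

end LocalData


end Groth.Agent.H46.RegSpread
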