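/-
helper46: relative quasi-regular immersions in a flat, locally finitely presented scheme are
regular immersions (Stacks 063U), scheme-level assembly.
-/
import Mathlib
import Groth.Agent.H46.RegSpread
import Groth.Agent.Lib.Helper10.RelRegBaseChange
import Groth.Agent.H8.QuasiRegFlat

set_option autoImplicit false
set_option linter.style.haveILetI false
universe u

open AlgebraicGeometry CategoryTheory CategoryTheory.Limits

namespace Groth.Agent.H46.RegImmSpread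

open Groth.Agent.Lib.Helper10.RegImmBaseChange Groth.Agent.Lib.Helper10.RelRegBaseChange

/-- membership in a basic open of an affine open in terms of the prime ideal of the point. -/
theorem mem_basicOpen_iff {X : Scheme.{u}} {U : X.Opens} (hU : IsAffineOpen U) (x : X)
    (hxU : x ∈ U) (h : Γ(X, U)) :
    x ∈ X.basicOpen h ↔ h ∉ (hU.primeIdealOf ⟨x, hxU⟩).asIdeal := by
  letI algBR : Algebra Γ(X, U) (X.presheaf.stalk x) :=
    TopCat.Presheaf.algebra_section_stalk X.presheaf (⟨x, hxU⟩ : U)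
  haveI locR : IsLocalization.AtPrime (X.presheaf.stalk x) (hU.primeIdealOf ⟨x, hxU⟩).asIdeal :=
    hU.isLocalization_stalk ⟨x, hxU⟩
  rw [Scheme.mem_basicOpen _ _ _ hxU]
  exact IsLocalization.AtPrime.isUnit_to_map_iff (X.presheaf.stalk x)
    (hU.primeIdealOf ⟨x, hxU⟩).asIdeal h

/-- the kernel of sections of a morphism lies in the prime of any point in the image. -/
theorem ker_app_le_primeIdealOf {Z X : Scheme.{u}} (i : Z ⟶ X) {U : X.Opens}
    (hU : IsAffineOpen U) (z : Z) (hzU : i z ∈ U) :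
    RingHom.ker (i.app U).hom ≤ (hU.primeIdealOf ⟨i z, hzU⟩).asIdeal := by
  intro b hb
  by_contra hbq
  have h1 : i z ∈ X.basicOpen b := (mem_basicOpen_iff hU (i z) hzU b).mpr hbq
  have h2 : z ∈ i ⁻¹ᵁ X.basicOpen b := h1
  rw [Scheme.preimage_basicOpen, RingHom.mem_ker.mp hb, Scheme.basicOpen_zero] at h2
  exact h2

/-- **Stacks 063U, first half**: a relative quasi-regular immersion into a flat, locally finitely
presented `S`-scheme is a regular immersion. -/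
theorem isRegularImmersion_of_relQuasi {Z X S : Scheme.{u}} (f : X ⟶ S) [Flat f]
    [LocallyOfFinitePresentation f] (i : Z ⟶ X)
    (hi : RegImm.IsRelRegularImmersion RegImm.Kind.quasi f i) :
    RegImm.IsRegularImmersion RegImm.Kind.regular i := by
  obtain ⟨⟨himm, hreg⟩, hflat⟩ := hi
  refine ⟨himm, fun z => ?_⟩
  obtain ⟨U, hU, hcl, rs, hrs, hker⟩ := hreg z
  obtain ⟨_, ⟨V, hV, rfl⟩, hsV, -⟩ := S.isBasis_affineOpens.exists_subset_of_mem_open
    (Set.mem_univ (f (i z))) isOpen_univ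
  obtain ⟨U₀, hzU₀, hleU₀, hcl₀, rs₀, -, hrs₀, hker₀⟩ :=
    shrink i RegImm.Kind.quasi z U hU hcl rs hrs hker (f ⁻¹ᵁ V) hsV
  have hUSX : U₀.1 ≤ f ⁻¹ᵁ V := hleU₀.trans inf_le_right
  obtain ⟨hZaff, hsurj⟩ := app_surjective_of_restrict i U₀.1 U₀.2 hcl₀
  letI algAB : Algebra Γ(S, V) Γ(X, U₀.1) := (f.appLE V U₀.1 hUSX).hom.toAlgebra
  haveI : Module.Flat Γ(S, V) Γ(X, U₀.1) := Flat.flat_appLE f hV U₀.2 hUSX
  haveI : Algebra.FinitePresentation Γ(S, V) Γ(X, U₀.1) :=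
    HasRingHomProperty.appLE (P := @LocallyOfFinitePresentation) f inferInstance ⟨V, hV⟩ U₀ hUSX
  have hflatQ : Module.Flat Γ(S, V) (Γ(X, U₀.1) ⧸ Ideal.ofList rs₀) := by
    refine Groth.Agent.H8.QuasiRegFlat.flat_quotient_of_flat_comp _ (i.app U₀.1).hom hsurj _
      hker₀.symm ?_
    have hle : i ⁻¹ᵁ U₀.1 ≤ (i ≫ f) ⁻¹ᵁ V := fun y hy => hUSX hy
    have hfl := Flat.flat_appLE (i ≫ f) hV hZaff hle
    have heq : f.appLE V U₀.1 hUSX ≫ i.app U₀.1 = (i ≫ f).appLE V (i ⁻¹ᵁ U₀.1) hle := by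
      rw [Scheme.Hom.app_eq_appLE, Scheme.Hom.appLE_comp_appLE]
    rw [← heq] at hfl
    exact hfl
  have hle : Ideal.ofList rs₀ ≤ (U₀.2.primeIdealOf ⟨i z, hzU₀⟩).asIdeal := by
    rw [← hker₀]
    exact ker_app_le_primeIdealOf i U₀.2 z hzU₀
  obtain ⟨h, hhq, H⟩ := Groth.Agent.H46.RegSpread.exists_away_isRegular' rs₀ hrs₀ hflatQ
    (U₀.2.primeIdealOf ⟨i z, hzU₀⟩).asIdeal hle
  have hxh : i z ∈ X.basicOpen h := (mem_basicOpen_iff U₀.2 (i z) hzU₀ h).mpr hhq
  have hU' : IsAffineOpen (X.basicOpen h) := U₀.2.basicOpen h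
  have e : X.basicOpen h ≤ (𝟙 X) ⁻¹ᵁ U₀.1 := X.basicOpen_le h
  have Hi : IsPullback (𝟙 Z) i i (𝟙 X) := IsPullback.of_horiz_isIso ⟨by simp⟩
  have hker' := ker_app_eq_map Hi U₀.2 hU' e hcl₀
  rw [hker₀, Ideal.map_ofList] at hker'
  refine ⟨⟨X.basicOpen h, hU'⟩, hxh, isClosedImmersion_restrict Hi e hcl₀,
    rs₀.map (Scheme.Hom.appLE (𝟙 X) U₀.1 (X.basicOpen h) e).hom, ?_, hker'⟩
  have hφ : (Scheme.Hom.appLE (𝟙 X) U₀.1 (X.basicOpen h) e).hom =
      (X.presheaf.map (homOfLE (X.basicOpen_le h)).op).hom := by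
    simp only [Scheme.Hom.appLE, Scheme.Hom.id_app, CommRingCat.hom_comp, CommRingCat.hom_id]
    rfl
  rw [hφ]
  exact H _ _ (U₀.2.isLocalization_basicOpen h)

end Groth.Agent.H46.RegImmSpread
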