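import Mathlib
import Groth.Agent.H46.FibreCartier
import Groth.Agent.H46.RegSpread
import Groth.Agent.Lib.Helper18.QuasiReg
import Groth.Agent.Lib.Helper18.RegQuasiReg
import Groth.Agent.Lib.Helper90.QuasiRegReg
import Groth.Agent.H46.RegImmSpread
import Groth.Agent.H8.QuasiRegLoc
import Groth.Agent.Lib.Helper18.IdealComap
import Groth.Agent.H8.RelCartier
import Groth.Agent.Lib.Helper49.FiberStalk

set_option autoImplicit false
set_option linter.style.haveILetI false
universe u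

open RingTheory.Sequence IsLocalRing
open AlgebraicGeometry CategoryTheory CategoryTheory.Limits
open scoped Pointwise

namespace Groth.Agent.H46.FibreRegSeq

section Algebra

variable {A B : Type u} [CommRing A] [CommRing B] [Algebra A B] [Algebra.FinitePresentation A B]
  (q : Ideal B) [q.IsPrime] (R : Type u) [CommRing R] [IsLocalRing R] [Algebra B R]
  [IsLocalization.AtPrime R q] [Algebra A R] [IsScalarTower A B R] [Module.Flat A R]

/-- Sequence version of `FibreCartier.core`: if the ideal `I R` of the local ring `R = B_q`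
becomes generated by a quasi-regular sequence on the (Noetherian) fibre ring `O = R / pR` and
`B / I` is `A`-flat, then `I R` is generated by a sequence from `I` which is weakly regular on `R`
with `A`-flat successive quotients. -/
theorem core_seq (I : Ideal B) (hI : I.FG) (hIq : I ≤ q) [Module.Flat A (B ⧸ I)]
    {O : Type u} [CommRing O] [IsNoetherianRing O] (π : R →+* O) (hπ : Function.Surjective π)
    (hker : RingHom.ker π = (q.comap (algebraMap A B)).map (algebraMap A R))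
    {c : ℕ} (g : Fin c → O) (hg : CAlgX.IsQuasiRegular g)
    (hIg : (I.map (algebraMap B R)).map π = Ideal.span (Set.range g)) :
    ∃ a : Fin c → B, (∀ i, a i ∈ I) ∧
      I.map (algebraMap B R) = Ideal.span (Set.range (fun i => algebraMap B R (a i))) ∧
      IsWeaklyRegular R (List.ofFn a) ∧
      ∀ i ≤ (List.ofFn a).length, Module.Flat A
        (R ⧸ (Ideal.ofList ((List.ofFn a).take i) • (⊤ : Submodule B R))) := by
  set J : Ideal R := I.map (algebraMap B R) with hJdef
  set 𝔭 : Ideal R := (q.comap (algebraMap A B)).map (algebraMap A R) with h𝔭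
  have h𝔭le : 𝔭 ≤ maximalIdeal R := by
    rw [h𝔭, Ideal.map_le_iff_le_comap]
    intro a ha
    rw [Ideal.mem_comap, IsScalarTower.algebraMap_apply A B R]
    exact (IsLocalization.AtPrime.to_map_mem_maximal_iff R q (algebraMap A B a)).mpr ha
  -- lifts
  have hgJ : ∀ i, g i ∈ J.map π := fun i => hIg ▸ Ideal.subset_span ⟨i, rfl⟩
  have hlift : ∀ i, ∃ f₀ ∈ J, π f₀ = g i := fun i =>
    (Ideal.mem_map_iff_of_surjective π hπ).mp (hgJ i)
  choose f₀ hf₀J hf₀ using hlift
  have hfrac : ∀ i, ∃ a ∈ I, ∃ m : B, m ∉ q ∧ f₀ i * algebraMap B R m = algebraMap B R a := by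
    intro i
    obtain ⟨⟨⟨a, ha⟩, m⟩, h⟩ := (IsLocalization.mem_map_algebraMap_iff q.primeCompl R).mp (hf₀J i)
    exact ⟨a, ha, m.1, m.2, h⟩
  choose a haI m hm hfa using hfrac
  have hu : ∀ i, IsUnit (algebraMap B R (m i)) := fun i =>
    IsLocalization.map_units R (⟨m i, hm i⟩ : q.primeCompl)
  -- the modified sequence in `O`
  set g' : Fin c → O := fun i => π (algebraMap B R (a i)) with hg'
  have hg'eq : ∀ i, g' i = g i * π (algebraMap B R (m i)) := fun i => by
    show π (algebraMap B R (a i)) = _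
    rw [← hfa i, map_mul, hf₀]
  have hspan' : Ideal.span (Set.range g') = Ideal.span (Set.range g) := by
    apply le_antisymm
    · rw [Ideal.span_le]
      rintro _ ⟨i, rfl⟩
      rw [hg'eq]
      exact Ideal.mul_mem_right _ _ (Ideal.subset_span ⟨i, rfl⟩)
    · rw [Ideal.span_le]
      rintro _ ⟨i, rfl⟩
      have hu' : IsUnit (π (algebraMap B R (m i))) := (hu i).map π
      obtain ⟨v, hv⟩ := hu'.exists_right_inv
      have : g i = g' i * v := by rw [hg'eq, mul_assoc, hv, mul_one]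
      rw [this]
      exact Ideal.mul_mem_right _ _ (Ideal.subset_span ⟨i, rfl⟩)
  have hq' : CAlgX.IsQuasiRegular g' :=
    Groth.Agent.Lib.Helper18.isQuasiRegular_of_span_eq g g' hg hspan'
  have hjac : ∀ i, g' i ∈ Ring.jacobson O := by
    intro i
    rw [Ring.jacobson_eq_sInf_isMaximal, Ideal.mem_sInf]
    intro M hM
    haveI : M.IsMaximal := hM
    have h1 : (M.comap π).IsMaximal := Ideal.comap_isMaximal_of_surjective π hπ
    have h2 : M.comap π = maximalIdeal R := IsLocalRing.eq_maximalIdeal h1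
    have h3 : algebraMap B R (a i) ∈ M.comap π := by
      rw [h2]
      exact (IsLocalization.AtPrime.to_map_mem_maximal_iff R q (a i)).mpr (hIq (haI i))
    exact h3
  have hwrO : IsWeaklyRegular O (List.ofFn g') :=
    Groth.Agent.Lib.Helper90.QuasiRegReg.isWeaklyRegular_of_isQuasiRegular c O g' hjac hq'
  -- transfer to the `B`-module `R ⧸ pR`
  letI algBO : Algebra B O := (π.comp (algebraMap B R)).toAlgebra
  have hmapO : (List.ofFn a).map (algebraMap B O) = List.ofFn g' := by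
    rw [List.map_ofFn]
    rfl
  have hwrO' : IsWeaklyRegular O (List.ofFn a) := by
    rw [← isWeaklyRegular_map_algebraMap_iff O O (List.ofFn a), hmapO]
    exact hwrO
  let πl : R →ₗ[B] O :=
    { toFun := π
      map_add' := map_add π
      map_smul' := fun b r => by
        rw [Algebra.smul_def, map_mul]
        rfl }
  have hkerl : LinearMap.ker πl =
      ((q.comap (algebraMap A B)).map (algebraMap A B)) • (⊤ : Submodule B R) := by
    ext y
    rw [LinearMap.mem_ker, Groth.Agent.H46.FibreDepthTwo.mem_smul_top_iff q R y, ← h𝔭, ← hker,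
      RingHom.mem_ker]
    rfl
  let e : (R ⧸ (((q.comap (algebraMap A B)).map (algebraMap A B)) • (⊤ : Submodule B R))) ≃ₗ[B] O :=
    (Submodule.quotEquivOfEq _ _ hkerl.symm).trans (πl.quotKerEquivOfSurjective hπ)
  have hregF : IsWeaklyRegular
      (R ⧸ (((q.comap (algebraMap A B)).map (algebraMap A B)) • (⊤ : Submodule B R)))
      (List.ofFn a) := (e.isWeaklyRegular_congr _).mpr hwrO'
  obtain ⟨h1, h2⟩ := Groth.Agent.Lib.Helper62.FibReg.list_step A B q (List.ofFn a) B R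
    (Algebra.linearMap B R) hregF
  refine ⟨a, haI, ?_, h1, h2⟩
  -- Nakayama
  haveI : Module.Flat A (R ⧸ J) := Groth.Agent.H46.FibreCartier.flat_quotient_map q.primeCompl R I
  apply le_antisymm
  · have hfg : J.FG := hI.map _
    refine Submodule.le_of_le_smul_of_le_jacobson_bot (I := 𝔭) hfg ?_ ?_
    · rw [IsLocalRing.jacobson_eq_maximalIdeal ⊥ bot_ne_top]
      exact h𝔭le
    · intro z hz
      have hz' : π z ∈ Ideal.span (Set.range g') := by
        rw [hspan', ← hIg]
        exact Ideal.mem_map_of_mem π hz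
      obtain ⟨c', hc'⟩ := (Ideal.mem_span_range_iff_exists_fun).mp hz'
      have hcl : ∀ i, ∃ ci : R, π ci = c' i := fun i => hπ (c' i)
      choose cc hcc using hcl
      set z₁ : R := ∑ i, cc i * algebraMap B R (a i) with hz₁
      have hz₁J : z₁ ∈ J := Ideal.sum_mem _ (fun i _ =>
        Ideal.mul_mem_left _ _ (Ideal.mem_map_of_mem _ (haI i)))
      have hz₁S : z₁ ∈ Ideal.span (Set.range (fun i => algebraMap B R (a i))) :=
        Ideal.sum_mem _ (fun i _ => Ideal.mul_mem_left _ _ (Ideal.subset_span ⟨i, rfl⟩))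
      have hzJ : z - z₁ ∈ J := J.sub_mem hz hz₁J
      have hzp : z - z₁ ∈ 𝔭 := by
        rw [← hker, RingHom.mem_ker, map_sub, hz₁, map_sum, ← hc', sub_eq_zero]
        refine Finset.sum_congr rfl (fun i _ => ?_)
        rw [map_mul, hcc]
      have key := Groth.Agent.Lib.Helper12.FourTermFlat.mem_smul_top_of_flat_coker
        (A := A) (B := R) (Submodule.subtype J) (Submodule.mkQ J)
        (Submodule.subtype_injective J)
        (LinearMap.exact_subtype_mkQ J) (Submodule.mkQ_surjective J)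
        (q.comap (algebraMap A B)) ⟨z - z₁, hzJ⟩
        (by
          rw [Ideal.smul_top_eq_map]
          change z - z₁ ∈ Ideal.map (algebraMap R R) 𝔭
          rw [Algebra.algebraMap_self, Ideal.map_id]
          exact hzp)
      have key2 : z - z₁ ∈ 𝔭 • J := by
        have h1 : (Submodule.subtype J) ⟨z - z₁, hzJ⟩ ∈
            Submodule.map (Submodule.subtype J) (𝔭 • (⊤ : Submodule R J)) :=
          Submodule.mem_map_of_mem key
        rw [Submodule.map_smul'', Submodule.map_top, Submodule.range_subtype] at h1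
        exact h1
      have : z = z₁ + (z - z₁) := by ring
      rw [this]
      exact Submodule.add_mem_sup hz₁S key2
  · rw [Ideal.span_le]
    rintro _ ⟨i, rfl⟩
    exact Ideal.mem_map_of_mem _ (haI i)

/-- Spreading out the equality of a localized finitely generated ideal with a localized ideal. -/
theorem exists_mul_mem_of_map_le {B : Type u} [CommRing B] (q : Ideal B) [q.IsPrime] (R : Type u)
    [CommRing R] [Algebra B R] [IsLocalization.AtPrime R q] (K I : Ideal B)
    (hspan : I.map (algebraMap B R) ≤ K.map (algebraMap B R)) (N : Submodule B B)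
    (hN : N.FG) : N ≤ I → ∃ h ∉ q, ∀ b ∈ N, h * b ∈ K := by
  refine Submodule.fg_induction
    (motive := fun N _ => N ≤ I → ∃ h ∉ q, ∀ b ∈ N, h * b ∈ K) ?_ ?_ N hN
  · intro x hx
    have hxI : x ∈ I := hx (Submodule.subset_span rfl)
    have h1 : algebraMap B R x ∈ K.map (algebraMap B R) := hspan (Ideal.mem_map_of_mem _ hxI)
    obtain ⟨⟨⟨c, hc⟩, m⟩, h⟩ := (IsLocalization.mem_map_algebraMap_iff q.primeCompl R).mp h1
    simp only at h
    rw [← map_mul] at h
    obtain ⟨m', hm'⟩ := (IsLocalization.eq_iff_exists q.primeCompl R).mp h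
    refine ⟨m' * m, fun hmem => ?_, fun b hb => ?_⟩
    · rcases Ideal.IsPrime.mem_or_mem inferInstance hmem with h' | h'
      · exact m'.2 h'
      · exact m.2 h'
    · obtain ⟨r, rfl⟩ := Submodule.mem_span_singleton.mp hb
      have : (m' : B) * m * (r • x) = r * ((m' : B) * (x * m)) := by
        rw [smul_eq_mul]; ring
      rw [this, hm']
      exact Ideal.mul_mem_left _ _ (Ideal.mul_mem_left _ _ hc)
  · intro M₁ M₂ _ _ h₁ h₂ hle
    obtain ⟨k₁, hk₁, H₁⟩ := h₁ (le_sup_left.trans hle)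
    obtain ⟨k₂, hk₂, H₂⟩ := h₂ (le_sup_right.trans hle)
    refine ⟨k₁ * k₂, fun hmem => ?_, fun b hb => ?_⟩
    · rcases Ideal.IsPrime.mem_or_mem inferInstance hmem with h' | h'
      · exact hk₁ h'
      · exact hk₂ h'
    · obtain ⟨b₁, hb₁, b₂, hb₂, rfl⟩ := Submodule.mem_sup.mp hb
      have : k₁ * k₂ * (b₁ + b₂) = k₂ * (k₁ * b₁) + k₁ * (k₂ * b₂) := by ring
      rw [this]
      exact Ideal.add_mem _ (Ideal.mul_mem_left _ _ (H₁ b₁ hb₁))
        (Ideal.mul_mem_left _ _ (H₂ b₂ hb₂))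

end Algebra

section Scheme

open Groth.Agent.Lib.Helper10.RegImmBaseChange Groth.Agent.Lib.Helper10.RelRegBaseChange

variable {X S : Scheme.{u}} (φ : X ⟶ S)

/-- the fibre hypothesis of S8896 at a point, in stalk form. -/
theorem fibre_data [LocallyOfFinitePresentation φ] (𝓘 : X.IdealSheafData)
    (s : S) (hfib : RegImm.IsRegularImmersion RegImm.Kind.quasi
      (pullback.snd 𝓘.subschemeι (φ.fiberι s)))
    (U : X.affineOpens) (z : 𝓘.subscheme) (y : ↥(φ.fiber s))
    (hzy : 𝓘.subschemeι z = (φ.fiberι s) y) (hxU : (φ.fiberι s) y ∈ U.1) :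
    ∃ (c : ℕ) (g : Fin c → (φ.fiber s).presheaf.stalk y), CAlgX.IsQuasiRegular g ∧
      ((𝓘.ideal U).map (X.presheaf.germ U.1 _ hxU).hom).map ((φ.fiberι s).stalkMap y).hom =
        Ideal.span (Set.range g) := by
  have H : IsPullback (pullback.fst 𝓘.subschemeι (φ.fiberι s))
      (pullback.snd 𝓘.subschemeι (φ.fiberι s)) 𝓘.subschemeι (φ.fiberι s) :=
    IsPullback.of_hasPullback _ _
  obtain ⟨z', hz'1, hz'2⟩ := Scheme.Pullback.exists_preimage_pullback
    (f := 𝓘.subschemeι) (g := φ.fiberι s) z y hzy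
  obtain ⟨W, hW, hcl, rs, hrs, hker⟩ := hfib.2 z'
  have hmem : (pullback.snd 𝓘.subschemeι (φ.fiberι s)) z' ∈ (φ.fiberι s) ⁻¹ᵁ U.1 := by
    rw [hz'2]; exact hxU
  obtain ⟨W₀, hzW₀, hleW₀, hcl₀, rs₀, -, hrs₀, hker₀⟩ :=
    shrink (pullback.snd 𝓘.subschemeι (φ.fiberι s)) RegImm.Kind.quasi z' W hW hcl rs hrs hker
      ((φ.fiberι s) ⁻¹ᵁ U.1) hmem
  have e' : W₀.1 ≤ (φ.fiberι s) ⁻¹ᵁ U.1 := hleW₀.trans inf_le_right
  have hyW₀ : y ∈ W₀.1 := by rw [← hz'2]; exact hzW₀
  have hclU : IsClosedImmersion (𝓘.subschemeι ∣_ U.1) := inferInstance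
  have hker' := ker_app_eq_map H U.2 W₀.2 e' hclU
  rw [hker₀, 𝓘.ker_subschemeι_app U] at hker'
  letI algW : Algebra Γ(φ.fiber s, W₀.1) ((φ.fiber s).presheaf.stalk y) :=
    TopCat.Presheaf.algebra_section_stalk (φ.fiber s).presheaf (⟨y, hyW₀⟩ : W₀.1)
  haveI locW : IsLocalization.AtPrime ((φ.fiber s).presheaf.stalk y)
      (W₀.2.primeIdealOf ⟨y, hyW₀⟩).asIdeal := W₀.2.isLocalization_stalk ⟨y, hyW₀⟩
  have hq := Groth.Agent.H8.QuasiRegLoc.isQuasiRegular_localization
    (W₀.2.primeIdealOf ⟨y, hyW₀⟩).asIdeal.primeCompl ((φ.fiber s).presheaf.stalk y) rs₀.get hrs₀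
  refine ⟨rs₀.length, fun i => algebraMap Γ(φ.fiber s, W₀.1) ((φ.fiber s).presheaf.stalk y)
    (rs₀.get i), hq, ?_⟩
  have hcomp : ((φ.fiberι s).stalkMap y).hom.comp (X.presheaf.germ U.1 _ hxU).hom =
      ((φ.fiber s).presheaf.germ W₀.1 y hyW₀).hom.comp ((φ.fiberι s).appLE U.1 W₀.1 e').hom := by
    ext b
    simp only [RingHom.coe_comp, Function.comp_apply]
    rw [Scheme.Hom.germ_stalkMap_apply]
    simp only [Scheme.Hom.appLE, homOfLE_leOfHom, CommRingCat.hom_comp, RingHom.coe_comp,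
      Function.comp_apply]
    rw [(φ.fiber s).presheaf.germ_res_apply]
  rw [Ideal.map_map, hcomp, ← Ideal.map_map, ← hker', Ideal.ofList, Ideal.map_span]
  congr 1
  ext t
  constructor
  · rintro ⟨r, hr, rfl⟩
    obtain ⟨i, rfl⟩ := List.mem_iff_get.mp hr
    exact ⟨i, rfl⟩
  · rintro ⟨i, rfl⟩
    exact ⟨rs₀.get i, List.get_mem rs₀ i, rfl⟩

end Scheme

section Main

variable {X S : Scheme.{u}} (φ : X ⟶ S)

/-- variant of `ker_app_le_primeIdealOf` with the image point as a variable. -/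
theorem ker_app_le_primeIdealOf' {Z X : Scheme.{u}} (i : Z ⟶ X) {U : X.Opens}
    (hU : IsAffineOpen U) (z : Z) (x : X) (hx : i z = x) (hxU : x ∈ U) :
    RingHom.ker (i.app U).hom ≤ (hU.primeIdealOf ⟨x, hxU⟩).asIdeal := by
  subst hx
  exact Groth.Agent.H46.RegImmSpread.ker_app_le_primeIdealOf i hU z hxU

open Groth.Agent.H8.RelCartier Groth.Agent.Lib.Helper18 Groth.Agent.H46.FibreCartier in
set_option maxHeartbeats 1600000 in
/-- Stalk-to-chart form of Stacks 063V. -/
theorem chart_claim [Flat φ] [LocallyOfFinitePresentation φ] (𝓘 : X.IdealSheafData)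
    [Flat (𝓘.subschemeι ≫ φ)] [LocallyOfFinitePresentation (𝓘.subschemeι ≫ φ)]
    (V : S.affineOpens) (U : X.affineOpens) (e : U.1 ≤ φ ⁻¹ᵁ V.1)
    (x : X) (hxU : x ∈ U.1) (z : 𝓘.subscheme) (hz : 𝓘.subschemeι z = x)
    (s : S) (hfib : RegImm.IsRegularImmersion RegImm.Kind.quasi
      (pullback.snd 𝓘.subschemeι (φ.fiberι s)))
    (y : ↥(φ.fiber s)) (hy : (φ.fiberι s) y = x) :
    ∃ h : Γ(X, U.1), x ∈ X.basicOpen h ∧ ∃ rs : List Γ(X, X.basicOpen h),
      CAlgX.IsQuasiRegular rs.get ∧ 𝓘.ideal (X.affineBasicOpen h) = Ideal.ofList rs := by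
  subst hy
  set x := (φ.fiberι s) y with hx
  have hU := U.2
  have hV := V.2
  have hsV : φ x ∈ V.1 := e hxU
  letI algAB : Algebra Γ(S, V.1) Γ(X, U.1) := (φ.appLE V.1 U.1 e).hom.toAlgebra
  letI algBR : Algebra Γ(X, U.1) (X.presheaf.stalk x) :=
    TopCat.Presheaf.algebra_section_stalk X.presheaf (⟨x, hxU⟩ : U.1)
  letI algAR : Algebra Γ(S, V.1) (X.presheaf.stalk x) :=
    ((algebraMap Γ(X, U.1) (X.presheaf.stalk x)).comp (algebraMap Γ(S, V.1) Γ(X, U.1))).toAlgebra
  haveI tower : IsScalarTower Γ(S, V.1) Γ(X, U.1) (X.presheaf.stalk x) :=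
    IsScalarTower.of_algebraMap_eq (fun _ => rfl)
  haveI locR : IsLocalization.AtPrime (X.presheaf.stalk x) (hU.primeIdealOf ⟨x, hxU⟩).asIdeal :=
    hU.isLocalization_stalk ⟨x, hxU⟩
  haveI fp : Algebra.FinitePresentation Γ(S, V.1) Γ(X, U.1) :=
    HasRingHomProperty.appLE (P := @LocallyOfFinitePresentation) φ inferInstance V U e
  haveI flAB : Module.Flat Γ(S, V.1) Γ(X, U.1) :=
    HasRingHomProperty.appLE (P := @Flat) φ inferInstance V U e
  haveI flBR : Module.Flat Γ(X, U.1) (X.presheaf.stalk x) :=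
    IsLocalization.flat _ (hU.primeIdealOf ⟨x, hxU⟩).asIdeal.primeCompl
  haveI flAR : Module.Flat Γ(S, V.1) (X.presheaf.stalk x) :=
    Module.Flat.trans Γ(S, V.1) Γ(X, U.1) (X.presheaf.stalk x)
  haveI flQ : Module.Flat Γ(S, V.1) (Γ(X, U.1) ⧸ 𝓘.ideal U) := by
    have h := flat_quotient_of_flat 𝓘 φ V U e
    rw [← RingHom.flat_algebraMap_iff]
    exact h
  have hfg : (𝓘.ideal U).FG := ideal_fg φ 𝓘 V U e
  have hIq : 𝓘.ideal U ≤ (hU.primeIdealOf ⟨x, hxU⟩).asIdeal := by
    rw [← 𝓘.ker_subschemeι_app U]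
    exact ker_app_le_primeIdealOf' 𝓘.subschemeι hU z x hz hxU
  -- the fibre
  obtain ⟨c, g, hg, hIg⟩ := fibre_data φ 𝓘 s hfib U z y hz hxU
  haveI : LocallyOfFinitePresentation (φ.fiberToSpecResidueField s) :=
    (inferInstance : LocallyOfFinitePresentation (pullback.snd φ (S.fromSpecResidueField s)))
  haveI : IsLocallyNoetherian (φ.fiber s) :=
    LocallyOfFiniteType.isLocallyNoetherian (φ.fiberToSpecResidueField s)
  have hker : RingHom.ker ((φ.fiberι s).stalkMap y).hom =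
      ((hU.primeIdealOf ⟨x, hxU⟩).asIdeal.comap (algebraMap Γ(S, V.1) Γ(X, U.1))).map
        (algebraMap Γ(S, V.1) (X.presheaf.stalk x)) := by
    have h1 := chart_ideal_eq φ hU hV e x hxU
    change _ = Ideal.map (φ.stalkMap x).hom (maximalIdeal (S.presheaf.stalk (φ.base x))) at h1
    change _ = (((hU.primeIdealOf ⟨x, hxU⟩).asIdeal.comap (φ.appLE V.1 U.1 e).hom).map
      ((X.presheaf.germ U.1 x hxU).hom.comp (φ.appLE V.1 U.1 e).hom))
    rw [h1]
    exact (le_antisymm (Groth.Agent.Lib.Helper49.map_le_ker φ s y)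
      (Groth.Agent.Lib.Helper49.ker_le_map φ s y)).symm
  obtain ⟨a, haI, hspan, hwr, hfl⟩ := core_seq (hU.primeIdealOf ⟨x, hxU⟩).asIdeal
    (X.presheaf.stalk x) (𝓘.ideal U) hfg hIq
    ((φ.fiberι s).stalkMap y).hom ((φ.fiberι s).stalkMap_surjective y) hker g hg hIg
  -- spreading out
  obtain ⟨h₁, hh₁, H₁⟩ := Groth.Agent.H46.RegSpread.spread_weaklyRegular
    (hU.primeIdealOf ⟨x, hxU⟩).asIdeal (List.ofFn a) Γ(X, U.1) (X.presheaf.stalk x)
    (Algebra.linearMap Γ(X, U.1) (X.presheaf.stalk x)) hwr hfl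
  have hle : (𝓘.ideal U).map (algebraMap Γ(X, U.1) (X.presheaf.stalk x)) ≤
      (Ideal.span (Set.range a)).map (algebraMap Γ(X, U.1) (X.presheaf.stalk x)) := by
    rw [hspan, Ideal.map_span, ← Set.range_comp]
    exact le_of_eq rfl
  obtain ⟨h₂, hh₂, H₂⟩ := exists_mul_mem_of_map_le (hU.primeIdealOf ⟨x, hxU⟩).asIdeal
    (X.presheaf.stalk x) (Ideal.span (Set.range a)) (𝓘.ideal U) hle (𝓘.ideal U) hfg le_rfl
  have hhq : h₁ * h₂ ∉ (hU.primeIdealOf ⟨x, hxU⟩).asIdeal := fun hmem =>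
    (Ideal.IsPrime.mem_or_mem inferInstance hmem).elim hh₁ hh₂
  have hxh : x ∈ X.basicOpen (h₁ * h₂) :=
    (Groth.Agent.H46.RegImmSpread.mem_basicOpen_iff hU x hxU (h₁ * h₂)).mpr hhq
  have hloc : IsLocalization.Away (h₁ * h₂) Γ(X, X.basicOpen (h₁ * h₂)) :=
    hU.isLocalization_basicOpen (h₁ * h₂)
  haveI : IsLocalizedModule (Submonoid.powers (h₁ * h₂))
      (Algebra.linearMap Γ(X, U.1) Γ(X, X.basicOpen (h₁ * h₂))) :=
    (isLocalizedModule_iff_isLocalization' _ _).mpr hloc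
  have hw1 : IsWeaklyRegular Γ(X, X.basicOpen (h₁ * h₂)) (List.ofFn a) :=
    H₁ (Submonoid.powers (h₁ * h₂)) Γ(X, X.basicOpen (h₁ * h₂))
      (Algebra.linearMap Γ(X, U.1) Γ(X, X.basicOpen (h₁ * h₂)))
      ⟨h₁ * h₂, Submonoid.mem_powers _, Dvd.intro _ rfl⟩
  have hw2 : IsWeaklyRegular Γ(X, X.basicOpen (h₁ * h₂))
      ((List.ofFn a).map (algebraMap Γ(X, U.1) Γ(X, X.basicOpen (h₁ * h₂)))) :=
    (isWeaklyRegular_map_algebraMap_iff Γ(X, X.basicOpen (h₁ * h₂))
      Γ(X, X.basicOpen (h₁ * h₂)) _).mpr hw1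
  set f : Fin c → Γ(X, X.basicOpen (h₁ * h₂)) :=
    fun i => algebraMap Γ(X, U.1) Γ(X, X.basicOpen (h₁ * h₂)) (a i) with hf
  have hmapf : (List.ofFn a).map (algebraMap Γ(X, U.1) Γ(X, X.basicOpen (h₁ * h₂))) =
      List.ofFn f := by
    rw [List.map_ofFn]
    rfl
  rw [hmapf] at hw2
  have hqf : CAlgX.IsQuasiRegular f := isQuasiRegular_of_isWeaklyRegular c f hw2
  refine ⟨h₁ * h₂, hxh, List.ofFn f, ?_, ?_⟩
  · have hlen : (List.ofFn f).length = c := List.length_ofFn
    have hget : (List.ofFn f).get = fun i => f (Fin.cast hlen i) := by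
      funext i
      rw [List.get_ofFn]
    rw [hget]
    exact Groth.Agent.Lib.Helper10.RegSeqFlat.isQuasiRegular_cast hlen f hqf
  · rw [Groth.Agent.Lib.Helper62.FibReg.ofList_ofFn, ← 𝓘.map_ideal_basicOpen U (h₁ * h₂)]
    change Ideal.map (algebraMap Γ(X, U.1) Γ(X, X.basicOpen (h₁ * h₂))) (𝓘.ideal U) = _
    apply le_antisymm
    · rw [Ideal.map_le_iff_le_comap]
      intro b hb
      rw [Ideal.mem_comap]
      have h3 : algebraMap Γ(X, U.1) Γ(X, X.basicOpen (h₁ * h₂)) (h₂ * b) ∈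
          Ideal.span (Set.range f) := by
        have := Ideal.mem_map_of_mem (algebraMap Γ(X, U.1) Γ(X, X.basicOpen (h₁ * h₂))) (H₂ b hb)
        rwa [Ideal.map_span, ← Set.range_comp] at this
      rw [map_mul] at h3
      have hu : IsUnit (algebraMap Γ(X, U.1) Γ(X, X.basicOpen (h₁ * h₂)) (h₁ * h₂)) :=
        X.toRingedSpace.isUnit_res_basicOpen (h₁ * h₂)
      rw [map_mul] at hu
      exact (Ideal.unit_mul_mem_iff_mem _ (isUnit_of_mul_isUnit_right hu)).mp h3
    · rw [Ideal.span_le]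
      rintro _ ⟨i, rfl⟩
      exact Ideal.mem_map_of_mem _ (haI i)

end Main

end Groth.Agent.H46.FibreRegSeq
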