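import Mathlib
import Groth.Agent.H76.FlatPresent

/-!
# Flattening ideals over a ring with a nilpotent maximal ideal (helper46)

Let `Λ` be a ring with a maximal ideal `𝔫` such that `𝔫 ^ t = ⊥`, and `T` any `Λ`-module.  There is
an ideal `𝔟` of `Λ` such that for every `Λ`-algebra `X`, the base change `X ⊗[Λ] T` is flat over `X`
iff `𝔟` maps to `0` in `X`.
-/

set_option autoImplicit false
universe u

open TensorProduct

namespace Groth.Agent.H46.FlatIdeal

section Nak

variable {R M : Type*} [CommRing R] [AddCommGroup M] [Module R M]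

theorem le_pow_smul_of_le_smul (I : Ideal R) (K : Submodule R M) (h : K ≤ I • K) (j : ℕ) :
    K ≤ I ^ j • K := by
  induction j with
  | zero => simp
  | succ j ih =>
    calc K ≤ I • K := h
      _ ≤ I • (I ^ j • K) := Submodule.smul_mono le_rfl ih
      _ = I ^ (j + 1) • K := by rw [← mul_smul, pow_succ']

theorem eq_top_of_sup_smul_top (I : Ideal R) (N : Submodule R M) (h : N ⊔ I • ⊤ = ⊤) (j : ℕ) :
    N ⊔ I ^ j • ⊤ = ⊤ := by
  induction j with
  | zero => simp
  | succ j ih =>
    rw [eq_top_iff]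
    calc (⊤ : Submodule R M) = N ⊔ I • ⊤ := h.symm
      _ = N ⊔ I • (N ⊔ I ^ j • ⊤) := by rw [ih]
      _ ≤ N ⊔ (I • N ⊔ I • (I ^ j • ⊤)) := by rw [Submodule.smul_sup]
      _ ≤ N ⊔ I ^ (j + 1) • ⊤ := by
        rw [← mul_smul, ← pow_succ']
        refine sup_le le_sup_left (sup_le ?_ le_sup_right)
        exact le_trans Submodule.smul_le_right le_sup_left

end Nak

section Lift

variable {Λ : Type u} [CommRing Λ] (𝔫 : Ideal Λ) [h𝔫 : 𝔫.IsMaximal]
  (T : Type u) [AddCommGroup T] [Module Λ T]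

/-- A family in `T` lifting a basis of `T/𝔫T`. -/
theorem exists_lift_basis :
    ∃ (ι : Type u) (e : ι → T),
      (∀ r : ι →₀ Λ, Finsupp.linearCombination Λ e r ∈ (𝔫 • ⊤ : Submodule Λ T) → ∀ i, r i ∈ 𝔫) ∧
      LinearMap.range (Finsupp.linearCombination Λ e) ⊔ (𝔫 • ⊤ : Submodule Λ T) = ⊤ := by
  classical
  letI : Field (Λ ⧸ 𝔫) := Ideal.Quotient.field 𝔫
  let V := T ⧸ (𝔫 • ⊤ : Submodule Λ T)
  let b := Module.Basis.ofVectorSpace (Λ ⧸ 𝔫) V
  let ι := Module.Basis.ofVectorSpaceIndex (Λ ⧸ 𝔫) V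
  have hsurj := Submodule.Quotient.mk_surjective (𝔫 • ⊤ : Submodule Λ T)
  let e : ι → T := fun i => (hsurj (b i)).choose
  have he : ∀ i, Submodule.Quotient.mk (e i) = b i := fun i => (hsurj (b i)).choose_spec
  have hmk : ∀ r : ι →₀ Λ, (Submodule.Quotient.mk (Finsupp.linearCombination Λ e r) : V) =
      Finsupp.linearCombination (Λ ⧸ 𝔫) b (r.mapRange (Ideal.Quotient.mk 𝔫) (map_zero _)) := by
    intro r
    rw [Finsupp.linearCombination_apply, Finsupp.linearCombination_apply,
      Finsupp.sum_mapRange_index (by intro i; simp)]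
    simp only [Finsupp.sum]
    rw [← Submodule.mkQ_apply, map_sum]
    refine Finset.sum_congr rfl fun i _ => ?_
    rw [map_smul, Submodule.mkQ_apply, he]
    rfl
  refine ⟨ι, e, ?_, ?_⟩
  · intro r hr i
    have h0 : (Submodule.Quotient.mk (Finsupp.linearCombination Λ e r) : V) = 0 :=
      (Submodule.Quotient.mk_eq_zero _).mpr hr
    rw [hmk] at h0
    have := linearIndependent_iff.mp b.linearIndependent _ h0
    have hi : (r.mapRange (Ideal.Quotient.mk 𝔫) (map_zero _)) i = 0 := by rw [this]; rfl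
    rw [Finsupp.mapRange_apply] at hi
    exact Ideal.Quotient.eq_zero_iff_mem.mp hi
  · rw [eq_top_iff]
    intro x _
    obtain ⟨c, hc⟩ : ∃ c : ι →₀ (Λ ⧸ 𝔫), Finsupp.linearCombination (Λ ⧸ 𝔫) b c =
        Submodule.Quotient.mk x := ⟨b.repr (Submodule.Quotient.mk x), b.linearCombination_repr _⟩
    obtain ⟨r, hr⟩ : ∃ r : ι →₀ Λ, r.mapRange (Ideal.Quotient.mk 𝔫) (map_zero _) = c :=
      Finsupp.mapRange_surjective _ (map_zero _) Ideal.Quotient.mk_surjective c
    have h1 : (Submodule.Quotient.mk (x - Finsupp.linearCombination Λ e r) : V) = 0 := by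
      rw [Submodule.Quotient.mk_sub, hmk, hr, hc, sub_self]
    have h2 := (Submodule.Quotient.mk_eq_zero _).mp h1
    have : x = Finsupp.linearCombination Λ e r + (x - Finsupp.linearCombination Λ e r) := by abel
    rw [this]
    exact Submodule.add_mem_sup (LinearMap.mem_range_self _ r) h2

end Lift

section Main

variable {Λ : Type u} [CommRing Λ] (𝔫 : Ideal Λ) (t : ℕ) (hnil : 𝔫 ^ t = ⊥)
  {T : Type u} [AddCommGroup T] [Module Λ T] {ι : Type u}
  {F : Type u} [AddCommGroup F] [Module Λ F] (b : Module.Basis ι Λ F) (π : F →ₗ[Λ] T)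
  (hind : ∀ f : F, π f ∈ (𝔫 • ⊤ : Submodule Λ T) → ∀ i, b.repr f i ∈ 𝔫)
  (hgen : LinearMap.range π ⊔ (𝔫 • ⊤ : Submodule Λ T) = ⊤)

/-- The ideal generated by all coefficients of all relations. -/
def coeffIdeal : Ideal Λ :=
  Ideal.span {a | ∃ f ∈ LinearMap.ker π, ∃ i, b.repr f i = a}

include hnil hgen in
theorem surjective_of_nilpotent : Function.Surjective π := by
  rw [← LinearMap.range_eq_top]
  have := eq_top_of_sup_smul_top 𝔫 _ hgen t
  rwa [hnil, Submodule.bot_smul, sup_bot_eq] at this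

theorem tmul_eq_sum (X : Type u) [CommRing X] [Algebra Λ X] (x : X) (f : F) :
    (x ⊗ₜ[Λ] f : X ⊗[Λ] F) =
      ∑ i ∈ (b.repr f).support, (algebraMap Λ X (b.repr f i)) • (x ⊗ₜ[Λ] (b i)) := by
  conv_lhs => rw [← b.linearCombination_repr f]
  rw [Finsupp.linearCombination_apply, Finsupp.sum, TensorProduct.tmul_sum]
  refine Finset.sum_congr rfl fun i _ => ?_
  rw [TensorProduct.tmul_smul, TensorProduct.smul_tmul',
    TensorProduct.smul_tmul', Algebra.smul_def, smul_eq_mul]

include hnil hind hgen in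
theorem flat_iff (X : Type u) [CommRing X] [Algebra Λ X] :
    Module.Flat X (X ⊗[Λ] T) ↔ coeffIdeal b π ≤ RingHom.ker (algebraMap Λ X) := by
  classical
  have hsurj : Function.Surjective π := surjective_of_nilpotent 𝔫 t hnil π hgen
  have hex : Function.Exact ((LinearMap.ker π).subtype.lTensor X) (π.lTensor X) :=
    lTensor_exact X (LinearMap.exact_subtype_ker_map π) hsurj
  have hsurjX : Function.Surjective (π.baseChange X) := by
    rw [LinearMap.baseChange_eq_ltensor]
    exact LinearMap.lTensor_surjective X hsurj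
  constructor
  · intro hflat
    set K := LinearMap.ker (π.baseChange X) with hK
    haveI : Module.Flat X ((X ⊗[Λ] F) ⧸ K) :=
      Module.Flat.of_linearEquiv ((π.baseChange X).quotKerEquivOfSurjective hsurjX)
    set I : Ideal X := 𝔫.map (algebraMap Λ X) with hI
    have hmemK : ∀ w, ((LinearMap.ker π).subtype.lTensor X) w ∈ K := by
      intro w
      rw [hK, LinearMap.mem_ker, LinearMap.baseChange_eq_ltensor]
      exact (hex _).mpr ⟨w, rfl⟩
    -- Claim A
    have hA : K ≤ I • (⊤ : Submodule X (X ⊗[Λ] F)) := by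
      intro z hz
      have hz' : (π.lTensor X) z = 0 := by
        have := LinearMap.mem_ker.mp hz
        rwa [LinearMap.baseChange_eq_ltensor] at this
      obtain ⟨w, rfl⟩ := (hex z).mp hz'
      clear hz hz'
      induction w with
      | zero => simp
      | add a b ha hb =>
        rw [map_add]
        exact Submodule.add_mem _ ha hb
      | tmul x r =>
        rw [LinearMap.lTensor_tmul, Submodule.subtype_apply, tmul_eq_sum b]
        refine Submodule.sum_mem _ fun i _ => ?_
        refine Submodule.smul_mem_smul (Ideal.mem_map_of_mem _ ?_) Submodule.mem_top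
        exact hind r.1 (by rw [LinearMap.mem_ker.mp r.2]; exact Submodule.zero_mem _) i
    -- Claim B
    have hB : K ≤ I • K := by
      intro y hy
      have h := Groth.Agent.H76.FlatPresent.exists_smul_mem_of_torsion (R := X) (S := X) I K ⊥
        (fun z hz => ⟨1, Submonoid.one_mem _, by
          rw [one_smul]
          exact (injective_iff_map_eq_zero _).mp
            (Module.Flat.lTensor_preserves_injective_linearMap I.subtype Subtype.val_injective)
            z hz⟩) y hy (by
          rw [Algebra.algebraMap_self, Ideal.map_id]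
          exact hA hy)
      obtain ⟨w, hw, hwy⟩ := h
      rw [Submonoid.mem_bot] at hw
      rw [hw, one_smul, Algebra.algebraMap_self, Ideal.map_id] at hwy
      exact hwy
    have hKbot : K = ⊥ := by
      rw [eq_bot_iff]
      have h1 := le_pow_smul_of_le_smul I K hB t
      have h2 : I ^ t = ⊥ := by rw [hI, ← Ideal.map_pow, hnil, Ideal.map_bot]
      rwa [h2, Submodule.bot_smul] at h1
    refine Ideal.span_le.mpr ?_
    rintro a ⟨r, hr, i, rfl⟩
    have h1 : ((1 : X) ⊗ₜ[Λ] r : X ⊗[Λ] F) ∈ K := by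
      rw [hK, LinearMap.mem_ker, LinearMap.baseChange_tmul, LinearMap.mem_ker.mp hr,
        TensorProduct.tmul_zero]
    rw [hKbot, Submodule.mem_bot] at h1
    have h2 := congrArg ((AlgebraTensorModule.rid Λ X X).toLinearMap ∘ₗ
      ((b.coord i : F →ₗ[Λ] Λ).baseChange X)) h1
    simp only [LinearMap.coe_comp, LinearEquiv.coe_coe, Function.comp_apply,
      LinearMap.baseChange_tmul, Module.Basis.coord_apply, AlgebraTensorModule.rid_tmul,
      map_zero] at h2
    rw [SetLike.mem_coe, RingHom.mem_ker, ← h2, Algebra.smul_def, mul_one]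
  · intro h
    have h0 : (LinearMap.ker π).subtype.lTensor X = 0 := by
      ext x r
      simp only [AlgebraTensorModule.curry_apply, LinearMap.restrictScalars_self, curry_apply,
        LinearMap.lTensor_tmul, Submodule.subtype_apply, LinearMap.zero_apply]
      rw [tmul_eq_sum b]
      refine Finset.sum_eq_zero fun i _ => ?_
      have : algebraMap Λ X (b.repr r.1 i) = 0 :=
        RingHom.mem_ker.mp (h (Ideal.subset_span ⟨r.1, r.2, i, rfl⟩))
      rw [this, zero_smul]
    have hinj : Function.Injective (π.baseChange X) := by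
      rw [injective_iff_map_eq_zero]
      intro z hz
      rw [LinearMap.baseChange_eq_ltensor] at hz
      obtain ⟨w, rfl⟩ := (hex z).mp hz
      rw [h0, LinearMap.zero_apply]
    haveI : Module.Free Λ F := Module.Free.of_basis b
    exact Module.Flat.of_linearEquiv
      (LinearEquiv.ofBijective (π.baseChange X) ⟨hinj, hsurjX⟩).symm

end Main

section Exists

variable {Λ : Type u} [CommRing Λ]

/-- **Flattening ideal** over a ring with a nilpotent maximal ideal. -/
theorem exists_flattening_ideal (𝔫 : Ideal Λ) [𝔫.IsMaximal] (t : ℕ) (hnil : 𝔫 ^ t = ⊥)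
    (T : Type u) [AddCommGroup T] [Module Λ T] :
    ∃ 𝔟 : Ideal Λ, ∀ (X : Type u) [CommRing X] [Algebra Λ X],
      Module.Flat X (X ⊗[Λ] T) ↔ 𝔟 ≤ RingHom.ker (algebraMap Λ X) := by
  obtain ⟨ι, e, hind, hgen⟩ := exists_lift_basis 𝔫 T
  refine ⟨coeffIdeal (Finsupp.basisSingleOne (R := Λ) (ι := ι)) (Finsupp.linearCombination Λ e),
    fun X _ _ => ?_⟩
  refine flat_iff 𝔫 t hnil (Finsupp.basisSingleOne (R := Λ) (ι := ι))
    (Finsupp.linearCombination Λ e) ?_ hgen X
  intro f hf i
  rw [Finsupp.basisSingleOne_repr]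
  exact hind f hf i

end Exists

section Level

variable {A : Type u} [CommRing A] (𝔪 : Ideal A) [h𝔪 : 𝔪.IsMaximal]

/-- **Flattening ideal at level `t`**: for an `A`-module `T` there is an ideal `𝔟 ⊇ 𝔪 ^ t` such that
for every `A`-algebra `X` killed by `𝔪 ^ t`, `X ⊗ T` is flat over `X` iff `𝔟` dies in `X`. -/
theorem exists_flattening_ideal_level (t : ℕ) (T : Type u) [AddCommGroup T] [Module A T] :
    ∃ 𝔟 : Ideal A, 𝔪 ^ t ≤ 𝔟 ∧ ∀ (X : Type u) [CommRing X] [Algebra A X],
      𝔪 ^ t ≤ RingHom.ker (algebraMap A X) →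
      (Module.Flat X (X ⊗[A] T) ↔ 𝔟 ≤ RingHom.ker (algebraMap A X)) := by
  rcases Nat.eq_zero_or_pos t with rfl | ht
  · refine ⟨⊤, le_top, fun X _ _ hX => ?_⟩
    rw [pow_zero, Ideal.one_eq_top] at hX
    have h1 : (1 : X) = 0 := by
      have : (1 : A) ∈ RingHom.ker (algebraMap A X) := hX Submodule.mem_top
      rw [RingHom.mem_ker, map_one] at this
      exact this
    haveI : Subsingleton X := subsingleton_of_zero_eq_one h1.symm
    haveI : Subsingleton (X ⊗[A] T) := Module.subsingleton X _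
    exact ⟨fun _ => hX, fun _ => inferInstance⟩
  · set Λ := A ⧸ 𝔪 ^ t with hΛ
    set 𝔫 : Ideal Λ := 𝔪.map (Ideal.Quotient.mk (𝔪 ^ t)) with h𝔫
    have hle : 𝔪 ^ t ≤ 𝔪 := Ideal.pow_le_self (Nat.pos_iff_ne_zero.mp ht)
    haveI : 𝔫.IsMaximal := by
      rcases Ideal.map_eq_top_or_isMaximal_of_surjective (Ideal.Quotient.mk (𝔪 ^ t))
        Ideal.Quotient.mk_surjective h𝔪 with h | h
      · exfalso
        have h2 := congrArg (Ideal.comap (Ideal.Quotient.mk (𝔪 ^ t))) h
        rw [Ideal.comap_map_of_surjective _ Ideal.Quotient.mk_surjective, Ideal.comap_top,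
          ← RingHom.ker_eq_comap_bot, Ideal.mk_ker, sup_eq_left.mpr hle] at h2
        exact h𝔪.ne_top h2
      · exact h
    have hnil : 𝔫 ^ t = ⊥ := by
      rw [h𝔫, ← Ideal.map_pow, Ideal.map_quotient_self]
    obtain ⟨𝔟, h𝔟⟩ := exists_flattening_ideal 𝔫 t hnil (Λ ⊗[A] T)
    refine ⟨𝔟.comap (Ideal.Quotient.mk (𝔪 ^ t)), ?_, fun X _ _ hX => ?_⟩
    · intro a ha
      rw [Ideal.mem_comap, Ideal.Quotient.eq_zero_iff_mem.mpr ha]
      exact 𝔟.zero_mem
    · letI algΛX : Algebra Λ X := (Ideal.Quotient.lift (𝔪 ^ t) (algebraMap A X)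
        (fun a ha => RingHom.mem_ker.mp (hX ha))).toAlgebra
      haveI : IsScalarTower A Λ X := IsScalarTower.of_algebraMap_eq (fun a => rfl)
      have h1 := h𝔟 X
      have e : X ⊗[Λ] (Λ ⊗[A] T) ≃ₗ[X] X ⊗[A] T :=
        TensorProduct.AlgebraTensorModule.cancelBaseChange A Λ X X T
      rw [← Module.Flat.equiv_iff e, h1]
      have hker : RingHom.ker (algebraMap A X) =
          (RingHom.ker (algebraMap Λ X)).comap (Ideal.Quotient.mk (𝔪 ^ t)) := by
        ext a
        simp only [RingHom.mem_ker, Ideal.mem_comap]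
        rfl
      rw [hker]
      exact (Ideal.comap_le_comap_iff_of_surjective _ Ideal.Quotient.mk_surjective _ _).symm

end Level

end Groth.Agent.H46.FlatIdeal
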