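import Groth.Agent.H46.GCILocalize
import Groth.Agent.Lib.Helper55.LocalDim
import Mathlib

/-!
# A global complete intersection over a field is equidimensional

If `B = k[x_1..x_n]/(r_1..r_c)` has dimension `n - c` then the local dimension of `Spec B` at every
point is `n - c`.
-/

set_option autoImplicit false
universe u

namespace Groth.Agent.H46.GCIEquidim

open MvPolynomial

variable {k : Type u} [Field k]

/-- Krull: a minimal prime over `(r_1..r_d)` in `k[x_1..x_m]` has coheight at least `m - d` -/
theorem le_ringKrullDim_quotient_of_mem_minimalPrimes (m d : ℕ)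
    (r : Fin d → MvPolynomial (Fin m) k) (q : Ideal (MvPolynomial (Fin m) k))
    (hq : q ∈ (Ideal.span (Set.range r)).minimalPrimes) :
    (m : WithBot ℕ∞) ≤ ringKrullDim (MvPolynomial (Fin m) k ⧸ q) + (d : ℕ∞) := by
  have hq_prime : q.IsPrime := hq.1.1
  have hht : q.height ≤ (Set.range r).ncard :=
    Ideal.height_le_card_of_mem_minimalPrimes_span (Set.finite_range r) hq
  have hcard : (Set.range r).ncard ≤ d := by
    have := Set.ncard_image_le (f := r) (s := Set.univ) Set.finite_univ
    rw [Set.image_univ] at this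
    simpa using this
  have hht' : q.height ≤ (d : ℕ∞) := hht.trans (by exact_mod_cast hcard)
  have hdim := Groth.Agent.Lib.Helper55.ringKrullDim_quotient_add_height k (MvPolynomial (Fin m) k) q
  have hm : ringKrullDim (MvPolynomial (Fin m) k) = m := by
    rw [MvPolynomial.ringKrullDim_of_isNoetherianRing, ringKrullDim_eq_zero_of_field]
    simp
  rw [hm] at hdim
  rw [← hdim]
  exact add_le_add le_rfl (by exact_mod_cast hht')

/-- equidimensionality in terms of local dimension -/
theorem localDim_eq_of_presentation {B : Type u} [CommRing B] [Algebra k B] {n c : ℕ}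
    (Q : Algebra.Presentation k B (Fin n) (Fin c)) (hc : c ≤ n)
    (hdim : ringKrullDim B = ((n - c : ℕ) : WithBot ℕ∞)) (P : PrimeSpectrum B) :
    FlatMor.localDim (PrimeSpectrum B) P = ((n - c : ℕ) : WithBot ℕ∞) := by
  have hft : Algebra.FiniteType k B := Q.toGenerators.finiteType
  rw [Groth.Agent.Lib.Helper55.localDim_primeSpectrum_eq k B P]
  obtain ⟨q₀, hq₀min, -, hq₀⟩ :=
    Groth.Agent.Lib.Helper55.exists_minimalPrimes_ringKrullDim_quotient_eq k B P.asIdeal
  rw [← hq₀]
  have hq₀prime : q₀.IsPrime := hq₀min.1.1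
  apply le_antisymm
  · rw [← hdim]; exact ringKrullDim_quotient_le q₀
  · -- pull back to the polynomial ring
    let φ : MvPolynomial (Fin n) k →ₐ[k] B := aeval Q.val
    have hφ : Function.Surjective φ := Q.toGenerators.aeval_val_surjective
    have hker : RingHom.ker φ.toRingHom = Ideal.span (Set.range Q.relation) := by
      rw [Q.span_range_relation_eq_ker, Algebra.Generators.ker_eq_ker_aeval_val]
      rfl
    have hmin : q₀.comap φ.toRingHom ∈ (Ideal.span (Set.range Q.relation)).minimalPrimes := by
      rw [← hker, RingHom.ker_eq_comap_bot]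
      exact Ideal.minimalPrimes_comap_of_surjective (f := φ.toRingHom) hφ hq₀min
    have h1 := le_ringKrullDim_quotient_of_mem_minimalPrimes n c Q.relation _ hmin
    have heq : ringKrullDim (MvPolynomial (Fin n) k ⧸ q₀.comap φ.toRingHom) =
        ringKrullDim (B ⧸ q₀) := by
      let ψ : (MvPolynomial (Fin n) k ⧸ q₀.comap φ.toRingHom) →+* (B ⧸ q₀) :=
        Ideal.quotientMap q₀ φ.toRingHom le_rfl
      have hinj : Function.Injective ψ := Ideal.quotientMap_injective
      have hsurj : Function.Surjective ψ := Ideal.quotientMap_surjective hφ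
      exact ringKrullDim_eq_of_ringEquiv (RingEquiv.ofBijective ψ ⟨hinj, hsurj⟩)
    rw [heq] at h1
    have hnt : Nontrivial (B ⧸ q₀) := Ideal.Quotient.nontrivial_iff.mpr hq₀prime.ne_top
    have hle : ringKrullDim (B ⧸ q₀) ≤ ((n - c : ℕ) : WithBot ℕ∞) := by
      rw [← hdim]; exact ringKrullDim_quotient_le q₀
    have h0 : (0 : WithBot ℕ∞) ≤ ringKrullDim (B ⧸ q₀) := ringKrullDim_nonneg_of_nontrivial
    have hnebot : ringKrullDim (B ⧸ q₀) ≠ ⊥ := by
      intro h
      rw [h] at h0
      simp at h0
    obtain ⟨v, hv⟩ := WithBot.ne_bot_iff_exists.mp hnebot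
    rw [← hv] at h1 hle ⊢
    have hv' : v ≤ ((n - c : ℕ) : ℕ∞) := by
      have := hle
      rw [← WithBot.coe_natCast] at this
      exact WithBot.coe_le_coe.mp this
    obtain ⟨a, rfl⟩ := ENat.ne_top_iff_exists.mp (ne_top_of_le_ne_top (ENat.natCast_ne_top _) hv')
    have h2 : (n : ℕ∞) ≤ (a : ℕ∞) + (c : ℕ∞) := by
      have := h1
      rw [← WithBot.coe_natCast, ← WithBot.coe_add] at this
      exact WithBot.coe_le_coe.mp this
    have h3 : n ≤ a + c := by exact_mod_cast h2
    have h4 : n - c ≤ a := by omega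
    rw [← WithBot.coe_natCast]
    exact WithBot.coe_le_coe.mpr (by exact_mod_cast h4)

end Groth.Agent.H46.GCIEquidim
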