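import Groth.Agent.H46.SyntSquare
import Mathlib

set_option autoImplicit false
universe u

namespace Groth.Agent.H46.SplitSynt

open Polynomial

/-- the one-generator one-relation presentation of `AdjoinRoot P` -/
noncomputable def adjoinRootPresentation {A : Type u} [CommRing A] (P : A[X]) :
    Algebra.Presentation A (AdjoinRoot P) PUnit.{1} PUnit.{1} := by
  have hae : MvPolynomial.aeval (fun _ : PUnit.{1} => AdjoinRoot.root P) =
      (AdjoinRoot.mkₐ P).comp (MvPolynomial.uniqueAlgEquiv A PUnit.{1}).toAlgHom := by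
    ext i
    simp
  have hsurj : Function.Surjective (MvPolynomial.aeval (R := A)
      (fun _ : PUnit.{1} => AdjoinRoot.root P)) := by
    rw [hae]
    exact (AdjoinRoot.mk_surjective).comp (MvPolynomial.uniqueAlgEquiv A PUnit.{1}).surjective
  exact
    { toGenerators := Algebra.Generators.ofSurjective (fun _ : PUnit.{1} => AdjoinRoot.root P) hsurj
      relation := fun _ => (MvPolynomial.uniqueAlgEquiv A PUnit.{1}).symm P
      span_range_relation_eq_ker := by
        rw [Algebra.Generators.ker_eq_ker_aeval_val]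
        show _ = RingHom.ker (MvPolynomial.aeval (R := A) (fun _ : PUnit.{1} => AdjoinRoot.root P))
        rw [hae, Set.range_const]
        ext f
        rw [RingHom.mem_ker, Ideal.mem_span_singleton]
        show _ ↔ AdjoinRoot.mk P (MvPolynomial.uniqueAlgEquiv A PUnit.{1} f) = 0
        rw [AdjoinRoot.mk_eq_zero]
        constructor
        · rintro ⟨q, rfl⟩
          refine ⟨MvPolynomial.uniqueAlgEquiv A PUnit.{1} q, ?_⟩
          rw [map_mul, AlgEquiv.apply_symm_apply]
        · rintro ⟨q, hq⟩
          refine ⟨(MvPolynomial.uniqueAlgEquiv A PUnit.{1}).symm q, ?_⟩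
          apply (MvPolynomial.uniqueAlgEquiv A PUnit.{1}).injective
          rw [map_mul, AlgEquiv.apply_symm_apply, AlgEquiv.apply_symm_apply, hq] }

theorem exists_splitting : ∀ (n : ℕ) (A : Type u) [CommRing A] (P : A[X]), P.Monic →
    P.natDegree = n →
    ∃ (A' : Type u) (_ : CommRing A') (_ : Algebra A A') (m : ℕ),
      Nonempty (Algebra.Presentation A A' (Fin m) (Fin m)) ∧ Module.Finite A A' ∧
      Module.Free A A' ∧ (Nontrivial A → Nontrivial A') ∧
      ∃ s : Multiset A', P.map (algebraMap A A') = (s.map fun b => X - C b).prod := by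
  intro n
  induction n with
  | zero =>
    intro A _ P hP hdeg
    have hP1 : P = 1 := Polynomial.eq_one_of_monic_natDegree_zero hP hdeg
    refine ⟨A, inferInstance, inferInstance, 0,
      ⟨(Algebra.Presentation.id.{0, 0} A).reindex (Equiv.equivOfIsEmpty _ _) (Equiv.equivOfIsEmpty _ _)⟩,
      inferInstance, inferInstance, fun h => h, 0, ?_⟩
    simp [hP1]
  | succ n ih =>
    intro A _ P hP hdeg
    have hA : Nontrivial A := by
      by_contra hcon
      rw [not_nontrivial_iff_subsingleton] at hcon
      rw [Polynomial.natDegree_of_subsingleton] at hdeg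
      omega
    -- adjoin a root
    let A₁ := AdjoinRoot P
    let a : A₁ := AdjoinRoot.root P
    have hroot : (P.map (AdjoinRoot.of P)).IsRoot a := AdjoinRoot.isRoot_root P
    let P₁ : A₁[X] := (P.map (AdjoinRoot.of P)) /ₘ (X - C a)
    have hmul : (X - C a) * P₁ = P.map (AdjoinRoot.of P) :=
      Polynomial.mul_divByMonic_eq_iff_isRoot.mpr hroot
    have hPmap : (P.map (AdjoinRoot.of P)).Monic := hP.map _
    have hP₁ : P₁.Monic := by
      refine Polynomial.Monic.of_mul_monic_left (monic_X_sub_C a) ?_
      rw [hmul]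
      exact hPmap
    have hfin₁ : Module.Finite A A₁ := hP.finite_adjoinRoot
    have hfree₁ : Module.Free A A₁ := hP.free_adjoinRoot
    have hnt₁ : Nontrivial A₁ := by
      have hdim : (AdjoinRoot.powerBasis' hP).dim = n + 1 := by
        rw [AdjoinRoot.powerBasis'_dim, hdeg]
      have : Nonempty (Fin (AdjoinRoot.powerBasis' hP).dim) := by
        rw [hdim]; exact ⟨0⟩
      obtain ⟨i⟩ := this
      exact ⟨⟨(AdjoinRoot.powerBasis' hP).basis i, 0, (AdjoinRoot.powerBasis' hP).basis.ne_zero i⟩⟩
    have hdeg₁ : P₁.natDegree = n := by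
      show ((P.map (AdjoinRoot.of P)) /ₘ (X - C a)).natDegree = n
      rw [Polynomial.natDegree_divByMonic _ (monic_X_sub_C a), Polynomial.natDegree_X_sub_C,
        hP.natDegree_map, hdeg]
      rfl
    obtain ⟨A', _, _, m, ⟨Pres₁⟩, hfin, hfree, hnt, s₁, hs₁⟩ := ih A₁ P₁ hP₁ hdeg₁
    let _ : Algebra A A' := ((algebraMap A₁ A').comp (algebraMap A A₁)).toAlgebra
    have : IsScalarTower A A₁ A' := IsScalarTower.of_algebraMap_eq' rfl
    refine ⟨A', inferInstance, inferInstance, m + 1,
      ⟨(Pres₁.comp (adjoinRootPresentation P)).reindex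
        (Fintype.equivOfCardEq (by simp)) (Fintype.equivOfCardEq (by simp))⟩,
      Module.Finite.trans A₁ A', Module.Free.trans (R := A) (S := A₁) (M := A'),
      fun _ => hnt hnt₁, (algebraMap A₁ A' a) ::ₘ s₁, ?_⟩
    rw [IsScalarTower.algebraMap_eq A A₁ A', ← Polynomial.map_map]
    show (P.map (AdjoinRoot.of P)).map _ = _
    rw [← hmul, Polynomial.map_mul, hs₁, Multiset.map_cons, Multiset.prod_cons]
    simp

end Groth.Agent.H46.SplitSynt
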