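import Groth.Agent.H46.GCILocalize
import Groth.Agent.H46.SplitSynt
import Groth.Agent.Lib.Helper55.KrullDimIntegral
import Mathlib

set_option autoImplicit false
universe u

namespace Groth.Agent.H46.GCIExt

open Polynomial

variable {k : Type u} [Field k]

/-- a presentation from global CI data -/
noncomputable def presOfData {S : Type u} [CommRing S] [Algebra k S] {n c : ℕ}
    (φ : MvPolynomial (Fin n) k →ₐ[k] S) (r : Fin c → MvPolynomial (Fin n) k)
    (hφ : Function.Surjective φ) (hker : RingHom.ker φ.toRingHom = Ideal.span (Set.range r)) :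
    Algebra.Presentation k S (Fin n) (Fin c) :=
  have hae : MvPolynomial.aeval (fun i => φ (MvPolynomial.X i)) = φ := by
    ext i; simp
  { toGenerators := Algebra.Generators.ofSurjective (fun i => φ (MvPolynomial.X i))
      (by rw [hae]; exact hφ)
    relation := r
    span_range_relation_eq_ker := by
      rw [Algebra.Generators.ker_eq_ker_aeval_val]
      have h1 : RingHom.ker (MvPolynomial.aeval (R := k) fun i => φ (MvPolynomial.X i)) =
          RingHom.ker φ.toRingHom := by
        rw [hae]; rfl
      exact hker.symm.trans h1.symm }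

/-- global CI from a presentation and a dimension count -/
theorem isGlobalCI_of_pres {S : Type u} [CommRing S] [Algebra k S] {n c : ℕ} (hc : c ≤ n)
    (Q : Algebra.Presentation k S (Fin n) (Fin c))
    (hdim : ringKrullDim S = ((n - c : ℕ) : WithBot ℕ∞)) : Synt.IsGlobalCI k S := by
  refine Or.inr ⟨n, c, hc, MvPolynomial.aeval Q.val, Q.relation,
    Q.toGenerators.aeval_val_surjective, ?_, hdim⟩
  rw [Q.span_range_relation_eq_ker, Algebra.Generators.ker_eq_ker_aeval_val]
  rfl

/-- the presentation of `A[X]` over `A` with one generator and no relation -/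
noncomputable def polynomialPresentation (A : Type u) [CommRing A] :
    Algebra.Presentation A A[X] PUnit.{1} PEmpty.{1} := by
  have hae : MvPolynomial.aeval (fun _ : PUnit.{1} => (X : A[X])) =
      (MvPolynomial.uniqueAlgEquiv A PUnit.{1}).toAlgHom := by
    ext i
    simp
  have hsurj : Function.Surjective (MvPolynomial.aeval (R := A)
      (fun _ : PUnit.{1} => (X : A[X]))) := by
    rw [hae]
    exact (MvPolynomial.uniqueAlgEquiv A PUnit.{1}).surjective
  exact
    { toGenerators := Algebra.Generators.ofSurjective (fun _ : PUnit.{1} => (X : A[X])) hsurj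
      relation := PEmpty.elim
      span_range_relation_eq_ker := by
        rw [Algebra.Generators.ker_eq_ker_aeval_val]
        show _ = RingHom.ker (MvPolynomial.aeval (R := A) (fun _ : PUnit.{1} => (X : A[X])))
        rw [hae]
        have : Set.range (PEmpty.elim : PEmpty.{1} → MvPolynomial PUnit.{1} A) = ∅ :=
          Set.range_eq_empty _
        rw [this, Ideal.span_empty]
        symm
        exact (RingHom.injective_iff_ker_eq_bot _).mp (MvPolynomial.uniqueAlgEquiv A PUnit.{1}).injective }

/-- L1: polynomial ring over a global CI is a global CI -/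
theorem isGlobalCI_polynomial {A : Type u} [CommRing A] [Algebra k A] (h : Synt.IsGlobalCI k A) :
    Synt.IsGlobalCI k A[X] := by
  rcases h with h | ⟨n, c, hc, φ, r, hφ, hker, hdim⟩
  · exact Or.inl inferInstance
  have hft : Algebra.FiniteType k A := Algebra.FiniteType.of_surjective φ hφ
  have hnoeth : IsNoetherianRing A := Algebra.FiniteType.isNoetherianRing k A
  let P := presOfData φ r hφ hker
  let Q := (polynomialPresentation A).comp P
  let Q' := Q.reindex (Fintype.equivOfCardEq (by simp; omega) : Fin (n + 1) ≃ PUnit.{1} ⊕ Fin n)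
    (Fintype.equivOfCardEq (by simp) : Fin c ≃ PEmpty.{1} ⊕ Fin c)
  refine isGlobalCI_of_pres (by omega) Q' ?_
  rw [Polynomial.ringKrullDim_of_isNoetherianRing, hdim]
  have : n + 1 - c = (n - c) + 1 := by omega
  rw [this]
  push_cast
  rfl

/-- L2: adjoining a root of a monic polynomial of positive degree to a global CI domain -/
theorem isGlobalCI_adjoinRoot {R : Type u} [CommRing R] [IsDomain R] [Algebra k R]
    (h : Synt.IsGlobalCI k R) (P : R[X]) (hP : P.Monic) (hdeg : P.natDegree ≠ 0) :
    Synt.IsGlobalCI k (AdjoinRoot P) := by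
  rcases h with h | ⟨n, c, hc, φ, r, hφ, hker, hdim⟩
  · exact absurd h (not_subsingleton R)
  let Pr := presOfData φ r hφ hker
  let Q := (Groth.Agent.H46.SplitSynt.adjoinRootPresentation P).comp Pr
  let Q' := Q.reindex (Fintype.equivOfCardEq (by simp; omega) : Fin (n + 1) ≃ PUnit.{1} ⊕ Fin n)
    (Fintype.equivOfCardEq (by simp; omega) : Fin (c + 1) ≃ PUnit.{1} ⊕ Fin c)
  refine isGlobalCI_of_pres (by omega) Q' ?_
  have hfin : Module.Finite R (AdjoinRoot P) := hP.finite_adjoinRoot
  have hint : Algebra.IsIntegral R (AdjoinRoot P) := Algebra.IsIntegral.of_finite R _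
  have hinj : Function.Injective (algebraMap R (AdjoinRoot P)) := by
    apply AdjoinRoot.of.injective_of_degree_ne_zero
    intro h0
    exact hdeg (Polynomial.natDegree_eq_of_degree_eq_some h0)
  rw [Groth.Agent.Lib.Helper55.ringKrullDim_eq_of_isIntegral_of_injective R (AdjoinRoot P) hinj, hdim]
  have : n + 1 - (c + 1) = n - c := by omega
  rw [this]

end Groth.Agent.H46.GCIExt
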