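import Groth.Agent.H46.GCIExt
import Mathlib

set_option autoImplicit false
universe u

namespace Groth.Agent.H46.GCIExt

open Polynomial

variable {k : Type u} [Field k] {K : Type u} [Field K] [Algebra k K]

/-- the algebraic case -/
theorem step_algebraic {A : Type u} [CommRing A] [Algebra k A] (j : A →ₐ[k] K)
    (hj : Function.Injective j) (hA : Synt.IsGlobalCI k A) (x : K)
    (Q₁ : A[X]) (hQ₁ : Q₁ ≠ 0) (hQ₁x : eval₂ (j : A →+* K) x Q₁ = 0) :
    ∃ (B : Type u) (_ : CommRing B) (_ : Algebra k B) (ι : B →ₐ[k] K),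
      Function.Injective ι ∧ Synt.IsGlobalCI k B ∧ j.range ≤ ι.range ∧ x ∈ ι.range := by
  classical
  have hAdom : IsDomain A := Function.Injective.isDomain (j : A →+* K) hj
  have hex : ∃ d, ∃ Q : A[X], Q ≠ 0 ∧ eval₂ (j : A →+* K) x Q = 0 ∧ Q.natDegree = d :=
    ⟨_, Q₁, hQ₁, hQ₁x, rfl⟩
  obtain ⟨Q, hQ0, hQx, hQd⟩ := Nat.find_spec hex
  have hmin : ∀ Q' : A[X], Q' ≠ 0 → eval₂ (j : A →+* K) x Q' = 0 → Nat.find hex ≤ Q'.natDegree :=
    fun Q' h0 hx => Nat.find_min' hex ⟨Q', h0, hx, rfl⟩
  generalize Nat.find hex = d at hQd hmin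
  set g := Q.leadingCoeff with hgdef
  have hg : g ≠ 0 := leadingCoeff_ne_zero.mpr hQ0
  have hd0 : d ≠ 0 := by
    intro h0
    rw [h0] at hQd
    have h1 := eq_C_of_natDegree_eq_zero hQd
    rw [h1, eval₂_C] at hQx
    have h2 : Q.coeff 0 = 0 := hj (by rw [map_zero]; exact hQx)
    rw [h2, map_zero] at h1
    exact hQ0 h1
  have hle : Submonoid.powers g ≤ nonZeroDivisors A :=
    Submonoid.powers_le.mpr (mem_nonZeroDivisors_of_ne_zero hg)
  have hRdom : IsDomain (Localization.Away g) := IsLocalization.isDomain_localization hle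
  have hR : Synt.IsGlobalCI k (Localization.Away g) :=
    Groth.Agent.H46.GCILocalize.isGlobalCI_away g hA
  have hjg : ∀ y : Submonoid.powers g, IsUnit (j y) := by
    rintro ⟨y, n, rfl⟩
    rw [map_pow]
    exact (IsUnit.mk0 _ (fun h => hg (hj (by rw [map_zero]; exact h)))).pow n
  let ev : Localization.Away g →ₐ[k] K :=
    IsLocalization.liftAlgHom (M := Submonoid.powers g) (f := j) hjg
  have hev : ∀ a, ev (algebraMap A (Localization.Away g) a) = j a := fun a =>
    IsLocalization.lift_eq _ _
  have hevc : (ev : Localization.Away g →+* K).comp (algebraMap A (Localization.Away g)) =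
      (j : A →+* K) := RingHom.ext hev
  let u : Localization.Away g := IsLocalization.Away.invSelf g
  have hu : algebraMap A (Localization.Away g) g * u = 1 := IsLocalization.Away.mul_invSelf g
  have hinjR : Function.Injective (algebraMap A (Localization.Away g)) :=
    IsLocalization.injective _ hle
  let P : (Localization.Away g)[X] := C u * Q.map (algebraMap A (Localization.Away g))
  have hlc : (Q.map (algebraMap A (Localization.Away g))).leadingCoeff =
      algebraMap A (Localization.Away g) g := leadingCoeff_map_of_injective hinjR _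
  have hP : P.Monic := monic_C_mul_of_mul_leadingCoeff_eq_one (by rw [hlc, mul_comm]; exact hu)
  have hu0 : u ≠ 0 := by
    intro h
    rw [h, mul_zero] at hu
    exact zero_ne_one hu
  have hPdeg : P.natDegree = d := by
    rw [natDegree_C_mul hu0, natDegree_map_eq_of_injective hinjR, hQd]
  have hP1 : P ≠ 1 := by
    intro h
    rw [h, natDegree_one] at hPdeg
    exact hd0 hPdeg.symm
  have hPx : eval₂ (ev : Localization.Away g →+* K) x P = 0 := by
    rw [eval₂_mul, eval₂_C, eval₂_map, hevc, hQx, mul_zero]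
  let ι : AdjoinRoot P →ₐ[k] K := AdjoinRoot.liftAlgHom P ev x hPx
  have hιmk : ∀ H, ι (AdjoinRoot.mk P H) = eval₂ (ev : Localization.Away g →+* K) x H := fun H =>
    AdjoinRoot.lift_mk hPx H
  have hι : Function.Injective ι := by
    rw [injective_iff_map_eq_zero]
    intro z hz
    obtain ⟨H, rfl⟩ := AdjoinRoot.mk_surjective z
    have hHS : AdjoinRoot.mk P H = AdjoinRoot.mk P (H %ₘ P) := by
      rw [← sub_eq_zero, ← map_sub, AdjoinRoot.mk_eq_zero]
      have h := modByMonic_add_div H P
      exact ⟨H /ₘ P, by linear_combination (-1 : (Localization.Away g)[X]) * h⟩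
    have hSx : eval₂ (ev : Localization.Away g →+* K) x (H %ₘ P) = 0 := by
      rw [← hιmk, ← hHS]; exact hz
    have hSdeg : (H %ₘ P).natDegree < d := hPdeg ▸ natDegree_modByMonic_lt H hP hP1
    obtain ⟨b, hb, hbS⟩ := IsLocalization.integerNormalization_spec (Submonoid.powers g) (H %ₘ P)
    have hS₀x : eval₂ (j : A →+* K) x
        (IsLocalization.integerNormalization (Submonoid.powers g) (H %ₘ P)) = 0 := by
      rw [← hevc, ← eval₂_map, hbS, ← algebraMap_smul (Localization.Away g) b (H %ₘ P),
        smul_eq_C_mul, eval₂_mul, hSx, mul_zero]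
    have hS₀deg : (IsLocalization.integerNormalization (Submonoid.powers g) (H %ₘ P)).natDegree ≤
        (H %ₘ P).natDegree := by
      rw [natDegree_le_iff_coeff_eq_zero]
      intro N hN
      by_contra hne
      have h1 := IsLocalization.integerNormalization_support (Submonoid.powers g) (H %ₘ P)
        (mem_support_iff.mpr hne)
      exact (mem_support_iff.mp h1) (coeff_eq_zero_of_natDegree_lt hN)
    have hS₀ : IsLocalization.integerNormalization (Submonoid.powers g) (H %ₘ P) = 0 := by
      by_contra h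
      have := hmin _ h hS₀x
      omega
    have hS : H %ₘ P = 0 :=
      (IsLocalization.integerNormalization_eq_zero_iff hle _).mp hS₀
    rw [hHS, hS, map_zero]
  refine ⟨AdjoinRoot P, inferInstance, inferInstance, ι, hι,
    isGlobalCI_adjoinRoot hR P hP (hPdeg ▸ hd0), ?_, ?_⟩
  · rintro _ ⟨a, rfl⟩
    refine ⟨AdjoinRoot.mk P (C (algebraMap A (Localization.Away g) a)), ?_⟩
    show ι (AdjoinRoot.mk P (C (algebraMap A (Localization.Away g) a))) = j a
    rw [hιmk, eval₂_C]
    exact hev a
  · refine ⟨AdjoinRoot.mk P X, ?_⟩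
    show ι (AdjoinRoot.mk P X) = x
    rw [hιmk, eval₂_X]

/-- the general step -/
theorem step {A : Type u} [CommRing A] [Algebra k A] (j : A →ₐ[k] K)
    (hj : Function.Injective j) (hA : Synt.IsGlobalCI k A) (x : K) :
    ∃ (B : Type u) (_ : CommRing B) (_ : Algebra k B) (ι : B →ₐ[k] K),
      Function.Injective ι ∧ Synt.IsGlobalCI k B ∧ j.range ≤ ι.range ∧ x ∈ ι.range := by
  by_cases halg : ∃ Q : A[X], Q ≠ 0 ∧ eval₂ (j : A →+* K) x Q = 0
  · obtain ⟨Q, hQ, hQx⟩ := halg
    exact step_algebraic j hj hA x Q hQ hQx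
  · push Not at halg
    let ι : A[X] →ₐ[k] K := Polynomial.aevalTower j x
    have hιe : ∀ H, ι H = eval₂ (j : A →+* K) x H := fun H => rfl
    refine ⟨A[X], inferInstance, inferInstance, ι, ?_, isGlobalCI_polynomial hA, ?_, ?_⟩
    · rw [injective_iff_map_eq_zero]
      intro H hH
      by_contra hne
      exact halg H hne hH
    · rintro _ ⟨a, rfl⟩
      refine ⟨C a, ?_⟩
      show ι (C a) = j a
      rw [hιe, eval₂_C]
      rfl
    · refine ⟨X, ?_⟩
      show ι X = x
      rw [hιe, eval₂_X]

/-- every finite subset of a field extension lies in a global CI subalgebra -/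
theorem exists_subalgebra (E : Finset K) :
    ∃ A : Subalgebra k K, (↑E : Set K) ⊆ (A : Set K) ∧ Synt.IsGlobalCI k A := by
  classical
  induction E using Finset.induction_on with
  | empty =>
    refine ⟨⊥, by simp, ?_⟩
    have hk : Synt.IsGlobalCI k k := by
      refine Or.inr ⟨0, 0, le_rfl, (MvPolynomial.isEmptyAlgEquiv k (Fin 0)).toAlgHom, Fin.elim0,
        (MvPolynomial.isEmptyAlgEquiv k (Fin 0)).surjective, ?_, ?_⟩
      · have : Set.range (Fin.elim0 : Fin 0 → MvPolynomial (Fin 0) k) = ∅ := Set.range_eq_empty _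
        rw [this, Ideal.span_empty]
        exact (RingHom.injective_iff_ker_eq_bot _).mp (MvPolynomial.isEmptyAlgEquiv k (Fin 0)).injective
      · rw [ringKrullDim_eq_zero_of_field]
        rfl
    exact Groth.Agent.H46.isGlobalCI_of_algEquiv (Algebra.botEquiv k K).symm hk
  | insert x E hx ih =>
    obtain ⟨A, hEA, hA⟩ := ih
    obtain ⟨B, _, _, ι, hι, hB, hAB, hxB⟩ := step A.val Subtype.val_injective hA x
    refine ⟨ι.range, ?_, Groth.Agent.H46.isGlobalCI_of_algEquiv (AlgEquiv.ofInjective ι hι) hB⟩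
    intro y hy
    rw [Finset.coe_insert, Set.mem_insert_iff] at hy
    rcases hy with rfl | hy
    · exact hxB
    · exact hAB ⟨⟨y, hEA hy⟩, rfl⟩

end Groth.Agent.H46.GCIExt
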