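import Mathlib
import Groth.Agent.H76.FlatLocusFP

/-!
# Augmented matrices presenting `N / J^k N` (helper46)

For a matrix `c` over a ring `P` presenting `N = P^b / span (rows c)` and generators `g` of an
ideal `J`, the matrix `aug c g k` presents `N / J^k N`.
-/

set_option autoImplicit false
universe u

open TensorProduct Groth.Agent.H76.FlatKernel Groth.Agent.H76.FlatBaseChange

namespace Groth.Agent.H46.GrFlatAug

section Generic

variable {P : Type*} [CommRing P] {a b r : ℕ}

theorem pow_span_range (g : Fin r → P) (k : ℕ) :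
    (Ideal.span (Set.range g)) ^ k =
      Ideal.span (Set.range fun α : Fin k → Fin r => ∏ l, g (α l)) := by
  rw [Ideal.span, Submodule.span_pow]
  congr 1
  ext x
  rw [Set.mem_pow]
  constructor
  · rintro ⟨f, rfl⟩
    choose α hα using fun i => (f i).2
    refine ⟨α, ?_⟩
    simp only [List.prod_ofFn, hα]
  · rintro ⟨α, rfl⟩
    exact ⟨fun l => ⟨g (α l), α l, rfl⟩, by rw [List.prod_ofFn]⟩

/-- The rows generating `J^k P^b`. -/
noncomputable def augRows (g : Fin r → P) (k : ℕ) : (Fin k → Fin r) × Fin b → Fin b → P :=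
  fun x => (∏ l, g (x.1 l)) • (Pi.single x.2 1 : Fin b → P)

theorem span_range_augRows (g : Fin r → P) (k : ℕ) :
    Submodule.span P (Set.range (augRows (b := b) g k)) =
      (Ideal.span (Set.range g)) ^ k • (⊤ : Submodule P (Fin b → P)) := by
  rw [pow_span_range, ← (Pi.basisFun P (Fin b)).span_eq, Submodule.span_smul_span]
  congr 1
  ext x
  simp only [Set.mem_range, Set.mem_smul, augRows, Prod.exists]
  constructor
  · rintro ⟨α, i, rfl⟩
    exact ⟨_, ⟨α, rfl⟩, _, ⟨i, rfl⟩, by rw [Pi.basisFun_apply]⟩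
  · rintro ⟨_, ⟨α, rfl⟩, _, ⟨i, rfl⟩, rfl⟩
    exact ⟨α, i, by rw [Pi.basisFun_apply]⟩

/-- The augmented matrix presenting `N / J^k N`. -/
noncomputable def aug (c : Fin a → Fin b → P) (g : Fin r → P) (k : ℕ) :
    Fin (Fintype.card (Fin a ⊕ (Fin k → Fin r) × Fin b)) → Fin b → P :=
  fun j => Sum.elim c (augRows g k) ((Fintype.equivFin _).symm j)

theorem span_range_aug (c : Fin a → Fin b → P) (g : Fin r → P) (k : ℕ) :
    Submodule.span P (Set.range (aug c g k)) =
      Submodule.span P (Set.range c) ⊔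
        (Ideal.span (Set.range g)) ^ k • (⊤ : Submodule P (Fin b → P)) := by
  have h1 : Set.range (aug c g k) = Set.range (Sum.elim c (augRows g k)) :=
    (Fintype.equivFin _).symm.surjective.range_comp _
  rw [h1, Set.Sum.elim_range, Submodule.span_union, span_range_augRows]

/-- `coker (aug c g k) ≃ coker c / J^k`. -/
noncomputable def augEquiv (c : Fin a → Fin b → P) (g : Fin r → P) (k : ℕ) :
    ((Fin b → P) ⧸ Submodule.span P (Set.range (aug c g k))) ≃ₗ[P]
      (((Fin b → P) ⧸ Submodule.span P (Set.range c)) ⧸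
        ((Ideal.span (Set.range g)) ^ k •
          (⊤ : Submodule P ((Fin b → P) ⧸ Submodule.span P (Set.range c))))) :=
  (Submodule.quotEquivOfEq _ _ (span_range_aug c g k)) ≪≫ₗ
    (Submodule.quotientQuotientEquivQuotientSup (Submodule.span P (Set.range c))
      ((Ideal.span (Set.range g)) ^ k • (⊤ : Submodule P (Fin b → P)))).symm ≪≫ₗ
    (Submodule.quotEquivOfEq _ _ (by
      rw [Submodule.map_smul'', Submodule.map_top, Submodule.range_mkQ]))

end Generic

section Poly

variable {σ : Type*} {A₁ A₂ : Type*} [CommRing A₁] [CommRing A₂] (φ : A₁ →+* A₂) {a b r : ℕ}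

theorem aug_cmap (c : Fin a → Fin b → MvPolynomial σ A₁) (g : Fin r → MvPolynomial σ A₁) (k : ℕ) :
    aug (cmap φ c) (vmap φ g) k = cmap φ (aug c g k) := by
  ext j i : 2
  simp only [aug, cmap_apply]
  rcases (Fintype.equivFin (Fin a ⊕ (Fin k → Fin r) × Fin b)).symm j with j' | ⟨α, i'⟩
  · simp
  · simp only [Sum.elim_inr, augRows, Pi.smul_apply, Pi.single_apply, smul_eq_mul, vmap_apply,
      mul_ite, mul_one, mul_zero]
    split_ifs <;> simp

theorem cmap_cmap {A₃ : Type*} [CommRing A₃] (ψ : A₂ →+* A₃) {κ ι : Type*}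
    (c : κ → ι → MvPolynomial σ A₁) : cmap ψ (cmap φ c) = cmap (ψ.comp φ) c := by
  ext j i : 2
  simp [MvPolynomial.map_map]

theorem cmap_injective (hφ : Function.Injective φ) {κ ι : Type*} :
    Function.Injective (cmap (σ := σ) (κ := κ) (ι := ι) φ) := by
  intro c c' h
  ext j i : 2
  exact MvPolynomial.map_injective φ hφ (congrFun (congrFun h j) i)

end Poly

section BC

attribute [local instance] MvPolynomial.algebraMvPolynomial

variable {A₁ A₂ : Type*} [CommRing A₁] [CommRing A₂] [Algebra A₁ A₂] {n a b : ℕ}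

/-- `coker (cmap c) ≃ A₂ ⊗ coker c`. -/
noncomputable def cokerBC (c₁ : Fin a → Fin b → MvPolynomial (Fin n) A₁) :
    ((Fin b → MvPolynomial (Fin n) A₂) ⧸ Submodule.span (MvPolynomial (Fin n) A₂)
        (Set.range (cmap (algebraMap A₁ A₂) c₁))) ≃ₗ[A₂]
      A₂ ⊗[A₁] ((Fin b → MvPolynomial (Fin n) A₁) ⧸
        Submodule.span (MvPolynomial (Fin n) A₁) (Set.range c₁)) :=
  ((isBaseChange_cokerMap (P₂ := MvPolynomial (Fin n) A₂) c₁).equiv.symm.restrictScalars A₂) ≪≫ₗ
    Algebra.IsPushout.cancelBaseChange A₁ A₂ (MvPolynomial (Fin n) A₁)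
      (MvPolynomial (Fin n) A₂) _

theorem flat_coker_cmap (c₁ : Fin a → Fin b → MvPolynomial (Fin n) A₁)
    (h : Module.Flat A₁ ((Fin b → MvPolynomial (Fin n) A₁) ⧸
        Submodule.span (MvPolynomial (Fin n) A₁) (Set.range c₁))) :
    Module.Flat A₂ ((Fin b → MvPolynomial (Fin n) A₂) ⧸ Submodule.span (MvPolynomial (Fin n) A₂)
        (Set.range (cmap (algebraMap A₁ A₂) c₁))) :=
  Module.Flat.of_linearEquiv (cokerBC c₁)

/-- `X ⊗[A₂] coker (cmap c) ≃ X ⊗[A₁] coker c`. -/
noncomputable def tensorCokerEquiv (X : Type*) [CommRing X] [Algebra A₁ X] [Algebra A₂ X]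
    [IsScalarTower A₁ A₂ X] (c₁ : Fin a → Fin b → MvPolynomial (Fin n) A₁) :
    (X ⊗[A₂] ((Fin b → MvPolynomial (Fin n) A₂) ⧸ Submodule.span (MvPolynomial (Fin n) A₂)
        (Set.range (cmap (algebraMap A₁ A₂) c₁)))) ≃ₗ[X]
      X ⊗[A₁] ((Fin b → MvPolynomial (Fin n) A₁) ⧸
        Submodule.span (MvPolynomial (Fin n) A₁) (Set.range c₁)) :=
  (AlgebraTensorModule.congr (LinearEquiv.refl X X) (cokerBC c₁)) ≪≫ₗ
    AlgebraTensorModule.cancelBaseChange A₁ A₂ X X _

end BC

end Groth.Agent.H46.GrFlatAug
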