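import Mathlib
import Groth.Agent.H76.FlatBaseChange
import Groth.Agent.H76.AdicFlat

/-!
# Flatness of a localization from flatness of the localized adic quotients (helper46)
-/

set_option autoImplicit false
universe u

open TensorProduct Groth.Agent.H76.FlatBaseChange

namespace Groth.Agent.H46.GrFlatKrull

theorem flat_localized_of_flat_localized_quotients {R P : Type u} [CommRing R] [CommRing P]
    [Algebra R P] [IsNoetherianRing R] [IsNoetherianRing P] (N : Type u) [AddCommGroup N]
    [Module P N] [Module R N] [IsScalarTower R P N] [Module.Finite P N]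
    (J : Ideal P) (q : Ideal P) [q.IsPrime] (hJq : J ≤ q)
    (h : ∀ k : ℕ, Module.Flat R
      (LocalizedModule q.primeCompl (N ⧸ (J ^ k • (⊤ : Submodule P N))))) :
    Module.Flat R (LocalizedModule q.primeCompl N) := by
  set B := Localization.AtPrime q with hB
  set f := LocalizedModule.mkLinearMap q.primeCompl N with hf
  set I : Ideal B := J.map (algebraMap P B) with hI
  have hItop : I ≠ ⊤ := by
    have : I ≤ IsLocalRing.maximalIdeal B := by
      rw [← Localization.AtPrime.map_eq_maximalIdeal (I := q)]
      exact Ideal.map_mono hJq
    intro htop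
    rw [htop, top_le_iff] at this
    exact (IsLocalRing.maximalIdeal.isMaximal B).ne_top this
  haveI : Module.Finite B (LocalizedModule q.primeCompl N) :=
    Module.Finite.of_isLocalizedModule q.primeCompl f
  apply Groth.Agent.H76.AdicFlat.flat_of_flat_quotients (A := R) (B := B) I hItop
  intro n
  have hloc : (J ^ (n + 1) • (⊤ : Submodule P N)).localized' B q.primeCompl f =
      I ^ (n + 1) • (⊤ : Submodule B (LocalizedModule q.primeCompl N)) := by
    rw [Submodule.localized'_smul, Ideal.localized'_eq_map, Submodule.localized'_top,
      Ideal.map_pow]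
  have h1 := (flat_iff_flat_localized (R := R) q.primeCompl
    (Submodule.toLocalizedQuotient' B q.primeCompl f (J ^ (n + 1) • (⊤ : Submodule P N)))).mpr
    (h (n + 1))
  rw [hloc] at h1
  exact h1

end Groth.Agent.H46.GrFlatKrull
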