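import Mathlib
import Groth.Agent.H76.FlatLocusFP
import Groth.Agent.H76.LocalCritPow
import Groth.Agent.H46.GrFlatAug

/-!
# Local criterion for localized matrix cokernels over a polynomial ring (helper46)
-/

set_option autoImplicit false
universe u

open TensorProduct Groth.Agent.H76.FlatKernel Groth.Agent.H76.FlatBaseChange
  Groth.Agent.H76.LocalCritPow Groth.Agent.H46.GrFlatAug

namespace Groth.Agent.H46.GrFlatLC

attribute [local instance] MvPolynomial.algebraMvPolynomial

variable {R : Type u} [CommRing R] [IsNoetherianRing R] {n a b : ℕ}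

/-- The Artinian test rings at the prime `q ∩ R`. -/
abbrev TestRing (q : Ideal (MvPolynomial (Fin n) R)) [q.IsPrime] (m : ℕ) : Type u :=
  Localization.AtPrime (q.comap (MvPolynomial.C : R →+* MvPolynomial (Fin n) R)) ⧸
    (IsLocalRing.maximalIdeal (Localization.AtPrime
      (q.comap (MvPolynomial.C : R →+* MvPolynomial (Fin n) R)))) ^ (m + 1)

theorem flat_localized_coker_of_flat_mod_pow
    (c : Fin a → Fin b → MvPolynomial (Fin n) R) (q : Ideal (MvPolynomial (Fin n) R)) [q.IsPrime]
    (h : ∀ m : ℕ, Module.Flat (TestRing q m) (TestRing q m ⊗[R]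
      ((Fin b → MvPolynomial (Fin n) R) ⧸
        Submodule.span (MvPolynomial (Fin n) R) (Set.range c)))) :
    Module.Flat R (LocalizedModule q.primeCompl ((Fin b → MvPolynomial (Fin n) R) ⧸
        Submodule.span (MvPolynomial (Fin n) R) (Set.range c))) := by
  set p : Ideal R := q.comap (MvPolynomial.C : R →+* MvPolynomial (Fin n) R) with hp
  set R' := Localization.AtPrime p with hR'
  set W : Submonoid (MvPolynomial (Fin n) R) := Submonoid.map (MvPolynomial.C : R →+* (MvPolynomial (Fin n) R)) p.primeCompl with hW
  haveI hlocP : IsLocalization W (MvPolynomial (Fin n) R') := MvPolynomial.isLocalization p.primeCompl R'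
  have hdisj : Disjoint (W : Set (MvPolynomial (Fin n) R)) (q : Set (MvPolynomial (Fin n) R)) := by
    rw [Set.disjoint_left]
    rintro _ ⟨r, hr, rfl⟩ hq
    exact hr hq
  set q' : Ideal (MvPolynomial (Fin n) R') := Ideal.map (algebraMap (MvPolynomial (Fin n) R) (MvPolynomial (Fin n) R')) q with hq'
  haveI hq'prime : q'.IsPrime := IsLocalization.isPrime_of_isPrime_disjoint W (MvPolynomial (Fin n) R') q inferInstance hdisj
  have hq'comap : q'.comap (algebraMap (MvPolynomial (Fin n) R) (MvPolynomial (Fin n) R')) = q :=
    IsLocalization.under_map_of_isPrime_disjoint W (MvPolynomial (Fin n) R') inferInstance hdisj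
  set T := (Fin b → (MvPolynomial (Fin n) R)) ⧸ Submodule.span (MvPolynomial (Fin n) R) (Set.range c) with hT
  set c' : Fin a → Fin b → (MvPolynomial (Fin n) R') := cmap (algebraMap R R') c with hc'
  set T' := (Fin b → (MvPolynomial (Fin n) R')) ⧸ Submodule.span (MvPolynomial (Fin n) R') (Set.range c') with hT'
  set S := Localization.AtPrime q' with hS
  set M := LocalizedModule q'.primeCompl T' with hM
  haveI : IsNoetherianRing R' := IsLocalization.isNoetherianRing p.primeCompl R' inferInstance
  haveI : IsNoetherianRing S := IsLocalization.isNoetherianRing q'.primeCompl S inferInstance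
  haveI : Module.Finite S M :=
    Module.Finite.of_isLocalizedModule q'.primeCompl (LocalizedModule.mkLinearMap q'.primeCompl T')
  -- the maximal ideal of `R'` is the contraction of `q'`
  have hmax : IsLocalRing.maximalIdeal R' = q'.comap (MvPolynomial.C : R' →+* (MvPolynomial (Fin n) R')) := by
    have h1 : (q'.comap (MvPolynomial.C : R' →+* (MvPolynomial (Fin n) R'))).comap (algebraMap R R') = p := by
      ext x
      rw [Ideal.mem_comap, Ideal.mem_comap]
      have hx : (MvPolynomial.C (algebraMap R R' x) : (MvPolynomial (Fin n) R')) =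
          algebraMap (MvPolynomial (Fin n) R) (MvPolynomial (Fin n) R') (MvPolynomial.C x) := by
        show (MvPolynomial.C (algebraMap R R' x) : MvPolynomial (Fin n) R') =
          MvPolynomial.map (algebraMap R R') (MvPolynomial.C x)
        rw [MvPolynomial.map_C]
      rw [hx, ← Ideal.mem_comap, hq'comap]
      exact Iff.rfl
    have h2 := IsLocalization.map_under p.primeCompl R' (q'.comap (MvPolynomial.C : R' →+* (MvPolynomial (Fin n) R')))
    rw [Ideal.under_def, h1, Localization.AtPrime.map_eq_maximalIdeal] at h2
    exact h2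
  have hflat' : Module.Flat R' M := by
    apply flat_of_tinj (R := R') (S := S) (IsLocalRing.maximalIdeal R') _ M
    · intro m X Y _ _ _ _ u hu hY
      haveI hT'flat : Module.Flat (R' ⧸ IsLocalRing.maximalIdeal R' ^ (m + 1))
          ((R' ⧸ IsLocalRing.maximalIdeal R' ^ (m + 1)) ⊗[R'] T') := by
        haveI hm : Module.Flat (R' ⧸ IsLocalRing.maximalIdeal R' ^ (m + 1))
          ((R' ⧸ IsLocalRing.maximalIdeal R' ^ (m + 1)) ⊗[R] T) := h m
        exact Module.Flat.of_linearEquiv
          (tensorCokerEquiv (A₁ := R) (A₂ := R') (R' ⧸ IsLocalRing.maximalIdeal R' ^ (m + 1)) c)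
      have h1 : Function.Injective (u.rTensor T') :=
        Groth.Agent.H76.NilFlat.tinj_of_killed (IsLocalRing.maximalIdeal R' ^ (m + 1)) T' u hu hY
      have h2 : Function.Injective (u.lTensor T') := lTensor_injective_of_rTensor T' u h1
      apply rTensor_injective_of_lTensor
      rw [lTensor_injective_iff (R := R') q'.primeCompl
        (LocalizedModule.mkLinearMap q'.primeCompl T') u]
      intro z hz
      exact ⟨1, one_mem _, by rw [one_smul]; exact h2 (by rw [hz, map_zero])⟩
    · rw [IsLocalRing.jacobson_eq_maximalIdeal ⊥ bot_ne_top, Ideal.map_le_iff_le_comap]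
      intro x hx
      rw [hmax, Ideal.mem_comap] at hx
      rw [Ideal.mem_comap, IsScalarTower.algebraMap_apply R' (MvPolynomial (Fin n) R') S, MvPolynomial.algebraMap_eq]
      exact (IsLocalization.AtPrime.to_map_mem_maximal_iff S q' _).mpr hx
  -- descend to `R`
  haveI hflatR : Module.Flat R M := Module.Flat.trans R R' M
  have hbc1 : IsBaseChange (MvPolynomial (Fin n) R')
      (cokerMap (P₂ := MvPolynomial (Fin n) R') c) := isBaseChange_cokerMap c
  have hbc2 : IsBaseChange S (LocalizedModule.mkLinearMap q'.primeCompl T') :=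
    (isLocalizedModule_iff_isBaseChange q'.primeCompl S _).mp inferInstance
  have hbc3 := IsBaseChange.comp hbc1 hbc2
  haveI hat : IsLocalization.AtPrime S
      (q'.comap (algebraMap (MvPolynomial (Fin n) R) (MvPolynomial (Fin n) R'))) :=
    IsLocalization.isLocalization_isLocalization_atPrime_isLocalization W S q'
  have hprimeCompl : (q'.comap (algebraMap (MvPolynomial (Fin n) R)
      (MvPolynomial (Fin n) R'))).primeCompl = q.primeCompl := by
    ext x
    rw [Ideal.mem_primeCompl_iff, Ideal.mem_primeCompl_iff, hq'comap]
  haveI hat' : IsLocalization q.primeCompl S := by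
    have h0 : IsLocalization (q'.comap (algebraMap (MvPolynomial (Fin n) R)
      (MvPolynomial (Fin n) R'))).primeCompl S := hat
    rw [hprimeCompl] at h0
    exact h0
  haveI hloc : IsLocalizedModule q.primeCompl
      (((LocalizedModule.mkLinearMap q'.primeCompl T').restrictScalars
        (MvPolynomial (Fin n) R)).comp (cokerMap (P₂ := MvPolynomial (Fin n) R') c)) :=
    (isLocalizedModule_iff_isBaseChange q.primeCompl S _).mpr hbc3
  exact (flat_iff_flat_localized (R := R) q.primeCompl
    (((LocalizedModule.mkLinearMap q'.primeCompl T').restrictScalars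
        (MvPolynomial (Fin n) R)).comp (cokerMap (P₂ := MvPolynomial (Fin n) R') c))).mp hflatR

end Groth.Agent.H46.GrFlatLC
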