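import Mathlib
import Groth.Agent.H46.FlatIdeal

/-!
# Uniform truncation level for flatness (helper46)

`A` Noetherian, `𝔪` maximal, `𝒯 k` (`k : ℕ`) modules over `A`.  Then there is `k₁`
such that for every `A`-algebra `X` killed by a power of `𝔪`, flatness of `X ⊗ 𝒯 k` for `k ≤ k₁`
implies flatness of `X ⊗ 𝒯 k` for all `k`.  The proof uses flattening ideals and the Noetherianity of the Rees
algebra of `𝔪`.
-/

set_option autoImplicit false
universe u

open TensorProduct Polynomial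

namespace Groth.Agent.H46.UniformFlat

variable {A : Type u} [CommRing A] [IsNoetherianRing A] (𝔪 : Ideal A) [h𝔪 : 𝔪.IsMaximal]
  (𝒯 : ℕ → Type u) [∀ k, AddCommGroup (𝒯 k)] [∀ k, Module A (𝒯 k)]

theorem ker_algebraMap_quotient (𝔞 : Ideal A) : RingHom.ker (algebraMap A (A ⧸ 𝔞)) = 𝔞 := by
  rw [Ideal.Quotient.algebraMap_eq, Ideal.mk_ker]

omit h𝔪 in
/-- **Rees-algebra ACC for level-wise ideal systems.** Let `β k t` be ideals of a Noetherian ring `A`
(think: `β k t` = flattening ideal of the first `k` modules modulo `𝔪 ^ t`) with `𝔪 ^ t ≤ β k t`,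
monotone in `k`, and compatible in `t`: `β k (t+1) ⊔ 𝔪 ^ t = β k t`.  Then the system stabilizes in
`k` uniformly in `t`.  (`𝔪` is an arbitrary ideal here.) -/
theorem rees_stabilize (β : ℕ → ℕ → Ideal A) (F2 : ∀ k t, 𝔪 ^ t ≤ β k t)
    (F3 : ∀ t, Monotone (fun k => β k t)) (F4 : ∀ k t, β k (t + 1) ⊔ 𝔪 ^ t = β k t) :
    ∃ k₁ : ℕ, ∀ k, k₁ ≤ k → ∀ t, β k t = β k₁ t := by
  have F5 : ∀ k t i, β k (t + i) ⊔ 𝔪 ^ t = β k t := by
    intro k t i
    induction i with
    | zero => simpa using F2 k t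
    | succ i ih =>
      have h1 : 𝔪 ^ (t + i) ⊔ 𝔪 ^ t = 𝔪 ^ t :=
        sup_eq_right.mpr (Ideal.pow_le_pow_right (Nat.le_add_right t i))
      calc β k (t + (i + 1)) ⊔ 𝔪 ^ t = β k (t + i + 1) ⊔ (𝔪 ^ (t + i) ⊔ 𝔪 ^ t) := by
            rw [h1, add_assoc]
        _ = (β k (t + i + 1) ⊔ 𝔪 ^ (t + i)) ⊔ 𝔪 ^ t := by rw [sup_assoc]
        _ = β k t := by rw [F4, ih]
  -- Rees ideals
  let 𝔅 : ℕ → Ideal (reesAlgebra 𝔪) := fun k =>
    { carrier := {f | ∀ i, (f : A[X]).coeff i ∈ β k (i + 1)}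
      add_mem' := fun {a b} ha hb i => by
        rw [Subalgebra.coe_add, coeff_add]; exact add_mem (ha i) (hb i)
      zero_mem' := fun i => by simp
      smul_mem' := fun h f hf n => by
        rw [smul_eq_mul, Subalgebra.coe_mul, coeff_mul]
        refine Ideal.sum_mem _ fun p hp => ?_
        have hp' : p.1 + p.2 = n := by simpa using hp
        have hh : (h : A[X]).coeff p.1 ∈ 𝔪 ^ p.1 := (mem_reesAlgebra_iff 𝔪 _).mp h.2 p.1
        have hf' := hf p.2
        rw [← F5 k (p.2 + 1) p.1] at hf'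
        obtain ⟨a', ha', a'', ha'', hsum⟩ := Submodule.mem_sup.mp hf'
        rw [← hsum, mul_add]
        have e1 : p.2 + 1 + p.1 = n + 1 := by omega
        refine add_mem ?_ ?_
        · rw [e1] at ha'
          exact Ideal.mul_mem_left _ _ ha'
        · apply F2 k (n + 1)
          have : 𝔪 ^ (n + 1) = 𝔪 ^ p.1 * 𝔪 ^ (p.2 + 1) := by rw [← pow_add]; congr 1; omega
          rw [this]
          exact Ideal.mul_mem_mul hh ha'' }
  have h𝔅mono : Monotone 𝔅 := by
    intro k k' hkk' f hf i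
    exact F3 (i + 1) hkk' (hf i)
  obtain ⟨k₁, hk₁⟩ := (monotone_stabilizes_iff_noetherian
    (R := reesAlgebra 𝔪) (M := reesAlgebra 𝔪)).mpr inferInstance ⟨𝔅, h𝔅mono⟩
  -- (F6)
  have F6 : ∀ k, k₁ ≤ k → ∀ t, β k t = β k₁ t := by
    intro k hk t
    induction t with
    | zero =>
      have h1 := F2 k 0
      have h2 := F2 k₁ 0
      rw [pow_zero, Ideal.one_eq_top, top_le_iff] at h1 h2
      rw [h1, h2]
    | succ t ih =>
      apply le_antisymm _ (F3 (t + 1) hk)
      intro x hx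
      have hx' : x ∈ β k₁ (t + 1) ⊔ 𝔪 ^ t := by
        rw [F4 k₁ t, ← ih, ← F4 k t]
        exact Submodule.mem_sup_left hx
      obtain ⟨y, hy, z, hz, hsum⟩ := Submodule.mem_sup.mp hx'
      have hzk : z ∈ β k (t + 1) := by
        have : z = x - y := by rw [← hsum]; ring
        rw [this]
        exact sub_mem hx (F3 (t + 1) hk hy)
      have hmon : (monomial t z : A[X]) ∈ reesAlgebra 𝔪 := reesAlgebra.monomial_mem.mpr hz
      have hmem : (⟨monomial t z, hmon⟩ : reesAlgebra 𝔪) ∈ 𝔅 k := by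
        intro i
        show (monomial t z : A[X]).coeff i ∈ β k (i + 1)
        rw [coeff_monomial]
        split_ifs with hi
        · rw [← hi]; exact hzk
        · exact Ideal.zero_mem _
      have hk' : 𝔅 k₁ = 𝔅 k := hk₁ k hk
      rw [← hk'] at hmem
      have := hmem t
      simp only [coeff_monomial, if_true] at this
      rw [← hsum]
      exact add_mem hy this
  exact ⟨k₁, F6⟩

include h𝔪 in
theorem exists_stable :
    ∃ k₁ : ℕ, ∀ (X : Type u) [CommRing X] [Algebra A X] (t : ℕ),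
      𝔪 ^ t ≤ RingHom.ker (algebraMap A X) →
      (∀ k ≤ k₁, Module.Flat X (X ⊗[A] 𝒯 k)) → ∀ k, Module.Flat X (X ⊗[A] 𝒯 k) := by
  classical
  choose β' hβ'1 hβ'2 using fun (k : ℕ) (t : ℕ) =>
    Groth.Agent.H46.FlatIdeal.exists_flattening_ideal_level 𝔪 t (𝒯 k)
  let β : ℕ → ℕ → Ideal A := fun k t => ⨆ j : Fin (k + 1), β' j t
  -- (F1)
  have F1 : ∀ (k t : ℕ) (X : Type u) [CommRing X] [Algebra A X],
      𝔪 ^ t ≤ RingHom.ker (algebraMap A X) →
      ((∀ j ≤ k, Module.Flat X (X ⊗[A] 𝒯 j)) ↔ β k t ≤ RingHom.ker (algebraMap A X)) := by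
    intro k t X _ _ hX
    simp only [β, iSup_le_iff]
    constructor
    · intro h j
      exact (hβ'2 j t X hX).mp (h j (Nat.lt_succ_iff.mp j.2))
    · intro h j hj
      exact (hβ'2 j t X hX).mpr (h ⟨j, Nat.lt_succ_iff.mpr hj⟩)
  have F2 : ∀ k t, 𝔪 ^ t ≤ β k t := fun k t =>
    le_trans (hβ'1 0 t) (le_iSup (fun j : Fin (k + 1) => β' j t) ⟨0, Nat.succ_pos k⟩)
  have F3 : ∀ t, Monotone (fun k => β k t) := by
    intro t k k' hkk'
    simp only [β, iSup_le_iff]
    intro j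
    exact le_iSup (fun j : Fin (k' + 1) => β' j t) ⟨j, lt_of_lt_of_le j.2 (Nat.succ_le_succ hkk')⟩
  have F4 : ∀ k t, β k (t + 1) ⊔ 𝔪 ^ t = β k t := by
    intro k t
    apply le_antisymm
    · refine sup_le ?_ (F2 k t)
      have h1 := (F1 k t (A ⧸ β k t) (by rw [ker_algebraMap_quotient]; exact F2 k t)).mpr
        (by rw [ker_algebraMap_quotient])
      have h2 := (F1 k (t + 1) (A ⧸ β k t) (by
        rw [ker_algebraMap_quotient]
        exact le_trans (Ideal.pow_le_pow_right (Nat.le_succ t)) (F2 k t))).mp h1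
      rwa [ker_algebraMap_quotient] at h2
    · set 𝔞 := β k (t + 1) ⊔ 𝔪 ^ t with h𝔞
      have h1 := (F1 k (t + 1) (A ⧸ 𝔞) (by
        rw [ker_algebraMap_quotient]
        exact le_trans (Ideal.pow_le_pow_right (Nat.le_succ t)) le_sup_right)).mpr
        (by rw [ker_algebraMap_quotient]; exact le_sup_left)
      have h2 := (F1 k t (A ⧸ 𝔞) (by rw [ker_algebraMap_quotient]; exact le_sup_right)).mp h1
      rwa [ker_algebraMap_quotient] at h2
  obtain ⟨k₁, F6⟩ := rees_stabilize 𝔪 β F2 F3 F4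
  refine ⟨k₁, fun X _ _ t hX hflat k => ?_⟩
  have h1 := (F1 k₁ t X hX).mp hflat
  rw [← F6 (max k k₁) (le_max_right _ _) t] at h1
  exact (F1 (max k k₁) t X hX).mpr h1 k (le_max_left _ _)

omit [IsNoetherianRing A] h𝔪 in
/-- Version over a Noetherian ring `R` with a prime `p`, for `R`-algebras `X` in which the
complement of `p` becomes invertible and a power of `p` dies. -/
theorem exists_stable_prime {R : Type u} [CommRing R] [IsNoetherianRing R] (p : Ideal R)
    [p.IsPrime] (𝒯 : ℕ → Type u) [∀ k, AddCommGroup (𝒯 k)] [∀ k, Module R (𝒯 k)] :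
    ∃ k₁ : ℕ, ∀ (X : Type u) [CommRing X] [Algebra R X] (t : ℕ),
      (∀ x ∈ p.primeCompl, IsUnit (algebraMap R X x)) →
      p ^ t ≤ RingHom.ker (algebraMap R X) →
      (∀ k ≤ k₁, Module.Flat X (X ⊗[R] 𝒯 k)) → ∀ k, Module.Flat X (X ⊗[R] 𝒯 k) := by
  obtain ⟨k₁, hk₁⟩ := exists_stable (IsLocalRing.maximalIdeal (Localization.AtPrime p))
    (fun k => Localization.AtPrime p ⊗[R] 𝒯 k)
  refine ⟨k₁, fun X _ _ t hunit hker hflat k => ?_⟩
  letI algX : Algebra (Localization.AtPrime p) X :=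
    (IsLocalization.lift (M := p.primeCompl) (g := algebraMap R X)
      (fun y => hunit y.1 y.2)).toAlgebra
  haveI : IsScalarTower R (Localization.AtPrime p) X :=
    IsScalarTower.of_algebraMap_eq (fun r => (IsLocalization.lift_eq _ r).symm)
  have hker' : IsLocalRing.maximalIdeal (Localization.AtPrime p) ^ t ≤
      RingHom.ker (algebraMap (Localization.AtPrime p) X) := by
    rw [← Localization.AtPrime.map_eq_maximalIdeal, ← Ideal.map_pow, Ideal.map_le_iff_le_comap]
    intro x hx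
    have := hker hx
    rw [RingHom.mem_ker] at this
    rw [Ideal.mem_comap, RingHom.mem_ker, ← IsScalarTower.algebraMap_apply]
    exact this
  have e : ∀ k, X ⊗[Localization.AtPrime p] (Localization.AtPrime p ⊗[R] 𝒯 k) ≃ₗ[X] X ⊗[R] 𝒯 k :=
    fun k => AlgebraTensorModule.cancelBaseChange R (Localization.AtPrime p) X X (𝒯 k)
  have := hk₁ X t hker' (fun k hk => by
    have := hflat k hk
    exact Module.Flat.of_linearEquiv (e k)) k
  exact Module.Flat.of_linearEquiv (e k).symm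

end Groth.Agent.H46.UniformFlat
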