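import Mathlib
import Groth.Agent.H46.UniformFlat
import Groth.Agent.H46.GrFlatAug
import Groth.Agent.H46.GrFlatKrull
import Groth.Agent.H46.GrFlatLC

/-!
# Noetherian core of "gr flat ⇒ flat along `V(J)`" with a uniform truncation bound (helper46)
-/

set_option autoImplicit false
universe u

open TensorProduct Groth.Agent.H76.FlatKernel Groth.Agent.H76.FlatBaseChange
  Groth.Agent.H46.GrFlatAug Groth.Agent.H46.GrFlatLC

namespace Groth.Agent.H46.GrFlatCore

attribute [local instance] MvPolynomial.algebraMvPolynomial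

theorem noeth_core {R₀ : Type u} [CommRing R₀] [IsNoetherianRing R₀] {n a b r : ℕ}
    (c₀ : Fin a → Fin b → MvPolynomial (Fin n) R₀) (g₀ : Fin r → MvPolynomial (Fin n) R₀)
    (p₀ : Ideal R₀) [p₀.IsPrime] :
    ∃ k₁ : ℕ, ∀ (R₁ : Type u) [CommRing R₁] [IsNoetherianRing R₁] [Algebra R₀ R₁]
      (q₁ : Ideal (MvPolynomial (Fin n) R₁)) [q₁.IsPrime],
      (q₁.comap (MvPolynomial.C : R₁ →+* MvPolynomial (Fin n) R₁)).comap (algebraMap R₀ R₁) = p₀ →
      (∀ j, MvPolynomial.map (algebraMap R₀ R₁) (g₀ j) ∈ q₁) →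
      (∀ k ≤ k₁, Module.Flat R₁ ((Fin b → MvPolynomial (Fin n) R₁) ⧸
        Submodule.span (MvPolynomial (Fin n) R₁)
          (Set.range (cmap (algebraMap R₀ R₁) (aug c₀ g₀ k))))) →
      Module.Flat R₁ (LocalizedModule q₁.primeCompl ((Fin b → MvPolynomial (Fin n) R₁) ⧸
        Submodule.span (MvPolynomial (Fin n) R₁) (Set.range (cmap (algebraMap R₀ R₁) c₀)))) := by
  obtain ⟨k₁, hk₁⟩ := Groth.Agent.H46.UniformFlat.exists_stable_prime p₀
    (fun k => (Fin b → MvPolynomial (Fin n) R₀) ⧸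
      Submodule.span (MvPolynomial (Fin n) R₀) (Set.range (aug c₀ g₀ k)))
  refine ⟨k₁, fun R₁ _ _ _ q₁ _ hp₀ hg hflat => ?_⟩
  have hall : ∀ k, Module.Flat R₁ (LocalizedModule q₁.primeCompl
      ((Fin b → MvPolynomial (Fin n) R₁) ⧸ Submodule.span (MvPolynomial (Fin n) R₁)
        (Set.range (cmap (algebraMap R₀ R₁) (aug c₀ g₀ k))))) := by
    intro k
    apply flat_localized_coker_of_flat_mod_pow
    intro m
    have hunit : ∀ x ∈ p₀.primeCompl, IsUnit (algebraMap R₀ (TestRing q₁ m) x) := by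
      intro x hx
      have hx' : algebraMap R₀ R₁ x ∈
          (q₁.comap (MvPolynomial.C : R₁ →+* MvPolynomial (Fin n) R₁)).primeCompl := by
        intro hmem
        apply hx
        rw [← hp₀]
        exact hmem
      rw [IsScalarTower.algebraMap_apply R₀ R₁ (TestRing q₁ m),
        IsScalarTower.algebraMap_apply R₁ (Localization.AtPrime
          (q₁.comap (MvPolynomial.C : R₁ →+* MvPolynomial (Fin n) R₁))) (TestRing q₁ m)]
      exact (IsLocalization.map_units _ ⟨algebraMap R₀ R₁ x, hx'⟩).map _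
    have hker : p₀ ^ (m + 1) ≤ RingHom.ker (algebraMap R₀ (TestRing q₁ m)) := by
      have h1 : p₀ ≤ (IsLocalRing.maximalIdeal (Localization.AtPrime
          (q₁.comap (MvPolynomial.C : R₁ →+* MvPolynomial (Fin n) R₁)))).comap
          (algebraMap R₀ (Localization.AtPrime
            (q₁.comap (MvPolynomial.C : R₁ →+* MvPolynomial (Fin n) R₁)))) := by
        intro x hx
        rw [Ideal.mem_comap, IsScalarTower.algebraMap_apply R₀ R₁ (Localization.AtPrime
          (q₁.comap (MvPolynomial.C : R₁ →+* MvPolynomial (Fin n) R₁)))]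
        rw [IsLocalization.AtPrime.to_map_mem_maximal_iff _
          (q₁.comap (MvPolynomial.C : R₁ →+* MvPolynomial (Fin n) R₁))]
        rw [← hp₀] at hx
        exact hx
      intro x hx
      have h2 := Ideal.le_comap_pow (algebraMap R₀ (Localization.AtPrime
            (q₁.comap (MvPolynomial.C : R₁ →+* MvPolynomial (Fin n) R₁)))) (m + 1)
        (Ideal.pow_right_mono h1 (m + 1) hx)
      rw [RingHom.mem_ker, IsScalarTower.algebraMap_apply R₀ (Localization.AtPrime
          (q₁.comap (MvPolynomial.C : R₁ →+* MvPolynomial (Fin n) R₁))) (TestRing q₁ m),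
        Ideal.Quotient.algebraMap_eq, Ideal.Quotient.eq_zero_iff_mem]
      exact h2
    have hsmall : ∀ k ≤ k₁, Module.Flat (TestRing q₁ m) (TestRing q₁ m ⊗[R₀]
        ((Fin b → MvPolynomial (Fin n) R₀) ⧸
          Submodule.span (MvPolynomial (Fin n) R₀) (Set.range (aug c₀ g₀ k)))) := by
      intro k hk
      haveI := hflat k hk
      exact Module.Flat.of_linearEquiv
        (tensorCokerEquiv (A₁ := R₀) (A₂ := R₁) (TestRing q₁ m) (aug c₀ g₀ k)).symm
    haveI := hk₁ (TestRing q₁ m) (m + 1) hunit hker hsmall k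
    exact Module.Flat.of_linearEquiv
      (tensorCokerEquiv (A₁ := R₀) (A₂ := R₁) (TestRing q₁ m) (aug c₀ g₀ k))
  have hJq : Ideal.span (Set.range (vmap (algebraMap R₀ R₁) g₀)) ≤ q₁ := by
    rw [Ideal.span_le]
    rintro _ ⟨j, rfl⟩
    exact hg j
  apply Groth.Agent.H46.GrFlatKrull.flat_localized_of_flat_localized_quotients
    (R := R₁) (P := MvPolynomial (Fin n) R₁) _
    (Ideal.span (Set.range (vmap (algebraMap R₀ R₁) g₀))) q₁ hJq
  intro k
  have e := augEquiv (cmap (algebraMap R₀ R₁) c₀) (vmap (algebraMap R₀ R₁) g₀) k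
  have hk := hall k
  rw [← aug_cmap] at hk
  exact (flat_iff_flat_localized (R := R₁) q₁.primeCompl
    ((LocalizedModule.mkLinearMap q₁.primeCompl _).comp e.toLinearMap)).mpr hk

end Groth.Agent.H46.GrFlatCore
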