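import Mathlib
import Groth.Agent.H76.FlatDescentGlobal
import Groth.Agent.H76.FlatLocusFP
import Groth.Agent.H46.GrFlatCore
import Groth.Agent.Lib.Helper89.GrFlat

/-!
# `gr_J(M)` flat over `A` ⇒ `M_q` flat over `A` for `q ⊇ J` (EGA IV 11.3.x, finitely presented
case over an arbitrary base) (helper46)
-/

set_option autoImplicit false
universe u

open TensorProduct Groth.Agent.H76.FlatKernel Groth.Agent.H76.FlatBaseChange
  Groth.Agent.H76.FlatDescentLocal Groth.Agent.H76.FlatDescentGlobal Groth.Agent.H76.FlatLocusFP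
  Groth.Agent.H46.GrFlatAug Groth.Agent.H46.GrFlatCore

namespace Groth.Agent.H46.GrFlatMain

attribute [local instance] MvPolynomial.algebraMvPolynomial

section PolyForm

variable {A : Type u} [CommRing A] {n a b r : ℕ}

theorem stgIncl_comp {s₁ s₂ s₃ : Finset A} (h₁₂ : s₁ ⊆ s₂) (h₂₃ : s₂ ⊆ s₃) :
    (stgIncl h₂₃).comp (stgIncl h₁₂) = stgIncl (h₁₂.trans h₂₃) := by
  ext x; rfl

/-- Polynomial form: if all `coker (aug c g k)` are flat over `A`, then `coker c` is flat over `A`
at every prime containing the `g j`. -/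
theorem flat_localized_coker_of_flat_aug
    (c : Fin a → Fin b → MvPolynomial (Fin n) A) (g : Fin r → MvPolynomial (Fin n) A)
    (q : Ideal (MvPolynomial (Fin n) A)) [q.IsPrime] (hg : ∀ j, g j ∈ q)
    (hflat : ∀ k, Module.Flat A ((Fin b → MvPolynomial (Fin n) A) ⧸
      Submodule.span (MvPolynomial (Fin n) A) (Set.range (aug c g k)))) :
    Module.Flat A (LocalizedModule q.primeCompl ((Fin b → MvPolynomial (Fin n) A) ⧸
      Submodule.span (MvPolynomial (Fin n) A) (Set.range c))) := by
  classical
  -- stage 0
  set s₀ : Finset A := (Finset.univ.biUnion fun j => Finset.univ.biUnion fun i => (c j i).coeffs) ∪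
    (Finset.univ.biUnion fun j => (g j).coeffs) with hs₀
  have hc₀ : ∀ j i, ∃ f : MvPolynomial (Fin n) (Stg s₀),
      MvPolynomial.map (algebraMap (Stg s₀) A) f = c j i := by
    intro j i
    apply exists_map_eq
    intro x hx
    rw [hs₀]
    apply Finset.mem_union_left
    simp only [Finset.mem_biUnion, Finset.mem_univ, true_and]
    exact ⟨j, i, hx⟩
  choose c₀ hc₀ using hc₀
  have hcc₀ : cmap (algebraMap (Stg s₀) A) c₀ = c := by
    ext j i : 2
    exact hc₀ j i
  have hg₀ : ∀ j, ∃ f : MvPolynomial (Fin n) (Stg s₀),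
      MvPolynomial.map (algebraMap (Stg s₀) A) f = g j := by
    intro j
    apply exists_map_eq
    intro x hx
    rw [hs₀]
    apply Finset.mem_union_right
    simp only [Finset.mem_biUnion, Finset.mem_univ, true_and]
    exact ⟨j, hx⟩
  choose g₀ hg₀ using hg₀
  have hgg₀ : vmap (algebraMap (Stg s₀) A) g₀ = g := by
    ext j : 1
    exact hg₀ j
  set p₀ : Ideal (Stg s₀) := (q.comap (MvPolynomial.C : A →+* MvPolynomial (Fin n) A)).comap
    (algebraMap (Stg s₀) A) with hp₀
  obtain ⟨k₁, hk₁⟩ := noeth_core c₀ g₀ p₀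
  -- stage 1
  have hstage : ∀ K : ℕ, ∃ s : Finset A, ∃ hs : s₀ ⊆ s, ∀ k < K,
      Module.Flat (Stg s) ((Fin b → MvPolynomial (Fin n) (Stg s)) ⧸
        Submodule.span (MvPolynomial (Fin n) (Stg s))
          (Set.range (cmap (stgIncl hs) (aug c₀ g₀ k)))) := by
    intro K
    induction K with
    | zero => exact ⟨s₀, subset_rfl, fun k hk => absurd hk (Nat.not_lt_zero k)⟩
    | succ K ih =>
      obtain ⟨s, hs, h⟩ := ih
      haveI := hflat K
      obtain ⟨s', hss', c', hc', hfl'⟩ := exists_stage_flat_global (aug c g K) s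
      have hs' : s₀ ⊆ s' := hs.trans hss'
      have hc'eq : c' = cmap (stgIncl hs') (aug c₀ g₀ K) := by
        apply cmap_injective (algebraMap (Stg s') A) (algebraMap_stg_injective s')
        rw [hc', cmap_cmap, algebraMap_comp_stgIncl, ← aug_cmap, hcc₀, hgg₀]
      refine ⟨s', hs', fun k hk => ?_⟩
      rcases Nat.lt_succ_iff_lt_or_eq.mp hk with hk | rfl
      · have h1 := h k hk
        letI : Algebra (Stg s) (Stg s') := (stgIncl hss').toAlgebra
        have h2 := flat_coker_cmap (A₁ := Stg s) (A₂ := Stg s')
          (cmap (stgIncl hs) (aug c₀ g₀ k)) h1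
        have h3 : cmap (algebraMap (Stg s) (Stg s')) (cmap (stgIncl hs) (aug c₀ g₀ k)) =
            cmap (stgIncl hs') (aug c₀ g₀ k) := by
          rw [cmap_cmap]
          congr 1
        rw [h3] at h2
        exact h2
      · rw [← hc'eq]
        exact hfl'
  obtain ⟨s₁, hs₁, hfl₁⟩ := hstage (k₁ + 1)
  letI : Algebra (Stg s₀) (Stg s₁) := (stgIncl hs₁).toAlgebra
  have hq₁ : ((q.comap (MvPolynomial.map (algebraMap (Stg s₁) A))).comap
      (MvPolynomial.C : Stg s₁ →+* MvPolynomial (Fin n) (Stg s₁))).comap
        (algebraMap (Stg s₀) (Stg s₁)) = p₀ := by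
    rw [comap_C_comap_map, Ideal.comap_comap]
    rfl
  have hg₁ : ∀ j, MvPolynomial.map (algebraMap (Stg s₀) (Stg s₁)) (g₀ j) ∈
      q.comap (MvPolynomial.map (algebraMap (Stg s₁) A)) := by
    intro j
    rw [Ideal.mem_comap, MvPolynomial.map_map]
    have : (algebraMap (Stg s₁) A).comp (algebraMap (Stg s₀) (Stg s₁)) =
        algebraMap (Stg s₀) A := algebraMap_comp_stgIncl hs₁
    rw [this, hg₀ j]
    exact hg j
  have h1 := hk₁ (Stg s₁) (q.comap (MvPolynomial.map (algebraMap (Stg s₁) A))) hq₁ hg₁
    (fun k hk => hfl₁ k (Nat.lt_succ_of_le hk))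
  have h2 := flat_of_stage_flat s₁ (cmap (algebraMap (Stg s₀) (Stg s₁)) c₀) q h1
  have h3 : cmap (algebraMap (Stg s₁) A) (cmap (algebraMap (Stg s₀) (Stg s₁)) c₀) = c := by
    rw [cmap_cmap]
    have : (algebraMap (Stg s₁) A).comp (algebraMap (Stg s₀) (Stg s₁)) =
        algebraMap (Stg s₀) A := algebraMap_comp_stgIncl hs₁
    rw [this, hcc₀]
  rw [h3] at h2
  exact h2

end PolyForm

section General

variable {A B : Type u} [CommRing A] [CommRing B] [Algebra A B]

/-- The graded pieces in the `comap` form agree with the `J • ⊤` form. -/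
theorem comap_subtype_pow_succ_smul (J : Ideal B) (M : Type u) [AddCommGroup M] [Module B M]
    (k : ℕ) :
    Submodule.comap (J ^ k • (⊤ : Submodule B M)).subtype (J ^ (k + 1) • ⊤) =
      J • (⊤ : Submodule B ↥(J ^ k • (⊤ : Submodule B M))) := by
  apply Submodule.map_injective_of_injective (J ^ k • (⊤ : Submodule B M)).injective_subtype
  rw [Submodule.map_comap_subtype, Submodule.map_smul'', Submodule.map_subtype_top,
    ← Submodule.mul_smul, ← pow_succ']
  exact inf_of_le_right (Submodule.smul_mono_left (Ideal.pow_le_pow_right (Nat.le_succ k)))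

/-- **EGA IV 11.3.x, finitely presented case.** If `gr_J(M)` is flat over `A`, then `M` is flat
over `A` at every prime of `V(J)`. -/
theorem flat_localized_of_gr_flat [Algebra.FinitePresentation A B] (J : Ideal B) (hJ : J.FG)
    (M : Type u) [AddCommGroup M] [Module B M] [Module A M] [IsScalarTower A B M]
    [Module.FinitePresentation B M]
    (hgr : ∀ k : ℕ, Module.Flat A
      (↥(J ^ k • (⊤ : Submodule B M)) ⧸
        Submodule.comap (J ^ k • (⊤ : Submodule B M)).subtype (J ^ (k + 1) • ⊤)))
    (q : Ideal B) [q.IsPrime] (hq : J ≤ q) :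
    Module.Flat A (LocalizedModule q.primeCompl M) := by
  -- truncations are flat
  have hquot : ∀ k : ℕ, Module.Flat A (M ⧸ (J ^ k • (⊤ : Submodule B M))) := by
    intro k
    apply Groth.Agent.Lib.Helper89.flat_quotient_pow_of_gr_flat A B M J
    intro n
    rw [← comap_subtype_pow_succ_smul]
    exact hgr n
  -- presentation
  obtain ⟨n, f, hf, hker⟩ := Algebra.FinitePresentation.out (R := A) (A := B)
  letI algPS : Algebra (MvPolynomial (Fin n) A) B := f.toRingHom.toAlgebra
  haveI : IsScalarTower A (MvPolynomial (Fin n) A) B :=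
    IsScalarTower.of_algebraMap_eq (fun r => (f.commutes r).symm)
  letI modPM : Module (MvPolynomial (Fin n) A) M := Module.compHom M f.toRingHom
  haveI : IsScalarTower (MvPolynomial (Fin n) A) B M :=
    IsScalarTower.of_algebraMap_smul (fun _ _ => rfl)
  haveI : IsScalarTower A (MvPolynomial (Fin n) A) M := by
    constructor
    intro r p m
    show f (r • p) • m = r • (f p • m)
    rw [map_smul, smul_assoc]
  have hfsurj : Function.Surjective (algebraMap (MvPolynomial (Fin n) A) B) := hf
  haveI : Module.FinitePresentation (MvPolynomial (Fin n) A) B :=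
    Module.finitePresentation_of_surjective (Algebra.linearMap (MvPolynomial (Fin n) A) B)
      hfsurj hker
  haveI : Module.FinitePresentation (MvPolynomial (Fin n) A) M :=
    Module.FinitePresentation.trans (MvPolynomial (Fin n) A) M B
  obtain ⟨b, K, e, hK⟩ := Module.FinitePresentation.exists_fin (MvPolynomial (Fin n) A) M
  obtain ⟨a, c, hc⟩ := Submodule.fg_iff_exists_fin_generating_family.mp hK
  subst hc
  -- generators of `J`
  obtain ⟨r, gB, hgB⟩ := Submodule.fg_iff_exists_fin_generating_family.mp hJ
  choose g hg using fun j => hfsurj (gB j)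
  set JP : Ideal (MvPolynomial (Fin n) A) := Ideal.span (Set.range g) with hJP
  have hJPmap : JP.map (algebraMap (MvPolynomial (Fin n) A) B) = J := by
    rw [hJP, Ideal.map_span, ← Set.range_comp]
    have : (algebraMap (MvPolynomial (Fin n) A) B) ∘ g = gB := funext hg
    rw [this]
    exact hgB
  have hgq : ∀ j, g j ∈ q.comap (algebraMap (MvPolynomial (Fin n) A) B) := by
    intro j
    rw [Ideal.mem_comap, hg j]
    apply hq
    rw [← hgB]
    exact Submodule.subset_span ⟨j, rfl⟩
  -- flatness of the augmented cokernels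
  have hflat : ∀ k, Module.Flat A ((Fin b → MvPolynomial (Fin n) A) ⧸
      Submodule.span (MvPolynomial (Fin n) A) (Set.range (aug c g k))) := by
    intro k
    haveI := hquot k
    let e₁ := augEquiv c g k
    have hmap : (JP ^ k • (⊤ : Submodule (MvPolynomial (Fin n) A)
        ((Fin b → MvPolynomial (Fin n) A) ⧸
          Submodule.span (MvPolynomial (Fin n) A) (Set.range c)))).map e.symm.toLinearMap =
        JP ^ k • (⊤ : Submodule (MvPolynomial (Fin n) A) M) := by
      rw [Submodule.map_smul'', Submodule.map_top, LinearEquiv.range]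
    let e₂ := Submodule.Quotient.equiv _ _ e.symm hmap
    have hset : (JP ^ k • (⊤ : Submodule (MvPolynomial (Fin n) A) M)).restrictScalars A =
        (J ^ k • (⊤ : Submodule B M)).restrictScalars A := by
      ext x
      simp only [Submodule.restrictScalars_mem]
      constructor
      · intro hx
        refine Submodule.smul_induction_on hx ?_ ?_
        · intro j hj m _
          have : j • m = (algebraMap (MvPolynomial (Fin n) A) B j) • m :=
            (algebraMap_smul B j m).symm
          rw [this]
          refine Submodule.smul_mem_smul ?_ Submodule.mem_top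
          rw [← hJPmap, ← Ideal.map_pow]
          exact Ideal.mem_map_of_mem _ hj
        · intro x y hx hy
          exact add_mem hx hy
      · intro hx
        refine Submodule.smul_induction_on hx ?_ ?_
        · intro j hj m _
          rw [← hJPmap, ← Ideal.map_pow] at hj
          obtain ⟨j', hj', rfl⟩ := (Ideal.mem_map_iff_of_surjective _ hfsurj).mp hj
          rw [algebraMap_smul]
          exact Submodule.smul_mem_smul hj' Submodule.mem_top
        · intro x y hx hy
          exact add_mem hx hy
    let e₃ := (Submodule.Quotient.restrictScalarsEquiv A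
        (JP ^ k • (⊤ : Submodule (MvPolynomial (Fin n) A) M))).symm ≪≫ₗ
      Submodule.quotEquivOfEq _ _ hset ≪≫ₗ
      Submodule.Quotient.restrictScalarsEquiv A (J ^ k • (⊤ : Submodule B M))
    exact Module.Flat.of_linearEquiv ((e₁.restrictScalars A) ≪≫ₗ (e₂.restrictScalars A) ≪≫ₗ e₃)
  have hmain := flat_localized_coker_of_flat_aug c g
    (q.comap (algebraMap (MvPolynomial (Fin n) A) B)) hgq hflat
  haveI h1 := isLocalizedModule_restrictScalars_of_surjective (M := M) hfsurj q
  haveI h2 : IsLocalizedModule (q.comap (algebraMap (MvPolynomial (Fin n) A) B)).primeCompl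
      (((LocalizedModule.mkLinearMap q.primeCompl M).restrictScalars
        (MvPolynomial (Fin n) A)) ∘ₗ e.symm.toLinearMap) :=
    IsLocalizedModule.of_linearEquiv_right _ _ e.symm
  exact (flat_iff_flat_localized (R := A)
    (q.comap (algebraMap (MvPolynomial (Fin n) A) B)).primeCompl
    (((LocalizedModule.mkLinearMap q.primeCompl M).restrictScalars
        (MvPolynomial (Fin n) A)) ∘ₗ e.symm.toLinearMap)).mpr hmain

end General

end Groth.Agent.H46.GrFlatMain
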