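import Groth.Prelude.Def_Coh
import Groth.Agent.Lib.Helper17.HZero
import Groth.Agent.Lib.Helper49.QcqsModules

/-!
# `H^0 : Hom(F, G) → Hom_A(H^0 F, H^0 G)` is bijective on a scheme isomorphic to `Spec A`
(for `F` quasi-coherent).  Lemma (Z) requested by helper56 for S11314 (`n = 0`).
-/

set_option autoImplicit false
set_option linter.style.haveILetI false
universe u
open CategoryTheory CategoryTheory.Limits AlgebraicGeometry TopologicalSpace Opposite
open Groth.Agent.Lib.Helper17.HZero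

namespace Groth.Agent.H46.HomH0Affine

/-- For an adjunction `L ⊣ R` whose counit at `M` is an isomorphism, `R` is bijective on
`Hom(M, N)`. -/
theorem bijective_map_of_isIso_counit {C D : Type*} [Category C] [Category D]
    {L : C ⥤ D} {R : D ⥤ C} (adj : L ⊣ R) (M N : D) [IsIso (adj.counit.app M)] :
    Function.Bijective (fun φ : M ⟶ N => R.map φ) := by
  have h : ∀ φ : M ⟶ N, R.map φ = adj.homEquiv (R.obj M) N (adj.counit.app M ≫ φ) := by
    intro φ
    rw [Adjunction.homEquiv_unit, Functor.map_comp, ← Category.assoc,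
      adj.right_triangle_components, Category.id_comp]
  constructor
  · intro φ₁ φ₂ h12
    simp only [h] at h12
    have := (adj.homEquiv (R.obj M) N).injective h12
    exact (cancel_epi _).1 this
  · intro g
    refine ⟨inv (adj.counit.app M) ≫ (adj.homEquiv (R.obj M) N).symm g, ?_⟩
    simp only [h]
    rw [IsIso.hom_inv_id_assoc, Equiv.apply_symm_apply]

set_option backward.isDefEq.respectTransparency.types false in
theorem bijective_Γ_pushforward {R : CommRingCat.{u}} {X : Scheme.{u}} (f : X ⟶ Spec (.of R)) [IsIso f]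
    (F G : X.Modules) [F.IsQuasicoherent] :
    Function.Bijective (fun φ : F ⟶ G =>
      (moduleSpecΓFunctor (R := R)).map ((Scheme.Modules.pushforward f).map φ)) := by
  let P := Scheme.Modules.pushforward f
  haveI : (P.obj F).IsQuasicoherent := Groth.Agent.Lib.Helper49.isQuasicoherent_pushforward F f
  haveI : IsIso ((tilde.adjunction (R := R)).counit.app (P.obj F)) :=
    (tilde.adjunction (R := R)).isIso_counit_app_iff_mem_essImage.2
      (isIso_fromTildeΓ_iff.1 inferInstance)
  have h1 : Function.Bijective (fun φ : F ⟶ G => P.map φ) := ⟨P.map_injective, P.map_surjective⟩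
  have h2 := bijective_map_of_isIso_counit (tilde.adjunction (R := R))
    (P.obj F) (P.obj G)
  exact h2.comp h1

set_option backward.isDefEq.respectTransparency.types false in
theorem existsUnique_hom_app_top {R : CommRingCat.{u}} {X : Scheme.{u}} (f : X ⟶ Spec (.of R))
    [IsIso f] (F G : X.Modules) [F.IsQuasicoherent]
    (ψ' : F.val.obj (op ⊤) →+ G.val.obj (op ⊤))
    (hψ' : ∀ (a : R) (x : F.val.obj (op ⊤)),
      ψ' (@HSMul.hSMul (X.ringCatSheaf.obj.obj (op ⊤)) (F.val.obj (op ⊤)) (F.val.obj (op ⊤)) _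
        (f.appTop.hom ((Scheme.ΓSpecIso R).inv.hom a)) x) =
      @HSMul.hSMul (X.ringCatSheaf.obj.obj (op ⊤)) (G.val.obj (op ⊤)) (G.val.obj (op ⊤)) _
        (f.appTop.hom ((Scheme.ΓSpecIso R).inv.hom a)) (ψ' x)) :
    ∃! φ : F ⟶ G, ∀ x : F.val.obj (op ⊤),
      ((SheafOfModules.toSheaf X.ringCatSheaf).map φ).hom.app (op ⊤) x = ψ' x := by
  let P := Scheme.Modules.pushforward f
  let Γ' := moduleSpecΓFunctor (R := R)
  have hbij := bijective_Γ_pushforward f F G
  let ψl : (Γ'.obj (P.obj F) : Type u) →ₗ[(R : Type u)] (Γ'.obj (P.obj G) : Type u) :=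
    { toFun := fun x => ψ' x
      map_add' := fun x y => map_add ψ' x y
      map_smul' := fun a x => hψ' a x }
  let ψ₀ := ModuleCat.ofHom ψl
  let ψ'' : Γ'.obj (P.obj F) ⟶ Γ'.obj (P.obj G) := ψ₀
  have key : ∀ φ : F ⟶ G, (∀ x : F.val.obj (op ⊤),
      ((SheafOfModules.toSheaf X.ringCatSheaf).map φ).hom.app (op ⊤) x = ψ' x) ↔
      Γ'.map (P.map φ) = ψ'' := by
    intro φ
    constructor
    · intro h
      ext x
      exact h x
    · intro h x
      exact congrArg (fun g => g.hom x) h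
  obtain ⟨φ, hφ⟩ := hbij.2 ψ''
  refine ⟨φ, (key φ).2 hφ, fun φ' hφ' => ?_⟩
  exact hbij.1 (((key φ').1 hφ').trans hφ.symm)

theorem existsUnique_hom_of_isIso_structure {A : Type u} [CommRing A] {X : Scheme.{u}}
    [X.Over (Spec (CommRingCat.of A))] [IsIso (X ↘ Spec (CommRingCat.of A))]
    (F G : X.Modules) (hF : Coh.IsQCoh F)
    (ψ : Coh.HH X F 0 →ₗ[A] Coh.HH X G 0) :
    ∃! φ : F ⟶ G, ∀ x : Coh.HH X F 0,
      ψ x = Sheaf.H.map ((SheafOfModules.toSheaf X.ringCatSheaf).map φ) 0 x := by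
  haveI : F.IsQuasicoherent := hF
  let f : X ⟶ Spec (CommRingCat.of A) := X ↘ Spec (CommRingCat.of A)
  have hsm : ∀ (H : X.Modules) (a : A) (y : Coh.HH X H 0), hh0Equiv H (a • y) =
      @HSMul.hSMul (X.ringCatSheaf.obj.obj (op ⊤)) (H.val.obj (op ⊤)) (H.val.obj (op ⊤)) _
        (Coh.toGlobal f a) (hh0Equiv H y) := fun H a y => hh0Equiv_smul H (Coh.toGlobal f a) y
  let ψ₁ := ((hh0Equiv G).toAddMonoidHom.comp ψ.toAddMonoidHom).comp (hh0Equiv F).symm.toAddMonoidHom
  let ψ' : F.val.obj (op ⊤) →+ G.val.obj (op ⊤) := ψ₁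
  have hψ' : ∀ (a : A) (x : F.val.obj (op ⊤)),
      ψ' (@HSMul.hSMul (X.ringCatSheaf.obj.obj (op ⊤)) (F.val.obj (op ⊤)) (F.val.obj (op ⊤)) _
        (Coh.toGlobal f a) x) =
      @HSMul.hSMul (X.ringCatSheaf.obj.obj (op ⊤)) (G.val.obj (op ⊤)) (G.val.obj (op ⊤)) _
        (Coh.toGlobal f a) (ψ' x) := by
    intro a x
    show hh0Equiv G (ψ ((hh0Equiv F).symm _)) = _
    have e1 : (hh0Equiv F).symm (@HSMul.hSMul (X.ringCatSheaf.obj.obj (op ⊤)) (F.val.obj (op ⊤))
        (F.val.obj (op ⊤)) _ (Coh.toGlobal f a) x) = a • (hh0Equiv F).symm x := by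
      apply (hh0Equiv F).injective
      rw [AddEquiv.apply_symm_apply, hsm, AddEquiv.apply_symm_apply]
    rw [e1, map_smul, hsm]
    rfl
  obtain ⟨φ, hφ, huniq⟩ := existsUnique_hom_app_top (R := CommRingCat.of A) f F G ψ' hψ'
  have key : ∀ φ : F ⟶ G, (∀ x : Coh.HH X F 0,
      ψ x = Sheaf.H.map ((SheafOfModules.toSheaf X.ringCatSheaf).map φ) 0 x) ↔
      (∀ x : F.val.obj (op ⊤),
        ((SheafOfModules.toSheaf X.ringCatSheaf).map φ).hom.app (op ⊤) x = ψ' x) := by
    intro φ
    constructor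
    · intro h x
      show _ = hh0Equiv G (ψ ((hh0Equiv F).symm x))
      rw [h]
      have := CategoryTheory.Sheaf.H.equiv₀_naturality
        (CategoryTheory.Limits.isTerminalTop (α := TopologicalSpace.Opens X))
        ((SheafOfModules.toSheaf X.ringCatSheaf).map φ) ((hh0Equiv F).symm x)
      refine Eq.trans ?_ this
      congr 1
      exact ((hh0Equiv F).apply_symm_apply x).symm
    · intro h x
      apply (hh0Equiv G).injective
      have := CategoryTheory.Sheaf.H.equiv₀_naturality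
        (CategoryTheory.Limits.isTerminalTop (α := TopologicalSpace.Opens X))
        ((SheafOfModules.toSheaf X.ringCatSheaf).map φ) x
      refine Eq.trans ?_ this
      have h' := h (hh0Equiv F x)
      change _ = hh0Equiv G (ψ ((hh0Equiv F).symm (hh0Equiv F x))) at h'
      rw [AddEquiv.symm_apply_apply] at h'
      exact h'.symm
  refine ⟨φ, (key φ).2 hφ, fun φ' hφ' => huniq φ' ((key φ').1 hφ')⟩

end Groth.Agent.H46.HomH0Affine
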