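import Mathlib

set_option autoImplicit false

namespace Groth.Agent.H46.IrredCore

open Set

/-- topological core: an irreducible space `S` with generic point `ξ`, mapping to `T` with image stable
under generization; then the image lies in an open set contained in the closure of the image of `ξ`. -/
theorem exists_open {S T : Type*} [TopologicalSpace S] [TopologicalSpace T] [T0Space T]
    [QuasiSober T] (π : S → T) (hπ : Continuous π) (ξ : S) (hξ : closure {ξ} = Set.univ)
    (hgen : ∀ (s : S) (y : T), y ⤳ π s → ∃ s', π s' = y)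
    (hfin : (irreducibleComponents T).Finite) :
    ∃ U : Set T, IsOpen U ∧ Set.range π ⊆ U ∧ U ⊆ closure {π ξ} := by
  -- key fact
  have K : ∀ Z ∈ irreducibleComponents T, ∀ s, π s ∈ Z → Z = closure {π ξ} := by
    intro Z hZ s hs
    obtain ⟨η, hη⟩ := QuasiSober.sober hZ.1 (isClosed_of_mem_irreducibleComponents Z hZ)
    have hηZ : closure {η} = Z := hη
    have h1 : η ⤳ π s := by
      rw [specializes_iff_mem_closure, hηZ]; exact hs
    obtain ⟨s', hs'⟩ := hgen s η h1
    have h2 : ξ ⤳ s' := by
      rw [specializes_iff_mem_closure, hξ]; trivial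
    have h3 : π ξ ⤳ η := hs' ▸ h2.map hπ
    have h4 : Z ⊆ closure {π ξ} := by
      rw [← hηZ]
      exact closure_minimal (singleton_subset_iff.mpr (specializes_iff_mem_closure.mp h3))
        isClosed_closure
    exact h4.antisymm (hZ.2 isIrreducible_singleton.closure h4)
  refine ⟨(⋃₀ {Z ∈ irreducibleComponents T | π ξ ∉ Z})ᶜ, ?_, ?_, ?_⟩
  · rw [isOpen_compl_iff, Set.sUnion_eq_biUnion]
    have hfin' : {Z ∈ irreducibleComponents T | π ξ ∉ Z}.Finite :=
      hfin.subset (fun Z hZ => hZ.1)
    exact hfin'.isClosed_biUnion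
      (fun Z hZ => isClosed_of_mem_irreducibleComponents Z hZ.1)
  · rintro _ ⟨s, rfl⟩
    rw [mem_compl_iff, mem_sUnion]
    rintro ⟨Z, ⟨hZ, hxZ⟩, hsZ⟩
    apply hxZ
    rw [K Z hZ s hsZ]
    exact subset_closure rfl
  · intro z hz
    rw [mem_compl_iff, mem_sUnion] at hz
    have hZ := irreducibleComponent_mem_irreducibleComponents z
    have hxZ : π ξ ∈ irreducibleComponent z := by
      by_contra hcon
      exact hz ⟨_, ⟨hZ, hcon⟩, mem_irreducibleComponent⟩
    rw [← K _ hZ ξ hxZ]
    exact mem_irreducibleComponent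

/-- a space with a dense point is irreducible -/
theorem irreducibleSpace_of_closure_singleton {S : Type*} [TopologicalSpace S] (ξ : S)
    (hξ : closure {ξ} = Set.univ) : IrreducibleSpace S := by
  rw [irreducibleSpace_def]
  show IsIrreducible (Set.univ : Set S)
  rw [← hξ]
  exact isIrreducible_singleton.closure

end Groth.Agent.H46.IrredCore
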