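import Groth.Agent.H46.SmoothGCI
import Groth.Agent.Lib.Helper55.LocalDim
import Mathlib

/-!
# Local dimension of the spectrum of a standard smooth algebra over a field
-/

set_option autoImplicit false
universe u

namespace Groth.Agent.H46.SmoothLocalDim

variable (k : Type u) [Field k]

/-- every maximal ideal of a standard smooth algebra of relative dimension `d` over a field has
height `d` -/
theorem height_of_isMaximal (d : ℕ) (T : Type u) [CommRing T] [Algebra k T]
    [Algebra.IsStandardSmoothOfRelativeDimension d k T] (m : Ideal T) [m.IsMaximal] :
    m.height = d := by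
  obtain ⟨g, hg⟩ := Algebra.IsStandardSmoothOfRelativeDimension.exists_etale_mvPolynomial d k T
  algebraize [g.toRingHom]
  have : Algebra.Etale (MvPolynomial (Fin d) k) T := RingHom.etale_algebraMap.mp hg
  exact Groth.Agent.H46.SmoothDim.height_eq k d T m

/-- the local dimension of `Spec T` at every point is `d`, for `T` standard smooth of relative
dimension `d` over a field -/
theorem localDim_eq (d : ℕ) (T : Type u) [CommRing T] [Algebra k T]
    [Algebra.IsStandardSmoothOfRelativeDimension d k T] (p : PrimeSpectrum T) :
    FlatMor.localDim (PrimeSpectrum T) p = (d : WithBot ℕ∞) := by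
  have hss : Algebra.IsStandardSmooth k T :=
    Algebra.IsStandardSmoothOfRelativeDimension.isStandardSmooth d
  have hft : Algebra.FiniteType k T := inferInstance
  rw [Groth.Agent.Lib.Helper55.localDim_primeSpectrum_eq k T p]
  obtain ⟨m, hm, -, hh⟩ := Groth.Agent.Lib.Helper55.exists_isMaximal_height_eq k T p.asIdeal
  rw [← hh, height_of_isMaximal k d T m]
  rfl

end Groth.Agent.H46.SmoothLocalDim
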