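import Groth.Agent.H46.GCIEquidim
import Groth.Agent.H46.SmoothLocalDim
import Groth.Agent.Lib.Helper55.LocalDimTop
import Groth.Prelude.Def_RegImm
import Mathlib

/-!
# Jacobian criterion for relative global complete intersections: ingredients
-/

set_option autoImplicit false
universe u
open Synt TensorProduct

namespace Groth.Agent.H46.JacobianCrit

/-- The fibre of `Spec S_g` over `p` is an open subspace of the fibre of `Spec S`. -/
theorem isOpenEmbedding_fiber_away (R S : Type u) [CommRing R] [CommRing S] [Algebra R S]
    (g : S) (p : PrimeSpectrum R) :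
    Topology.IsOpenEmbedding (PrimeSpectrum.comap
      (Algebra.TensorProduct.map (AlgHom.id R p.asIdeal.ResidueField)
        (IsScalarTower.toAlgHom R S (Localization.Away g))).toRingHom) := by
  let _ : Algebra (p.asIdeal.Fiber S) (p.asIdeal.Fiber (Localization.Away g)) :=
    (Algebra.TensorProduct.map (AlgHom.id R p.asIdeal.ResidueField)
      (IsScalarTower.toAlgHom R S (Localization.Away g))).toRingHom.toAlgebra
  have htower : IsScalarTower p.asIdeal.ResidueField (p.asIdeal.Fiber S)
      (p.asIdeal.Fiber (Localization.Away g)) :=
    .of_algebraMap_eq (by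
      intro x
      show algebraMap p.asIdeal.ResidueField (p.asIdeal.Fiber (Localization.Away g)) x =
        (Algebra.TensorProduct.map (AlgHom.id R p.asIdeal.ResidueField)
          (IsScalarTower.toAlgHom R S (Localization.Away g)))
          (algebraMap p.asIdeal.ResidueField (p.asIdeal.Fiber S) x)
      simp [Algebra.TensorProduct.algebraMap_apply])
  have hloc : IsLocalization.Away ((1 : p.asIdeal.ResidueField) ⊗ₜ[R] g)
      (p.asIdeal.Fiber (Localization.Away g)) := by
    have := IsLocalization.tensorProduct_tensorProduct_right R p.asIdeal.ResidueField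
      (Submonoid.powers g) (Localization.Away g)
      (by ext; simp [RingHom.algebraMap_toAlgebra])
    simpa [Submonoid.map_powers] using this
  exact PrimeSpectrum.localization_away_isOpenEmbedding (p.asIdeal.Fiber (Localization.Away g))
    ((1 : p.asIdeal.ResidueField) ⊗ₜ[R] g)

/-- If `S_g` is standard smooth of relative dimension `d'` over `R` and `g ∉ q`, then the fibre of
`Spec S` over the prime under `q` has a point of local dimension `d'`. -/
theorem exists_localDim_fiber_eq (R S : Type u) [CommRing R] [CommRing S] [Algebra R S]
    (g : S) (d' : ℕ) [Algebra.IsStandardSmoothOfRelativeDimension d' R (Localization.Away g)]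
    (q : Ideal S) [q.IsPrime] (hg : g ∉ q) :
    ∃ y : PrimeSpectrum ((q.under R).Fiber S),
      FlatMor.localDim (PrimeSpectrum ((q.under R).Fiber S)) y = (d' : WithBot ℕ∞) := by
  classical
  have hdisj : Disjoint (Submonoid.powers g : Set S) (q : Set S) := by
    rw [Set.disjoint_left]
    rintro x ⟨k, rfl⟩ hk
    exact hg (Ideal.IsPrime.mem_of_pow_mem inferInstance k hk)
  have hq'prime : (q.map (algebraMap S (Localization.Away g))).IsPrime :=
    IsLocalization.isPrime_of_isPrime_disjoint (Submonoid.powers g) _ q inferInstance hdisj
  have hq'comap : (q.map (algebraMap S (Localization.Away g))).comap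
      (algebraMap S (Localization.Away g)) = q :=
    IsLocalization.under_map_of_isPrime_disjoint (Submonoid.powers g) _ inferInstance hdisj
  let p : PrimeSpectrum R := ⟨q.under R, inferInstance⟩
  have hp : p ∈ Set.range (PrimeSpectrum.comap (algebraMap R (Localization.Away g))) := by
    refine ⟨⟨q.map (algebraMap S (Localization.Away g)), hq'prime⟩, ?_⟩
    ext1
    show ((q.map (algebraMap S (Localization.Away g))).comap
      (algebraMap R (Localization.Away g))) = q.comap (algebraMap R S)
    rw [IsScalarTower.algebraMap_eq R S (Localization.Away g), ← Ideal.comap_comap, hq'comap]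
  have hntT : Nontrivial (p.asIdeal.Fiber (Localization.Away g)) :=
    (PrimeSpectrum.nontrivial_iff_mem_rangeComap p).mpr hp
  obtain ⟨x⟩ : Nonempty (PrimeSpectrum (p.asIdeal.Fiber (Localization.Away g))) := inferInstance
  have hemb := isOpenEmbedding_fiber_away R S g p
  have h1 := Groth.Agent.Lib.Helper55.localDim_eq_of_isOpenEmbedding _ hemb x
  have h2 : FlatMor.localDim (PrimeSpectrum (p.asIdeal.Fiber (Localization.Away g))) x =
      (d' : WithBot ℕ∞) :=
    Groth.Agent.H46.SmoothLocalDim.localDim_eq p.asIdeal.ResidueField d'
      (p.asIdeal.Fiber (Localization.Away g)) x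
  exact ⟨_, h1.symm.trans h2⟩

/-- If a principal localization `S_g` of a relative global complete intersection is standard smooth
of relative dimension `d'` and `g` is outside some prime, then `d' = n - c`. -/
theorem relDim_eq (R : Type u) [CommRing R] (n c : ℕ) (F : Fin c → MvPolynomial (Fin n) R)
    (hF : Synt.IsRelGCI R n c F) (g : Synt.RelGCIRing R n c F) (d' : ℕ)
    [Algebra.IsStandardSmoothOfRelativeDimension d' R (Localization.Away g)]
    (q : Ideal (Synt.RelGCIRing R n c F)) [q.IsPrime] (hg : g ∉ q) :
    c ≤ n ∧ d' = n - c := by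
  classical
  obtain ⟨y, hy⟩ := exists_localDim_fiber_eq R (Synt.RelGCIRing R n c F) g d' q hg
  let p : PrimeSpectrum R := ⟨q.under R, inferInstance⟩
  have hntS : Nontrivial (p.asIdeal.Fiber (Synt.RelGCIRing R n c F)) := PrimeSpectrum.nontrivial y
  obtain ⟨hc, hdim⟩ := hF p hntS
  refine ⟨hc, ?_⟩
  let Q : Algebra.Presentation p.asIdeal.ResidueField (p.asIdeal.Fiber (Synt.RelGCIRing R n c F))
      (Fin n) (Fin c) :=
    (Algebra.Presentation.naive (v := F)).baseChange p.asIdeal.ResidueField
  have h3 := Groth.Agent.H46.GCIEquidim.localDim_eq_of_presentation Q hc hdim y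
  rw [h3] at hy
  exact_mod_cast hy.symm

end Groth.Agent.H46.JacobianCrit
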