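import Groth.Agent.H46.JacobianCrit
import Mathlib

set_option autoImplicit false
universe u v w
open Synt TensorProduct KaehlerDifferential

namespace Groth.Agent.H46.JacobianCrit

/-- For `S_g` standard smooth of relative dimension `d'`, the fibre of `Ω_{S/R}` at a field-valued
point of `Spec S_g` has dimension `d'`. -/
theorem finrank_tensor_kaehler (R S : Type u) [CommRing R] [CommRing S] [Algebra R S] (g : S)
    (d' : ℕ) [Algebra.IsStandardSmoothOfRelativeDimension d' R (Localization.Away g)]
    (K : Type u) [Field K] [Algebra S K] [Algebra (Localization.Away g) K]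
    [IsScalarTower S (Localization.Away g) K] :
    Module.finrank K (K ⊗[S] Ω[S⁄R]) = d' := by
  have hnt : Nontrivial (Localization.Away g) :=
    RingHom.domain_nontrivial (algebraMap (Localization.Away g) K)
  have hfe : Algebra.FormallyEtale S (Localization.Away g) :=
    Algebra.FormallyEtale.of_isLocalization (Submonoid.powers g)
  have hss : Algebra.IsStandardSmooth R (Localization.Away g) :=
    Algebra.IsStandardSmoothOfRelativeDimension.isStandardSmooth d'
  have hrank : Module.rank (Localization.Away g) Ω[Localization.Away g⁄R] = d' :=
    Algebra.IsStandardSmoothOfRelativeDimension.rank_kaehlerDifferential d'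
  have hfin : Module.finrank (Localization.Away g) Ω[Localization.Away g⁄R] = d' :=
    Module.finrank_eq_of_rank_eq hrank
  let e2 := KaehlerDifferential.tensorKaehlerEquivOfFormallyEtale R S (Localization.Away g)
  let e1 := AlgebraTensorModule.cancelBaseChange S (Localization.Away g) K K Ω[S⁄R]
  let e3 : K ⊗[Localization.Away g] ((Localization.Away g) ⊗[S] Ω[S⁄R]) ≃ₗ[K]
      K ⊗[Localization.Away g] Ω[Localization.Away g⁄R] :=
    AlgebraTensorModule.congr (LinearEquiv.refl K K) e2
  rw [← e1.finrank_eq, e3.finrank_eq, Module.finrank_baseChange, hfin]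

open Module in
/-- Base change of a finite presentation of a module to a field: the dimension of `K ⊗ M` plus the
rank of the relation matrix is the number of generators. -/
theorem finrank_tensor_add_finrank_span {A : Type u} [CommRing A] {M : Type v} [AddCommGroup M]
    [Module A M] (rel : Module.Relations A) [Fintype rel.G] [Finite rel.R] (sol : rel.Solution M)
    (h : sol.IsPresentation) (K : Type w) [Field K] [Algebra A K] :
    Module.finrank K (K ⊗[A] M) + Module.finrank K (Submodule.span K
      (Set.range fun r : rel.R => fun g : rel.G => algebraMap A K (rel.relation r g))) =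
      Fintype.card rel.G := by
  classical
  let bG : Basis rel.G K (K ⊗[A] (rel.G →₀ A)) := (Finsupp.basisSingleOne (R := A)).baseChange K
  let e : K ⊗[A] (rel.G →₀ A) ≃ₗ[K] (rel.G → K) := bG.equivFun
  let πK : K ⊗[A] (rel.G →₀ A) →ₗ[K] K ⊗[A] M := sol.π.baseChange K
  let fK : K ⊗[A] (rel.R →₀ A) →ₗ[K] K ⊗[A] (rel.G →₀ A) := rel.map.baseChange K
  have hsurj : Function.Surjective πK := LinearMap.lTensor_surjective K h.surjective_π
  have hexact : Function.Exact fK πK := lTensor_exact K h.exact h.surjective_π
  have hker : LinearMap.ker πK = LinearMap.range fK := hexact.linearMap_ker_eq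
  have hrange : LinearMap.range fK =
      Submodule.span K (Set.range fun r => (1 : K) ⊗ₜ[A] rel.relation r) := by
    have hspan : Submodule.span K
        (Set.range fun r : rel.R => (1 : K) ⊗ₜ[A] (Finsupp.single r (1 : A))) = ⊤ := by
      have := ((Finsupp.basisSingleOne (R := A) (ι := rel.R)).baseChange K).span_eq
      rw [← this]
      congr 1
      ext x
      simp
    rw [LinearMap.range_eq_map, ← hspan, Submodule.map_span, ← Set.range_comp]
    congr 1
    ext r
    simp [fK, rel.map_single]
  have he : ∀ x : rel.G →₀ A, e (1 ⊗ₜ x) = fun g => algebraMap A K (x g) := by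
    intro x
    ext g
    simp [e, bG, Basis.baseChange_repr_tmul, Algebra.algebraMap_eq_smul_one]
  let ψ : (rel.G → K) →ₗ[K] K ⊗[A] M := πK ∘ₗ e.symm.toLinearMap
  have hψker : LinearMap.ker ψ = Submodule.span K
      (Set.range fun r : rel.R => fun g : rel.G => algebraMap A K (rel.relation r g)) := by
    rw [LinearMap.ker_comp, hker, hrange]
    have : Submodule.comap e.symm.toLinearMap
        (Submodule.span K (Set.range fun r => (1 : K) ⊗ₜ[A] rel.relation r)) =
        Submodule.map e.toLinearMap
        (Submodule.span K (Set.range fun r => (1 : K) ⊗ₜ[A] rel.relation r)) :=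
      (Submodule.map_equiv_eq_comap_symm e _).symm
    rw [this, Submodule.map_span, ← Set.range_comp]
    congr 1
    ext r
    simp [he]
  have hfr := LinearMap.finrank_range_add_finrank_ker ψ
  have hψsurj : Function.Surjective ψ := by
    show Function.Surjective (πK ∘ e.symm)
    exact hsurj.comp e.symm.surjective
  rw [LinearMap.range_eq_top.mpr hψsurj, finrank_top, hψker] at hfr
  simpa using hfr


/-- A `c × n` matrix over a field with linearly independent rows has a nonvanishing `c × c` minor -/
theorem exists_det_submatrix_ne_zero {K : Type*} [Field K] {c n : ℕ} (A : Matrix (Fin c) (Fin n) K)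
    (h : LinearIndependent K A.row) : ∃ I : Fin c ↪ Fin n, (A.submatrix id I).det ≠ 0 := by
  classical
  have hrank : A.rank = c := by simpa using h.rank_matrix
  obtain ⟨κ, a, ha_inj, hspan, hli⟩ := exists_linearIndependent' K A.col
  have : Finite κ := Finite.of_injective a ha_inj
  have : Fintype κ := Fintype.ofFinite κ
  have hcard : Fintype.card κ = c := by
    rw [← finrank_span_eq_card hli, hspan, ← Matrix.rank_eq_finrank_span_cols, hrank]
  let e : Fin c ≃ κ := (Fintype.equivFinOfCardEq hcard).symm
  refine ⟨⟨a ∘ e, ha_inj.comp e.injective⟩, ?_⟩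
  have hcols : LinearIndependent K (A.submatrix id (a ∘ e)).col := by
    have := hli.comp e e.injective
    exact this
  have hunit : IsUnit (A.submatrix id (a ∘ e)) := Matrix.linearIndependent_cols_iff_isUnit.mp hcols
  exact ((Matrix.isUnit_iff_isUnit_det _).mp hunit).ne_zero


/-- for the quotient `S = R[x_1..x_n]/(F_1..F_c)` and a field-valued point, the dimension of the
fibre of `Ω_{S/R}` plus the rank of the Jacobian matrix is `n` -/
theorem finrank_tensor_kaehler_add (R : Type u) [CommRing R] (n c : ℕ)
    (F : Fin c → MvPolynomial (Fin n) R) (K : Type u) [Field K]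
    [Algebra (Synt.RelGCIRing R n c F) K] :
    Module.finrank K (K ⊗[Synt.RelGCIRing R n c F] Ω[Synt.RelGCIRing R n c F⁄R]) +
      Module.finrank K (Submodule.span K (Set.range (Matrix.of fun (j : Fin c) (i : Fin n) =>
        algebraMap (Synt.RelGCIRing R n c F) K
          (Ideal.Quotient.mk (Ideal.span (Set.range F)) (MvPolynomial.pderiv i (F j)))).row)) =
      n := by
  classical
  let pres := Algebra.Presentation.naive (v := F)
  let _ : Fintype pres.differentialsRelations.G := inferInstanceAs (Fintype (Fin n))
  have : Finite pres.differentialsRelations.R := inferInstanceAs (Finite (Fin c))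
  have hG := Groth.Agent.H46.JacobianCrit.finrank_tensor_add_finrank_span
    pres.differentialsRelations pres.differentialsSolution
    pres.differentialsSolution_isPresentation K
  have hcardG : Fintype.card pres.differentialsRelations.G = n := Fintype.card_fin n
  rw [hcardG] at hG
  have hrows : (fun r : pres.differentialsRelations.R =>
      fun g : pres.differentialsRelations.G =>
        algebraMap (Synt.RelGCIRing R n c F) K (pres.differentialsRelations.relation r g)) =
      (Matrix.of fun (j : Fin c) (i : Fin n) =>
        algebraMap (Synt.RelGCIRing R n c F) K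
          (Ideal.Quotient.mk (Ideal.span (Set.range F)) (MvPolynomial.pderiv i (F j)))).row := by
    funext r i
    show algebraMap (Synt.RelGCIRing R n c F) K (algebraMap pres.Ring _
      ((KaehlerDifferential.mvPolynomialBasis R (Fin n)).repr
        (D R _ (F r)) i)) = _
    rw [KaehlerDifferential.mvPolynomialBasis_repr_apply]
    rfl
  rw [hrows] at hG
  exact hG


/-- a field-valued point of `Spec S` killing `q` at which the fibre of `Ω_{S/R}` has dimension the
relative dimension of the standard smooth neighbourhood `D(g)` -/
theorem exists_field_finrank_tensor_kaehler (R S : Type u) [CommRing R] [CommRing S] [Algebra R S]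
    (g : S) (d' : ℕ) [Algebra.IsStandardSmoothOfRelativeDimension d' R (Localization.Away g)]
    (q : Ideal S) [q.IsPrime] (hg : g ∉ q) :
    ∃ (K : Type u) (_ : Field K) (_ : Algebra S K), (∀ x ∈ q, algebraMap S K x = 0) ∧
      Module.finrank K (K ⊗[S] Ω[S⁄R]) = d' := by
  have hdisj : Disjoint (Submonoid.powers g : Set S) (q : Set S) := by
    rwa [Ideal.disjoint_powers_iff_notMem_of_isPrime]
  have hq'prime : (q.map (algebraMap S (Localization.Away g))).IsPrime :=
    IsLocalization.isPrime_of_isPrime_disjoint (Submonoid.powers g) _ q inferInstance hdisj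
  refine ⟨(q.map (algebraMap S (Localization.Away g))).ResidueField, inferInstance, inferInstance,
    fun x hx => ?_, finrank_tensor_kaehler R S g d' _⟩
  rw [IsScalarTower.algebraMap_apply S (Localization.Away g)
    (q.map (algebraMap S (Localization.Away g))).ResidueField,
    Ideal.algebraMap_residueField_eq_zero]
  exact Ideal.mem_map_of_mem _ hx


end Groth.Agent.H46.JacobianCrit
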