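import Mathlib
import Groth.Prelude.Def_K0Var

/-!
# Zariski-locally trivial fibrations in the Grothendieck ring of varieties

`[X] = [Y] · [F]` for a Zariski-locally trivial fibration `X → Y` with fibre `F`.
-/

set_option linter.style.haveILetI false

universe u

open CategoryTheory CategoryTheory.Limits AlgebraicGeometry

namespace Groth.Agent.H46.K0Fib

open K0Var

variable {S : Scheme.{u}}

theorem cl_eq_of_eq {X : Scheme.{u}} {f g : X ⟶ S} [LocallyOfFiniteType f] [QuasiCompact f]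
    [LocallyOfFiniteType g] [QuasiCompact g] (h : f = g) : cl f = cl g := by
  subst h; rfl

theorem cl_eq_zero_of_isEmpty {X : Scheme.{u}} (f : X ⟶ S) [LocallyOfFiniteType f]
    [QuasiCompact f] [IsEmpty X] : cl f = 0 :=
  Gen.cl_eq_zero_of_isEmpty (Gen.mk X f)

/-- Base change of a scissor datum on `Z` along `q : P ⟶ Z`. -/
theorem cl_pullback_scissor {P Z W V : Scheme.{u}} (p : Z ⟶ S) [LocallyOfFiniteType p]
    [QuasiCompact p] (q : P ⟶ Z) [LocallyOfFiniteType q] [QuasiCompact q]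
    (i : W ⟶ Z) [IsClosedImmersion i] (j : V ⟶ Z) [IsOpenImmersion j] [QuasiCompact j]
    (hr : Set.range i = (Set.range j)ᶜ) :
    cl (q ≫ p) = cl (pullback.snd i q ≫ q ≫ p) + cl (pullback.snd j q ≫ q ≫ p) := by
  refine cl_scissor (q ≫ p) (pullback.snd i q) (pullback.snd j q) ?_
  rw [Scheme.Pullback.range_snd, Scheme.Pullback.range_snd, hr, Set.preimage_compl]

/-- The trivial case: a morphism `h : V ⟶ Y` landing in a trivialising open `U`. -/
theorem cl_of_range_subset {X Y F V : Scheme.{u}} (pY : Y ⟶ S) [LocallyOfFiniteType pY]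
    [QuasiCompact pY] (pF : F ⟶ S) [LocallyOfFiniteType pF] [QuasiCompact pF]
    (f : X ⟶ Y) [LocallyOfFiniteType f] [QuasiCompact f]
    (U : Y.Opens) (e : (f ⁻¹ᵁ U).toScheme ≅ pullback (U.ι ≫ pY) pF)
    (he : e.hom ≫ pullback.fst (U.ι ≫ pY) pF = f ∣_ U)
    (h : V ⟶ Y) [LocallyOfFiniteType h] [QuasiCompact h] (hU : Set.range h ⊆ (U : Set Y)) :
    cl (pullback.fst h f ≫ h ≫ pY) = cl (h ≫ pY) * cl pF := by
  have hr : Set.range h ⊆ Set.range U.ι := by simpa [Scheme.Opens.range_ι] using hU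
  let h' : V ⟶ U.toScheme := IsOpenImmersion.lift U.ι h hr
  have hh' : h' ≫ U.ι = h := IsOpenImmersion.lift_fac U.ι h hr
  let m : pullback (h ≫ pY) pF ⟶ pullback (U.ι ≫ pY) pF :=
    pullback.lift (pullback.fst _ _ ≫ h') (pullback.snd _ _)
      (by rw [Category.assoc, ← Category.assoc h', hh', pullback.condition])
  have hm1 : m ≫ pullback.fst _ _ = pullback.fst _ _ ≫ h' := pullback.lift_fst _ _ _
  have hm2 : m ≫ pullback.snd _ _ = pullback.snd _ _ := pullback.lift_snd _ _ _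
  -- left square
  have hC : IsPullback m (pullback.fst (h ≫ pY) pF) (pullback.fst (U.ι ≫ pY) pF) h' := by
    refine IsPullback.of_right ?_ hm1 (IsPullback.of_hasPullback (U.ι ≫ pY) pF).flip
    rw [hm2]
    have h3 : h' ≫ U.ι ≫ pY = h ≫ pY := by rw [← Category.assoc, hh']
    rw [h3]
    exact (IsPullback.of_hasPullback (h ≫ pY) pF).flip
  -- middle square
  have hE : IsPullback e.inv (pullback.fst (U.ι ≫ pY) pF) (f ∣_ U) (𝟙 _) :=
    IsPullback.of_horiz_isIso ⟨by rw [← he, Iso.inv_hom_id_assoc, Category.comp_id]⟩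
  have hD : IsPullback (f ⁻¹ᵁ U).ι (f ∣_ U) f U.ι := (isPullback_morphismRestrict f U).flip
  have hF := (hC.paste_horiz (hE.paste_horiz hD)).flip
  rw [Category.id_comp, hh'] at hF
  rw [← cl_mul (h ≫ pY) pF]
  refine (cl_congr _ _ hF.isoPullback ?_).symm
  rw [← Category.assoc, hF.isoPullback_hom_fst]

theorem cl_pullback_snd_fst {X Y Z W : Scheme.{u}} (pY : Y ⟶ S) [LocallyOfFiniteType pY]
    [QuasiCompact pY] (f : X ⟶ Y) [LocallyOfFiniteType f] [QuasiCompact f]
    (g : Z ⟶ Y) [LocallyOfFiniteType g] [QuasiCompact g]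
    (i : W ⟶ Z) [LocallyOfFiniteType i] [QuasiCompact i] :
    cl (pullback.snd i (pullback.fst g f) ≫ pullback.fst g f ≫ g ≫ pY) =
      cl (pullback.fst (i ≫ g) f ≫ (i ≫ g) ≫ pY) :=
  cl_congr _ _ (pullbackRightPullbackFstIso g f i) (by
    rw [← Category.assoc, pullbackRightPullbackFstIso_hom_fst, Category.assoc i,
      ← pullback.condition_assoc])

/-- Induction over a finite family of trivialising opens. -/
theorem cl_fibration_aux [IsLocallyNoetherian S] {X Y F : Scheme.{u}} (pY : Y ⟶ S)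
    [LocallyOfFiniteType pY] [QuasiCompact pY] (pF : F ⟶ S) [LocallyOfFiniteType pF]
    [QuasiCompact pF] (f : X ⟶ Y) [LocallyOfFiniteType f] [QuasiCompact f]
    (U : Y → Y.Opens) (e : ∀ y, (f ⁻¹ᵁ U y).toScheme ≅ pullback ((U y).ι ≫ pY) pF)
    (he : ∀ y, (e y).hom ≫ pullback.fst ((U y).ι ≫ pY) pF = f ∣_ U y) (t : Finset Y) :
    ∀ {Z : Scheme.{u}} (g : Z ⟶ Y) [LocallyOfFiniteType g] [QuasiCompact g],
      Set.range g ⊆ ⋃ y ∈ t, (U y : Set Y) →
      cl (pullback.fst g f ≫ g ≫ pY) = cl (g ≫ pY) * cl pF := by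
  classical
  induction t using Finset.induction_on with
  | empty =>
    intro Z g _ _ hg
    haveI : IsEmpty Z := ⟨fun z => by have := hg ⟨z, rfl⟩; simp at this⟩
    haveI : IsEmpty ↥(pullback g f) := ⟨fun x => isEmptyElim (pullback.fst g f x)⟩
    rw [cl_eq_zero_of_isEmpty, cl_eq_zero_of_isEmpty (g ≫ pY), zero_mul]
  | insert a t' ha ih =>
    intro Z g _ _ hg
    haveI : IsLocallyNoetherian Z := LocallyOfFiniteType.isLocallyNoetherian (g ≫ pY)
    let V : Z.Opens := g ⁻¹ᵁ (U a)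
    let Zc : TopologicalSpace.Closeds Z := ⟨(V : Set Z)ᶜ, V.isOpen.isClosed_compl⟩
    let I := Scheme.IdealSheafData.vanishingIdeal Zc
    let i := I.subschemeι
    let j := V.ι
    have hri : Set.range i = (V : Set Z)ᶜ := by
      rw [Scheme.IdealSheafData.range_subschemeι, Scheme.IdealSheafData.coe_support_vanishingIdeal]
      rfl
    have hrj : Set.range j = (V : Set Z) := Scheme.Opens.range_ι V
    have hr : Set.range i = (Set.range j)ᶜ := by rw [hri, hrj]
    have h1 := cl_scissor (g ≫ pY) i j hr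
    have h2 := cl_pullback_scissor (g ≫ pY) (pullback.fst g f) i j hr
    rw [cl_pullback_snd_fst pY f g i, cl_pullback_snd_fst pY f g j] at h2
    have h3 : cl (pullback.fst (i ≫ g) f ≫ (i ≫ g) ≫ pY) = cl ((i ≫ g) ≫ pY) * cl pF := by
      apply ih (i ≫ g)
      rintro _ ⟨w, rfl⟩
      have hw : i w ∉ (V : Set Z) := by
        have : i w ∈ Set.range i := ⟨w, rfl⟩
        rw [hri] at this
        exact this
      have hw2 := hg ⟨i w, rfl⟩
      simp only [Finset.mem_insert, Set.iUnion_iUnion_eq_or_left, Set.mem_union] at hw2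
      rcases hw2 with hw2 | hw2
      · exact absurd hw2 hw
      · simpa using hw2
    have h4 : cl (pullback.fst (j ≫ g) f ≫ (j ≫ g) ≫ pY) = cl ((j ≫ g) ≫ pY) * cl pF := by
      apply cl_of_range_subset pY pF f (U a) (e a) (he a) (j ≫ g)
      rintro _ ⟨v, rfl⟩
      have : j v ∈ (V : Set Z) := by rw [← hrj]; exact ⟨v, rfl⟩
      exact this
    rw [h2, h3, h4, h1, cl_eq_of_eq (Category.assoc i g pY), cl_eq_of_eq (Category.assoc j g pY)]
    ring

/-- `[X] = [Y] · [F]` for a Zariski-locally trivial fibration `f : X ⟶ Y` with fibre `F`, over a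
locally Noetherian quasi-compact base. -/
theorem cl_fibration [IsLocallyNoetherian S] [CompactSpace S] {X Y F : Scheme.{u}} (pY : Y ⟶ S)
    [LocallyOfFiniteType pY] [QuasiCompact pY] (pF : F ⟶ S) [LocallyOfFiniteType pF]
    [QuasiCompact pF] (f : X ⟶ Y) [LocallyOfFiniteType f] [QuasiCompact f]
    (hf : ∀ y : Y, ∃ (U : Y.Opens) (e : (f ⁻¹ᵁ U).toScheme ≅ pullback (U.ι ≫ pY) pF),
      y ∈ U ∧ e.hom ≫ pullback.fst (U.ι ≫ pY) pF = f ∣_ U) :
    cl (f ≫ pY) = cl pY * cl pF := by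
  choose U e hU he using hf
  haveI : CompactSpace Y := QuasiCompact.compactSpace_of_compactSpace pY
  obtain ⟨t, ht⟩ := isCompact_univ.elim_finite_subcover (fun y => (U y : Set Y))
    (fun y => (U y).isOpen) (fun y _ => Set.mem_iUnion.2 ⟨y, hU y⟩)
  have h := cl_fibration_aux pY pF f U e he t (𝟙 Y) (fun y _ => ht (Set.mem_univ y))
  rw [cl_eq_of_eq (Category.id_comp pY)] at h
  rw [← h]
  refine (cl_congr _ _ (asIso (pullback.snd (𝟙 Y) f)) ?_).symm
  rw [asIso_hom, ← pullback.condition_assoc]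

end Groth.Agent.H46.K0Fib
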