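import Groth.Agent.Lib.Helper48.LimitSmooth
import Mathlib

/-!
# Maps from finitely presented modules to a "path system" colimit, and descent of projectivity
(helper46; built on helper48's `PathSystem` / `AlgPathSystem`)
-/

set_option autoImplicit false

open TensorProduct

namespace Groth.Agent.H46.LimProj

open Groth.Agent.Lib.Helper48

section PathSystem

variable {ι : Type*} {R : Type*} [CommRing R] {N : ι → Type*}
  [∀ i, AddCommGroup (N i)] [∀ i, Module R (N i)] {L : Type*} [AddCommGroup L] [Module R L]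
  {γ : ∀ i, N i →ₗ[R] L} {Tr : ∀ i j, (N i →ₗ[R] N j) → Prop}

/-- Two maps from a finite module to a stage which agree in the colimit agree at a later stage. -/
theorem exists_linearMap_eq (h : PathSystem R N L γ Tr) (M : Type*) [AddCommGroup M] [Module R M]
    [Module.Finite R M] (i : ι) (u u' : M →ₗ[R] N i) (huu : γ i ∘ₗ u = γ i ∘ₗ u') :
    ∃ j τ, Tr i j τ ∧ τ ∘ₗ u = τ ∘ₗ u' := by
  classical
  obtain ⟨s, hs⟩ := (Module.Finite.fg_top : (⊤ : Submodule R M).FG)
  obtain ⟨j, τ, hτ, hj⟩ := h.kill_finset i (s.image fun m => u m - u' m) (by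
    intro y hy
    obtain ⟨m, -, rfl⟩ := Finset.mem_image.mp hy
    rw [map_sub, sub_eq_zero]
    exact congr($huu m))
  refine ⟨j, τ, hτ, ?_⟩
  apply LinearMap.ext_on_range (v := fun m : s => (m : M))
  · rw [Subtype.range_coe_subtype]
    exact hs
  · rintro ⟨m, hm⟩
    have := hj _ (Finset.mem_image_of_mem _ hm)
    rw [map_sub, sub_eq_zero] at this
    exact this

/-- A map from a finitely presented module to the colimit factors through a stage. -/
theorem exists_linearMap (h : PathSystem R N L γ Tr) (M : Type*) [AddCommGroup M] [Module R M]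
    [Module.FinitePresentation R M] (ρ : M →ₗ[R] L) (i₀ : ι) :
    ∃ j τ₀, Tr i₀ j τ₀ ∧ ∃ ρ' : M →ₗ[R] N j, γ j ∘ₗ ρ' = ρ := by
  classical
  obtain ⟨n, m, f, g, hf, hfg⟩ := Module.FinitePresentation.exists_fin' R M
  obtain ⟨k, τ₁, hτ₁, hk⟩ := h.lift_finset
    (Finset.univ.image fun l : Fin n => ρ (f (Pi.single l 1))) i₀
  choose! y hy using hk
  have hy' : ∀ l : Fin n, γ k (y (ρ (f (Pi.single l 1)))) = ρ (f (Pi.single l 1)) := fun l =>
    hy _ (Finset.mem_image_of_mem _ (Finset.mem_univ l))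
  let ρ₀ : (Fin n → R) →ₗ[R] N k :=
    Fintype.linearCombination R fun l : Fin n => y (ρ (f (Pi.single l 1)))
  have hρ₀ : γ k ∘ₗ ρ₀ = ρ ∘ₗ f := by
    apply LinearMap.pi_ext'
    intro l
    ext
    simp [ρ₀, Fintype.linearCombination_apply, hy']
  obtain ⟨j, τ₂, hτ₂, hj⟩ := h.kill_finset k
    (Finset.univ.image fun a : Fin m => ρ₀ (g (Pi.single a 1))) (by
    intro z hz
    obtain ⟨a, -, rfl⟩ := Finset.mem_image.mp hz
    have h1 := congr($hρ₀ (g (Pi.single a 1)))
    simp only [LinearMap.comp_apply] at h1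
    rw [h1, hfg.apply_apply_eq_zero, map_zero])
  have hzero : (τ₂ ∘ₗ ρ₀) ∘ₗ g = 0 := by
    apply LinearMap.pi_ext'
    intro a
    ext
    simpa using hj _ (Finset.mem_image_of_mem _ (Finset.mem_univ a))
  have hker : LinearMap.ker f ≤ LinearMap.ker (τ₂ ∘ₗ ρ₀) := by
    intro x hx
    obtain ⟨z, rfl⟩ := (hfg x).mp hx
    exact congr($hzero z)
  let e := LinearMap.quotKerEquivOfSurjective f hf
  refine ⟨j, τ₂ ∘ₗ τ₁, h.trans hτ₁ hτ₂,
    (Submodule.liftQ (LinearMap.ker f) (τ₂ ∘ₗ ρ₀) hker) ∘ₗ e.symm.toLinearMap, ?_⟩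
  ext m'
  obtain ⟨x, rfl⟩ := hf m'
  have he : e.symm (f x) = Submodule.Quotient.mk x := by
    rw [LinearEquiv.symm_apply_eq]
    rfl
  simp only [LinearMap.comp_apply, LinearEquiv.coe_coe, he, Submodule.liftQ_apply]
  rw [h.comp_eq hτ₂]
  exact congr($hρ₀ x)

end PathSystem

section Projective

variable {ι : Type*} {R : Type*} [CommRing R] {T : ι → Type*}
  [∀ i, CommRing (T i)] [∀ i, Algebra R (T i)] {L : Type*} [CommRing L] [Algebra R L]
  {γ : ∀ i, T i →ₐ[R] L} {Tr : ∀ i j, (T i →ₐ[R] T j) → Prop}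

lemma lTensor_rTensor_comm {S₁ S₂ : Type*} [CommRing S₁] [CommRing S₂] [Algebra R S₁]
    [Algebra R S₂] (χ : S₁ →ₐ[R] S₂) {F M : Type*} [AddCommGroup F] [Module R F]
    [AddCommGroup M] [Module R M] (f : F →ₗ[R] M) (z : S₁ ⊗[R] F) :
    f.lTensor S₂ (χ.toLinearMap.rTensor F z) = χ.toLinearMap.rTensor M (f.lTensor S₁ z) := by
  induction z using TensorProduct.induction_on with
  | zero => simp
  | tmul t c => simp
  | add x y hx hy => rw [map_add, map_add, map_add, map_add, hx, hy]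

/-- A section of the base change of `f : F → M` built from an `R`-linear `ρ : M → S ⊗ F` with
`(S ⊗ f) ∘ ρ = 1 ⊗ -` shows that `S ⊗ M` is projective when `F` is free. -/
lemma projective_of_section {S : Type*} [CommRing S] [Algebra R S] {F M : Type*}
    [AddCommGroup F] [Module R F] [Module.Free R F] [AddCommGroup M] [Module R M]
    (f : F →ₗ[R] M) (ρ : M →ₗ[R] S ⊗[R] F) (hρ : ∀ x, f.lTensor S (ρ x) = 1 ⊗ₜ x) :
    Module.Projective S (S ⊗[R] M) := by
  refine Module.Projective.of_split (ρ.liftBaseChange S) (f.baseChange S) ?_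
  apply TensorProduct.AlgebraTensorModule.ext
  intro a x
  simp only [LinearMap.comp_apply, LinearMap.liftBaseChange_tmul, map_smul, LinearMap.id_apply]
  rw [LinearMap.baseChange_eq_ltensor, hρ, TensorProduct.smul_tmul', smul_eq_mul, mul_one]

/-- **Descent of projectivity** of a finitely presented module along a path system of algebras. -/
theorem exists_projective (M : Type*) [AddCommGroup M] [Module R M]
    [Module.FinitePresentation R M] (h : AlgPathSystem R T L γ Tr)
    (hL : Module.Projective L (L ⊗[R] M)) (i₀ : ι) :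
    ∃ i φ₀, Tr i₀ i φ₀ ∧ ∀ j φ, Tr i j φ → Module.Projective (T j) (T j ⊗[R] M) := by
  classical
  obtain ⟨n, f, hf⟩ := Module.Finite.exists_fin' R M
  have hsurj : Function.Surjective (f.baseChange L) := by
    rw [LinearMap.baseChange_eq_ltensor]
    exact LinearMap.lTensor_surjective L hf
  obtain ⟨sL, hsL⟩ := Module.projective_lifting_property (f.baseChange L) LinearMap.id hsurj
  let ρ : M →ₗ[R] L ⊗[R] (Fin n → R) := (sL.restrictScalars R) ∘ₗ (TensorProduct.mk R L M 1)
  obtain ⟨k, _, ⟨_, ⟨φ₁, hφ₁, rfl⟩, rfl⟩, ρk, hρk⟩ :=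
    exists_linearMap (h.toPathSystem.rTensor (Fin n → R)) M ρ i₀
  let u : M →ₗ[R] T k ⊗[R] M := (f.lTensor (T k)) ∘ₗ ρk
  let u' : M →ₗ[R] T k ⊗[R] M := TensorProduct.mk R (T k) M 1
  have huu : ((γ k).toLinearMap.rTensor M) ∘ₗ u = ((γ k).toLinearMap.rTensor M) ∘ₗ u' := by
    ext x
    simp only [u, u', LinearMap.comp_apply]
    rw [← lTensor_rTensor_comm]
    have h1 : (γ k).toLinearMap.rTensor (Fin n → R) (ρk x) = ρ x := congr($hρk x)
    rw [h1]
    have h2 : f.baseChange L (sL (1 ⊗ₜ x)) = 1 ⊗ₜ x := congr($hsL (1 ⊗ₜ x))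
    rw [LinearMap.baseChange_eq_ltensor] at h2
    simp only [ρ, LinearMap.comp_apply, LinearMap.restrictScalars_apply, TensorProduct.mk_apply]
    rw [h2]
    simp
  obtain ⟨i, _, ⟨_, ⟨φ₂, hφ₂, rfl⟩, rfl⟩, hi⟩ :=
    exists_linearMap_eq (h.toPathSystem.rTensor M) M k u u' huu
  refine ⟨i, φ₂.comp φ₁, h.trans hφ₁ hφ₂, fun j ψ hψ => ?_⟩
  refine projective_of_section f
    (((ψ.comp φ₂).toLinearMap.rTensor (Fin n → R)) ∘ₗ ρk) fun x => ?_
  rw [LinearMap.comp_apply, lTensor_rTensor_comm]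
  have h3 : φ₂.toLinearMap.rTensor M (u x) = φ₂.toLinearMap.rTensor M (u' x) := congr($hi x)
  have h4 : (ψ.comp φ₂).toLinearMap.rTensor M (f.lTensor (T k) (ρk x)) =
      ψ.toLinearMap.rTensor M (φ₂.toLinearMap.rTensor M (u x)) := by
    rw [← LinearMap.rTensor_comp_apply]
    rfl
  rw [h4, h3]
  simp [u']

end Projective

end Groth.Agent.H46.LimProj
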