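import Groth.Agent.H46.LimSmooth
import Groth.Agent.H46.LimProj
import Groth.Prelude.Def_Mor2

/-!
# Descent of finite locally free morphisms (of given degree) through cofiltered limits (helper46)
-/

set_option autoImplicit false
universe u

open CategoryTheory Limits AlgebraicGeometry TensorProduct

namespace Groth.Agent.H46.LimSmooth

open Groth.Agent.Lib.Helper13.LimDescent Groth.Agent.Lib.Helper48

section Flat

variable {J : Type u} [SmallCategory J] (E : J ⥤ Scheme.{u}) (cE : Cone E) (j₀ : J)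
  {X₀ : Scheme.{u}} (f₀ : X₀ ⟶ E.obj j₀)

attribute [local instance] algT algL

set_option backward.isDefEq.respectTransparency false in
/-- **Descent of flatness for finite morphisms of finite presentation**, all-affine case. -/
theorem exists_flat_pullback_fst_of_isAffine [IsCofiltered J] (hcE : IsLimit cE)
    [∀ j, IsAffine (E.obj j)] [IsAffine X₀] [IsFinite f₀] [LocallyOfFinitePresentation f₀]
    (h : Flat (pullback.fst (cE.π.app j₀) f₀)) :
    ∃ k : Over j₀, Flat (pullback.fst (E.map k.hom) f₀) := by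
  have hpt : IsAffine cE.pt := Scheme.isAffine_of_isLimit cE hcE
  have hpt' : IsAffine (((Functor.const J).obj cE.pt).obj j₀) := hpt
  let _ : Algebra Γ(E.obj j₀, ⊤) Γ(X₀, ⊤) := f₀.appTop.hom.toAlgebra
  have hfp : Algebra.FinitePresentation Γ(E.obj j₀, ⊤) Γ(X₀, ⊤) :=
    RingHom.finitePresentation_algebraMap.mp
      ((HasRingHomProperty.iff_of_isAffine (P := @LocallyOfFinitePresentation)).mp ‹_›)
  have hfin : Module.Finite Γ(E.obj j₀, ⊤) Γ(X₀, ⊤) :=
    RingHom.finite_algebraMap.mp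
      ((HasAffineProperty.iff_of_isAffine (P := @IsFinite)).mp ‹IsFinite f₀›).2
  have hmfp : Module.FinitePresentation Γ(E.obj j₀, ⊤) Γ(X₀, ⊤) :=
    Module.FinitePresentation.of_finite_of_finitePresentation _ _
  have hL : Module.Flat Γ(cE.pt, ⊤) (Γ(cE.pt, ⊤) ⊗[Γ(E.obj j₀, ⊤)] Γ(X₀, ⊤)) :=
    RingHom.flat_algebraMap_iff.mp
      ((prop_pullback_fst_iff @Flat @RingHom.Flat (cE.π.app j₀) f₀).mp h)
  have hLp : Module.Projective Γ(cE.pt, ⊤) (Γ(cE.pt, ⊤) ⊗[Γ(E.obj j₀, ⊤)] Γ(X₀, ⊤)) :=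
    Module.Flat.projective_of_finitePresentation
  obtain ⟨i, φ₀, hφ₀, hi⟩ := Groth.Agent.H46.LimProj.exists_projective Γ(X₀, ⊤)
    (algPathSystem E cE j₀ hcE) hLp (top j₀)
  refine ⟨i, ?_⟩
  have h1 := hi i (trMap E j₀ (𝟙 i)) (tr_trMap E j₀ _)
  have h2 : Module.Flat Γ(E.obj i.left, ⊤) (Γ(E.obj i.left, ⊤) ⊗[Γ(E.obj j₀, ⊤)] Γ(X₀, ⊤)) :=
    inferInstance
  exact (prop_pullback_fst_iff @Flat @RingHom.Flat (E.map i.hom) f₀).mpr
    (RingHom.flat_algebraMap_iff.mpr h2)

variable [hE : ∀ {i j : J} (f : i ⟶ j), IsAffineHom (E.map f)]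

set_option backward.isDefEq.respectTransparency false in
/-- **Descent of flatness for finite morphisms of finite presentation**. -/
theorem exists_flat_pullback_fst_of_isFinite [IsCofiltered J] (hcE : IsLimit cE)
    [CompactSpace (E.obj j₀)] [IsFinite f₀] [LocallyOfFinitePresentation f₀]
    (h : Flat (pullback.fst (cE.π.app j₀) f₀)) :
    ∃ k : Over j₀, Flat (pullback.fst (E.map k.hom) f₀) := by
  refine localize E cE j₀ f₀ @Flat ?_ h
  intro V v _ _ hP
  have hP' := (prop_fst_fst_symm @Flat (cE.π.app j₀) v f₀).mp hP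
  refine Exists.imp (fun k hk => (prop_fst_fst_symm @Flat (E.map k.hom) v f₀).mpr hk)
    (relStep E cE j₀ (pullback.fst v f₀) v @Flat ?_ hP')
  intro f₀' hf₀' hQ
  have : LocallyOfFinitePresentation f₀' := by
    rw [hf₀']
    exact (liftTop_prop_iff E j₀ _ _ @LocallyOfFinitePresentation).mpr inferInstance
  have : IsFinite f₀' := by
    rw [hf₀']
    exact (liftTop_prop_iff E j₀ _ _ @IsFinite).mpr inferInstance
  have : IsAffine (pullback v f₀) := isAffine_of_isAffineHom (pullback.fst v f₀)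
  have : ∀ k, IsAffine ((sys E j₀ v).obj k) := fun k => by
    dsimp only [sys_obj]
    exact isAffine_of_isAffineHom (pullback.snd (E.map k.hom) v)
  exact exists_flat_pullback_fst_of_isAffine (sys E j₀ v) (sysCone E cE j₀ v) (top j₀)
    f₀' (isLimitSysCone E cE j₀ v hcE) hQ

set_option backward.isDefEq.respectTransparency false in
/-- **Descent of the degree** of a finite flat morphism of finite presentation. -/
theorem exists_finrank_eq [IsCofiltered J] (hcE : IsLimit cE)
    [CompactSpace (E.obj j₀)] [QuasiSeparatedSpace (E.obj j₀)] [IsFinite f₀] [Flat f₀]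
    [LocallyOfFinitePresentation f₀] (d : ℕ)
    (h : ∀ s, (pullback.fst (cE.π.app j₀) f₀).finrank s = d) :
    ∃ k : Over j₀, ∀ y, (pullback.fst (E.map k.hom) f₀).finrank y = d := by
  have hlc := Scheme.Hom.isLocallyConstant_finrank f₀
  have hclopen : IsClopen {y : E.obj j₀ | f₀.finrank y ≠ d} := by
    have := (hlc.isClopen_fiber d).compl
    exact this
  have hC : Topology.IsConstructible {y : E.obj j₀ | f₀.finrank y ≠ d} :=
    hclopen.1.isCompact.isConstructible hclopen.2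
  have h0 : (cE.π.app j₀) ⁻¹' {y : E.obj j₀ | f₀.finrank y ≠ d} = ∅ := by
    ext s
    simp only [Set.mem_preimage, Set.mem_ofPred_eq, Set.mem_empty_iff_false, iff_false, not_not]
    rw [← Scheme.Hom.finrank_pullback_fst f₀ (cE.π.app j₀) s]
    exact h s
  obtain ⟨k, hk⟩ := exists_preimage_eq_empty E cE j₀ hcE hC h0
  refine ⟨k, fun y => ?_⟩
  rw [Scheme.Hom.finrank_pullback_fst f₀ (E.map k.hom) y]
  by_contra hne
  have : y ∈ (E.map k.hom) ⁻¹' {y : E.obj j₀ | f₀.finrank y ≠ d} := hne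
  rw [hk] at this
  exact this

end Flat

section FinLocFree

/-- Finite locally free of degree `d`, as a morphism property. -/
def finLocFreeOfDeg (d : ℕ) : MorphismProperty Scheme.{u} :=
  fun _ _ f => Mor2.IsFinLocFreeOfDeg d f

instance (d : ℕ) : (finLocFreeOfDeg.{u} d).RespectsIso := by
  apply MorphismProperty.RespectsIso.of_respects_arrow_iso
  rintro f g e ⟨⟨h1, h2, h3⟩, h4⟩
  have h1' : IsFinite g.hom := (MorphismProperty.arrow_iso_iff @IsFinite e).mp h1
  have h2' : Flat g.hom := (MorphismProperty.arrow_iso_iff @Flat e).mp h2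
  have h3' : LocallyOfFinitePresentation g.hom :=
    (MorphismProperty.arrow_iso_iff @LocallyOfFinitePresentation e).mp h3
  refine ⟨⟨h1', h2', h3'⟩, fun y' => ?_⟩
  have hsq : IsPullback e.hom.left f.hom g.hom e.hom.right :=
    IsPullback.of_horiz_isIso ⟨e.hom.w⟩
  have h5 := Scheme.Hom.finrank_of_isPullback e.hom.left f.hom g.hom e.hom.right hsq
    (e.inv.right y')
  have h6 : e.hom.right (e.inv.right y') = y' := by
    rw [← Scheme.Hom.comp_apply, ← Arrow.comp_right, e.inv_hom_id]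
    rfl
  rw [h6] at h5
  rw [← h5]
  exact h4 _

variable {J : Type u} [SmallCategory J] (E : J ⥤ Scheme.{u}) (cE : Cone E) (j₀ : J)
  {X₀ : Scheme.{u}} (f₀ : X₀ ⟶ E.obj j₀)
variable [hE : ∀ {i j : J} (f : i ⟶ j), IsAffineHom (E.map f)]

set_option backward.isDefEq.respectTransparency false in
/-- **Descent of finite locally free morphisms of degree `d`**. -/
theorem exists_finLocFreeOfDeg_pullback_fst [IsCofiltered J] (hcE : IsLimit cE)
    [CompactSpace (E.obj j₀)] [QuasiSeparatedSpace (E.obj j₀)] [CompactSpace X₀]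
    [QuasiSeparatedSpace X₀] [LocallyOfFinitePresentation f₀] (d : ℕ)
    (h : finLocFreeOfDeg d (pullback.fst (cE.π.app j₀) f₀)) :
    ∃ k : Over j₀, finLocFreeOfDeg d (pullback.fst (E.map k.hom) f₀) := by
  have hqc : QuasiCompact f₀ := inferInstance
  obtain ⟨k₁, hk₁⟩ := exists_isFinite_pullback_fst E cE j₀ hcE f₀ h.1.1
  have hc₁ : CompactSpace (E.obj k₁.left) :=
    QuasiCompact.compactSpace_of_compactSpace (E.map k₁.hom)
  have hq₁ : QuasiSeparatedSpace (E.obj k₁.left) :=
    quasiSeparatedSpace_of_quasiSeparated (E.map k₁.hom)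
  have hflat₁ : Flat (pullback.fst (cE.π.app k₁.left) (pullback.fst (E.map k₁.hom) f₀)) :=
    (rebase_limit_iff E cE j₀ f₀ @Flat k₁).mpr h.1.2.1
  obtain ⟨k₂, hk₂⟩ := exists_flat_pullback_fst_of_isFinite E cE k₁.left
    (pullback.fst (E.map k₁.hom) f₀) hcE hflat₁
  have hc₂ : CompactSpace (E.obj k₂.left) :=
    QuasiCompact.compactSpace_of_compactSpace (E.map k₂.hom)
  have hq₂ : QuasiSeparatedSpace (E.obj k₂.left) :=
    quasiSeparatedSpace_of_quasiSeparated (E.map k₂.hom)
  have hdeg₂ : ∀ s, (pullback.fst (cE.π.app k₂.left)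
      (pullback.fst (E.map k₂.hom) (pullback.fst (E.map k₁.hom) f₀))).finrank s = d :=
    ((rebase_limit_iff E cE k₁.left (pullback.fst (E.map k₁.hom) f₀) (finLocFreeOfDeg d) k₂).mpr
      ((rebase_limit_iff E cE j₀ f₀ (finLocFreeOfDeg d) k₁).mpr h)).2
  obtain ⟨k₃, hk₃⟩ := exists_finrank_eq E cE k₂.left
    (pullback.fst (E.map k₂.hom) (pullback.fst (E.map k₁.hom) f₀)) hcE d hdeg₂
  have hQ₃ : finLocFreeOfDeg d (pullback.fst (E.map k₃.hom)
      (pullback.fst (E.map k₂.hom) (pullback.fst (E.map k₁.hom) f₀))) :=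
    ⟨⟨inferInstance, inferInstance, inferInstance⟩, hk₃⟩
  have hQ₂ := (rebase_stage_iff E k₁.left (pullback.fst (E.map k₁.hom) f₀)
    (finLocFreeOfDeg d) k₂ k₃).mp hQ₃
  have hQ₁ := (rebase_stage_iff E j₀ f₀ (finLocFreeOfDeg d) k₁
    (Over.mk (k₃.hom ≫ k₂.hom))).mp hQ₂
  exact ⟨Over.mk ((k₃.hom ≫ k₂.hom) ≫ k₁.hom), hQ₁⟩

end FinLocFree

end Groth.Agent.H46.LimSmooth
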