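import Mathlib

set_option autoImplicit false
universe u

open CategoryTheory CategoryTheory.Limits AlgebraicGeometry IsLocalRing

namespace Groth.Agent.H46.LimOpenImm

/-- If `f : X ⟶ Y` is a monomorphism and `Spec 𝒪_{Y, f x} ⟶ Y` lifts to `X`, then the stalk map of `f`
at `x` is an isomorphism. -/
theorem isIso_stalkMap_of_lift {X Y : Scheme.{u}} (f : X ⟶ Y) [Mono f] (x : X)
    (t : Spec (Y.presheaf.stalk (f x)) ⟶ X) (ht : t ≫ f = Y.fromSpecStalk (f x)) :
    IsIso (f.stalkMap x) := by
  have hinj : Function.Injective f := f.injective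
  -- (1)
  have h1 : Spec.map (f.stalkMap x) ≫ t = X.fromSpecStalk x := by
    rw [← cancel_mono f, Category.assoc, ht, Scheme.SpecMap_stalkMap_fromSpecStalk]
  -- (2)
  have h2 : t (closedPoint _) = x := by
    apply hinj
    rw [← Scheme.Hom.comp_apply, ht, Scheme.fromSpecStalk_closedPoint]
  -- (3)
  let ψ : X.presheaf.stalk x ⟶ Y.presheaf.stalk (f x) :=
    X.presheaf.stalkSpecializes (specializes_of_eq h2) ≫ Scheme.stalkClosedPointTo t
  have h3 : Spec.map ψ ≫ X.fromSpecStalk x = t := by
    rw [Spec.map_comp, Category.assoc, Scheme.SpecMap_stalkSpecializes_fromSpecStalk,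
      Scheme.Spec_stalkClosedPointTo_fromSpecStalk]
  -- (4)
  have h4 : ψ ≫ f.stalkMap x = 𝟙 _ := by
    apply Spec.map_injective
    rw [Spec.map_comp, Spec.map_id, ← cancel_mono (X.fromSpecStalk x), Category.assoc, h3, h1,
      Category.id_comp]
  -- (5)
  have h5 : f.stalkMap x ≫ ψ = 𝟙 _ := by
    apply Spec.map_injective
    rw [Spec.map_comp, Spec.map_id, ← cancel_mono (Y.fromSpecStalk (f x)), Category.assoc,
      Scheme.SpecMap_stalkMap_fromSpecStalk, ← Category.assoc, h3, ht, Category.id_comp]
  exact ⟨ψ, h5, h4⟩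

variable {I : Type u} [SmallCategory I] [IsCofiltered I]
    (D : I ⥤ Scheme.{u}) (c : Limits.Cone D) (hc : Limits.IsLimit c)
    (hoi : ∀ (i j : I) (φ : i ⟶ j), IsOpenImmersion (D.map φ))

include hc hoi in
theorem mono_π_app (i : I) : Mono (c.π.app i) := by
  constructor
  intro T a b hab
  apply hc.hom_ext
  intro j
  have : Mono (D.map (IsCofiltered.minToLeft i j)) := by
    have := hoi _ _ (IsCofiltered.minToLeft i j)
    infer_instance
  have h1 : a ≫ c.π.app (IsCofiltered.min i j) = b ≫ c.π.app (IsCofiltered.min i j) := by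
    rw [← cancel_mono (D.map (IsCofiltered.minToLeft i j)), Category.assoc, Category.assoc, c.w, hab]
  rw [← c.w (IsCofiltered.minToRight i j), ← Category.assoc, h1, Category.assoc]

include hc hoi in
/-- the section `Spec 𝒪_{S_i, π_i s} ⟶ S` -/
theorem exists_lift (i : I) (s : c.pt) :
    ∃ t : Spec ((D.obj i).presheaf.stalk (c.π.app i s)) ⟶ c.pt,
      t ≫ c.π.app i = (D.obj i).fromSpecStalk (c.π.app i s) := by
  have hc' : IsLimit (c.whisker (Over.forget i)) :=
    (Functor.Initial.isLimitWhiskerEquiv (Over.forget i) c).symm hc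
  have hrange : ∀ j : Over i, Set.range ((D.obj i).fromSpecStalk (c.π.app i s)) ⊆
      Set.range (D.map j.hom) := by
    intro j
    rw [Scheme.range_fromSpecStalk]
    intro y hy
    have hx : c.π.app i s ∈ Set.range (D.map j.hom) := by
      refine ⟨c.π.app j.left s, ?_⟩
      rw [← Scheme.Hom.comp_apply, c.w]
    have hopen : IsOpen (Set.range (D.map j.hom)) := by
      have := hoi _ _ j.hom
      exact (D.map j.hom).isOpenEmbedding.isOpen_range
    exact hy.mem_open hopen hx
  have hoi' : ∀ j : Over i, IsOpenImmersion (D.map j.hom) := fun j => hoi _ _ j.hom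
  let cone : Cone (Over.forget i ⋙ D) :=
    { pt := Spec ((D.obj i).presheaf.stalk (c.π.app i s))
      π :=
        { app := fun j => IsOpenImmersion.lift (D.map j.hom) ((D.obj i).fromSpecStalk (c.π.app i s))
            (hrange j)
          naturality := by
            intro j j' g
            dsimp
            rw [Category.id_comp]
            have : Mono (D.map j'.hom) := inferInstance
            rw [← cancel_mono (D.map j'.hom), Category.assoc, ← D.map_comp, Over.w g,
              IsOpenImmersion.lift_fac, IsOpenImmersion.lift_fac] } }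
  refine ⟨hc'.lift cone, ?_⟩
  have h1 := hc'.fac cone (Over.mk (𝟙 i))
  have h2 : cone.π.app (Over.mk (𝟙 i)) = (D.obj i).fromSpecStalk (c.π.app i s) := by
    have h := IsOpenImmersion.lift_fac (D.map (Over.mk (𝟙 i)).hom)
      ((D.obj i).fromSpecStalk (c.π.app i s)) (hrange _)
    have e : D.map (Over.mk (𝟙 i)).hom = 𝟙 _ := D.map_id i
    calc cone.π.app (Over.mk (𝟙 i)) = cone.π.app (Over.mk (𝟙 i)) ≫ 𝟙 _ := (Category.comp_id _).symm
      _ = cone.π.app (Over.mk (𝟙 i)) ≫ D.map (Over.mk (𝟙 i)).hom :=
          congrArg (fun z => cone.π.app (Over.mk (𝟙 i)) ≫ z) e.symm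
      _ = (D.obj i).fromSpecStalk (c.π.app i s) := h
  rw [← h2, ← h1]
  rfl

include hc hoi in
theorem isIso_stalkMap_π_app (i : I) (s : c.pt) : IsIso ((c.π.app i).stalkMap s) := by
  have := mono_π_app D c hc hoi i
  obtain ⟨t, ht⟩ := exists_lift D c hc hoi i s
  exact isIso_stalkMap_of_lift (c.π.app i) s t ht

include hc hoi in
theorem isEmbedding_π_app [∀ (i j : I) (f : i ⟶ j), IsAffineHom (D.map f)] (i : I) :
    Topology.IsEmbedding ⇑(c.π.app i) := by
  have := mono_π_app D c hc hoi i
  refine ⟨⟨?_⟩, (c.π.app i).injective⟩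
  apply le_antisymm
  · exact (c.π.app i).continuous.le_induced
  · intro U hU
    show @IsOpen _ (TopologicalSpace.induced ⇑(c.π.app i) inferInstance) U
    rw [@isOpen_iff_forall_mem_open]
    intro x hxU
    have inst : ∀ {i j : I} (f : i ⟶ j), IsAffineHom (D.map f) := fun f => inferInstance
    have hB := isBasis_preimage_isAffineOpen D c hc
    obtain ⟨_, ⟨j, V, hV, rfl⟩, hxV, hVU⟩ :=
      TopologicalSpace.Opens.isBasis_iff_nbhd.mp hB (U := ⟨U, hU⟩) hxU
    let k := IsCofiltered.min i j
    let f : k ⟶ i := IsCofiltered.minToLeft i j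
    let g : k ⟶ j := IsCofiltered.minToRight i j
    have hf := hoi _ _ f
    refine ⟨((c.π.app j ⁻¹ᵁ V : c.pt.Opens) : Set c.pt), hVU, ?_, hxV⟩
    rw [isOpen_induced_iff]
    refine ⟨D.map f '' (D.map g ⁻¹' (V : Set (D.obj j))), ?_, ?_⟩
    · exact (D.map f).isOpenEmbedding.isOpenMap _ (V.2.preimage (D.map g).continuous)
    · ext z
      simp only [Set.mem_preimage, Set.mem_image, SetLike.mem_coe]
      have h1 : c.π.app i z = D.map f (c.π.app k z) := by
        rw [← Scheme.Hom.comp_apply, c.w]
      have h2 : c.π.app j z = D.map g (c.π.app k z) := by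
        rw [← Scheme.Hom.comp_apply, c.w]
      constructor
      · rintro ⟨w, hw, hwz⟩
        rw [h1] at hwz
        have := (D.map f).isOpenEmbedding.injective hwz
        subst this
        show c.π.app j z ∈ V
        rw [h2]
        exact hw
      · intro hz
        have hz' : c.π.app j z ∈ V := hz
        exact ⟨c.π.app k z, by rw [← h2]; exact hz', h1.symm⟩

end Groth.Agent.H46.LimOpenImm
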