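import Groth.Agent.H46.LimOpenImm
import Mathlib

set_option autoImplicit false
universe u

open CategoryTheory CategoryTheory.Limits AlgebraicGeometry IsLocalRing

namespace Groth.Agent.H46.LimOpenImm

variable {I : Type u} [SmallCategory I] [IsCofiltered I]
    (D : I ⥤ Scheme.{u}) (c : Limits.Cone D) (hc : Limits.IsLimit c)
    (hoi : ∀ (i j : I) (φ : i ⟶ j), IsOpenImmersion (D.map φ))

include hc hoi in
/-- a point lying in all the opens `S_j ⊆ S_i` lifts to the limit, together with its local scheme -/
theorem exists_lift_of_mem_range (i : I) (x : D.obj i)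
    (hx : ∀ j : Over i, x ∈ Set.range (D.map j.hom)) :
    ∃ t : Spec ((D.obj i).presheaf.stalk x) ⟶ c.pt,
      t ≫ c.π.app i = (D.obj i).fromSpecStalk x := by
  have hc' : IsLimit (c.whisker (Over.forget i)) :=
    (Functor.Initial.isLimitWhiskerEquiv (Over.forget i) c).symm hc
  have hrange : ∀ j : Over i, Set.range ((D.obj i).fromSpecStalk x) ⊆
      Set.range (D.map j.hom) := by
    intro j
    rw [Scheme.range_fromSpecStalk]
    intro y hy
    have hopen : IsOpen (Set.range (D.map j.hom)) := by
      have := hoi _ _ j.hom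
      exact (D.map j.hom).isOpenEmbedding.isOpen_range
    exact hy.mem_open hopen (hx j)
  have hoi' : ∀ j : Over i, IsOpenImmersion (D.map j.hom) := fun j => hoi _ _ j.hom
  let cone : Cone (Over.forget i ⋙ D) :=
    { pt := Spec ((D.obj i).presheaf.stalk x)
      π :=
        { app := fun j => IsOpenImmersion.lift (D.map j.hom) ((D.obj i).fromSpecStalk x)
            (hrange j)
          naturality := by
            intro j j' g
            dsimp
            rw [Category.id_comp]
            have : Mono (D.map j'.hom) := inferInstance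
            rw [← cancel_mono (D.map j'.hom), Category.assoc, ← D.map_comp, Over.w g,
              IsOpenImmersion.lift_fac, IsOpenImmersion.lift_fac] } }
  refine ⟨hc'.lift cone, ?_⟩
  have h1 := hc'.fac cone (Over.mk (𝟙 i))
  have h2 : cone.π.app (Over.mk (𝟙 i)) = (D.obj i).fromSpecStalk x := by
    have h := IsOpenImmersion.lift_fac (D.map (Over.mk (𝟙 i)).hom)
      ((D.obj i).fromSpecStalk x) (hrange _)
    have e : D.map (Over.mk (𝟙 i)).hom = 𝟙 _ := D.map_id i
    calc cone.π.app (Over.mk (𝟙 i)) = cone.π.app (Over.mk (𝟙 i)) ≫ 𝟙 _ := (Category.comp_id _).symm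
      _ = cone.π.app (Over.mk (𝟙 i)) ≫ D.map (Over.mk (𝟙 i)).hom :=
          congrArg (fun z => cone.π.app (Over.mk (𝟙 i)) ≫ z) e.symm
      _ = (D.obj i).fromSpecStalk x := h
  rw [← h2, ← h1]
  rfl

include hc hoi in
theorem exists_π_app_eq (i : I) (x : D.obj i)
    (hx : ∀ j : Over i, x ∈ Set.range (D.map j.hom)) : ∃ s : c.pt, c.π.app i s = x := by
  obtain ⟨t, ht⟩ := exists_lift_of_mem_range D c hc hoi i x hx
  refine ⟨t (closedPoint _), ?_⟩
  rw [← Scheme.Hom.comp_apply, ht, Scheme.fromSpecStalk_closedPoint]

include hc hoi in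
/-- the image of the limit in `S_i` is stable under generization -/
theorem range_π_app_stableUnderGeneralization (i : I) (s : c.pt) (y : D.obj i)
    (hy : y ⤳ c.π.app i s) : ∃ s' : c.pt, c.π.app i s' = y := by
  apply exists_π_app_eq D c hc hoi i y
  intro j
  have hopen : IsOpen (Set.range (D.map j.hom)) := by
    have := hoi _ _ j.hom
    exact (D.map j.hom).isOpenEmbedding.isOpen_range
  refine hy.mem_open hopen ⟨c.π.app j.left s, ?_⟩
  rw [← Scheme.Hom.comp_apply, c.w]

end Groth.Agent.H46.LimOpenImm
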