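import Groth.Agent.H46.LimSmooth2

/-!
# Descent of "smooth / étale on a neighbourhood of a point" through cofiltered limits (helper46)
-/

set_option autoImplicit false
universe u

open CategoryTheory Limits AlgebraicGeometry TensorProduct

namespace Groth.Agent.H46.LimSmooth

open Groth.Agent.Lib.Helper13.LimDescent Groth.Agent.Lib.Helper48

section NhdStep

/-- The restriction of a base change `X_B → B` to the preimage of an open `V₁ ⊆ X_{S'}` is the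
base change of the restriction `V₁ → S'`. -/
lemma prop_restrict_iff (P : MorphismProperty Scheme.{u}) [P.RespectsIso]
    {B S' S X₀ : Scheme.{u}} (b : B ⟶ S') (t : S' ⟶ S) (bt : B ⟶ S) (hbt : b ≫ t = bt)
    (f₀ : X₀ ⟶ S) (V₁ : (pullback t f₀).Opens) (τ : pullback bt f₀ ⟶ pullback t f₀)
    (hτ₁ : τ ≫ pullback.fst t f₀ = pullback.fst bt f₀ ≫ b)
    (hτ₂ : τ ≫ pullback.snd t f₀ = pullback.snd bt f₀) :
    P (pullback.fst b (V₁.ι ≫ pullback.fst t f₀)) ↔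
      P ((τ ⁻¹ᵁ V₁).ι ≫ pullback.fst bt f₀) := by
  subst hbt
  have hbot : IsPullback τ (pullback.fst (b ≫ t) f₀) (pullback.fst t f₀) b := by
    refine IsPullback.of_right ?_ hτ₁ (IsPullback.of_hasPullback t f₀).flip
    rw [hτ₂]
    exact (IsPullback.of_hasPullback (b ≫ t) f₀).flip
  have htop := isPullback_morphismRestrict τ V₁
  have hsq := htop.paste_vert hbot
  rw [← hsq.flip.isoPullback_hom_fst, P.cancel_left_of_respectsIso]

variable {J : Type u} [SmallCategory J] (E : J ⥤ Scheme.{u}) (cE : Cone E) (j₀ : J)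
  {X₀ : Scheme.{u}} (f₀ : X₀ ⟶ E.obj j₀)
variable [hE : ∀ {i j : J} (f : i ⟶ j), IsAffineHom (E.map f)]

set_option backward.isDefEq.respectTransparency false in
/-- One-step descent of "`P` on a neighbourhood of a point". -/
theorem nhd_step (P : MorphismProperty Scheme.{u}) [P.IsStableUnderBaseChange]
    [IsZariskiLocalAtSource P] [IsCofiltered J]
    (Hstep : ∀ (j₀' : J) {X₀' : Scheme.{u}} (f₀' : X₀' ⟶ E.obj j₀') [CompactSpace X₀']
      [LocallyOfFinitePresentation f₀'], P (pullback.fst (cE.π.app j₀') f₀') →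
      ∃ k : Over j₀', P (pullback.fst (E.map k.hom) f₀'))
    (hcE : IsLimit cE) [LocallyOfFinitePresentation f₀]
    (x : ↥(pullback (cE.π.app j₀) f₀)) (U : (pullback (cE.π.app j₀) f₀).Opens) (hxU : x ∈ U)
    (h : P (U.ι ≫ pullback.fst (cE.π.app j₀) f₀)) :
    ∃ (k : Over j₀) (V : (pullback (E.map k.hom) f₀).Opens),
      (sysCone E cE j₀ f₀).π.app k x ∈ V ∧ P (V.ι ≫ pullback.fst (E.map k.hom) f₀) := by
  obtain ⟨_, ⟨k₁, V₁, hV₁, rfl⟩, hxV₁, hV₁U⟩ := TopologicalSpace.Opens.isBasis_iff_nbhd.mp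
    (isBasis_preimage_isAffineOpen (sys E j₀ f₀) (sysCone E cE j₀ f₀)
      (isLimitSysCone E cE j₀ f₀ hcE)) hxU
  have hA : P (pullback.fst (cE.π.app k₁.left) (V₁.ι ≫ pullback.fst (E.map k₁.hom) f₀)) := by
    rw [prop_restrict_iff P (cE.π.app k₁.left) (E.map k₁.hom) (cE.π.app j₀) (cE.w k₁.hom) f₀ V₁
      ((sysCone E cE j₀ f₀).π.app k₁) (sysCone_π_fst E cE j₀ f₀ k₁) (sysCone_π_snd E cE j₀ f₀ k₁)]
    rw [← Scheme.homOfLE_ι _ hV₁U, Category.assoc]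
    exact IsZariskiLocalAtSource.comp h _
  have : IsAffine (V₁ : Scheme.{u}) := hV₁
  obtain ⟨k₂, hk₂⟩ := Hstep k₁.left (V₁.ι ≫ pullback.fst (E.map k₁.hom) f₀) hA
  let k : Over j₀ := Over.mk (k₂.hom ≫ k₁.hom)
  let a : k ⟶ k₁ := Over.homMk k₂.hom
  refine ⟨k, (sys E j₀ f₀).map a ⁻¹ᵁ V₁, ?_, ?_⟩
  · have hw := (sysCone E cE j₀ f₀).w a
    have : ((sysCone E cE j₀ f₀).π.app k ≫ (sys E j₀ f₀).map a) x ∈ V₁ := by
      rw [hw]; exact hxV₁
    exact this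
  · exact (prop_restrict_iff P (E.map k₂.hom) (E.map k₁.hom) (E.map k.hom)
      (E.map_comp _ _).symm f₀ V₁ ((sys E j₀ f₀).map a) (sys_map_fst E j₀ f₀ a)
      (sys_map_snd E j₀ f₀ a)).mp hk₂

end NhdStep

section TwoStepNhd

variable {I : Type u} [SmallCategory I] (D : I ⥤ Scheme.{u}) (c : Cone D) (i₀ : I)
  {X₀ Y₀ : Scheme.{u}} (f₀ : X₀ ⟶ Y₀) (g₀ : Y₀ ⟶ D.obj i₀)
variable [hD : ∀ {i j : I} (f : i ⟶ j), IsAffineHom (D.map f)]

omit hD in
/-- The easy direction: `P` near the image of `x` at a stage implies `P` near `x`. -/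
theorem nhd_of_stage (P : MorphismProperty Scheme.{u}) [P.IsStableUnderBaseChange]
    {X Y : Scheme.{u}} (f : X ⟶ Y) (g : Y ⟶ c.pt) (qY : Y ⟶ Y₀) (qX : X ⟶ X₀)
    (hY : IsPullback qY g g₀ (c.π.app i₀)) (hX : IsPullback qX f f₀ qY) (x : X)
    (H : ∃ (j : I) (φ : j ⟶ i₀) (Xj Yj : Scheme.{u}) (fj : Xj ⟶ Yj) (gj : Yj ⟶ D.obj j)
      (pY : Yj ⟶ Y₀) (pX : Xj ⟶ X₀) (rX : X ⟶ Xj), IsPullback pY gj g₀ (D.map φ) ∧
        IsPullback pX fj f₀ pY ∧ rX ≫ pX = qX ∧ rX ≫ fj ≫ gj = f ≫ g ≫ c.π.app j ∧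
          ∃ V : Xj.Opens, rX.base x ∈ V ∧ P (V.ι ≫ fj)) :
    ∃ U : X.Opens, x ∈ U ∧ P (U.ι ≫ f) := by
  obtain ⟨j, φ, Xj, Yj, fj, gj, pY, pX, rX, h1, h2, h3, h4, V, hxV, hV⟩ := H
  let yj : Y ⟶ Yj := h1.lift qY (g ≫ c.π.app j) (by rw [hY.w, ← c.w φ, Category.assoc])
  have hyj : yj ≫ pY = qY := h1.lift_fst _ _ _
  have hyj' : yj ≫ gj = g ≫ c.π.app j := h1.lift_snd _ _ _
  have hr' : rX ≫ fj = f ≫ yj := by
    apply h1.hom_ext
    · rw [Category.assoc, ← h2.w, ← Category.assoc, h3, hX.w, Category.assoc, hyj]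
    · rw [Category.assoc, h4, Category.assoc, hyj']
  have hbig : IsPullback (rX ≫ pX) f f₀ (yj ≫ pY) := by rw [h3, hyj]; exact hX
  have hsq : IsPullback rX f fj yj := IsPullback.of_right hbig hr' h2
  refine ⟨rX ⁻¹ᵁ V, hxV, ?_⟩
  have htop := isPullback_morphismRestrict rX V
  exact P.of_isPullback (htop.paste_vert hsq) hV

set_option backward.isDefEq.respectTransparency false in
/-- The hard direction: `P` near `x` implies `P` near the image of `x` at some stage. -/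
theorem stage_of_nhd (P : MorphismProperty Scheme.{u}) [P.IsStableUnderBaseChange]
    [IsZariskiLocalAtSource P] [IsCofiltered I]
    (Hstep : ∀ {J' : Type u} [SmallCategory J'] [IsCofiltered J'] (E' : J' ⥤ Scheme.{u})
      (cE' : Cone E') (j₀' : J') {X₀' : Scheme.{u}} (f₀' : X₀' ⟶ E'.obj j₀')
      [∀ {i j : J'} (f : i ⟶ j), IsAffineHom (E'.map f)] (_ : IsLimit cE') [CompactSpace X₀']
      [LocallyOfFinitePresentation f₀'],
      P (pullback.fst (cE'.π.app j₀') f₀') → ∃ k : Over j₀', P (pullback.fst (E'.map k.hom) f₀'))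
    (hc : IsLimit c) [LocallyOfFinitePresentation f₀]
    {X Y : Scheme.{u}} (f : X ⟶ Y) (g : Y ⟶ c.pt) (qY : Y ⟶ Y₀) (qX : X ⟶ X₀)
    (hY : IsPullback qY g g₀ (c.π.app i₀)) (hX : IsPullback qX f f₀ qY) (x : X)
    (H : ∃ U : X.Opens, x ∈ U ∧ P (U.ι ≫ f)) :
    ∃ (j : I) (φ : j ⟶ i₀) (Xj Yj : Scheme.{u}) (fj : Xj ⟶ Yj) (gj : Yj ⟶ D.obj j)
      (pY : Yj ⟶ Y₀) (pX : Xj ⟶ X₀) (rX : X ⟶ Xj), IsPullback pY gj g₀ (D.map φ) ∧
        IsPullback pX fj f₀ pY ∧ rX ≫ pX = qX ∧ rX ≫ fj ≫ gj = f ≫ g ≫ c.π.app j ∧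
          ∃ V : Xj.Opens, rX.base x ∈ V ∧ P (V.ι ≫ fj) := by
  obtain ⟨U, hxU, hU⟩ := H
  let T : Scheme.{u} := (sys D i₀ g₀).obj (top i₀)
  let sT : T ⟶ Y₀ := pullback.snd (D.map (𝟙 i₀)) g₀
  have : IsIso sT := inferInstanceAs (IsIso (pullback.snd (D.map (𝟙 i₀)) g₀))
  let m : T ≅ Y₀ := asIso sT
  let f₀' : X₀ ⟶ T := liftTop D i₀ f₀ g₀
  have hf₀' : f₀' ≫ sT = f₀ := liftTop_snd D i₀ f₀ g₀
  let πT : (sysCone D c i₀ g₀).pt ⟶ T := (sysCone D c i₀ g₀).π.app (top i₀)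
  have hπT : πT ≫ sT = pullback.snd (c.π.app i₀) g₀ := sysCone_π_snd D c i₀ g₀ (top i₀)
  let eY : Y ≅ (sysCone D c i₀ g₀).pt := hY.flip.isoPullback
  have heY₁ : eY.hom ≫ pullback.fst (c.π.app i₀) g₀ = g := hY.flip.isoPullback_hom_fst
  have heY₂ : eY.hom ≫ pullback.snd (c.π.app i₀) g₀ = qY := hY.flip.isoPullback_hom_snd
  have hsq : IsPullback (f ≫ eY.hom) qX πT f₀' := by
    refine hX.flip.of_iso (Iso.refl X) eY (Iso.refl X₀) m.symm ?_ ?_ ?_ ?_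
    · simp
    · simp
    · rw [Iso.symm_hom, Iso.comp_inv_eq, Category.assoc]
      change qY = eY.hom ≫ πT ≫ sT
      rw [hπT, heY₂]
    · rw [Iso.symm_hom, Iso.comp_inv_eq, Category.assoc]
      change f₀ = (Iso.refl X₀).hom ≫ f₀' ≫ sT
      rw [hf₀']; simp
  let eX : X ≅ pullback πT f₀' := hsq.isoPullback
  have heX₁ : eX.hom ≫ pullback.fst πT f₀' = f ≫ eY.hom := hsq.isoPullback_hom_fst
  have heX₂ : eX.hom ≫ pullback.snd πT f₀' = qX := hsq.isoPullback_hom_snd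
  let U' : (pullback πT f₀').Opens := eX.inv ⁻¹ᵁ U
  have hxU' : eX.hom x ∈ U' := by
    change (eX.hom ≫ eX.inv) x ∈ U
    rw [Iso.hom_inv_id]
    exact hxU
  have hU' : P (U'.ι ≫ pullback.fst πT f₀') := by
    have e1 : pullback.fst πT f₀' = eX.inv ≫ f ≫ eY.hom := by
      rw [← heX₁, Iso.inv_hom_id_assoc]
    rw [e1, ← Category.assoc, ← morphismRestrict_ι eX.inv U, Category.assoc,
      P.cancel_left_of_respectsIso, ← Category.assoc, P.cancel_right_of_respectsIso]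
    exact hU
  have : LocallyOfFinitePresentation f₀' :=
    (liftTop_prop_iff D i₀ f₀ g₀ @LocallyOfFinitePresentation).mpr inferInstance
  obtain ⟨k, V, hxV, hV⟩ := nhd_step (sys D i₀ g₀) (sysCone D c i₀ g₀) (top i₀) f₀' P
    (fun j₀' _ f₀'' _ _ h => Hstep (sys D i₀ g₀) (sysCone D c i₀ g₀) j₀' f₀''
      (isLimitSysCone D c i₀ g₀ hc) h) (isLimitSysCone D c i₀ g₀ hc) (eX.hom x) U' hxU' hU'
  let Yi : Scheme.{u} := (sys D i₀ g₀).obj k.left
  let tr : Yi ⟶ T := (sys D i₀ g₀).map k.hom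
  have htr : tr ≫ sT = pullback.snd (D.map k.left.hom) g₀ := sys_map_snd D i₀ g₀ k.hom
  let proj : pullback πT f₀' ⟶ pullback tr f₀' :=
    (sysCone (sys D i₀ g₀) (sysCone D c i₀ g₀) (top i₀) f₀').π.app k
  have hproj₁ : proj ≫ pullback.fst tr f₀' =
      pullback.fst πT f₀' ≫ (sysCone D c i₀ g₀).π.app k.left :=
    sysCone_π_fst (sys D i₀ g₀) (sysCone D c i₀ g₀) (top i₀) f₀' k
  have hproj₂ : proj ≫ pullback.snd tr f₀' = pullback.snd πT f₀' :=
    sysCone_π_snd (sys D i₀ g₀) (sysCone D c i₀ g₀) (top i₀) f₀' k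
  refine ⟨k.left.left, k.left.hom, pullback tr f₀', Yi, pullback.fst tr f₀',
    pullback.fst (D.map k.left.hom) g₀, pullback.snd (D.map k.left.hom) g₀, pullback.snd tr f₀',
    eX.hom ≫ proj, (IsPullback.of_hasPullback (D.map k.left.hom) g₀).flip, ?_, ?_, ?_, V, hxV, hV⟩
  · refine (IsPullback.of_hasPullback tr f₀').flip.of_iso
      (Iso.refl _) (Iso.refl _) (Iso.refl _) m ?_ ?_ ?_ ?_
    · simp
    · simp
    · change f₀' ≫ sT = (Iso.refl X₀).hom ≫ f₀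
      rw [hf₀']; simp
    · change tr ≫ sT = (Iso.refl Yi).hom ≫ pullback.snd (D.map k.left.hom) g₀
      rw [htr]; simp
  · rw [Category.assoc, hproj₂, heX₂]
  · have h2 : (sysCone D c i₀ g₀).π.app k.left ≫ pullback.fst (D.map k.left.hom) g₀ =
        pullback.fst (c.π.app i₀) g₀ ≫ c.π.app k.left.left := sysCone_π_fst D c i₀ g₀ k.left
    rw [Category.assoc, ← Category.assoc proj, hproj₁, Category.assoc, h2, ← Category.assoc,
      ← Category.assoc, heX₁, Category.assoc, Category.assoc, ← Category.assoc eY.hom, heY₁]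

end TwoStepNhd

end Groth.Agent.H46.LimSmooth
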