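import Mathlib
import Groth.Agent.Lib.Helper29.SerreNormal
import Groth.Agent.Lib.Helper82.GCICM
import Groth.Agent.Lib.Helper82.CMEquidim
import Groth.Agent.Lib.Helper73.GeomNormalReduced

/-!
# Projective normality of complete intersections (helper46)

`S' = k[x_0..x_n]/(f_1..f_r)` with `f_i` homogeneous of positive degree, `ht (f) = r`, `r + 2 ≤ n + 1`,
normal away from the vertex  ⇒  `S'` is an integrally closed domain (Serre's criterion).
-/

set_option autoImplicit false
universe u

open MvPolynomial LocCoh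

namespace Groth.Agent.H46.ProjNormal

open Groth.Agent.Lib.Helper82 Groth.Agent.Lib.Helper29

variable {k : Type u} [Field k] {N : ℕ}

theorem dimP : ringKrullDim (MvPolynomial (Fin N) k) = (N : WithBot ℕ∞) := by
  rw [MvPolynomial.ringKrullDim_of_isNoetherianRing, ringKrullDim_eq_zero_of_field, zero_add,
    Nat.card_eq_fintype_card, Fintype.card_fin]

theorem heqP : ∀ p ∈ minimalPrimes (MvPolynomial (Fin N) k),
    ringKrullDim (MvPolynomial (Fin N) k ⧸ p) = (N : WithBot ℕ∞) := by
  intro p hp
  rw [IsDomain.minimalPrimes_eq_singleton_bot, Set.mem_singleton_iff] at hp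
  subst hp
  rw [ringKrullDim_eq_of_ringEquiv (RingEquiv.quotientBot (MvPolynomial (Fin N) k)), dimP]

theorem arithA {t : WithBot ℕ∞} {r N : ℕ} (h : ((r : ℕ∞) : WithBot ℕ∞) + t ≤ (N : WithBot ℕ∞)) :
    t ≤ ((N - r : ℕ) : WithBot ℕ∞) := by
  induction t using WithBot.recBotCoe with
  | bot => exact bot_le
  | coe x =>
    induction x using ENat.recTopCoe with
    | top =>
      exfalso
      have h' : ((r : ℕ∞) + ⊤ : ℕ∞) ≤ (N : ℕ∞) := by exact_mod_cast h
      simp at h'
    | coe m =>
      have h' : r + m ≤ N := by exact_mod_cast h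
      have : m ≤ N - r := by omega
      have h2 : ((m : ℕ∞)) ≤ ((N - r : ℕ) : ℕ∞) := by exact_mod_cast this
      exact WithBot.coe_le_coe.mpr h2

/-- the irrelevant ideal is the kernel of the constant coefficient map, hence maximal. -/
theorem idealOfVars_isMaximal : (idealOfVars (Fin N) k).IsMaximal := by
  have hker : RingHom.ker (constantCoeff : MvPolynomial (Fin N) k →+* k) = idealOfVars (Fin N) k := by
    ext p
    rw [RingHom.mem_ker, ← pow_one (idealOfVars (Fin N) k), mem_pow_idealOfVars_iff']
    constructor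
    · intro h x hx
      have : x = 0 := by
        have : Finsupp.degree x = 0 := by omega
        exact (Finsupp.degree_eq_zero_iff x).mp this
      subst this
      exact h
    · intro h
      exact h 0 (by simp)
  rw [← hker]
  exact RingHom.ker_isMaximal_of_surjective _ (fun c => ⟨C c, by simp⟩)

attribute [local instance] MvPolynomial.gradedAlgebra

/-- A proper homogeneous ideal is contained in the irrelevant ideal. -/
theorem le_idealOfVars_of_isHomogeneous (I : Ideal (MvPolynomial (Fin N) k))
    (hI : I.IsHomogeneous (homogeneousSubmodule (Fin N) k)) (hne : I ≠ ⊤) :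
    I ≤ idealOfVars (Fin N) k := by
  intro a ha
  rw [← pow_one (idealOfVars (Fin N) k), mem_pow_idealOfVars_iff']
  intro x hx
  have hx0 : x = 0 := by
    have : Finsupp.degree x = 0 := by omega
    exact (Finsupp.degree_eq_zero_iff x).mp this
  subst hx0
  by_contra hc
  have h0 := homogeneousComponent_mem_of_mem hI ha 0
  rw [homogeneousComponent_zero] at h0
  apply hne
  rw [Ideal.eq_top_iff_one]
  have : (C (coeff 0 a)⁻¹ : MvPolynomial (Fin N) k) * C (coeff 0 a) = 1 := by
    rw [← C_mul, inv_mul_cancel₀ hc, C_1]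
  rw [← this]
  exact I.mul_mem_left _ h0

/-- Minimal primes over a homogeneous ideal are homogeneous. -/
theorem isHomogeneous_of_mem_minimalPrimes (J p : Ideal (MvPolynomial (Fin N) k))
    (hJ : J.IsHomogeneous (homogeneousSubmodule (Fin N) k)) (hp : p ∈ J.minimalPrimes) :
    p.IsHomogeneous (homogeneousSubmodule (Fin N) k) := by
  have hpp : p.IsPrime := hp.1.1
  have hcp : (p.homogeneousCore (homogeneousSubmodule (Fin N) k)).toIdeal.IsPrime :=
    hpp.homogeneousCore
  have hle : J ≤ (p.homogeneousCore (homogeneousSubmodule (Fin N) k)).toIdeal := by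
    have h1 := Ideal.homogeneousCore_mono (homogeneousSubmodule (Fin N) k) hp.1.2
    rw [← hJ.toIdeal_homogeneousCore_eq_self]
    exact h1
  have h2 : p ≤ (p.homogeneousCore (homogeneousSubmodule (Fin N) k)).toIdeal :=
    hp.2 ⟨hcp, hle⟩ (Ideal.toIdeal_homogeneousCore_le _ p)
  have h3 : (p.homogeneousCore (homogeneousSubmodule (Fin N) k)).toIdeal = p :=
    le_antisymm (Ideal.toIdeal_homogeneousCore_le _ p) h2
  rw [← h3]
  exact HomogeneousIdeal.isHomogeneous _

section Main

variable {r : ℕ} (f : Fin r → MvPolynomial (Fin N) k)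

local notation "J" => Ideal.ofList (List.ofFn f)

theorem hle_of_height (hht : (J).height = r) :
    ringKrullDim (MvPolynomial (Fin N) k ⧸ J) ≤
      ((N - (List.ofFn f).length : ℕ) : WithBot ℕ∞) := by
  have h := CMHeight.height_add_ringKrullDim_quotient_le (J)
  rw [hht, dimP] at h
  rw [List.length_ofFn]
  exact arithA h

instance : IsCohenMacaulayRing (MvPolynomial (Fin N) k) := by
  have : IsRegularRing (MvPolynomial (Fin N) k) := MvPolynomial.isRegularRing_of_isRegularRing k
  exact CMPoly.isCohenMacaulayRing_of_isRegularRing _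

theorem dim_quot (hrN : r ≤ N) (hht : (J).height = r) :
    ringKrullDim (MvPolynomial (Fin N) k ⧸ J) = ((N - r : ℕ) : WithBot ℕ∞) := by
  have hne : J ≠ ⊤ := by
    intro h
    rw [h, Ideal.height_top] at hht
    exact ENat.top_ne_natCast r hht
  have := (CMEquidim.main k N heqP (List.ofFn f) (by rw [List.length_ofFn]; exact hrN)
    (hle_of_height f hht) hne).1
  rwa [List.length_ofFn] at this

theorem hasSk_two (hrN : r ≤ N) (hht : (J).height = r) :
    LocCoh.HasSk 2 (MvPolynomial (Fin N) k ⧸ J) (MvPolynomial (Fin N) k ⧸ J) := by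
  rw [hasSk_self_iff]
  intro Q hQ
  have hCM := GCICM.isCohenMacaulayLocalRing_localization_quotient k N (J) r f
    (CIPoly.ofList_ofFn f) hrN (dim_quot f hrN hht) Q
  have h1 := hCM.supportDim_eq_depth
  rw [Module.supportDim_self_eq_ringKrullDim, IsLocalization.AtPrime.ringKrullDim_eq_height Q]
    at h1
  have h2 : Q.height = LocCoh.depth (Localization.AtPrime Q) (Localization.AtPrime Q) := by
    exact_mod_cast h1
  rw [← h2]
  exact min_le_right _ _

theorem height_ge_two (hrN : r + 2 ≤ N) (hht : (J).height = r)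
    (Q : Ideal (MvPolynomial (Fin N) k ⧸ J)) [Q.IsPrime]
    (hQ : ∀ i, Ideal.Quotient.mk (J) (X i) ∈ Q) : ¬ Q.height ≤ 1 := by
  intro hle1
  have hq : idealOfVars (Fin N) k ≤ Q.comap (Ideal.Quotient.mk (J)) := by
    rw [idealOfVars, Ideal.span_le]
    rintro _ ⟨i, rfl⟩
    exact hQ i
  have hqmax : (Q.comap (Ideal.Quotient.mk (J))).IsMaximal := by
    have := idealOfVars_isMaximal.eq_of_le (Ideal.IsPrime.ne_top inferInstance) hq
    rw [← this]
    exact idealOfVars_isMaximal
  have h1 := (CMEquidim.local_main k N heqP (List.ofFn f)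
    (by rw [List.length_ofFn]; omega) (hle_of_height f hht) Q).2
  have h2 := CMEquidim.le_height_add k N heqP (Q.comap (Ideal.Quotient.mk (J)))
  let _ := Ideal.Quotient.field (Q.comap (Ideal.Quotient.mk (J)))
  rw [ringKrullDim_eq_zero_of_field, add_zero, ← h1, List.length_ofFn] at h2
  have h3 : (N : ℕ∞) ≤ Q.height + r := by exact_mod_cast h2
  have h4 : (N : ℕ∞) ≤ 1 + r := h3.trans (by gcongr)
  have h5 : N ≤ 1 + r := by exact_mod_cast h4
  omega

theorem hasRk_one (hrN : r + 2 ≤ N) (hht : (J).height = r)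
    (hnorm : ∀ (Q : Ideal (MvPolynomial (Fin N) k ⧸ J)) [Q.IsPrime],
      (∃ i, Ideal.Quotient.mk (J) (X i) ∉ Q) →
        IsDomain (Localization.AtPrime Q) ∧ IsIntegrallyClosed (Localization.AtPrime Q)) :
    LocCoh.HasRk 1 (MvPolynomial (Fin N) k ⧸ J) := by
  intro Q hQ hle1
  have hN : IsNoetherianRing (Localization.AtPrime Q) :=
    IsLocalization.isNoetherianRing Q.primeCompl _ inferInstance
  have hdim : ringKrullDim (Localization.AtPrime Q) ≤ 1 := by
    have := IsLocalization.AtPrime.ringKrullDim_eq_height Q (Localization.AtPrime Q)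
    rw [this]
    exact_mod_cast hle1
  by_cases hex : ∃ i, Ideal.Quotient.mk (J) (X i) ∉ Q
  · obtain ⟨hd, hic⟩ := hnorm Q hex
    exact isRegularLocalRing_of_isIntegrallyClosed_of_dim_le_one _ hdim
  · exfalso
    push Not at hex
    exact height_ge_two f hrN hht Q hex (by exact_mod_cast hle1)

theorem isNormalRing_quot (hrN : r + 2 ≤ N) (hht : (J).height = r)
    (hnorm : ∀ (Q : Ideal (MvPolynomial (Fin N) k ⧸ J)) [Q.IsPrime],
      (∃ i, Ideal.Quotient.mk (J) (X i) ∉ Q) →
        IsDomain (Localization.AtPrime Q) ∧ IsIntegrallyClosed (Localization.AtPrime Q)) :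
    EGA4.IsNormalRing (MvPolynomial (Fin N) k ⧸ J) :=
  isNormalRing_of_hasRk_one_of_hasSk_two _ (hasRk_one f hrN hht hnorm)
    (hasSk_two f (by omega) hht)

theorem main (hrN : r + 2 ≤ N) (hht : (J).height = r)
    (hJh : (J).IsHomogeneous (homogeneousSubmodule (Fin N) k))
    (hnorm : ∀ (Q : Ideal (MvPolynomial (Fin N) k ⧸ J)) [Q.IsPrime],
      (∃ i, Ideal.Quotient.mk (J) (X i) ∉ Q) →
        IsDomain (Localization.AtPrime Q) ∧ IsIntegrallyClosed (Localization.AtPrime Q)) :
    IsDomain (MvPolynomial (Fin N) k ⧸ J) ∧ IsIntegrallyClosed (MvPolynomial (Fin N) k ⧸ J) := by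
  have hN := isNormalRing_quot f hrN hht hnorm
  have hred : IsReduced (MvPolynomial (Fin N) k ⧸ J) :=
    Groth.Agent.Lib.Helper73.GeomNormalReduced.isReduced_of_isNormalRing hN
  have hne : J ≠ ⊤ := by
    intro h
    rw [h, Ideal.height_top] at hht
    exact ENat.top_ne_natCast r hht
  have hJle : J ≤ idealOfVars (Fin N) k := le_idealOfVars_of_isHomogeneous _ hJh hne
  -- the vertex
  let M : Ideal (MvPolynomial (Fin N) k ⧸ J) := (idealOfVars (Fin N) k).map (Ideal.Quotient.mk (J))
  have hmaxV : (idealOfVars (Fin N) k).IsMaximal := idealOfVars_isMaximal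
  have hprV : (idealOfVars (Fin N) k).IsPrime := hmaxV.isPrime
  have hMp : M.IsPrime :=
    Ideal.map_isPrime_of_surjective Ideal.Quotient.mk_surjective (by rwa [Ideal.mk_ker])
  have hmin : ∀ p ∈ minimalPrimes (MvPolynomial (Fin N) k ⧸ J), p ≤ M := by
    intro p hp
    have hp' : p.comap (Ideal.Quotient.mk (J)) ∈ (J).minimalPrimes := by
      have := Ideal.comap_minimalPrimes_eq_of_surjective
        (f := Ideal.Quotient.mk (J)) Ideal.Quotient.mk_surjective ⊥
      rw [← RingHom.ker_eq_comap_bot, Ideal.mk_ker] at this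
      rw [this]
      exact ⟨p, hp, rfl⟩
    have hhom := isHomogeneous_of_mem_minimalPrimes _ _ hJh hp'
    have hpne : p.comap (Ideal.Quotient.mk (J)) ≠ ⊤ := hp'.1.1.ne_top
    have hle := le_idealOfVars_of_isHomogeneous _ hhom hpne
    rw [← Ideal.map_comap_of_surjective _ Ideal.Quotient.mk_surjective p]
    exact Ideal.map_mono hle
  have hnzd : M.primeCompl ≤ nonZeroDivisors (MvPolynomial (Fin N) k ⧸ J) := by
    intro s hs
    rw [mem_nonZeroDivisors_iff_right]
    intro a ha
    have hmem : a ∈ sInf (minimalPrimes (MvPolynomial (Fin N) k ⧸ J)) := by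
      rw [Ideal.mem_sInf]
      intro p hp
      have hpp : p.IsPrime := hp.1.1
      have : a * s ∈ p := by rw [ha]; exact p.zero_mem
      rcases hpp.mem_or_mem this with h | h
      · exact h
      · exact absurd (hmin p hp h) hs
    rw [minimalPrimes, Ideal.sInf_minimalPrimes] at hmem
    have h0 : a ∈ nilradical (MvPolynomial (Fin N) k ⧸ J) := hmem
    rw [nilradical_eq_zero] at h0
    simpa using h0
  have hinj : Function.Injective (algebraMap (MvPolynomial (Fin N) k ⧸ J) (Localization.AtPrime M)) :=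
    IsLocalization.injective (Localization.AtPrime M) hnzd
  have hdM : IsDomain (Localization.AtPrime M) := (hN M).1
  have hdom : IsDomain (MvPolynomial (Fin N) k ⧸ J) := hinj.isDomain _
  refine ⟨hdom, ?_⟩
  exact IsIntegrallyClosed.of_localization_maximal (fun p _ _ => (hN p).2)

end Main

end Groth.Agent.H46.ProjNormal
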