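import Mathlib
import Groth.Agent.H46.ProjNormal

/-!
# Linear forms cutting down a projective variety (helper46)
-/

set_option autoImplicit false
universe u

open MvPolynomial

namespace Groth.Agent.H46.LinearForms

open Groth.Agent.H46.ProjNormal

/-- The dimension of `R/J` is bounded by the dimensions of `R/𝔮` for primes `𝔮 ⊇ J`. -/
theorem ringKrullDim_quotient_le_of_forall_prime {R : Type*} [CommRing R] (J : Ideal R)
    (m : WithBot ℕ∞)
    (h : ∀ 𝔮 : Ideal R, 𝔮.IsPrime → J ≤ 𝔮 → ringKrullDim (R ⧸ 𝔮) ≤ m) :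
    ringKrullDim (R ⧸ J) ≤ m := by
  rw [ringKrullDim_quotient, Order.krullDim]
  refine iSup_le fun l => ?_
  have hJ : J ≤ l.head.1.asIdeal := by
    have := l.head.2
    rwa [PrimeSpectrum.mem_zeroLocus, SetLike.coe_subset_coe] at this
  have hbound := h l.head.1.asIdeal inferInstance hJ
  rw [ringKrullDim_quotient] at hbound
  let l' : LTSeries (PrimeSpectrum.zeroLocus (l.head.1.asIdeal : Set R)) :=
    { length := l.length
      toFun := fun i => ⟨(l i).1, by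
        rw [PrimeSpectrum.mem_zeroLocus, SetLike.coe_subset_coe]
        exact (l.head_le i : l.head ≤ l i)⟩
      step := fun i => l.step i }
  exact (Order.LTSeries.length_le_krullDim l').trans hbound

theorem arithB {x : WithBot ℕ∞} {d : ℕ} (h : x + 1 ≤ (d : WithBot ℕ∞)) :
    x ≤ ((d - 1 : ℕ) : WithBot ℕ∞) := by
  induction x using WithBot.recBotCoe with
  | bot => exact bot_le
  | coe y =>
    induction y using ENat.recTopCoe with
    | top =>
      exfalso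
      have h' : ((⊤ : ℕ∞) + 1 : ℕ∞) ≤ (d : ℕ∞) := by exact_mod_cast h
      simp at h'
    | coe m =>
      have h' : m + 1 ≤ d := by exact_mod_cast h
      have h1 : m ≤ d - 1 := by omega
      have h2 : ((m : ℕ∞)) ≤ ((d - 1 : ℕ) : ℕ∞) := by exact_mod_cast h1
      exact WithBot.coe_le_coe.mpr h2

/-- dimension drops along a strict inclusion of primes -/
theorem ringKrullDim_quotient_succ_le_of_lt {R : Type*} [CommRing R] (𝔭 𝔮 : Ideal R) [𝔭.IsPrime]
    (hle : 𝔭 ≤ 𝔮) (x : R) (hx𝔮 : x ∈ 𝔮) (hx𝔭 : x ∉ 𝔭) :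
    ringKrullDim (R ⧸ 𝔮) + 1 ≤ ringKrullDim (R ⧸ 𝔭) := by
  refine ringKrullDim_succ_le_of_surjective (Ideal.Quotient.factor hle)
    (Ideal.Quotient.factor_surjective hle) (r := Ideal.Quotient.mk 𝔭 x) ?_ ?_
  · apply mem_nonZeroDivisors_of_ne_zero
    rwa [Ne, Ideal.Quotient.eq_zero_iff_mem]
  · rw [Ideal.Quotient.factor_mk, Ideal.Quotient.eq_zero_iff_mem]
    exact hx𝔮

variable {k : Type u} [Field k] {N : ℕ}

attribute [local instance] MvPolynomial.gradedAlgebra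

theorem mem_idealOfVars_of_isHomogeneous_one (h : MvPolynomial (Fin N) k) (hh : h.IsHomogeneous 1) :
    h ∈ idealOfVars (Fin N) k := by
  rw [← pow_one (idealOfVars (Fin N) k), mem_pow_idealOfVars_iff']
  intro x hx
  apply hh.coeff_eq_zero
  omega

theorem dim_quot_idealOfVars :
    ringKrullDim (MvPolynomial (Fin N) k ⧸ idealOfVars (Fin N) k) = 0 := by
  have := idealOfVars_isMaximal (k := k) (N := N)
  let _ := Ideal.Quotient.field (idealOfVars (Fin N) k)
  exact ringKrullDim_eq_zero_of_field _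

/-- One step: a linear form cutting the dimension of a homogeneous ideal down by one. -/
theorem exists_linear_form [Infinite k] (K : Ideal (MvPolynomial (Fin N) k))
    (hK : K.IsHomogeneous (homogeneousSubmodule (Fin N) k)) (d : ℕ)
    (hd : ringKrullDim (MvPolynomial (Fin N) k ⧸ K) ≤ (d : WithBot ℕ∞)) :
    ∃ h : MvPolynomial (Fin N) k, h.IsHomogeneous 1 ∧
      ringKrullDim (MvPolynomial (Fin N) k ⧸ (K ⊔ Ideal.span {h})) ≤
        ((d - 1 : ℕ) : WithBot ℕ∞) := by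
  classical
  rcases Nat.eq_zero_or_pos d with hd0 | hdpos
  · subst hd0
    refine ⟨0, isHomogeneous_zero _ _ _, ?_⟩
    have : K ⊔ Ideal.span {(0 : MvPolynomial (Fin N) k)} = K := by simp
    rw [this]
    exact hd
  have hmaxV := idealOfVars_isMaximal (k := k) (N := N)
  have hfin : K.minimalPrimes.Finite := Ideal.finite_minimalPrimes_of_isNoetherianRing _ K
  let V : Submodule k (MvPolynomial (Fin N) k) := homogeneousSubmodule (Fin N) k 1
  let W : Ideal (MvPolynomial (Fin N) k) → Subspace k V := fun 𝔭 =>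
    Submodule.comap V.subtype (𝔭.restrictScalars k)
  let s : Finset (Subspace k V) :=
    (hfin.toFinset.filter (fun 𝔭 => 𝔭 ≠ idealOfVars (Fin N) k)).image W
  have hs : ⊤ ∉ s := by
    intro htop
    obtain ⟨𝔭, h𝔭, hW⟩ := Finset.mem_image.mp htop
    rw [Finset.mem_filter, Set.Finite.mem_toFinset] at h𝔭
    obtain ⟨h𝔭min, h𝔭ne⟩ := h𝔭
    have h𝔭prime : 𝔭.IsPrime := h𝔭min.1.1
    apply h𝔭ne
    refine (hmaxV.eq_of_le h𝔭prime.ne_top ?_).symm
    rw [idealOfVars, Ideal.span_le]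
    rintro _ ⟨i, rfl⟩
    have hXV : (X i : MvPolynomial (Fin N) k) ∈ V :=
      (mem_homogeneousSubmodule 1 _).mpr (isHomogeneous_X k i)
    have : (⟨X i, hXV⟩ : V) ∈ W 𝔭 := by rw [hW]; trivial
    exact this
  have hne := Subspace.biUnion_ne_univ_of_top_notMem hs
  obtain ⟨v, hv⟩ := (Set.ne_univ_iff_exists_notMem _).mp hne
  have hv' : ∀ 𝔭 ∈ K.minimalPrimes, 𝔭 ≠ idealOfVars (Fin N) k → (v : MvPolynomial (Fin N) k) ∉ 𝔭 := by
    intro 𝔭 h𝔭 hne' hmem
    apply hv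
    simp only [Set.mem_iUnion]
    refine ⟨W 𝔭, Finset.mem_image.mpr ⟨𝔭, ?_, rfl⟩, hmem⟩
    rw [Finset.mem_filter, Set.Finite.mem_toFinset]
    exact ⟨h𝔭, hne'⟩
  refine ⟨v.1, (mem_homogeneousSubmodule 1 _).mp v.2, ?_⟩
  apply ringKrullDim_quotient_le_of_forall_prime
  intro 𝔮 h𝔮 hle
  have hK𝔮 : K ≤ 𝔮 := le_sup_left.trans hle
  have hv𝔮 : (v : MvPolynomial (Fin N) k) ∈ 𝔮 :=
    hle (Ideal.mem_sup_right (Ideal.mem_span_singleton_self _))
  obtain ⟨𝔭, h𝔭min, h𝔭𝔮⟩ := Ideal.exists_minimalPrimes_le hK𝔮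
  have h𝔭prime : 𝔭.IsPrime := h𝔭min.1.1
  by_cases h𝔭V : 𝔭 = idealOfVars (Fin N) k
  · have h𝔮V : 𝔮 = idealOfVars (Fin N) k := by
      rw [h𝔭V] at h𝔭𝔮
      exact (hmaxV.eq_of_le h𝔮.ne_top h𝔭𝔮).symm
    rw [h𝔮V, dim_quot_idealOfVars]
    exact_mod_cast Nat.zero_le _
  · have h1 := ringKrullDim_quotient_succ_le_of_lt 𝔭 𝔮 h𝔭𝔮 v.1 hv𝔮 (hv' 𝔭 h𝔭min h𝔭V)
    have h2 : ringKrullDim (MvPolynomial (Fin N) k ⧸ 𝔭) ≤ ringKrullDim (MvPolynomial (Fin N) k ⧸ K) :=
      ringKrullDim_le_of_surjective (Ideal.Quotient.factor h𝔭min.1.2)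
        (Ideal.Quotient.factor_surjective _)
    exact arithB (h1.trans (h2.trans hd))

/-- Iteration: `j` linear forms cutting the dimension down by `j`. -/
theorem exists_linear_forms [Infinite k] (I : Ideal (MvPolynomial (Fin N) k))
    (hI : I.IsHomogeneous (homogeneousSubmodule (Fin N) k)) (d : ℕ)
    (hd : ringKrullDim (MvPolynomial (Fin N) k ⧸ I) ≤ (d : WithBot ℕ∞)) (j : ℕ) :
    ∃ h : Fin j → MvPolynomial (Fin N) k, (∀ i, (h i).IsHomogeneous 1) ∧
      ringKrullDim (MvPolynomial (Fin N) k ⧸ (I ⊔ Ideal.span (Set.range h))) ≤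
        ((d - j : ℕ) : WithBot ℕ∞) := by
  induction j with
  | zero =>
    refine ⟨Fin.elim0, fun i => i.elim0, ?_⟩
    have : I ⊔ Ideal.span (Set.range (Fin.elim0 : Fin 0 → MvPolynomial (Fin N) k)) = I := by
      simp
    rw [this]
    exact hd
  | succ j ih =>
    obtain ⟨h, hh, hdim⟩ := ih
    have hKh : (I ⊔ Ideal.span (Set.range h)).IsHomogeneous (homogeneousSubmodule (Fin N) k) := by
      refine hI.sup (Ideal.homogeneous_span _ _ ?_)
      rintro _ ⟨i, rfl⟩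
      exact ⟨1, (mem_homogeneousSubmodule 1 _).mpr (hh i)⟩
    obtain ⟨h₀, hh₀, hdim₀⟩ := exists_linear_form _ hKh (d - j) hdim
    refine ⟨Fin.cons h₀ h, ?_, ?_⟩
    · intro i
      refine Fin.cases ?_ (fun i => ?_) i
      · simpa using hh₀
      · simpa using hh i
    · have : I ⊔ Ideal.span (Set.range (Fin.cons h₀ h : Fin (j + 1) → MvPolynomial (Fin N) k)) =
          (I ⊔ Ideal.span (Set.range h)) ⊔ Ideal.span {h₀} := by
        rw [Fin.range_cons, Ideal.span_insert, sup_assoc, sup_comm (Ideal.span {h₀})]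
      rw [this]
      have e : d - (j + 1) = d - j - 1 := by omega
      rw [e]
      exact hdim₀

/-- A homogeneous ideal with zero-dimensional quotient contains a power of the irrelevant ideal. -/
theorem exists_pow_idealOfVars_le (K : Ideal (MvPolynomial (Fin N) k))
    (hK : K.IsHomogeneous (homogeneousSubmodule (Fin N) k))
    (hd : ringKrullDim (MvPolynomial (Fin N) k ⧸ K) ≤ 0) :
    ∃ M : ℕ, (idealOfVars (Fin N) k) ^ M ≤ K := by
  have hmaxV := idealOfVars_isMaximal (k := k) (N := N)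
  apply Ideal.exists_pow_le_of_le_radical_of_fg _ (idealOfVars_fg (Fin N) k)
  rw [Ideal.radical_eq_sInf, le_sInf_iff]
  rintro 𝔮 ⟨hK𝔮, h𝔮⟩
  obtain ⟨𝔭, h𝔭min, h𝔭𝔮⟩ := Ideal.exists_minimalPrimes_le hK𝔮
  have h𝔭prime : 𝔭.IsPrime := h𝔭min.1.1
  have h𝔭hom := isHomogeneous_of_mem_minimalPrimes K 𝔭 hK h𝔭min
  have h𝔭le := le_idealOfVars_of_isHomogeneous 𝔭 h𝔭hom h𝔭prime.ne_top
  suffices h : idealOfVars (Fin N) k ≤ 𝔭 from h.trans h𝔭𝔮
  by_contra hnot
  obtain ⟨x, hxV, hx𝔭⟩ := SetLike.not_le_iff_exists.mp hnot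
  have h1 := ringKrullDim_quotient_succ_le_of_lt 𝔭 (idealOfVars (Fin N) k) h𝔭le x hxV hx𝔭
  have h2 : ringKrullDim (MvPolynomial (Fin N) k ⧸ 𝔭) ≤ ringKrullDim (MvPolynomial (Fin N) k ⧸ K) :=
    ringKrullDim_le_of_surjective (Ideal.Quotient.factor h𝔭min.1.2)
      (Ideal.Quotient.factor_surjective _)
  rw [dim_quot_idealOfVars, zero_add] at h1
  have h3 : (1 : WithBot ℕ∞) ≤ 0 := h1.trans (h2.trans hd)
  exact absurd h3 (by decide)

end Groth.Agent.H46.LinearForms
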