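import Mathlib

set_option autoImplicit false
universe u

namespace Groth.Agent.H46

open Submodule in
/-- A finitely generated localized submodule is the localization of a finitely generated submodule. -/
theorem exists_fg_le_localized'_eq {R : Type*} [CommRing R] (S : Submonoid R)
    (A : Type*) [CommRing A] [Algebra R A] [IsLocalization S A]
    {L N : Type*} [AddCommGroup L] [Module R L] [AddCommGroup N] [Module R N] [Module A N]
    [IsScalarTower R A N] (f : L →ₗ[R] N) [IsLocalizedModule S f]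
    (K : Submodule R L) (h : (K.localized' A S f).FG) :
    ∃ K₀ : Submodule R L, K₀ ≤ K ∧ K₀.FG ∧ K₀.localized' A S f = K.localized' A S f := by
  obtain ⟨T, hT⟩ := h
  have h1 : ∀ t ∈ T, ∃ m, m ∈ K ∧ ∃ s : S, IsLocalizedModule.mk' f m s = t := by
    intro t ht
    have : t ∈ K.localized' A S f := hT ▸ subset_span ht
    obtain ⟨m, hm, s, hs⟩ := this
    exact ⟨m, hm, s, hs⟩
  choose! m hm s hs using h1
  refine ⟨span R (m '' (T : Set N)), ?_, ?_, le_antisymm ?_ ?_⟩
  · rw [span_le]
    rintro _ ⟨t, ht, rfl⟩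
    exact hm t ht
  · exact fg_span ((Finset.finite_toSet T).image m)
  · exact (localized'gi A S f).gc.monotone_l (by
      rw [span_le]
      rintro _ ⟨t, ht, rfl⟩
      exact hm t ht)
  · rw [← hT, span_le]
    intro t ht
    exact ⟨m t, subset_span ⟨t, ht, rfl⟩, s t, hs t ht⟩

/-- A finitely presented `R ⧸ I`-module lifts to a finitely presented `R`-module. -/
theorem exists_finitePresentation_quotient_lift {R : Type u} [CommRing R] (I : Ideal R)
    (M₁ : Type u) [AddCommGroup M₁] [Module (R ⧸ I) M₁] [Module.FinitePresentation (R ⧸ I) M₁] :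
    ∃ (M : Type u) (_ : AddCommGroup M) (_ : Module R M), Module.FinitePresentation R M ∧
      Nonempty ((M ⧸ (I • ⊤ : Submodule R M)) ≃ₗ[R ⧸ I] M₁) := by
  classical
  obtain ⟨n, K, e, hK⟩ := Module.FinitePresentation.exists_fin (R ⧸ I) M₁
  obtain ⟨T, hT⟩ := hK
  let σ : R →+* R ⧸ I := Ideal.Quotient.mk I
  let π : (Fin n → R) →ₛₗ[σ] (Fin n → R ⧸ I) :=
    { toFun := fun x i => σ (x i)
      map_add' := fun x y => by ext i; simp
      map_smul' := fun r x => by ext i; simp }
  have hπ : Function.Surjective π := fun y =>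
    ⟨fun i => (Ideal.Quotient.mk_surjective (y i)).choose, by
      ext i; exact (Ideal.Quotient.mk_surjective (y i)).choose_spec⟩
  have hkerπ : LinearMap.ker π ≤ (I • ⊤ : Submodule R (Fin n → R)) := by
    intro x hx
    have hx' : ∀ i, x i ∈ I := fun i => by
      have := congrFun hx i
      exact Ideal.Quotient.eq_zero_iff_mem.1 this
    rw [pi_eq_sum_univ x]
    exact Submodule.sum_mem _ fun i _ => Submodule.smul_mem_smul (hx' i) trivial
  choose lift hlift using hπ
  let K' : Submodule R (Fin n → R) := Submodule.span R (lift '' (T : Set _))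
  have hmap : K'.map π = K := by
    rw [Submodule.map_span, ← hT, Set.image_image]
    simp [hlift]
  let ψ : (Fin n → R) →ₛₗ[σ] ((Fin n → R ⧸ I) ⧸ K) := K.mkQ.comp π
  have h1 : K' ≤ LinearMap.ker ψ := by
    intro x hx
    rw [LinearMap.mem_ker]
    show K.mkQ (π x) = 0
    rw [Submodule.mkQ_apply, Submodule.Quotient.mk_eq_zero, ← hmap]
    exact Submodule.mem_map_of_mem hx
  let ψ₁ : ((Fin n → R) ⧸ K') →ₛₗ[σ] ((Fin n → R ⧸ I) ⧸ K) := K'.liftQ ψ h1
  have h2 : (I • ⊤ : Submodule R ((Fin n → R) ⧸ K')) ≤ LinearMap.ker ψ₁ := by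
    rw [Submodule.smul_le]
    intro r hr x _
    rw [LinearMap.mem_ker, map_smulₛₗ]
    have : σ r = 0 := Ideal.Quotient.eq_zero_iff_mem.2 hr
    rw [this, zero_smul]
  let ψ₂ := (I • ⊤ : Submodule R ((Fin n → R) ⧸ K')).liftQ ψ₁ h2
  let Ψ : (((Fin n → R) ⧸ K') ⧸ (I • ⊤ : Submodule R ((Fin n → R) ⧸ K'))) →ₗ[R ⧸ I]
      ((Fin n → R ⧸ I) ⧸ K) :=
    { toFun := ψ₂
      map_add' := ψ₂.map_add
      map_smul' := by
        intro r x
        obtain ⟨r, rfl⟩ := Ideal.Quotient.mk_surjective r
        obtain ⟨x, rfl⟩ := Submodule.Quotient.mk_surjective _ x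
        rw [Module.Quotient.mk_smul_mk]
        simp only [RingHom.id_apply]
        rw [Submodule.Quotient.mk_smul, map_smulₛₗ] }
  have hΨ : ∀ l : Fin n → R, Ψ (Submodule.Quotient.mk (Submodule.Quotient.mk l)) =
      Submodule.Quotient.mk (π l) := fun l => rfl
  have hinj : Function.Injective Ψ := by
    rw [injective_iff_map_eq_zero]
    intro x hx
    obtain ⟨x, rfl⟩ := Submodule.Quotient.mk_surjective _ x
    obtain ⟨l, rfl⟩ := Submodule.Quotient.mk_surjective _ x
    rw [hΨ, Submodule.Quotient.mk_eq_zero, ← hmap] at hx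
    obtain ⟨k, hk, hkl⟩ := hx
    have h3 : l - k ∈ (I • ⊤ : Submodule R (Fin n → R)) := hkerπ (by
      rw [LinearMap.mem_ker, map_sub, hkl, sub_self])
    rw [Submodule.Quotient.mk_eq_zero]
    have h4 : (Submodule.Quotient.mk l : (Fin n → R) ⧸ K') = K'.mkQ (l - k) := by
      rw [Submodule.mkQ_apply, Submodule.Quotient.mk_sub, (Submodule.Quotient.mk_eq_zero K').2 hk,
        sub_zero]
    rw [h4]
    have : (I • ⊤ : Submodule R (Fin n → R)).map K'.mkQ ≤ I • ⊤ := by
      rw [Submodule.map_smul'']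
      exact Submodule.smul_mono le_rfl le_top
    exact this (Submodule.mem_map_of_mem h3)
  have hsurj : Function.Surjective Ψ := by
    intro y
    obtain ⟨y, rfl⟩ := Submodule.Quotient.mk_surjective _ y
    exact ⟨Submodule.Quotient.mk (Submodule.Quotient.mk (lift y)), by rw [hΨ, hlift]⟩
  refine ⟨(Fin n → R) ⧸ K', inferInstance, inferInstance, ?_, ⟨?_⟩⟩
  · exact Module.finitePresentation_of_free_of_surjective K'.mkQ (Submodule.mkQ_surjective _)
      (by rw [Submodule.ker_mkQ]; exact Submodule.fg_span ((Finset.finite_toSet T).image lift))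
  · exact (LinearEquiv.ofBijective Ψ ⟨hinj, hsurj⟩).trans e.symm


end Groth.Agent.H46
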