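import Mathlib

set_option autoImplicit false
universe u

namespace Groth.Agent.H46

/-- The "localization inside `T`" of a subring `B` at the elements that are units of `T`. -/
def locSubring {T : Type*} [CommRing T] (B : Subring T) : Subring T where
  carrier := {x | ∃ b ∈ B, ∃ s ∈ B, IsUnit s ∧ x * s = b}
  zero_mem' := ⟨0, B.zero_mem, 1, B.one_mem, isUnit_one, by simp⟩
  one_mem' := ⟨1, B.one_mem, 1, B.one_mem, isUnit_one, by simp⟩
  add_mem' := by
    rintro x y ⟨b, hb, s, hs, hu, h⟩ ⟨b', hb', s', hs', hu', h'⟩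
    exact ⟨b * s' + b' * s, B.add_mem (B.mul_mem hb hs') (B.mul_mem hb' hs), s * s',
      B.mul_mem hs hs', hu.mul hu', by rw [← h, ← h']; ring⟩
  neg_mem' := by
    rintro x ⟨b, hb, s, hs, hu, h⟩
    exact ⟨-b, B.neg_mem hb, s, hs, hu, by rw [← h]; ring⟩
  mul_mem' := by
    rintro x y ⟨b, hb, s, hs, hu, h⟩ ⟨b', hb', s', hs', hu', h'⟩
    exact ⟨b * b', B.mul_mem hb hb', s * s', B.mul_mem hs hs', hu.mul hu', by
      rw [← h, ← h']; ring⟩

theorem le_locSubring {T : Type*} [CommRing T] (B : Subring T) : B ≤ locSubring B :=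
  fun x hx => ⟨x, hx, 1, B.one_mem, isUnit_one, by simp⟩

theorem isUnit_locSubring {T : Type*} [CommRing T] (B : Subring T) (x : locSubring B)
    (hx : IsUnit (x : T)) : IsUnit x := by
  obtain ⟨x, b, hb, s, hs, hu, h⟩ := x
  obtain ⟨u, rfl⟩ := hx
  have hbu : IsUnit b := h ▸ (u.isUnit.mul hu)
  refine ⟨⟨⟨(u : T), _⟩, ⟨((u⁻¹ : Tˣ) : T), s, hs, b, hb, hbu, ?_⟩, ?_, ?_⟩, rfl⟩
  · rw [← h, ← mul_assoc, Units.inv_mul, one_mul]
  · ext; simp
  · ext; simp

theorem isLocalHom_subtype_locSubring {T : Type*} [CommRing T] (B : Subring T) :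
    IsLocalHom (locSubring B).subtype :=
  ⟨fun x hx => isUnit_locSubring B x hx⟩

theorem essFiniteType_locSubring {B₀ T : Type*} [CommRing B₀] [CommRing T] (ψ : B₀ →+* T)
    (G : Finset T) (B : Subring T) (hB : B = Subring.closure (Set.range ψ ∪ (G : Set T)))
    (ψ₀ : B₀ →+* locSubring B)
    (h : ∀ x, (ψ₀ x : T) = ψ x) : ψ₀.EssFiniteType := by
  classical
  let _ := ψ₀.toAlgebra
  show Algebra.EssFiniteType B₀ (locSubring B)
  have hG : ∀ g ∈ G, g ∈ locSubring B := fun g hg =>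
    le_locSubring B (hB ▸ Subring.subset_closure (Or.inr hg))
  let σ : Finset (locSubring B) := G.attach.image fun g => ⟨g.1, hG g.1 g.2⟩
  have key : ∀ b (hb : b ∈ B), (⟨b, le_locSubring B hb⟩ : locSubring B) ∈
      Algebra.adjoin B₀ (σ : Set (locSubring B)) := by
    intro b hb
    have hb' := hb
    rw [hB] at hb'
    induction hb' using Subring.closure_induction with
    | mem x hx =>
      rcases hx with ⟨y, rfl⟩ | hx
      · have : (⟨ψ y, le_locSubring B hb⟩ : locSubring B)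
            = algebraMap B₀ (locSubring B) y := Subtype.ext (h y).symm
        rw [this]
        exact Subalgebra.algebraMap_mem _ _
      · refine Algebra.subset_adjoin ?_
        simp only [σ, Finset.coe_image, Set.mem_image, Finset.mem_coe, Finset.mem_attach, true_and]
        exact ⟨⟨x, hx⟩, rfl⟩
    | zero => exact Subalgebra.zero_mem _
    | one => exact Subalgebra.one_mem _
    | add x y hx hy hx' hy' =>
      have hx'' : x ∈ B := hB ▸ hx
      have hy'' : y ∈ B := hB ▸ hy
      exact Subalgebra.add_mem _ (hx' hx'') (hy' hy'')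
    | neg x hx hx' =>
      have hx'' : x ∈ B := hB ▸ hx
      exact Subalgebra.neg_mem _ (hx' hx'')
    | mul x y hx hy hx' hy' =>
      have hx'' : x ∈ B := hB ▸ hx
      have hy'' : y ∈ B := hB ▸ hy
      exact Subalgebra.mul_mem _ (hx' hx'') (hy' hy'')
  rw [Algebra.essFiniteType_iff]
  refine ⟨σ, ?_⟩
  rintro ⟨x, b, hb, s, hs, hu, hxs⟩
  refine ⟨⟨s, le_locSubring B hs⟩, key s hs, isUnit_locSubring B _ hu, ?_⟩
  have : (⟨x, b, hb, s, hs, hu, hxs⟩ : locSubring B) * ⟨s, le_locSubring B hs⟩ =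
      ⟨b, le_locSubring B hb⟩ := Subtype.ext hxs
  rw [this]
  exact key b hb

end Groth.Agent.H46
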