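import Mathlib

set_option autoImplicit false
set_option linter.style.haveILetI false
universe u

namespace Groth.Agent.H46.MaxSpecSepDeg

open Polynomial

/-- The number of maximal ideals of the integral closure of a normal local domain in an algebraic
extension of its fraction field is bounded by the separable degree (Bourbaki AC V §2 no.3). -/
theorem card_maximalSpectrum_integralClosure_le (R : Type u) [CommRing R] [IsDomain R]
    [IsLocalRing R] [IsIntegrallyClosed R] (K : Type u) [Field K] [Algebra R K]
    [IsFractionRing R K] (L : Type u) [Field L] [Algebra K L] [Algebra R L] [IsScalarTower R K L]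
    [Algebra.IsAlgebraic K L] (n : ℕ) (hn0 : 0 < n) (hn : Field.finSepDegree K L = n) :
    Finite (MaximalSpectrum (integralClosure R L)) ∧
      Nat.card (MaximalSpectrum (integralClosure R L)) ≤ n := by
  classical
  have hcard : Nat.card (Field.Emb K L) = n := hn
  haveI : Finite (Field.Emb K L) := Nat.finite_of_card_ne_zero (by omega)
  letI := Fintype.ofFinite (Field.Emb K L)
  -- notation
  let τB : Field.Emb K L → (integralClosure R L →ₐ[R] integralClosure R (AlgebraicClosure L)) :=
    fun τ => (τ.restrictScalars R).mapIntegralClosure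
  have hτB : ∀ (τ : Field.Emb K L) (b : integralClosure R L),
      ((τB τ b : integralClosure R (AlgebraicClosure L)) : AlgebraicClosure L) = τ (b : L) :=
    fun τ b => rfl
  obtain ⟨P₀, hP₀⟩ := Ideal.exists_maximal (integralClosure R (AlgebraicClosure L))
  haveI hP₀p : P₀.IsPrime := hP₀.isPrime
  let Qτ : Field.Emb K L → Ideal (integralClosure R L) := fun τ => P₀.comap (τB τ)
  have hQτp : ∀ τ, (Qτ τ).IsPrime := fun τ => Ideal.comap_isPrime _ _
  let ι₀ : Field.Emb K L := IsScalarTower.toAlgHom K L (AlgebraicClosure L)
  have hcomapR : P₀.comap (algebraMap R (integralClosure R (AlgebraicClosure L))) =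
      IsLocalRing.maximalIdeal R :=
    IsLocalRing.eq_maximalIdeal (Ideal.isMaximal_comap_of_isIntegral_of_isMaximal P₀)
  have claim : ∀ Q : Ideal (integralClosure R L), Q.IsMaximal → ∃ τ, Q = Qτ τ := by
    intro Q hQ
    by_contra hcon
    push Not at hcon
    have hnle : ∀ τ, ¬ (Q ≤ Qτ τ) := fun τ hle => hcon τ (hQ.eq_of_le (hQτp τ).ne_top hle)
    have hunion : ¬ ((Q : Set (integralClosure R L)) ⊆
        ⋃ τ ∈ ((Finset.univ : Finset (Field.Emb K L)) : Set (Field.Emb K L)),
          (Qτ τ : Set (integralClosure R L))) := by
      rw [Ideal.subset_union_prime ι₀ ι₀ (fun τ _ _ _ => hQτp τ)]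
      push Not
      exact fun τ _ => hnle τ
    obtain ⟨b, hbQ, hb⟩ := Set.not_subset.mp hunion
    have hb' : ∀ τ, τB τ b ∉ P₀ := by
      intro τ hmem
      apply hb
      simp only [Finset.coe_univ, Set.mem_univ, Set.iUnion_true, Set.mem_iUnion, SetLike.mem_coe]
      exact ⟨τ, hmem⟩
    -- the "norm"
    set a : integralClosure R (AlgebraicClosure L) := ∏ τ, τB τ b with ha
    have haP : a ∉ P₀ := by
      rw [ha, hP₀p.prod_mem_iff]
      push Not
      exact fun τ _ => hb' τ
    have haΩ : (a : AlgebraicClosure L) = ∏ τ : Field.Emb K L, τ (b : L) := by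
      rw [ha]
      simp only [← hτB]
      exact map_prod (integralClosure R (AlgebraicClosure L)).val _ _
    -- invariance under automorphisms
    have hinv : ∀ σ : AlgebraicClosure L ≃ₐ[K] AlgebraicClosure L,
        σ (a : AlgebraicClosure L) = (a : AlgebraicClosure L) := by
      intro σ
      rw [haΩ, map_prod]
      let eσ : Field.Emb K L ≃ Field.Emb K L :=
        { toFun := fun τ => (σ : AlgebraicClosure L →ₐ[K] AlgebraicClosure L).comp τ
          invFun := fun τ => (σ.symm : AlgebraicClosure L →ₐ[K] AlgebraicClosure L).comp τ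
          left_inv := fun τ => by ext x; simp
          right_inv := fun τ => by ext x; simp }
      exact Fintype.prod_equiv eσ _ _ (fun τ => rfl)
    -- `a` is purely inseparable over `K`
    have haalg : IsAlgebraic K (a : AlgebraicClosure L) :=
      Algebra.IsAlgebraic.isAlgebraic _
    have hsep : (minpoly K (a : AlgebraicClosure L)).natSepDegree = 1 := by
      rw [natSepDegree_eq_of_isAlgClosed (AlgebraicClosure L)]
      have : ((minpoly K (a : AlgebraicClosure L)).aroots (AlgebraicClosure L)).toFinset =
          {(a : AlgebraicClosure L)} := by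
        ext y
        simp only [Multiset.mem_toFinset, Finset.mem_singleton]
        rw [mem_aroots]
        constructor
        · rintro ⟨_, hy⟩
          obtain ⟨σ, hσ⟩ := minpoly.exists_algEquiv_of_root' haalg hy
          rw [← hσ, hinv]
        · rintro rfl
          exact ⟨minpoly.ne_zero haalg.isIntegral, minpoly.aeval _ _⟩
      rw [this, Finset.card_singleton]
    obtain ⟨e, k, hk⟩ := (minpoly.natSepDegree_eq_one_iff_pow_mem (ringExpChar K)).mp hsep
    have hqpos : 0 < ringExpChar K ^ e := expChar_pow_pos K (ringExpChar K) e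
    have hkint : IsIntegral R k := by
      rw [← isIntegral_algebraMap_iff (algebraMap K (AlgebraicClosure L)).injective, hk]
      exact (a.2 : IsIntegral R (a : AlgebraicClosure L)).pow _
    obtain ⟨r, hr⟩ := IsIntegrallyClosed.isIntegral_iff.mp hkint
    have hapow : a ^ (ringExpChar K ^ e) =
        algebraMap R (integralClosure R (AlgebraicClosure L)) r := by
      apply Subtype.ext
      show (a : AlgebraicClosure L) ^ (ringExpChar K ^ e) = algebraMap R (AlgebraicClosure L) r
      rw [← hk, ← hr, ← IsScalarTower.algebraMap_apply]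
    by_cases hrm : r ∈ IsLocalRing.maximalIdeal R
    · apply haP
      apply hP₀p.mem_of_pow_mem (ringExpChar K ^ e)
      rw [hapow]
      rw [← hcomapR] at hrm
      exact hrm
    · have hru : IsUnit r := IsLocalRing.notMem_maximalIdeal.mp hrm
      have hau : IsUnit a := by
        have : IsUnit (a ^ (ringExpChar K ^ e)) := by rw [hapow]; exact hru.map _
        exact (isUnit_pow_iff (by omega)).mp this
      have hfu : IsUnit (τB ι₀ b) := by
        rw [ha, ← Finset.mul_prod_erase Finset.univ _ (Finset.mem_univ ι₀)] at hau
        exact isUnit_of_mul_isUnit_left hau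
      obtain ⟨c, hc⟩ := hfu.exists_right_inv
      have hcΩ : (algebraMap L (AlgebraicClosure L) (b : L)) * (c : AlgebraicClosure L) = 1 :=
        congrArg Subtype.val hc
      have hb0 : (b : L) ≠ 0 := by
        intro h0
        rw [h0, map_zero, zero_mul] at hcΩ
        exact zero_ne_one hcΩ
      have hcinv : (c : AlgebraicClosure L) = algebraMap L (AlgebraicClosure L) ((b : L)⁻¹) := by
        rw [map_inv₀]
        exact eq_inv_of_mul_eq_one_right hcΩ
      have hbinv : IsIntegral R ((b : L)⁻¹) := by
        rw [← isIntegral_algebraMap_iff (algebraMap L (AlgebraicClosure L)).injective, ← hcinv]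
        exact c.2
      have hbu : IsUnit b := by
        refine ⟨⟨b, ⟨(b : L)⁻¹, hbinv⟩, ?_, ?_⟩, rfl⟩
        · exact Subtype.ext (mul_inv_cancel₀ hb0)
        · exact Subtype.ext (inv_mul_cancel₀ hb0)
      exact hQ.ne_top (Ideal.eq_top_of_isUnit_mem _ hbQ hbu)
  choose sel hsel using fun Q : MaximalSpectrum (integralClosure R L) => claim Q.asIdeal Q.isMaximal
  have hinj : Function.Injective sel := by
    intro Q Q' h
    apply MaximalSpectrum.ext
    rw [hsel Q, hsel Q', h]
  exact ⟨Finite.of_injective sel hinj, (Nat.card_le_card_of_injective sel hinj).trans_eq hcard⟩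

end Groth.Agent.H46.MaxSpecSepDeg
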