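import Groth.Agent.S2082
import Groth.Agent.S1535
import Groth.Agent.Lib.Helper28.RegularCM
import Groth.Agent.Lib.Helper29.FlatAscent
import Groth.Agent.Lib.Helper55.FlatDim
import Groth.Agent.Lib.Helper55.LocalDim
import Groth.Agent.Lib.Helper55.Catenary
import Mathlib

/-!
# Quasi-finite algebras over a polynomial ring: flatness at a prime iff CM of the right dimension
-/

set_option autoImplicit false
universe u
open TensorProduct

namespace Groth.Agent.H46.MiracleQF

/-- residue field transcendence degrees agree along a quasi-finite map, hence so do the coheights -/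
theorem ringKrullDim_quotient_eq_under (k P S : Type u) [Field k] [CommRing P] [CommRing S]
    [Algebra k P] [Algebra k S]
    [Algebra.FiniteType k P] [Algebra.FiniteType k S] [Algebra P S] [IsScalarTower k P S]
    [Algebra.QuasiFinite P S] (q : Ideal S) [q.IsPrime] :
    ringKrullDim (S ⧸ q) = ringKrullDim (P ⧸ q.under P) := by
  obtain ⟨s₁, h1, h1'⟩ :=
    Groth.Agent.Lib.Helper55.exists_ringKrullDim_quotient_eq_and_trdeg_residueField_eq k S q
  obtain ⟨s₂, h2, h2'⟩ :=
    Groth.Agent.Lib.Helper55.exists_ringKrullDim_quotient_eq_and_trdeg_residueField_eq k P (q.under P)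
  have hlo : q.LiesOver (q.under P) := ⟨rfl⟩
  let _ := Localization.AtPrime.algebraOfLiesOver (q.under P) q
  have hfin : Module.Finite (q.under P).ResidueField q.ResidueField := inferInstance
  have halg : Algebra.IsAlgebraic (q.under P).ResidueField q.ResidueField := inferInstance
  have htower : IsScalarTower k (q.under P).ResidueField q.ResidueField := inferInstance
  have hadd := trdeg_add_eq (R := k) (S := (q.under P).ResidueField) (A := q.ResidueField)
  rw [trdeg_eq_zero (R := (q.under P).ResidueField) (A := q.ResidueField), add_zero] at hadd
  rw [h1, h2]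
  have : (s₂ : Cardinal) = s₁ := by rw [← h1', ← h2', hadd]
  have : s₂ = s₁ := by exact_mod_cast this
  rw [this]

/-- the closed fibre of `P_p → S_q` has dimension zero for a quasi-finite algebra -/
theorem ringKrullDim_fibRing_eq_zero (P S : Type u) [CommRing P] [CommRing S] [Algebra P S]
    [Algebra.QuasiFinite P S] (p : Ideal P) [p.IsPrime] (q : Ideal S) [q.IsPrime] [q.LiesOver p]
    [Algebra (Localization.AtPrime p) (Localization.AtPrime q)]
    [Localization.AtPrime.IsLiesOverAlgebra p q] :
    ringKrullDim (Localization.AtPrime q ⧸ (IsLocalRing.maximalIdeal (Localization.AtPrime p)).map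
      (algebraMap (Localization.AtPrime p) (Localization.AtPrime q))) = 0 := by
  set J := (IsLocalRing.maximalIdeal (Localization.AtPrime p)).map
      (algebraMap (Localization.AtPrime p) (Localization.AtPrime q)) with hJ
  have hkey : ∀ Q : Ideal (Localization.AtPrime q), Q.IsPrime → J ≤ Q →
      Q = IsLocalRing.maximalIdeal (Localization.AtPrime q) := by
    intro Q hQ hJQ
    have hQ'le : Q.comap (algebraMap S (Localization.AtPrime q)) ≤ q := by
      have := Ideal.comap_mono (f := algebraMap S (Localization.AtPrime q))
        (IsLocalRing.le_maximalIdeal hQ.ne_top)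
      have h2 : (IsLocalRing.maximalIdeal (Localization.AtPrime q)).comap
          (algebraMap S (Localization.AtPrime q)) = q :=
        IsLocalization.AtPrime.under_maximalIdeal (Localization.AtPrime q) q
      rwa [h2] at this
    have hunder : (Q.comap (algebraMap S (Localization.AtPrime q))).under P = q.under P := by
      apply le_antisymm
      · exact Ideal.comap_mono hQ'le
      · intro x hx
        have hxp : x ∈ p := by rwa [← Ideal.LiesOver.over (p := p) (P := q)] at hx
        show algebraMap S (Localization.AtPrime q) (algebraMap P S x) ∈ Q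
        rw [← IsScalarTower.algebraMap_apply, IsScalarTower.algebraMap_apply P
          (Localization.AtPrime p) (Localization.AtPrime q)]
        apply hJQ
        apply Ideal.mem_map_of_mem
        have h2 : (IsLocalRing.maximalIdeal (Localization.AtPrime p)).comap
            (algebraMap P (Localization.AtPrime p)) = p :=
          IsLocalization.AtPrime.under_maximalIdeal (Localization.AtPrime p) p
        rw [← h2] at hxp
        exact hxp
    have heq := Algebra.QuasiFinite.eq_of_le_of_under_eq (R := P)
      (Q.comap (algebraMap S (Localization.AtPrime q))) q hQ'le hunder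
    have h1 : (Q.comap (algebraMap S (Localization.AtPrime q))).map
        (algebraMap S (Localization.AtPrime q)) = Q :=
      IsLocalization.map_under q.primeCompl (Localization.AtPrime q) Q
    rw [heq] at h1
    rw [← h1, Localization.AtPrime.map_eq_maximalIdeal]
  have hJle : J ≤ IsLocalRing.maximalIdeal (Localization.AtPrime q) := by
    have hloc : IsLocalHom (algebraMap (Localization.AtPrime p) (Localization.AtPrime q)) := by
      rw [Localization.AtPrime.IsLiesOverAlgebra.algebraMap_eq]
      exact Localization.isLocalHom_localRingHom _ _ _ _
    exact IsLocalRing.map_maximalIdeal_le _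
  have hnt : Nontrivial (Localization.AtPrime q ⧸ J) :=
    Ideal.Quotient.nontrivial_iff.mpr (fun h => (IsLocalRing.maximalIdeal.isMaximal _).ne_top
      (top_le_iff.mp (h ▸ hJle)))
  have hle : Ring.KrullDimLE 0 (Localization.AtPrime q ⧸ J) := by
    apply Ring.KrullDimLE.mk₀
    intro I hI
    have hc := hkey (I.comap (Ideal.Quotient.mk J)) (Ideal.comap_isPrime _ _) (by
      intro x hx
      rw [Ideal.mem_comap, Ideal.Quotient.eq_zero_iff_mem.mpr hx]
      exact Ideal.zero_mem _)
    have hmax : (I.comap (Ideal.Quotient.mk J)).IsMaximal := hc ▸ IsLocalRing.maximalIdeal.isMaximal _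
    have := Ideal.map_eq_top_or_isMaximal_of_surjective (Ideal.Quotient.mk J)
      Ideal.Quotient.mk_surjective hmax
    rw [Ideal.map_comap_of_surjective _ Ideal.Quotient.mk_surjective] at this
    exact this.resolve_left hI.ne_top
  exact le_antisymm (Ring.krullDimLE_iff.mp hle) ringKrullDim_nonneg_of_nontrivial

end Groth.Agent.H46.MiracleQF
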