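import Mathlib
import Groth.Agent.Lib.Helper55.FiberTrdeg
import Groth.Agent.Lib.Helper55.LocalDimAffine
import Groth.Agent.Lib.Helper55.DimFormulaScheme
import Groth.Agent.Lib.Helper55.FibreDimFormula
import Groth.Agent.S4442
import Groth.Agent.S2082
import Groth.Agent.H46.CMAt2

set_option autoImplicit false
universe u

open AlgebraicGeometry CategoryTheory Limits

namespace Groth.Agent.H46.MiracleScheme

open Groth.Agent.Lib.Helper55

/-- For `X` locally of finite type over a field, with all irreducible components of dimension `e`: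
`dim O_{X,x} + dim cl{x} = e`. -/
theorem ringKrullDim_stalk_add_dim_closure (k : Type u) [Field k] (X : Scheme.{u})
    (f : X ⟶ Spec (CommRingCat.of k)) [LocallyOfFiniteType f] (e : ℕ)
    (hXe : ∀ Z ∈ irreducibleComponents (X : Type u), topologicalKrullDim Z = e) (x : X) :
    ringKrullDim (X.presheaf.stalk x) + topologicalKrullDim ↥(closure ({x} : Set X)) = e := by
  letI : X.Over (Spec (CommRingCat.of k)) := ⟨f⟩
  have hlft : LocallyOfFiniteType (X ↘ Spec (CommRingCat.of k)) := ‹LocallyOfFiniteType f›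
  obtain ⟨U, hU, hxU, -⟩ := exists_isAffineOpen_mem_and_subset (x := x) (U := ⊤) trivial
  letI alg : Algebra k Γ(X, U) := (sectionsMap k X U).toAlgebra
  haveI hft : Algebra.FiniteType k Γ(X, U) := sectionsMap_finiteType k X U hU
  set p := hU.primeIdealOf ⟨x, hxU⟩ with hp
  haveI : p.asIdeal.IsPrime := p.2
  obtain ⟨q, hqmin, hqp, hdim⟩ := exists_minimalPrimes_ringKrullDim_quotient_eq k Γ(X, U) p.asIdeal
  have hqprime : q.IsPrime := hqmin.1.1
  obtain ⟨ξ, hξU, hξq⟩ := exists_primeIdealOf_eq hU ⟨q, hqprime⟩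
  have hξq' : (hU.primeIdealOf ⟨ξ, hξU⟩).asIdeal = q := congrArg PrimeSpectrum.asIdeal hξq
  have hmaxξ : ∀ y : X, y ⤳ ξ → ξ ⤳ y := by
    intro y hy
    have hyU : y ∈ U := hy.mem_open U.2 hξU
    have h1 : (hU.primeIdealOf ⟨y, hyU⟩).asIdeal ≤ q := by
      rw [← hξq']
      exact (primeIdealOf_le_iff_specializes hU y ξ hyU hξU).mpr hy
    have h2 : q ≤ (hU.primeIdealOf ⟨y, hyU⟩).asIdeal :=
      hqmin.2 ⟨(hU.primeIdealOf ⟨y, hyU⟩).2, bot_le⟩ h1
    rw [← hξq'] at h2
    exact (primeIdealOf_le_iff_specializes hU ξ y hξU hyU).mp h2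
  have hcomp := closure_mem_irreducibleComponents_of_maximal ξ hmaxξ
  have h1 := topologicalKrullDim_closure_chart f hU.fromSpec p
  have h2 := topologicalKrullDim_closure_chart f hU.fromSpec (hU.primeIdealOf ⟨ξ, hξU⟩)
  rw [hU.fromSpec_primeIdealOf] at h1 h2
  rw [hξq'] at h2
  rw [Groth.Agent.S4442.ringKrullDim_stalk_eq_height X hU x hxU, h1, add_comm, ← hdim, ← h2]
  exact hXe _ hcomp


/-- transfer of "all irreducible components have dimension n" along a homeomorphism -/
theorem dim_components_of_homeomorph {S T : Type*} [TopologicalSpace S] [TopologicalSpace T]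
    (h : S ≃ₜ T) (n : WithBot ℕ∞)
    (hT : ∀ Z ∈ irreducibleComponents T, topologicalKrullDim Z = n) :
    ∀ Z ∈ irreducibleComponents S, topologicalKrullDim Z = n := by
  intro Z hZ
  have h1 : h '' Z ∈ irreducibleComponents T :=
    image_mem_irreducibleComponents_of_isPreirreducible_fiber h h.continuous h.isOpenMap
      (fun x => (Set.subsingleton_singleton.preimage h.injective).isPreirreducible)
      h.surjective hZ
  rw [← hT _ h1]
  exact IsHomeomorph.topologicalKrullDim_eq _ (h.image Z).isHomeomorph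

theorem exists_nat_ringKrullDim (R : Type u) [CommRing R] [IsLocalRing R] [IsNoetherianRing R] :
    ∃ n : ℕ, ringKrullDim R = (n : WithBot ℕ∞) := by
  obtain ⟨n, hn⟩ := Groth.Agent.H46.CMFlatLocal.ringKrullDim_eq_coe_of_local R
  exact ⟨n, hn⟩

theorem main (k : Type u) [Field k] {X Y : Scheme.{u}}
    (q : Y ⟶ Spec (CommRingCat.of k)) [LocallyOfFiniteType q] (f : X ⟶ Y)
    [LocallyOfFiniteType (f ≫ q)]
    (hY : ∀ y : Y, IsRegularLocalRing (Y.presheaf.stalk y))
    (hX : ∀ x : X, LocCoh.IsCohenMacaulayLocalRing (X.presheaf.stalk x))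
    (e d : ℕ) (hde : d ≤ e)
    (hXe : ∀ Z ∈ irreducibleComponents (X : Type u), topologicalKrullDim Z = e)
    (hYd : ∀ Z ∈ irreducibleComponents (Y : Type u), topologicalKrullDim Z = d)
    (hfib : ∀ y : Y, ∀ Z ∈ irreducibleComponents (f.base ⁻¹' {y}),
      topologicalKrullDim Z = (e - d : ℕ)) :
    Flat f := by
  haveI hlft : LocallyOfFiniteType f := locallyOfFiniteType_of_comp f q
  apply Flat.of_stalkMap
  intro x
  -- dimension formulas
  have hA := ringKrullDim_stalk_add_dim_closure k X (f ≫ q) e hXe x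
  have hB := ringKrullDim_stalk_add_dim_closure k Y q d hYd (f.base x)
  haveI hlftF : LocallyOfFiniteType (f.fiberToSpecResidueField (f.base x)) :=
    MorphismProperty.pullback_snd (P := @LocallyOfFiniteType) _ _ hlft
  have hFe : ∀ Z ∈ irreducibleComponents (↥(f.fiber (f.base x)) : Type u),
      topologicalKrullDim Z = ((e - d : ℕ) : WithBot ℕ∞) :=
    dim_components_of_homeomorph (f.fiberHomeo (f.base x)) _ (hfib (f.base x))
  have hC := ringKrullDim_stalk_add_dim_closure (Y.residueField (f.base x)) (f.fiber (f.base x))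
    (f.fiberToSpecResidueField (f.base x)) (e - d) hFe (f.asFiber x)
  obtain ⟨a, b, ha, hb, hab⟩ := exists_dim_closure_eq_add q f x
  rw [hab] at hA
  rw [ha] at hB
  rw [hb] at hC
  obtain ⟨eqv⟩ := Groth.Agent.H46.CMAt.nonempty_fibreStalk_equiv f x
  rw [← ringKrullDim_eq_of_ringEquiv eqv] at hC
  -- local algebra
  haveI := (hX x).toIsNoetherian
  haveI : IsNoetherianRing (X.presheaf.stalk x) := (hX x).toIsNoetherian
  algebraize [(f.stalkMap x).hom]
  haveI : IsLocalHom (algebraMap (Y.presheaf.stalk (f.base x)) (X.presheaf.stalk x)) :=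
    inferInstanceAs (IsLocalHom (f.stalkMap x).hom)
  haveI := hY (f.base x)
  haveI := hX x
  apply Groth.Agent.S2082.result
  have hC' : ringKrullDim (X.presheaf.stalk x ⧸ Ideal.map (algebraMap (Y.presheaf.stalk (f.base x))
      (X.presheaf.stalk x)) (IsLocalRing.maximalIdeal (Y.presheaf.stalk (f.base x)))) +
      (b : WithBot ℕ∞) = ((e - d : ℕ) : WithBot ℕ∞) := hC
  apply withBot_enat_add_right_cancel (a + b)
  rw [hA]
  have h1 : ringKrullDim (Y.presheaf.stalk (f.base x)) +
      ringKrullDim (X.presheaf.stalk x ⧸ Ideal.map (algebraMap (Y.presheaf.stalk (f.base x))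
        (X.presheaf.stalk x)) (IsLocalRing.maximalIdeal (Y.presheaf.stalk (f.base x)))) +
      ((a + b : ℕ) : WithBot ℕ∞) =
      (ringKrullDim (Y.presheaf.stalk (f.base x)) + (a : WithBot ℕ∞)) +
      (ringKrullDim (X.presheaf.stalk x ⧸ Ideal.map (algebraMap (Y.presheaf.stalk (f.base x))
        (X.presheaf.stalk x)) (IsLocalRing.maximalIdeal (Y.presheaf.stalk (f.base x)))) +
        (b : WithBot ℕ∞)) := by
    push_cast
    abel
  rw [h1, hB, hC']
  norm_cast
  omega

end Groth.Agent.H46.MiracleScheme
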