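import Mathlib

set_option autoImplicit false
universe u

namespace Groth.Agent.H46

/-- Nakayama for nilpotent ideals, no finiteness needed. -/
theorem eq_top_of_sup_smul_top_eq_top_of_pow_eq_bot {R M : Type*} [CommRing R] [AddCommGroup M]
    [Module R M] (N : Submodule R M) (J : Ideal R) (n : ℕ) (hJ : J ^ n = ⊥)
    (h : N ⊔ J • (⊤ : Submodule R M) = ⊤) : N = ⊤ := by
  have key : ∀ k : ℕ, N ⊔ (J ^ k) • (⊤ : Submodule R M) = ⊤ := by
    intro k
    induction k with
    | zero => simp
    | succ k ih =>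
      rw [eq_top_iff]
      calc (⊤ : Submodule R M) = N ⊔ J • (⊤ : Submodule R M) := h.symm
        _ = N ⊔ J • (N ⊔ (J ^ k) • (⊤ : Submodule R M)) := by rw [ih]
        _ = N ⊔ (J • N ⊔ J • ((J ^ k) • (⊤ : Submodule R M))) := by rw [Submodule.smul_sup]
        _ ≤ N ⊔ (J ^ (k + 1)) • (⊤ : Submodule R M) := by
          rw [← mul_smul, ← pow_succ']
          refine sup_le le_sup_left (sup_le ?_ le_sup_right)
          exact le_trans Submodule.smul_le_right le_sup_left
  have := key n
  rwa [hJ, Submodule.bot_smul, sup_bot_eq] at this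

/-- If every element of `I` is nilpotent, and `x ∈ I.map f`, there is a nilpotent finitely
generated `I₀ ≤ I` with `x ∈ I₀.map f`. -/
theorem exists_fg_le_mem_map {R S : Type*} [CommRing R] [CommRing S] (f : R →+* S) (I : Ideal R)
    (x : S) (hx : x ∈ I.map f) : ∃ I₀ : Ideal R, I₀.FG ∧ I₀ ≤ I ∧ x ∈ I₀.map f := by
  obtain ⟨T, hT, hxT⟩ := Submodule.mem_span_finite_of_mem_span hx
  classical
  obtain ⟨T', hT', rfl⟩ := Finset.subset_set_image_iff.mp hT
  refine ⟨Ideal.span (T' : Set R), ⟨T', rfl⟩, Ideal.span_le.mpr hT', ?_⟩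
  rw [Ideal.map_span]
  simpa using hxT

theorem surjective_of_surjective_mod_locally_nilpotent (R S S' : Type*) [CommRing R] [CommRing S]
    [CommRing S'] [Algebra R S] [Algebra R S'] [Algebra.FiniteType R S'] (I : Ideal R)
    (hI : ∀ x ∈ I, IsNilpotent x) (f : S →ₐ[R] S')
    (hf : Function.Surjective ((Ideal.Quotient.mk (I.map (algebraMap R S'))).comp f.toRingHom)) :
    Function.Surjective f := by
  classical
  obtain ⟨s, hs⟩ := (Algebra.FiniteType.out : (⊤ : Subalgebra R S').FG)
  -- for each `x`, a preimage modulo `I S'`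
  have h1 : ∀ x : S', ∃ y : S, ∃ I₀ : Ideal R, I₀.FG ∧ I₀ ≤ I ∧
      x - f y ∈ I₀.map (algebraMap R S') := by
    intro x
    obtain ⟨y, hy⟩ := hf (Ideal.Quotient.mk _ x)
    have : x - f y ∈ I.map (algebraMap R S') := by
      rw [← Ideal.Quotient.eq]
      exact hy.symm
    obtain ⟨I₀, h1, h2, h3⟩ := exists_fg_le_mem_map _ _ _ this
    exact ⟨y, I₀, h1, h2, h3⟩
  choose y I₀ hfg hle hmem using h1
  set J : Ideal R := s.sup I₀ with hJdef
  have hJfg : J.FG := by
    exact Submodule.fg_finset_sup s I₀ (fun x _ => hfg x)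
  have hJle : J ≤ I := Finset.sup_le (fun x _ => hle x)
  have hJnil : IsNilpotent J := by
    rw [Ideal.FG.isNilpotent_iff_le_nilradical hJfg]
    intro x hx
    exact mem_nilradical.mpr (hI x (hJle hx))
  obtain ⟨n, hn⟩ := hJnil
  have hn' : J ^ n = ⊥ := hn
  -- the key submodule statement
  set N : Submodule R S' := Subalgebra.toSubmodule f.range with hN
  have hmul : ∀ a ∈ J • (⊤ : Submodule R S'), ∀ z : S', a * z ∈ J • (⊤ : Submodule R S') := by
    intro a ha z
    refine Submodule.smul_induction_on ha ?_ ?_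
    · intro r hr m _
      rw [Algebra.smul_mul_assoc]
      exact Submodule.smul_mem_smul hr Submodule.mem_top
    · intro a b ha hb
      rw [add_mul]; exact add_mem ha hb
  have hsup : N ⊔ J • (⊤ : Submodule R S') = ⊤ := by
    rw [eq_top_iff]
    intro x _
    have hx : x ∈ Algebra.adjoin R (s : Set S') := by rw [hs]; trivial
    induction hx using Algebra.adjoin_induction with
    | mem x hx =>
      have h2 : x - f (y x) ∈ J • (⊤ : Submodule R S') := by
        have h3 := hmem x
        have h4 : I₀ x ≤ J := Finset.le_sup (f := I₀) hx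
        have h5 := Ideal.map_mono (f := algebraMap R S') h4 h3
        rw [Ideal.smul_top_eq_map]
        exact h5
      have : x = f (y x) + (x - f (y x)) := by ring
      rw [this]
      exact Submodule.add_mem_sup ⟨y x, rfl⟩ h2
    | algebraMap r =>
      exact Submodule.mem_sup_left (Subalgebra.algebraMap_mem _ r)
    | add a b _ _ ha hb => exact add_mem (ha trivial) (hb trivial)
    | mul a b _ _ ha hb =>
      obtain ⟨t, ht, a', ha', rfl⟩ := Submodule.mem_sup.mp (ha trivial)
      obtain ⟨t', ht', b', hb', rfl⟩ := Submodule.mem_sup.mp (hb trivial)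
      have : (t + a') * (t' + b') = t * t' + (a' * (t' + b') + b' * t) := by ring
      rw [this]
      refine Submodule.add_mem_sup (Subalgebra.mul_mem _ ht ht') (add_mem (hmul _ ha' _) (hmul _ hb' _))
  have := eq_top_of_sup_smul_top_eq_top_of_pow_eq_bot N J n hn' hsup
  intro x
  have hx : x ∈ N := by rw [this]; trivial
  exact hx

end Groth.Agent.H46
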