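import Mathlib
import Groth.Agent.H46.NilpSurj

set_option autoImplicit false
universe u

namespace Groth.Agent.H46

/-- If `S' = S/K` is flat over `R`, then `K ∩ I S ≤ I K`. -/
theorem mem_smul_ker_of_flat {R S S' : Type*} [CommRing R] [CommRing S] [CommRing S']
    [Algebra R S] [Algebra R S'] [Module.Flat R S'] (I : Ideal R) (f : S →ₐ[R] S')
    (hf : Function.Surjective f) (k : S) (hk : f k = 0)
    (hkI : k ∈ I • (⊤ : Submodule R S)) :
    k ∈ I • ((RingHom.ker f.toRingHom).restrictScalars R : Submodule R S) := by
  classical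
  have h0 : (⊤ : Submodule R S) = Submodule.span R (Set.range (id : S → S)) := by simp
  rw [h0, Submodule.mem_ideal_smul_span_iff_exists_sum] at hkI
  obtain ⟨a, ha, rfl⟩ := hkI
  -- the relation in `S'`
  have hrel : ∑ i : a.support, a i • f (i : S) = 0 := by
    rw [Finsupp.sum, map_sum] at hk
    rw [← hk, ← Finset.sum_coe_sort a.support]
    simp
  obtain ⟨m, b, y, hy, hb⟩ := Module.Flat.isTrivialRelation_of_sum_smul_eq_zero (R := R) (M := S')
    (f := fun i : a.support => a i) (x := fun i : a.support => f (i : S)) hrel
  have hy' : ∀ i : a.support, f (i : S) = ∑ j, b i j • y j := hy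
  have hb' : ∀ j, ∑ i : a.support, a i * b i j = 0 := hb
  choose t ht using fun j => hf (y j)
  -- rewrite the element
  have key : a.sum (fun i c => c • id i) =
      ∑ i : a.support, a i • ((i : S) - ∑ j, b i j • t j) := by
    rw [Finsupp.sum, ← Finset.sum_coe_sort a.support]
    simp only [id, smul_sub, Finset.sum_sub_distrib]
    rw [eq_sub_iff_add_eq, add_eq_left]
    simp only [Finset.smul_sum, smul_smul]
    rw [Finset.sum_comm]
    refine Finset.sum_eq_zero (fun j _ => ?_)
    rw [← Finset.sum_smul, hb' j, zero_smul]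
  rw [key]
  refine Submodule.sum_mem _ (fun i _ => Submodule.smul_mem_smul (ha i) ?_)
  show (i : S) - ∑ j, b i j • t j ∈ RingHom.ker f.toRingHom
  rw [RingHom.mem_ker]
  show f ((i : S) - ∑ j, b i j • t j) = 0
  rw [map_sub, map_sum, hy' i, sub_eq_zero]
  refine Finset.sum_congr rfl (fun j _ => ?_)
  rw [map_smul, ht]

theorem bijective_of_bijective_mod_locally_nilpotent_of_flat (R S S' : Type u)
    [CommRing R] [CommRing S] [CommRing S'] [Algebra R S] [Algebra R S'] [Algebra.FiniteType R S]
    [Algebra.FinitePresentation R S'] [Module.Flat R S'] (I : Ideal R) (hI : ∀ x ∈ I, IsNilpotent x)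
    (f : S →ₐ[R] S')
    (hsurj : Function.Surjective ((Ideal.Quotient.mk (I.map (algebraMap R S'))).comp f.toRingHom))
    (hker : ∀ s : S, f s ∈ I.map (algebraMap R S') → s ∈ I.map (algebraMap R S)) :
    Function.Bijective f := by
  have hf : Function.Surjective f :=
    surjective_of_surjective_mod_locally_nilpotent R S S' I hI f hsurj
  refine ⟨?_, hf⟩
  -- kernel is finitely generated
  letI : Algebra S S' := f.toRingHom.toAlgebra
  haveI : IsScalarTower R S S' := IsScalarTower.of_algebraMap_eq (fun r => (f.commutes r).symm)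
  haveI : Algebra.FinitePresentation S S' :=
    Algebra.FinitePresentation.of_restrict_scalars_finitePresentation R S S'
  have hfg : (RingHom.ker (Algebra.ofId S S').toRingHom).FG :=
    Algebra.FinitePresentation.ker_fG_of_surjective (Algebra.ofId S S') hf
  have hKeq : RingHom.ker (Algebra.ofId S S').toRingHom = RingHom.ker f.toRingHom := rfl
  rw [hKeq] at hfg
  set K : Ideal S := RingHom.ker f.toRingHom with hK
  -- K ≤ (I S) • K
  have hle : K ≤ (I.map (algebraMap R S)) • K := by
    intro k hk
    have hk0 : f k = 0 := hk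
    have h1 : k ∈ I.map (algebraMap R S) := hker k (by rw [hk0]; exact zero_mem _)
    have h2 : k ∈ I • (⊤ : Submodule R S) := by
      rw [Ideal.smul_top_eq_map]; exact h1
    have h3 := mem_smul_ker_of_flat I f hf k hk0 h2
    -- transport from R-smul to S-smul
    refine Submodule.smul_induction_on h3 ?_ ?_
    · intro r hr n hn
      rw [Algebra.smul_def r n, ← smul_eq_mul]
      exact Submodule.smul_mem_smul (Ideal.mem_map_of_mem (algebraMap R S) hr) hn
    · intro x y hx hy
      exact add_mem hx hy
  have hjac : I.map (algebraMap R S) ≤ Ideal.jacobson ⊥ := by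
    refine le_trans ?_ (Ideal.radical_le_jacobson (I := (⊥ : Ideal S)))
    show I.map (algebraMap R S) ≤ nilradical S
    rw [Ideal.map_le_iff_le_comap]
    intro x hx
    rw [Ideal.mem_comap, mem_nilradical]
    exact (hI x hx).map _
  have hbot : K = ⊥ := Submodule.eq_bot_of_le_smul_of_le_jacobson_bot _ K hfg hle hjac
  rw [injective_iff_map_eq_zero]
  intro x hx
  have : x ∈ K := hx
  rw [hbot] at this
  exact this

end Groth.Agent.H46

namespace Groth.Agent.H46

/-- Module version: if `N = M/K` is flat over `R`, then `K ∩ I M ≤ I K`. -/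
theorem mem_smul_ker_of_flat_module {R M N : Type*} [CommRing R] [AddCommGroup M] [Module R M]
    [AddCommGroup N] [Module R N] [Module.Flat R N] (I : Ideal R) (f : M →ₗ[R] N)
    (hf : Function.Surjective f) (k : M) (hk : f k = 0)
    (hkI : k ∈ I • (⊤ : Submodule R M)) :
    k ∈ I • LinearMap.ker f := by
  classical
  have h0 : (⊤ : Submodule R M) = Submodule.span R (Set.range (id : M → M)) := by simp
  rw [h0, Submodule.mem_ideal_smul_span_iff_exists_sum] at hkI
  obtain ⟨a, ha, rfl⟩ := hkI
  have hrel : ∑ i : a.support, a i • f (i : M) = 0 := by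
    rw [Finsupp.sum, map_sum] at hk
    rw [← hk, ← Finset.sum_coe_sort a.support]
    simp
  obtain ⟨m, b, y, hy, hb⟩ := Module.Flat.isTrivialRelation_of_sum_smul_eq_zero (R := R) (M := N)
    (f := fun i : a.support => a i) (x := fun i : a.support => f (i : M)) hrel
  have hy' : ∀ i : a.support, f (i : M) = ∑ j, b i j • y j := hy
  have hb' : ∀ j, ∑ i : a.support, a i * b i j = 0 := hb
  choose t ht using fun j => hf (y j)
  have key : a.sum (fun i c => c • id i) =
      ∑ i : a.support, a i • ((i : M) - ∑ j, b i j • t j) := by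
    rw [Finsupp.sum, ← Finset.sum_coe_sort a.support]
    simp only [id, smul_sub, Finset.sum_sub_distrib]
    rw [eq_sub_iff_add_eq, add_eq_left]
    simp only [Finset.smul_sum, smul_smul]
    rw [Finset.sum_comm]
    refine Finset.sum_eq_zero (fun j _ => ?_)
    rw [← Finset.sum_smul, hb' j, zero_smul]
  rw [key]
  refine Submodule.sum_mem _ (fun i _ => Submodule.smul_mem_smul (ha i) ?_)
  rw [LinearMap.mem_ker, map_sub, map_sum, hy' i, sub_eq_zero]
  refine Finset.sum_congr rfl (fun j _ => ?_)
  rw [map_smul, ht]

/-- The kernel of a surjection from a finite type algebra onto a finitely presented algebra is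
finitely generated. -/
theorem ker_fg_of_finiteType_of_finitePresentation (R S S' : Type*) [CommRing R] [CommRing S]
    [CommRing S'] [Algebra R S] [Algebra R S'] [Algebra.FiniteType R S]
    [Algebra.FinitePresentation R S'] (f : S →ₐ[R] S') (hf : Function.Surjective f) :
    (RingHom.ker f.toRingHom).FG := by
  letI : Algebra S S' := f.toRingHom.toAlgebra
  haveI : IsScalarTower R S S' := IsScalarTower.of_algebraMap_eq (fun r => (f.commutes r).symm)
  haveI : Algebra.FinitePresentation S S' :=
    Algebra.FinitePresentation.of_restrict_scalars_finitePresentation R S S'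
  exact Algebra.FinitePresentation.ker_fG_of_surjective (Algebra.ofId S S') hf

end Groth.Agent.H46
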