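/-
helper46: a local homomorphism of Noetherian local rings with zero-dimensional closed fibre which is
surjective on spectra does not lower the dimension.
-/
import Mathlib
import Groth.Agent.H46.CMFlatLocal

set_option autoImplicit false
universe u

namespace Groth.Agent.H46.SurjSpecDim

open IsLocalRing Groth.Agent.H46.CMFlatLocal

/-- If `J` contains an element outside all minimal primes then `dim R/J + 1 ≤ dim R`
(same proof as Mathlib's `ringKrullDim_quotient_succ_le_of_nonZeroDivisor`). -/
theorem ringKrullDim_quotient_succ_le {R : Type*} [CommRing R] (J : Ideal R) {r : R} (hrJ : r ∈ J)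
    (hr : ∀ p ∈ minimalPrimes R, r ∉ p) :
    ringKrullDim (R ⧸ J) + 1 ≤ ringKrullDim R := by
  by_cases hr' : J = ⊤
  · rw [hr', ringKrullDim_eq_bot_of_subsingleton]
    simp
  have : Nonempty (PrimeSpectrum.zeroLocus (R := R) J) := by
    rwa [Set.nonempty_coe_sort, Set.nonempty_iff_ne_empty, ne_eq,
      PrimeSpectrum.zeroLocus_empty_iff_eq_top]
  have := Ideal.Quotient.nontrivial_iff.mpr hr'
  have := (Ideal.Quotient.mk J).domain_nontrivial
  rw [ringKrullDim_quotient, Order.krullDim_eq_iSup_length, ringKrullDim,
    Order.krullDim_eq_iSup_length, ← WithBot.coe_one, ← WithBot.coe_add,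
    ENat.iSup_add, WithBot.coe_le_coe, iSup_le_iff]
  intro l
  obtain ⟨p, hp, hp'⟩ := Ideal.exists_minimalPrimes_le (J := l.head.1.asIdeal) bot_le
  let p' : PrimeSpectrum R := ⟨p, hp.1.1⟩
  have hp' : p' < l.head := lt_of_le_of_ne hp' fun h ↦ by
    have h1 : r ∈ l.head.1.asIdeal := l.head.2 hrJ
    rw [← h] at h1
    exact hr p hp h1
  refine le_trans ?_ (le_iSup _ ((l.map Subtype.val (fun _ _ ↦ id)).cons p' hp'))
  simp

/-- a zero-dimensional local ring has its maximal ideal as unique prime. -/
theorem eq_maximalIdeal_of_dim_zero {R : Type*} [CommRing R] [IsLocalRing R]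
    (h : ringKrullDim R ≤ 0) (q : Ideal R) [q.IsPrime] : q = maximalIdeal R := by
  haveI : Ring.KrullDimLE 0 R := Ring.krullDimLE_iff.mpr (by exact_mod_cast h)
  exact IsLocalRing.eq_maximalIdeal (Ideal.isMaximal_of_isPrime q)

theorem aux : ∀ (d : ℕ) (A B : Type u) [CommRing A] [CommRing B] [IsLocalRing A] [IsLocalRing B]
    [IsNoetherianRing A] [IsNoetherianRing B] [Algebra A B] [IsLocalHom (algebraMap A B)],
    Function.Surjective (PrimeSpectrum.comap (algebraMap A B)) →
    ringKrullDim (B ⧸ (maximalIdeal A).map (algebraMap A B)) = 0 →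
    ringKrullDim B ≤ d → ringKrullDim A ≤ d := by
  intro d
  induction d with
  | zero =>
    intro A B _ _ _ _ _ _ _ _ hsurj _ hB
    have hB' : ringKrullDim B ≤ 0 := by exact_mod_cast hB
    have : Ring.KrullDimLE 0 A := by
      rw [Ring.krullDimLE_zero_iff]
      intro p hp
      obtain ⟨q, hq⟩ := hsurj ⟨p, hp⟩
      have hq' : q.asIdeal = maximalIdeal B := eq_maximalIdeal_of_dim_zero hB' q.asIdeal
      have hp' : p = (maximalIdeal B).comap (algebraMap A B) := by
        rw [← hq']
        exact congrArg PrimeSpectrum.asIdeal hq.symm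
      rw [hp', IsLocalRing.maximalIdeal_comap]
      infer_instance
    exact_mod_cast Ring.krullDimLE_iff.mp this
  | succ d ih =>
    intro A B _ _ _ _ _ _ _ _ hsurj hfib hB
    by_cases hBd : ringKrullDim B ≤ d
    · exact (ih A B hsurj hfib hBd).trans (by exact_mod_cast Nat.le_succ d)
    -- minimal primes of B do not contract to the maximal ideal of A
    have hmin : ∀ q ∈ minimalPrimes B, ¬ maximalIdeal A ≤ q.comap (algebraMap A B) := by
      intro q hq hle
      haveI : q.IsPrime := hq.1.1
      have hle' : (maximalIdeal A).map (algebraMap A B) ≤ q := Ideal.map_le_iff_le_comap.mpr hle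
      have hI : (maximalIdeal A).map (algebraMap A B) ≤ maximalIdeal B :=
        map_maximalIdeal_le (algebraMap A B)
      haveI := isLocalRing_quot B _ hI
      haveI : (q.map (Ideal.Quotient.mk ((maximalIdeal A).map (algebraMap A B)))).IsPrime :=
        Ideal.map_isPrime_of_surjective Ideal.Quotient.mk_surjective (by rwa [Ideal.mk_ker])
      have h1 := eq_maximalIdeal_of_dim_zero hfib.le
        (q.map (Ideal.Quotient.mk ((maximalIdeal A).map (algebraMap A B))))
      rw [← maximalIdeal_quot B _ hI] at h1
      have h2 : q = maximalIdeal B := by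
        have h3 := congrArg (Ideal.comap (Ideal.Quotient.mk
          ((maximalIdeal A).map (algebraMap A B)))) h1
        rw [Ideal.comap_map_of_surjective _ Ideal.Quotient.mk_surjective,
          Ideal.comap_map_of_surjective _ Ideal.Quotient.mk_surjective,
          ← RingHom.ker_eq_comap_bot, Ideal.mk_ker, sup_eq_left.mpr hle',
          sup_eq_left.mpr hI] at h3
        exact h3
      -- then the maximal ideal is minimal, so dim B = 0
      apply hBd
      have h4 : (maximalIdeal B).height = 0 := by
        rw [← h2]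
        exact Ideal.height_eq_zero_iff.mpr hq
      rw [← IsLocalRing.maximalIdeal_height_eq_ringKrullDim, h4]
      exact_mod_cast Nat.zero_le d
    -- prime avoidance
    classical
    have hfin : (minimalPrimes B).Finite := minimalPrimes.finite_of_isNoetherianRing B
    have havoid : ¬ ((maximalIdeal A : Set A) ⊆
        ⋃ q ∈ (hfin.toFinset : Set (Ideal B)), (q.comap (algebraMap A B) : Set A)) := by
      intro hsub
      rw [Ideal.subset_union_prime (f := fun q : Ideal B => q.comap (algebraMap A B))
        ⊥ ⊥ (fun q hq _ _ => by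
          haveI : q.IsPrime := (hfin.mem_toFinset.mp hq).1.1
          exact Ideal.comap_isPrime _ _)] at hsub
      obtain ⟨q, hq, hle⟩ := hsub
      exact hmin q (hfin.mem_toFinset.mp hq) hle
    rw [Set.not_subset] at havoid
    obtain ⟨a, haA, hanot⟩ := havoid
    have ha : ∀ q ∈ minimalPrimes B, algebraMap A B a ∉ q := by
      intro q hq hmem
      apply hanot
      rw [Set.mem_iUnion₂]
      exact ⟨q, by exact_mod_cast hfin.mem_toFinset.mpr hq, hmem⟩
    -- quotients
    have hIA : Ideal.span {a} ≤ maximalIdeal A := (Ideal.span_singleton_le_iff_mem _).mpr haA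
    haveI := isLocalRing_quot A _ hIA
    haveI := isLocalRing_quot B _ (map_le_maximalIdeal A B _ hIA)
    haveI := isLocalHom_quot A B _ hIA
    have hdimB' : ringKrullDim (B ⧸ (Ideal.span {a}).map (algebraMap A B)) ≤ d := by
      have h1 := ringKrullDim_quotient_succ_le ((Ideal.span {a}).map (algebraMap A B))
        (Ideal.mem_map_of_mem _ (Ideal.mem_span_singleton_self a)) ha
      have h2 := h1.trans hB
      have hnt : Nontrivial (B ⧸ (Ideal.span {a}).map (algebraMap A B)) := inferInstance
      obtain ⟨n, hn⟩ := ringKrullDim_eq_coe_of_local (B ⧸ (Ideal.span {a}).map (algebraMap A B))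
      rw [hn] at h2 ⊢
      have h3 : ((n + 1 : ℕ) : WithBot ℕ∞) ≤ ((d + 1 : ℕ) : WithBot ℕ∞) := by
        exact_mod_cast h2
      have h4 : n + 1 ≤ d + 1 := by exact_mod_cast h3
      exact_mod_cast Nat.le_of_succ_le_succ h4
    have hsurj' : Function.Surjective (PrimeSpectrum.comap
        (algebraMap (A ⧸ Ideal.span {a}) (B ⧸ (Ideal.span {a}).map (algebraMap A B)))) := by
      intro p'
      obtain ⟨q, hq⟩ := hsurj (PrimeSpectrum.comap (Ideal.Quotient.mk (Ideal.span {a})) p')
      have hqmem : q ∈ Set.range (PrimeSpectrum.comap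
          (Ideal.Quotient.mk ((Ideal.span {a}).map (algebraMap A B)))) := by
        rw [range_comap_of_surjective _ _ Ideal.Quotient.mk_surjective,
          Ideal.mk_ker, PrimeSpectrum.mem_zeroLocus, SetLike.coe_subset_coe,
          Ideal.map_le_iff_le_comap]
        have h1 : Ideal.span {a} ≤
            (PrimeSpectrum.comap (Ideal.Quotient.mk (Ideal.span {a})) p').asIdeal := by
          rw [PrimeSpectrum.comap_asIdeal]
          intro x hx
          rw [Ideal.mem_comap, Ideal.Quotient.eq_zero_iff_mem.mpr hx]
          exact Ideal.zero_mem _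
        rw [← hq] at h1
        exact h1
      obtain ⟨q', rfl⟩ := hqmem
      refine ⟨q', ?_⟩
      apply PrimeSpectrum.comap_injective_of_surjective _ Ideal.Quotient.mk_surjective
      rw [← hq]
      ext x
      simp only [PrimeSpectrum.comap_asIdeal, Ideal.mem_comap]
      rfl
    have hfib' : ringKrullDim ((B ⧸ (Ideal.span {a}).map (algebraMap A B)) ⧸
        (maximalIdeal (A ⧸ Ideal.span {a})).map
          (algebraMap (A ⧸ Ideal.span {a}) (B ⧸ (Ideal.span {a}).map (algebraMap A B)))) = 0 := by
      rw [ringKrullDim_eq_of_ringEquiv (fibRingQuotEquiv A B _ hIA)]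
      exact hfib
    have h5 := ih (A ⧸ Ideal.span {a}) (B ⧸ (Ideal.span {a}).map (algebraMap A B))
      hsurj' hfib' hdimB'
    have h6 := ringKrullDim_le_ringKrullDim_quotient_add_encard ({a} : Set A) (by
      rw [Set.singleton_subset_iff, IsLocalRing.ringJacobson_eq_maximalIdeal]
      exact haA)
    rw [Set.encard_singleton] at h6
    refine h6.trans ?_
    have : ringKrullDim (A ⧸ Ideal.span {a}) + ((1 : ℕ∞) : WithBot ℕ∞) ≤ (d : WithBot ℕ∞) + 1 :=
      add_le_add_left h5 _
    exact_mod_cast this

/-- **Main lemma**: a local homomorphism of Noetherian local rings which is surjective on spectra and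
has zero-dimensional closed fibre satisfies `dim A ≤ dim B`. -/
theorem ringKrullDim_le_of_comap_surjective (A B : Type u) [CommRing A] [CommRing B]
    [IsLocalRing A] [IsLocalRing B] [IsNoetherianRing A] [IsNoetherianRing B] [Algebra A B]
    [IsLocalHom (algebraMap A B)]
    (hsurj : Function.Surjective (PrimeSpectrum.comap (algebraMap A B)))
    (hfib : ringKrullDim (B ⧸ (maximalIdeal A).map (algebraMap A B)) = 0) :
    ringKrullDim A ≤ ringKrullDim B := by
  obtain ⟨n, hn⟩ := ringKrullDim_eq_coe_of_local B
  rw [hn]
  exact aux n A B hsurj hfib (by rw [hn]; rfl)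

end Groth.Agent.H46.SurjSpecDim
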