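/-
helper46: dimension formula when `f` is open at the generic points of the components of the fibre
through `x` (EGA IV 14.2.1) — S2559.
-/
import Mathlib
import Groth.Agent.H46.SurjSpecDim
import Groth.Agent.H46.FibreGeneric
import Groth.Agent.H72.OpenAt
import Groth.Agent.Lib.Helper14.StalkGenPt

set_option autoImplicit false
universe u

open AlgebraicGeometry CategoryTheory Limits

namespace Groth.Agent.H46.OpenAtDim

open IsLocalRing Groth.Agent.H46.CMFlatLocal Groth.Agent.Lib.Helper14

/-- coheight along a chain. -/
theorem coheight_last_add_length_le {α : Type*} [Preorder α] :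
    ∀ (n : ℕ) (p : LTSeries α), p.length = n →
      Order.coheight p.last + n ≤ Order.coheight p.head := by
  intro n
  induction n with
  | zero =>
    intro p hp
    have : p.last = p.head := by
      unfold RelSeries.last RelSeries.head
      congr 1
      ext
      simp [hp]
    rw [this]
    simp
  | succ n ih =>
    intro p hp
    have hne : p.length ≠ 0 := by omega
    have h1 := ih p.eraseLast (by simp [hp])
    have h2 : p.eraseLast.last < p.last := p.eraseLast_last_rel_last hne
    have h3 := Order.coheight_add_one_le h2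
    rw [RelSeries.head_eraseLast] at h1
    calc Order.coheight p.last + ((n + 1 : ℕ) : ℕ∞)
        = (Order.coheight p.last + 1) + n := by push_cast; ring
      _ ≤ Order.coheight p.eraseLast.last + n := by gcongr
      _ ≤ Order.coheight p.head := h1

/-- transport of the dimension of a stalk. -/
theorem ringKrullDim_stalk_congr {Y : Scheme.{u}} {a b : Y} (h : a = b) :
    ringKrullDim (Y.presheaf.stalk a) = ringKrullDim (Y.presheaf.stalk b) := by
  subst h; rfl

/-- generizations lift ⇒ the stalk map is surjective on spectra. -/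
theorem comap_stalkMap_surjective {X Y : Scheme.{u}} (f : X ⟶ Y) (z : X)
    (h : ∀ y' : Y, y' ⤳ f.base z → ∃ z' : X, z' ⤳ z ∧ f.base z' = y') :
    Function.Surjective (PrimeSpectrum.comap (f.stalkMap z).hom) := by
  intro p
  have hy' : Y.fromSpecStalk (f z) p ⤳ f z := fromSpecStalk_specializes p
  obtain ⟨z', hz', hfz'⟩ := h _ hy'
  refine ⟨genPt hz', ?_⟩
  apply (Y.fromSpecStalk (f z)).isEmbedding.injective
  have h1 := Scheme.SpecMap_stalkMap_fromSpecStalk (f := f) (x := z)
  have h2 : (Spec.map (f.stalkMap z) ≫ Y.fromSpecStalk (f z)) (genPt hz') =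
      (X.fromSpecStalk z ≫ f) (genPt hz') := by rw [h1]
  rw [Scheme.Hom.comp_apply, Scheme.Hom.comp_apply, fromSpecStalk_genPt, hfz'] at h2
  exact h2

/-- S2559. -/
theorem main {X Y : Scheme.{u}} [IsLocallyNoetherian X] [IsLocallyNoetherian Y]
    (f : X ⟶ Y) (x : X)
    (h : ∀ z : ↥(f.fiber (f.base x)), f.asFiber x ∈ closure {z} →
      (∀ z' : ↥(f.fiber (f.base x)), z ∈ closure {z'} → z' = z) →
      EGA43.IsOpenAt f.base ((f.fiberι (f.base x)).base z)) :
    ringKrullDim (X.presheaf.stalk x) =
      ringKrullDim (Y.presheaf.stalk (f.base x)) +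
        ringKrullDim ((f.fiber (f.base x)).presheaf.stalk (f.asFiber x)) := by
  obtain ⟨e0⟩ := Groth.Agent.H46.CMAt.nonempty_fibreStalk_equiv f x
  apply le_antisymm
  · letI := (f.stalkMap x).hom.toAlgebra
    haveI : IsLocalHom (algebraMap (Y.presheaf.stalk (f.base x)) (X.presheaf.stalk x)) :=
      inferInstanceAs (IsLocalHom (f.stalkMap x).hom)
    have h1 := Groth.Agent.H46.FibreGeneric.ringKrullDim_le_add (Y.presheaf.stalk (f.base x))
      (X.presheaf.stalk x)
    rw [← ringKrullDim_eq_of_ringEquiv e0]
    exact h1
  · haveI : IsNoetherianRing (X.presheaf.stalk x ⧸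
        Ideal.map (f.stalkMap x).hom (maximalIdeal (Y.presheaf.stalk (f.base x)))) :=
      isNoetherianRing_of_surjective (X.presheaf.stalk x) _ (Ideal.Quotient.mk _)
        Ideal.Quotient.mk_surjective
    haveI : IsNoetherianRing ((f.fiber (f.base x)).presheaf.stalk (f.asFiber x)) :=
      isNoetherianRing_of_ringEquiv _ e0
    obtain ⟨n, hn⟩ := ringKrullDim_eq_coe_of_local
      ((f.fiber (f.base x)).presheaf.stalk (f.asFiber x))
    have hco : Order.coheight (f.asFiber x) = n := by
      have := ringKrullDim_stalk_eq_coheight (f.asFiber x)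
      rw [hn] at this
      exact_mod_cast this.symm
    obtain ⟨p, hp0, hpn⟩ := Order.exists_series_of_coheight_eq_coe (f.asFiber x) hco
    have hspec : p.last ⤳ f.asFiber x := by
      have := LTSeries.head_le_last p
      rw [hp0] at this
      exact this
    have hmax : ∀ z' : ↥(f.fiber (f.base x)), p.last ∈ closure {z'} → z' = p.last := by
      intro z' hz'
      by_contra hne
      have hspec' : z' ⤳ p.last := specializes_iff_mem_closure.mpr hz'
      have hlt : p.last < z' := ⟨hspec', fun h' => hne (hspec'.antisymm h').eq⟩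
      have := Order.length_le_coheight_head (p := p.snoc z' hlt)
      rw [RelSeries.head_snoc, hp0, hco, RelSeries.snoc_length, hpn] at this
      have h2 : n + 1 ≤ n := by exact_mod_cast this
      omega
    have hopen := h p.last (specializes_iff_mem_closure.mp hspec) hmax
    have hfz : f.base ((f.fiberι (f.base x)).base p.last) = f.base x := by
      have h1 : (f.fiberι (f.base x)).base p.last ∈ Set.range (f.fiberι (f.base x)) :=
        ⟨p.last, rfl⟩
      rw [Scheme.Hom.range_fiberι] at h1
      exact h1
    have hgl := Groth.Agent.H72.OpenAt.genLift_of_isOpenAt_scheme f _ hopen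
    have hsurj := comap_stalkMap_surjective f _ hgl
    have hdim0 : ringKrullDim ((f.fiber (f.base x)).presheaf.stalk p.last) = 0 :=
      Groth.Agent.H46.DepthAlong.ringKrullDim_stalk_eq_zero_of_maximal p.last
        (fun b hb => hmax b (specializes_iff_mem_closure.mp hb))
    have e2 := Groth.Agent.H46.CMAt.fibreStalkEquiv f (f.base x) p.last
    have hA : ringKrullDim (Y.presheaf.stalk (f.base ((f.fiberι (f.base x)).base p.last))) ≤
        ringKrullDim (X.presheaf.stalk ((f.fiberι (f.base x)).base p.last)) := by
      letI := (f.stalkMap ((f.fiberι (f.base x)).base p.last)).hom.toAlgebra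
      haveI : IsLocalHom (algebraMap
          (Y.presheaf.stalk (f.base ((f.fiberι (f.base x)).base p.last)))
          (X.presheaf.stalk ((f.fiberι (f.base x)).base p.last))) :=
        inferInstanceAs (IsLocalHom (f.stalkMap ((f.fiberι (f.base x)).base p.last)).hom)
      refine Groth.Agent.H46.SurjSpecDim.ringKrullDim_le_of_comap_surjective _ _ hsurj ?_
      rw [← hdim0]
      exact ringKrullDim_eq_of_ringEquiv e2
    have hmono : StrictMono (f.fiberι (f.base x)).base := by
      intro a b hab
      refine ⟨hab.1.map (f.fiberι (f.base x)).continuous, fun h' => hab.2 ?_⟩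
      exact (f.fiberι (f.base x)).isEmbedding.isInducing.specializes_iff.mp h'
    have hchain := coheight_last_add_length_le n (p.map _ hmono) (by simp [hpn])
    rw [LTSeries.last_map, LTSeries.head_map, hp0, Scheme.Hom.fiberι_asFiber] at hchain
    rw [ringKrullDim_stalk_eq_coheight x, hn, ← ringKrullDim_stalk_congr hfz]
    calc ringKrullDim (Y.presheaf.stalk (f.base ((f.fiberι (f.base x)).base p.last))) +
          ((n : ℕ∞) : WithBot ℕ∞)
        ≤ ringKrullDim (X.presheaf.stalk ((f.fiberι (f.base x)).base p.last)) +
          ((n : ℕ∞) : WithBot ℕ∞) := by gcongr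
      _ = ((Order.coheight ((f.fiberι (f.base x)).base p.last) : ℕ∞) : WithBot ℕ∞) +
          ((n : ℕ∞) : WithBot ℕ∞) := by rw [ringKrullDim_stalk_eq_coheight]
      _ ≤ ((Order.coheight x : ℕ∞) : WithBot ℕ∞) := by exact_mod_cast hchain

end Groth.Agent.H46.OpenAtDim
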