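import Groth.Prelude.Def_CohB1
import Mathlib

set_option autoImplicit false
universe u

namespace Groth.Agent.H46.ProjChart

open MvPolynomial HomogeneousLocalization AlgebraicGeometry

variable (n : ℕ) (R : Type u) [CommRing R]

theorem adjoin_X : Algebra.adjoin (CohB1.polyGrading n R 0)
    (Set.range (X : Fin (n + 1) → MvPolynomial (Fin (n + 1)) R)) = ⊤ := by
  rw [eq_top_iff]
  intro p _
  clear ‹p ∈ ⊤›
  have hp : p ∈ Algebra.adjoin R (Set.range (X : Fin (n + 1) → MvPolynomial (Fin (n + 1)) R)) := by
    rw [MvPolynomial.adjoin_range_X]; trivial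
  induction hp using Algebra.adjoin_induction with
  | mem x hx => exact Algebra.subset_adjoin hx
  | algebraMap r =>
    have : algebraMap R (MvPolynomial (Fin (n + 1)) R) r =
        algebraMap (CohB1.polyGrading n R 0) (MvPolynomial (Fin (n + 1)) R)
          (algebraMap R (CohB1.polyGrading n R 0) r) := rfl
    rw [this]
    exact Subalgebra.algebraMap_mem _ _
  | add x y _ _ hx hy => exact add_mem hx hy
  | mul x y _ _ hx hy => exact mul_mem hx hy

theorem cover : (⨆ i : Fin (n + 1), Proj.basicOpen (CohB1.polyGrading n R) (MvPolynomial.X i)) = ⊤ :=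
  Proj.iSup_basicOpen_eq_top' (CohB1.polyGrading n R) X
    (fun i => ⟨1, MvPolynomial.isHomogeneous_X R i⟩) (adjoin_X n R)

variable {n R}

/-- the fraction `T_j / T_i` in the degree zero localization -/
noncomputable def q (i j : Fin (n + 1)) :
    HomogeneousLocalization.Away (CohB1.polyGrading n R) (MvPolynomial.X i) :=
  HomogeneousLocalization.mk ⟨1, ⟨MvPolynomial.X j, MvPolynomial.isHomogeneous_X R j⟩,
    ⟨MvPolynomial.X i, MvPolynomial.isHomogeneous_X R i⟩, ⟨1, pow_one _⟩⟩

/-- the dehomogenisation map -/
noncomputable def ψ (i : Fin (n + 1)) : MvPolynomial {j : Fin (n + 1) // j ≠ i} R →+*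
    HomogeneousLocalization.Away (CohB1.polyGrading n R) (MvPolynomial.X i) :=
  MvPolynomial.eval₂Hom
    ((HomogeneousLocalization.fromZeroRingHom (CohB1.polyGrading n R)
      (Submonoid.powers (MvPolynomial.X i))).comp (algebraMap R (CohB1.polyGrading n R 0)))
    (fun j : {j : Fin (n + 1) // j ≠ i} => q i j.1)

theorem q_self (i : Fin (n + 1)) : q (R := R) i i = 1 := by
  apply HomogeneousLocalization.val_injective
  rw [q, HomogeneousLocalization.val_mk, HomogeneousLocalization.val_one]
  exact Localization.mk_self ⟨X i, _⟩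

theorem val_q_mul (i j : Fin (n + 1)) :
    (q (R := R) i j).val * algebraMap (MvPolynomial (Fin (n + 1)) R)
        (Localization.Away (X i : MvPolynomial (Fin (n + 1)) R)) (X i) =
      algebraMap (MvPolynomial (Fin (n + 1)) R)
        (Localization.Away (X i : MvPolynomial (Fin (n + 1)) R)) (X j) := by
  rw [q, HomogeneousLocalization.val_mk]
  simp only
  rw [← Localization.mk_one_eq_algebraMap, ← Localization.mk_one_eq_algebraMap, Localization.mk_mul,
    Localization.mk_eq_mk_iff, Localization.r_iff_exists]
  exact ⟨1, by simp [mul_comm]⟩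

theorem q_mem_range (i j : Fin (n + 1)) : q (R := R) i j ∈ (ψ i).range := by
  by_cases h : j = i
  · subst h
    rw [q_self]
    exact one_mem _
  · exact ⟨X ⟨j, h⟩, by simp [ψ]⟩

theorem ψ_surjective (i : Fin (n + 1)) : Function.Surjective (ψ (R := R) i) := by
  intro x
  have hf : (X i : MvPolynomial (Fin (n + 1)) R) ∈ CohB1.polyGrading n R 1 :=
    MvPolynomial.isHomogeneous_X R i
  have hspan := HomogeneousLocalization.Away.span_mk_prod_pow_eq_top hf
    (X : Fin (n + 1) → MvPolynomial (Fin (n + 1)) R) (adjoin_X n R) (fun _ => 1)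
    (fun j => MvPolynomial.isHomogeneous_X R j)
  have hx : x ∈ (⊤ : Submodule (CohB1.polyGrading n R 0) _) := trivial
  rw [← hspan] at hx
  show x ∈ (ψ i).range
  induction hx using Submodule.span_induction with
  | mem y hy =>
    obtain ⟨a, ai, hai, rfl⟩ := hy
    have key : HomogeneousLocalization.Away.mk (CohB1.polyGrading n R) hf a (∏ j, X j ^ ai j)
        (hai ▸ SetLike.prod_pow_mem_graded _ _ _ _ fun j _ ↦ MvPolynomial.isHomogeneous_X R j) =
        ∏ j, q i j ^ ai j := by
      apply HomogeneousLocalization.val_injective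
      have hu : IsUnit (algebraMap (MvPolynomial (Fin (n + 1)) R)
          (Localization.Away (X i : MvPolynomial (Fin (n + 1)) R)) (X i ^ a)) := by
        rw [map_pow]
        exact (IsLocalization.Away.algebraMap_isUnit _).pow a
      apply hu.mul_left_injective
      dsimp only
      rw [HomogeneousLocalization.Away.val_mk, Localization.mk_eq_mk'_apply, IsLocalization.mk'_spec]
      have ha : a = ∑ j, ai j := by
        simpa using hai.symm
      rw [← HomogeneousLocalization.algebraMap_apply, ha, ← Finset.prod_pow_eq_pow_sum,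
        map_prod, map_prod, map_prod, ← Finset.prod_mul_distrib]
      refine Finset.prod_congr rfl fun j _ => ?_
      rw [map_pow, map_pow, map_pow, ← mul_pow, HomogeneousLocalization.algebraMap_apply, val_q_mul]
    rw [key]
    exact prod_mem fun j _ => pow_mem (q_mem_range i j) _
  | zero => exact zero_mem _
  | add y z _ _ hy hz => exact add_mem hy hz
  | smul r y _ hy =>
    rw [Algebra.smul_def]
    refine mul_mem ?_ hy
    obtain ⟨r, hr⟩ := r
    have hr' := hr
    change r ∈ MvPolynomial.homogeneousSubmodule (Fin (n + 1)) R 0 at hr'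
    rw [MvPolynomial.homogeneousSubmodule_zero, Submodule.mem_one] at hr'
    obtain ⟨r₀, rfl⟩ := hr'
    refine ⟨C r₀, ?_⟩
    simp only [ψ, MvPolynomial.coe_eval₂Hom, MvPolynomial.eval₂_C]
    rfl

/-- setting `T_i = 1` -/
noncomputable def ev (i : Fin (n + 1)) :
    MvPolynomial (Fin (n + 1)) R →+* MvPolynomial {j : Fin (n + 1) // j ≠ i} R :=
  (MvPolynomial.aeval (R := R)
    (fun j => if h : j = i then (1 : MvPolynomial {j : Fin (n + 1) // j ≠ i} R) else X ⟨j, h⟩)).toRingHom

theorem ev_X_self (i : Fin (n + 1)) : ev (R := R) i (X i) = 1 := by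
  simp [ev]

theorem ev_X_ne (i j : Fin (n + 1)) (h : j ≠ i) : ev (R := R) i (X j) = X ⟨j, h⟩ := by
  simp [ev, h]

theorem ev_C (i : Fin (n + 1)) (r : R) : ev (R := R) i (C r) = C r := by
  simp [ev]

/-- the left inverse of `ψ` -/
noncomputable def L (i : Fin (n + 1)) :
    HomogeneousLocalization.Away (CohB1.polyGrading n R) (MvPolynomial.X i) →+*
      MvPolynomial {j : Fin (n + 1) // j ≠ i} R :=
  (IsLocalization.Away.lift (S := Localization.Away (X i : MvPolynomial (Fin (n + 1)) R)) (X i)
    (g := ev i) (by rw [ev_X_self]; exact isUnit_one)).comp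
    (algebraMap _ (Localization.Away (X i : MvPolynomial (Fin (n + 1)) R)))

theorem L_comp_ψ (i : Fin (n + 1)) : (L (R := R) i).comp (ψ i) = RingHom.id _ := by
  apply MvPolynomial.ringHom_ext
  · intro r
    simp only [RingHom.comp_apply, ψ, MvPolynomial.coe_eval₂Hom, MvPolynomial.eval₂_C, L,
      RingHom.id_apply, HomogeneousLocalization.algebraMap_apply]
    have : (HomogeneousLocalization.fromZeroRingHom (CohB1.polyGrading n R)
        (Submonoid.powers (MvPolynomial.X i)) (algebraMap R (CohB1.polyGrading n R 0) r)).val =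
        algebraMap (MvPolynomial (Fin (n + 1)) R) (Localization.Away (X i)) (C r) := by
      rw [HomogeneousLocalization.fromZeroRingHom]
      simp only [RingHom.coe_mk, MonoidHom.coe_mk, OneHom.coe_mk, HomogeneousLocalization.val_mk]
      rw [← Localization.mk_one_eq_algebraMap]
      rfl
    rw [this, IsLocalization.Away.lift_eq, ev_C]
  · intro j
    simp only [RingHom.comp_apply, ψ, MvPolynomial.coe_eval₂Hom, MvPolynomial.eval₂_X, L,
      RingHom.id_apply, HomogeneousLocalization.algebraMap_apply]
    have h1 := congrArg (IsLocalization.Away.lift (S := Localization.Away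
      (X i : MvPolynomial (Fin (n + 1)) R)) (X i)
      (g := ev (R := R) i) (by rw [ev_X_self]; exact isUnit_one)) (val_q_mul (R := R) i j.1)
    rw [map_mul, IsLocalization.Away.lift_eq, IsLocalization.Away.lift_eq] at h1
    have h2 : (ev (R := R) i) (X i) = 1 := ev_X_self i
    generalize_proofs pf at h1 ⊢
    rw [h2, mul_one, ev_X_ne i j.1 j.2] at h1
    exact h1

theorem ψ_injective (i : Fin (n + 1)) : Function.Injective (ψ (R := R) i) := by
  intro a b hab
  have h1 := congrArg (L (R := R) i) hab
  rw [← RingHom.comp_apply, ← RingHom.comp_apply, L_comp_ψ] at h1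
  exact h1

theorem ψ_bijective (i : Fin (n + 1)) : Function.Bijective (ψ (R := R) i) :=
  ⟨ψ_injective i, ψ_surjective i⟩

end Groth.Agent.H46.ProjChart
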