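import Mathlib

set_option autoImplicit false
universe u

namespace Groth.Agent.H46

open TensorProduct

/-- Finite type + finitely many primes over `p` implies the fibre over `p` is a finite module. -/
theorem finite_fiber_of_finite_primesOver {R S : Type*} [CommRing R] [CommRing S] [Algebra R S]
    [Algebra.FiniteType R S] (p : Ideal R) [p.IsPrime] (hfin : (p.primesOver S).Finite) :
    Module.Finite p.ResidueField (p.Fiber S) := by
  have H : (PrimeSpectrum.comap (algebraMap R S) ⁻¹' {⟨p, inferInstance⟩}).Finite := by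
    refine Set.Finite.of_finite_image (f := fun q : PrimeSpectrum S => q.asIdeal)
      (hfin.subset ?_) (Function.Injective.injOn fun _ _ => PrimeSpectrum.ext)
    rintro _ ⟨q, hq, rfl⟩
    refine ⟨q.2, ⟨?_⟩⟩
    have := congr_arg PrimeSpectrum.asIdeal hq
    exact this.symm
  rw [Module.finite_iff_isArtinianRing, isArtinianRing_iff_isNoetherianRing_krullDimLE_zero]
  have : IsJacobsonRing (p.Fiber S) := isJacobsonRing_of_finiteType (A := p.ResidueField)
  have : Finite (PrimeSpectrum (p.Fiber S)) :=
    (PrimeSpectrum.preimageEquivFiber R S ⟨p, inferInstance⟩).finite_iff.mp H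
  exact ⟨Algebra.FiniteType.isNoetherianRing p.ResidueField _,
    (PrimeSpectrum.discreteTopology_iff_finite_and_krullDimLE_zero.mp inferInstance).right⟩

/-- If `1 ⊗ y = 0` in `(A ⧸ I) ⊗ T` then `y ∈ I T`. -/
theorem mem_smul_top_of_one_tmul_eq_zero {A T : Type*} [CommRing A] [AddCommGroup T] [Module A T]
    (I : Ideal A) (y : T) (h : (1 : A ⧸ I) ⊗ₜ[A] y = 0) : y ∈ (I • ⊤ : Submodule A T) := by
  have e2 : (TensorProduct.quotTensorEquivQuotSMul T I) ((1 : A ⧸ I) ⊗ₜ[A] y) =
      Submodule.Quotient.mk y := by
    have := TensorProduct.quotTensorEquivQuotSMul_mk_tmul (M := T) I 1 y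
    rw [one_smul] at this
    exact this
  rw [← Submodule.Quotient.mk_eq_zero, ← e2, h]
  exact LinearEquiv.map_zero _

/-- Over a local ring whose maximal ideal is nil, an algebra with finite residue tensor is integral. -/
theorem isIntegral_of_finite_residue_tensor {A T : Type*} [CommRing A] [IsLocalRing A] [CommRing T]
    [Algebra A T] (hnil : IsLocalRing.maximalIdeal A ≤ nilradical A)
    [Module.Finite (IsLocalRing.ResidueField A) (IsLocalRing.ResidueField A ⊗[A] T)] :
    Algebra.IsIntegral A T := by
  refine ⟨fun t => ?_⟩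
  have h1 : IsIntegral (IsLocalRing.ResidueField A) ((1 : IsLocalRing.ResidueField A) ⊗ₜ[A] t) :=
    Algebra.IsIntegral.isIntegral _
  obtain ⟨Pb, hmonic, hroot⟩ := h1
  obtain ⟨P, hPmap, -, hPmonic⟩ := Polynomial.lifts_and_natDegree_eq_and_monic
    ((Polynomial.mem_lifts _).2
      (Polynomial.map_surjective _ (IsLocalRing.residue_surjective (R := A)) Pb)) hmonic
  -- the value `y = P(t)` dies in the residue tensor
  have h2 : (1 : IsLocalRing.ResidueField A) ⊗ₜ[A] (Polynomial.aeval t P) = 0 := by
    have e1 : (1 : IsLocalRing.ResidueField A) ⊗ₜ[A] (Polynomial.aeval t P) =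
        Polynomial.aeval ((1 : IsLocalRing.ResidueField A) ⊗ₜ[A] t) P :=
      (Polynomial.aeval_algHom_apply
        (Algebra.TensorProduct.includeRight : T →ₐ[A] IsLocalRing.ResidueField A ⊗[A] T) t P).symm
    rw [e1, Polynomial.aeval_def,
      IsScalarTower.algebraMap_eq A (IsLocalRing.ResidueField A)
        (IsLocalRing.ResidueField A ⊗[A] T), ← Polynomial.eval₂_map]
    have : Polynomial.map (algebraMap A (IsLocalRing.ResidueField A)) P = Pb := hPmap
    rw [this]
    exact hroot
  -- hence `y ∈ m • ⊤`
  have h3 : Polynomial.aeval t P ∈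
      (IsLocalRing.maximalIdeal A • ⊤ : Submodule A T) := by
    exact mem_smul_top_of_one_tmul_eq_zero (IsLocalRing.maximalIdeal A) _ h2
  have h4 : (IsLocalRing.maximalIdeal A • ⊤ : Submodule A T) ≤
      (nilradical T).restrictScalars A := by
    rw [Submodule.smul_le]
    intro a ha x _
    rw [Submodule.restrictScalars_mem, Algebra.smul_def]
    exact Ideal.mul_mem_right _ _ (mem_nilradical.2 ((mem_nilradical.1 (hnil ha)).map _))
  obtain ⟨N, hN⟩ := mem_nilradical.1 (h4 h3)
  refine ⟨P ^ N, hPmonic.pow N, ?_⟩
  rw [← Polynomial.aeval_def, map_pow, hN]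

attribute [local instance] Algebra.TensorProduct.rightAlgebra in
/-- If `1 ⊗ x` is integral over the localization `A = M⁻¹R` in `A ⊗ S`, some multiple `m • x`
with `m ∈ M` is integral over `R`. -/
theorem exists_isIntegral_smul_of_isIntegral_tmul {R S : Type*} [CommRing R] [CommRing S]
    [Algebra R S] (M : Submonoid R) (A : Type*) [CommRing A] [Algebra R A] [IsLocalization M A]
    (x : S) (hx : IsIntegral A ((1 : A) ⊗ₜ[R] x)) : ∃ m ∈ M, IsIntegral R (m • x) := by
  obtain ⟨m₂, hm₂⟩ := IsIntegral.exists_multiple_integral_of_isLocalization M _ hx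
  have h1 : IsIntegral R (algebraMap S (A ⊗[R] S) (m₂ • x)) := by
    have : algebraMap S (A ⊗[R] S) (m₂ • x) = m₂ • ((1 : A) ⊗ₜ[R] x) := by
      rw [Algebra.TensorProduct.right_algebraMap_apply, Submonoid.smul_def, Submonoid.smul_def,
        TensorProduct.tmul_smul]
    rw [this]
    exact hm₂
  obtain ⟨m₃, hm₃, h3⟩ := IsLocalization.exists_isIntegral_smul_of_isIntegral_map
    (Sₘ := A ⊗[R] S) M h1
  refine ⟨m₃ * m₂, M.mul_mem hm₃ m₂.2, ?_⟩
  rw [mul_smul]
  exact h3

/-- If every element of the finite type `R`-algebra `S` has a multiple by an element of `M`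
integral over `R`, then `S_g` is finite over `R_g` for some `g ∈ M`. -/
theorem exists_finite_awayMap_of_forall_exists_isIntegral_smul {R S : Type*} [CommRing R]
    [CommRing S] [Algebra R S] [Algebra.FiniteType R S] (M : Submonoid R)
    (H : ∀ x : S, ∃ m ∈ M, IsIntegral R (m • x)) :
    ∃ g ∈ M, (Localization.awayMap (algebraMap R S) g).Finite := by
  classical
  obtain ⟨s, hs⟩ := Algebra.FiniteType.out (R := R) (A := S)
  choose m hmM hm using H
  let g : R := ∏ x ∈ s, m x
  have hg : g ∈ M := Submonoid.prod_mem _ (fun x _ => hmM x)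
  refine ⟨g, hg, ?_⟩
  let R' := Localization.Away g
  let S' := Localization.Away (algebraMap R S g)
  rw [RingHom.finite_iff_isIntegral_and_finiteType]
  algebraize [Localization.awayMap (algebraMap R S) g]
  have hcomp : algebraMap R S' = (algebraMap R' S').comp (algebraMap R R') := by
    refine RingHom.ext fun r => ?_
    rw [IsScalarTower.algebraMap_apply R S S', RingHom.comp_apply, RingHom.algebraMap_toAlgebra]
    exact (IsLocalization.map_eq _ r).symm
  have := IsScalarTower.of_algebraMap_eq' hcomp
  refine ⟨?_, ?_⟩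
  · -- integrality
    have hgunit : IsUnit (algebraMap R R' g) := IsLocalization.Away.algebraMap_isUnit g
    have hmunit : ∀ x ∈ s, IsUnit (algebraMap R R' (m x)) := fun x hx =>
      isUnit_of_dvd_unit ((algebraMap R R').map_dvd (Finset.dvd_prod_of_mem m hx)) hgunit
    have h1 : ∀ x ∈ s, algebraMap S S' x ∈ integralClosure R' S' := by
      intro x hx
      obtain ⟨u, hu⟩ := hmunit x hx
      have h2 : IsIntegral R' (algebraMap S S' (m x • x)) :=
        ((hm x).map (IsScalarTower.toAlgHom R S S')).tower_top
      have h3 : algebraMap S S' x = (↑u⁻¹ : R') • algebraMap S S' (m x • x) := by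
        rw [Algebra.smul_def (m x) x, map_mul, ← IsScalarTower.algebraMap_apply R S S',
          IsScalarTower.algebraMap_apply R R' S', ← hu, Algebra.smul_def, ← mul_assoc, ← map_mul,
          Units.inv_mul, map_one, one_mul]
      rw [h3]
      exact Subalgebra.smul_mem _ h2 _
    have h4 : ∀ y : S, algebraMap S S' y ∈ integralClosure R' S' := by
      intro y
      have hy : y ∈ Algebra.adjoin R (s : Set S) := hs ▸ Algebra.mem_top
      induction hy using Algebra.adjoin_induction with
      | mem x hx => exact h1 x hx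
      | algebraMap r =>
        rw [← IsScalarTower.algebraMap_apply R S S', IsScalarTower.algebraMap_apply R R' S']
        exact Subalgebra.algebraMap_mem _ _
      | add x y _ _ hx hy => rw [map_add]; exact Subalgebra.add_mem _ hx hy
      | mul x y _ _ hx hy => rw [map_mul]; exact Subalgebra.mul_mem _ hx hy
    intro z
    show IsIntegral R' z
    obtain ⟨⟨a, ⟨_, k, rfl⟩⟩, h⟩ := IsLocalization.surj (Submonoid.powers (algebraMap R S g)) z
    obtain ⟨u, hu⟩ := hgunit
    have h5 : algebraMap S S' (algebraMap R S g) = algebraMap R' S' u := by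
      rw [hu, ← IsScalarTower.algebraMap_apply R S S', IsScalarTower.algebraMap_apply R R' S']
    have h' : z * (algebraMap R' S' u) ^ k = algebraMap S S' a := by
      rw [← h5, ← map_pow]
      exact h
    have h6 : z = algebraMap R' S' ((↑u⁻¹ : R') ^ k) * algebraMap S S' a := by
      rw [← h', map_pow, mul_comm z, ← mul_assoc, ← mul_pow, ← map_mul, Units.inv_mul, map_one,
        one_pow, one_mul]
    rw [h6]
    exact Subalgebra.mul_mem _ (Subalgebra.algebraMap_mem _ _) (h4 a)
  · refine RingHom.finiteType_algebraMap.mpr ?_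
    exact .of_restrictScalars_finiteType R _ _

end Groth.Agent.H46
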