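import Groth.Prelude
import Mathlib

set_option autoImplicit false
universe u

open CategoryTheory CategoryTheory.Limits AlgebraicGeometry IsLocalRing

namespace Groth.Agent.H46.RadPtField

/-- field-valued points criterion for being radicial at a point -/
def R2 {X Y : Scheme.{u}} (f : X ⟶ Y) (y : Y) : Prop :=
  ∀ (K : Type u) [Field K] (g₁ g₂ : Spec (.of K) ⟶ X), g₁ ≫ f = g₂ ≫ f →
    (g₁ ≫ f) (closedPoint K) = y → g₁ = g₂

set_option backward.isDefEq.respectTransparency.types false in
set_option backward.defeqAttrib.useBackward true in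
theorem R2_of_isRadicialAt {X Y : Scheme.{u}} (f : X ⟶ Y) (y : Y)
    (hf : RadPt.IsRadicialAt f y) : R2 f y := by
  intro K _ g₁ g₂ hg hy
  have hx1 : f (g₁ (closedPoint K)) = y := by
    rw [← hy]; rfl
  have hx2 : f (g₂ (closedPoint K)) = y := by
    rw [← hy, hg]; rfl
  have h_inj : g₁ (closedPoint K) = g₂ (closedPoint K) := hf.1 _ _ hx1 hx2
  obtain ⟨e, h⟩ := Scheme.SpecToEquivOfField_eq_iff.mp congr((Y.SpecToEquivOfField K) $(hg))
  apply (X.SpecToEquivOfField K).injective
  dsimp at e h
  simp only [Scheme.descResidueField_stalkClosedPointTo_comp] at e h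
  rw [← f.residueFieldMap_congr'_assoc h_inj, CommRingCat.hom_ext_iff] at h
  rw [Scheme.SpecToEquivOfField_eq_iff]
  let x := g₁ (IsLocalRing.closedPoint K)
  have hfx := hf.2 x hx1
  algebraize [(f.residueFieldMap (g₁ (IsLocalRing.closedPoint K))).hom]
  refine ⟨h_inj, CommRingCat.hom_ext ?_⟩
  exact IsPurelyInseparable.injective_comp_algebraMap
    (Y.residueField (f x)) (X.residueField x) _ h

theorem isRadicialAt_of_R2 {X Y : Scheme.{u}} (f : X ⟶ Y) (y : Y)
    (hf : R2 f y) : RadPt.IsRadicialAt f y := by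
  refine ⟨fun x x' hx hx' => ?_, fun x hx => ?_⟩
  · obtain ⟨z, hz1, hz2⟩ := Scheme.Pullback.exists_preimage_pullback (f := f) (g := f) x x'
      (hx.trans hx'.symm)
    let φ := (pullback f f).fromSpecResidueField z
    have h12 : (φ ≫ pullback.fst f f) = (φ ≫ pullback.snd f f) := by
      apply hf ((pullback f f).residueField z)
      · simp [pullback.condition]
      · show f (pullback.fst f f (φ _)) = y
        rw [Scheme.fromSpecResidueField_apply, hz1, hx]
    have h3 := congr(($h12) (closedPoint _))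
    have h4 : pullback.fst f f (φ (closedPoint _)) = pullback.snd f f (φ (closedPoint _)) := h3
    rw [Scheme.fromSpecResidueField_apply, hz1, hz2] at h4
    exact h4
  · algebraize [(f.residueFieldMap x).hom]
    rw [RingHom.IsPurelyInseparable, isPurelyInseparable_iff_subsingleton_emb, subsingleton_iff]
    intro σ₁ σ₂
    apply AlgHom.coe_ringHom_injective
    have key : Spec.map (CommRingCat.ofHom σ₁.toRingHom) ≫ X.fromSpecResidueField x =
        Spec.map (CommRingCat.ofHom σ₂.toRingHom) ≫ X.fromSpecResidueField x := by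
      apply hf
      · simp only [Category.assoc, ← f.SpecMap_residueFieldMap_fromSpecResidueField x,
          ← Spec.map_comp_assoc]
        congr 2
        ext a
        simp only [CommRingCat.hom_comp, RingHom.comp_apply]
        exact (AlgHom.commutes σ₁ a).trans (AlgHom.commutes σ₂ a).symm
      · show f (X.fromSpecResidueField x _) = y
        rw [Scheme.fromSpecResidueField_apply, hx]
    rw [cancel_mono, Spec.map_inj] at key
    exact congr($(key).hom)

theorem isRadicialAt_iff_R2 {X Y : Scheme.{u}} (f : X ⟶ Y) (y : Y) :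
    RadPt.IsRadicialAt f y ↔ R2 f y :=
  ⟨R2_of_isRadicialAt f y, isRadicialAt_of_R2 f y⟩

theorem R2_baseChange {X Y X' Y' : Scheme.{u}} {f : X ⟶ Y} {h : Y' ⟶ Y} {f' : X' ⟶ Y'} {h' : X' ⟶ X}
    (sq : IsPullback h' f' f h) (y' : Y') (hf : R2 f (h y')) : R2 f' y' := by
  intro K _ g₁ g₂ hg hy
  apply sq.hom_ext _ hg
  apply hf K
  · simp only [Category.assoc, sq.w]
    rw [← Category.assoc, hg, Category.assoc]
  · show f (h' (g₁ (closedPoint K))) = h y'
    have : f' (g₁ (closedPoint K)) = y' := hy
    rw [← this, ← Scheme.Hom.comp_apply, sq.w]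
    rfl

instance {K L : Type u} [Field K] [Field L] (a : Spec (.of L) ⟶ Spec (.of K)) : Flat a := by
  obtain ⟨φ, rfl⟩ := Spec.map_surjective a
  rw [HasRingHomProperty.Spec_iff (P := @Flat)]
  algebraize [φ.hom]
  show Module.Flat K L
  infer_instance

instance {K L : Type u} [Field K] [Field L] (a : Spec (.of L) ⟶ Spec (.of K)) : Surjective a := by
  constructor
  intro x
  exact ⟨closedPoint L, Subsingleton.elim _ _⟩

theorem R2_of_baseChange {X Y X' Y' : Scheme.{u}} {f : X ⟶ Y} {h : Y' ⟶ Y} {f' : X' ⟶ Y'}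
    {h' : X' ⟶ X}
    (sq : IsPullback h' f' f h) (y' : Y') (hf : R2 f' y') : R2 f (h y') := by
  intro K _ g₁ g₂ hg hy
  obtain ⟨w, hw1, hw2⟩ := Scheme.Pullback.exists_preimage_pullback (f := g₁ ≫ f) (g := h)
    (closedPoint K) y' hy
  let ψ := (pullback (g₁ ≫ f) h).fromSpecResidueField w
  let a : Spec (.of ((pullback (g₁ ≫ f) h).residueField w)) ⟶ Spec (.of K) := ψ ≫ pullback.fst _ _
  let b := ψ ≫ pullback.snd (g₁ ≫ f) h
  have hab : a ≫ g₁ ≫ f = b ≫ h := by
    simp only [a, b, Category.assoc, pullback.condition]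
  have hab2 : a ≫ g₂ ≫ f = b ≫ h := by
    rw [← hg, hab]
  have key : sq.lift (a ≫ g₁) b (by rw [Category.assoc, hab]) =
      sq.lift (a ≫ g₂) b (by rw [Category.assoc, hab2]) := by
    apply hf
    · simp
    · rw [sq.lift_snd]
      show pullback.snd (g₁ ≫ f) h (ψ _) = y'
      rw [Scheme.fromSpecResidueField_apply, hw2]
  have key2 := congr($key ≫ h')
  rw [sq.lift_fst, sq.lift_fst] at key2
  have := AlgebraicGeometry.Flat.epi_of_flat_of_surjective a
  exact (cancel_epi a).mp key2

end Groth.Agent.H46.RadPtField
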