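/-
helper46: reduced finite type ℤ-algebra has reduced reduction mod p for almost all p.
-/
import Mathlib
import Groth.Agent.Lib.Helper23.GeomRedSpread
import Groth.Agent.Lib.Helper62.PerfectReducedGen

set_option autoImplicit false
universe u
open TensorProduct

namespace Groth.Agent.H46.RedModP

attribute [local instance] Algebra.TensorProduct.rightAlgebra

/-- Over a characteristic zero domain `Z`, a reduced finite type algebra has reduced fibres over
a dense open of `Spec Z`. -/
theorem aux (Z A : Type u) [CommRing Z] [IsDomain Z] [CharZero Z] [CommRing A] [Algebra Z A]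
    [Algebra.FiniteType Z A] [IsReduced A] :
    ∃ a : Z, a ≠ 0 ∧ ∀ (k : Type u) [Field k] [Algebra Z k], algebraMap Z k a ≠ 0 →
      IsReduced (k ⊗[Z] A) := by
  haveI : CharZero (FractionRing Z) := IsFractionRing.charZero Z
  haveI : IsLocalization (Algebra.algebraMapSubmonoid A (nonZeroDivisors Z))
      (FractionRing Z ⊗[Z] A) :=
    IsLocalization.tensorRight (R := Z) (S := A) (FractionRing Z) (nonZeroDivisors Z)
  haveI : IsReduced (FractionRing Z ⊗[Z] A) :=
    isReduced_localizationPreserves (Algebra.algebraMapSubmonoid A (nonZeroDivisors Z)) _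
      inferInstance
  haveI : Algebra.IsGeometricallyReduced (FractionRing Z) (FractionRing Z ⊗[Z] A) := by
    rw [Algebra.isGeometricallyReduced_field_iff]
    exact Groth.Agent.Lib.Helper62.isReduced_tensor_of_perfectField (FractionRing Z)
      (AlgebraicClosure (FractionRing Z)) (FractionRing Z ⊗[Z] A)
  exact Groth.Agent.Lib.Helper23.GeomRedSpread.exists_forall_isReduced_tensor_of_ft
      (A := Z) (B := A) (FractionRing Z)

theorem main (A : Type u) [CommRing A] [Algebra.FiniteType ℤ A] [IsReduced A] :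
    {p : ℕ | p.Prime ∧ ¬ IsReduced (A ⧸ Ideal.span {(p : A)})}.Finite := by
  letI : Algebra (ULift.{u} ℤ) A := ULift.algebra' ℤ A
  haveI : IsScalarTower ℤ (ULift.{u} ℤ) A := ⟨fun n z a => by
    change (n * z.down) • a = n • (z.down • a)
    rw [mul_smul]⟩
  haveI : Algebra.FiniteType (ULift.{u} ℤ) A :=
    Algebra.FiniteType.of_restrictScalars_finiteType ℤ (ULift.{u} ℤ) A
  haveI : IsDomain (ULift.{u} ℤ) := (ULift.ringEquiv (R := ℤ)).toMulEquiv.isDomain
  haveI : CharZero (ULift.{u} ℤ) := by
    refine ⟨fun a b h => ?_⟩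
    have := congrArg (ULift.ringEquiv (R := ℤ)) h
    simpa using this
  obtain ⟨a, ha, H⟩ := aux (ULift.{u} ℤ) A
  have ha' : a.down ≠ 0 := by
    intro h
    apply ha
    ext
    exact h
  refine (Set.Finite.subset a.down.natAbs.primeFactors.finite_toSet) ?_
  rintro p ⟨hp, hnr⟩
  rw [Finset.mem_coe, Nat.mem_primeFactors]
  refine ⟨hp, ?_, by simpa using ha'⟩
  by_contra hndvd
  apply hnr
  haveI : Fact p.Prime := ⟨hp⟩
  -- the maximal ideal `(p)` of `ULift ℤ`
  have hI : Ideal.map (ULift.ringEquiv (R := ℤ)).symm (Ideal.span {(p : ℤ)}) =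
      Ideal.span {(p : ULift.{u} ℤ)} := by
    rw [Ideal.map_span, Set.image_singleton]
    rfl
  haveI hmax : (Ideal.span {(p : ULift.{u} ℤ)}).IsMaximal := by
    rw [← hI]
    infer_instance
  letI : Field (ULift.{u} ℤ ⧸ Ideal.span {(p : ULift.{u} ℤ)}) := Ideal.Quotient.field _
  have hne : algebraMap (ULift.{u} ℤ) (ULift.{u} ℤ ⧸ Ideal.span {(p : ULift.{u} ℤ)}) a ≠ 0 := by
    rw [Ideal.Quotient.algebraMap_eq, Ne, Ideal.Quotient.eq_zero_iff_mem,
      Ideal.mem_span_singleton]
    rintro ⟨c, hc⟩
    apply hndvd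
    have : a.down = (p : ℤ) * c.down := congrArg ULift.down hc
    rw [this, Int.natAbs_mul, Int.natAbs_natCast]
    exact dvd_mul_right _ _
  have hred := H _ hne
  have hmap : (Ideal.span {(p : ULift.{u} ℤ)}).map (algebraMap (ULift.{u} ℤ) A) =
      Ideal.span {(p : A)} := by
    rw [Ideal.map_span, Set.image_singleton, map_natCast]
  rw [← hmap]
  let e := Algebra.TensorProduct.quotIdealMapEquivQuotTensor A (Ideal.span {(p : ULift.{u} ℤ)})
  exact isReduced_of_injective e.toAlgHom.toRingHom e.injective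

end Groth.Agent.H46.RedModP
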