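import Mathlib

set_option autoImplicit false
universe u

open CategoryTheory CategoryTheory.Limits AlgebraicGeometry

namespace Groth.Agent.H46.ReducedLocus

theorem isReduced_source_of_isIso {A B : CommRingCat.{u}} (f : A ⟶ B) [IsIso f]
    (h : _root_.IsReduced B) : _root_.IsReduced A :=
  isReduced_of_injective f.hom (ConcreteCategory.bijective_of_isIso f).injective

theorem isReduced_target_of_isIso {A B : CommRingCat.{u}} (f : A ⟶ B) [IsIso f]
    (h : _root_.IsReduced A) : _root_.IsReduced B :=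
  isReduced_source_of_isIso (inv f) h

/-- if the nilradical is f.g. and a localization at a prime is reduced, the nilradical is killed by
some element outside the prime -/
theorem exists_mul_nilradical_eq_zero {A : Type*} [CommRing A] (hfg : (nilradical A).FG)
    (p : Ideal A) [p.IsPrime] (Ap : Type*) [CommRing Ap] [Algebra A Ap] [IsLocalization.AtPrime Ap p]
    [IsReduced Ap] : ∃ u ∉ p, ∀ x ∈ nilradical A, u * x = 0 := by
  classical
  obtain ⟨s, hs⟩ := hfg
  have h1 : ∀ n ∈ s, ∃ u : p.primeCompl, (u : A) * n = 0 := by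
    intro n hn
    have hnil : IsNilpotent n := by
      have : n ∈ nilradical A := hs ▸ Ideal.subset_span hn
      exact this
    have h0 : algebraMap A Ap n = 0 := (hnil.map (algebraMap A Ap)).eq_zero
    exact (IsLocalization.map_eq_zero_iff p.primeCompl Ap n).mp h0
  choose! u hu using h1
  refine ⟨∏ n ∈ s, (u n : A), ?_, ?_⟩
  · have : (∏ n ∈ s, (u n : A)) ∈ p.primeCompl := Submonoid.prod_mem _ fun n _ => (u n).2
    exact this
  · intro x hx
    rw [← hs] at hx
    induction hx using Submodule.span_induction with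
    | mem n hn =>
      rw [← Finset.mul_prod_erase s _ hn, mul_comm (u n : A), mul_assoc, hu n hn, mul_zero]
    | zero => simp
    | add a b _ _ ha hb => rw [mul_add, ha, hb, add_zero]
    | smul r a _ ha => rw [smul_eq_mul, mul_left_comm, ha, mul_zero]

/-- if `u` kills the nilradical then the localization at any prime not containing `u` is reduced -/
theorem isReduced_of_mul_nilradical_eq_zero {A : Type*} [CommRing A] (u : A)
    (hu : ∀ x ∈ nilradical A, u * x = 0)
    (q : Ideal A) [q.IsPrime] (huq : u ∉ q) (Aq : Type*) [CommRing Aq] [Algebra A Aq]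
    [IsLocalization.AtPrime Aq q] : IsReduced Aq := by
  refine ⟨fun z hz => ?_⟩
  obtain ⟨a, s, rfl⟩ := IsLocalization.exists_mk'_eq q.primeCompl z
  obtain ⟨n, hn⟩ := hz
  rw [← IsLocalization.mk'_pow] at hn
  rw [IsLocalization.mk'_eq_zero_iff] at hn ⊢
  obtain ⟨t, ht⟩ := hn
  have hnil : (t : A) * a ∈ nilradical A := by
    refine ⟨n + 1, ?_⟩
    rw [mul_pow, pow_succ (t : A), pow_succ' a]
    calc (t : A) ^ n * t * (a * a ^ n) = ((t : A) ^ n * a) * (t * a ^ n) := by ring
      _ = 0 := by rw [ht, mul_zero]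
  refine ⟨⟨u, huq⟩ * t, ?_⟩
  rw [Submonoid.coe_mul, mul_assoc]
  exact hu _ hnil

/-- the reduced locus is open when nilradicals are of finite type -/
theorem isOpen_reducedLocus (X : Scheme.{u})
    (hN : ∀ U : X.affineOpens, (nilradical Γ(X, U)).FG) :
    IsOpen {x : X | _root_.IsReduced (X.presheaf.stalk x)} := by
  rw [isOpen_iff_forall_mem_open]
  intro x hx
  obtain ⟨_, ⟨W, hW : IsAffineOpen W, rfl⟩, hxW, -⟩ :=
    X.isBasis_affineOpens.exists_subset_of_mem_open (Set.mem_univ x) isOpen_univ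
  let _ : Algebra Γ(X, W) (X.presheaf.stalk x) := X.presheaf.algebra_section_stalk ⟨x, hxW⟩
  have hloc : IsLocalization.AtPrime (X.presheaf.stalk x) (hW.primeIdealOf ⟨x, hxW⟩).asIdeal :=
    hW.isLocalization_stalk ⟨x, hxW⟩
  have hred : _root_.IsReduced (X.presheaf.stalk x) := hx
  have hfg : (nilradical Γ(X, W)).FG := hN ⟨W, hW⟩
  obtain ⟨u, hup, hu⟩ := exists_mul_nilradical_eq_zero hfg
    (hW.primeIdealOf ⟨x, hxW⟩).asIdeal (X.presheaf.stalk x)
  refine ⟨X.basicOpen u, ?_, (X.basicOpen u).2, ?_⟩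
  · intro y hy
    have hyW : y ∈ W := X.basicOpen_le u hy
    let _ : Algebra Γ(X, W) (X.presheaf.stalk y) := X.presheaf.algebra_section_stalk ⟨y, hyW⟩
    have hlocy : IsLocalization.AtPrime (X.presheaf.stalk y) (hW.primeIdealOf ⟨y, hyW⟩).asIdeal :=
      hW.isLocalization_stalk ⟨y, hyW⟩
    have huy : u ∉ (hW.primeIdealOf ⟨y, hyW⟩).asIdeal := by
      have h1 := (X.mem_basicOpen u y hyW).mp hy
      have h2 := (IsLocalization.AtPrime.isUnit_to_map_iff (X.presheaf.stalk y)
        (hW.primeIdealOf ⟨y, hyW⟩).asIdeal u).mp h1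
      exact h2
    exact isReduced_of_mul_nilradical_eq_zero u hu (hW.primeIdealOf ⟨y, hyW⟩).asIdeal huy
      (X.presheaf.stalk y)
  · show x ∈ X.basicOpen u
    rw [X.mem_basicOpen u x hxW]
    exact (IsLocalization.AtPrime.isUnit_to_map_iff (X.presheaf.stalk x)
        (hW.primeIdealOf ⟨x, hxW⟩).asIdeal u).mpr hup

end Groth.Agent.H46.ReducedLocus
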