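import Mathlib
import Groth.Agent.H46.RelNoether

/-!
# Relative Noether normalization with prescribed preimage of the point (helper46)
-/

set_option autoImplicit false
set_option linter.style.haveILetI false
universe u

open TensorProduct

namespace Groth.Agent.H46.RelNoetherRef

/-- Kernel of an evaluation map `R[t₁..tₙ] → L` whose first `r` values are algebraically
independent modulo `p` and whose last `n - r` values vanish. -/
theorem ker_aeval_eq {R L : Type u} [CommRing R] [CommRing L] [Algebra R L] (p : Ideal R) (n r : ℕ)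
    (y : Fin n → L) (hy0 : ∀ j : Fin n, r ≤ j.1 → y j = 0)
    (hp : ∀ a ∈ p, algebraMap R L a = 0)
    (hker : ∀ F : MvPolynomial {i : Fin n // i.1 < r} R,
      MvPolynomial.aeval (fun i => y i.1) F = 0 →
        F ∈ p.map (algebraMap R (MvPolynomial {i : Fin n // i.1 < r} R))) :
    RingHom.ker (MvPolynomial.aeval y : MvPolynomial (Fin n) R →ₐ[R] L) =
      p.map (algebraMap R (MvPolynomial (Fin n) R)) ⊔
        Ideal.span (Set.range fun i : {i : Fin n // r ≤ (i : ℕ)} =>
          (MvPolynomial.X (i : Fin n) : MvPolynomial (Fin n) R)) := by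
  classical
  set J : Ideal (MvPolynomial (Fin n) R) := Ideal.span (Set.range fun i : {i : Fin n // r ≤ (i : ℕ)} =>
          (MvPolynomial.X (i : Fin n) : MvPolynomial (Fin n) R)) with hJ
  have hJker : J ≤ RingHom.ker (MvPolynomial.aeval y : MvPolynomial (Fin n) R →ₐ[R] L) := by
    rw [hJ, Ideal.span_le]
    rintro _ ⟨i, rfl⟩
    simp [RingHom.mem_ker, hy0 i.1 i.2]
  apply le_antisymm
  · intro F hF
    let kc : MvPolynomial (Fin n) R →ₐ[R] MvPolynomial {i : Fin n // i.1 < r} R :=
      MvPolynomial.aeval (fun j => if h : j.1 < r then MvPolynomial.X ⟨j, h⟩ else 0)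
    let inc : MvPolynomial {i : Fin n // i.1 < r} R →ₐ[R] MvPolynomial (Fin n) R :=
      MvPolynomial.rename Subtype.val
    have h1 : ∀ G : MvPolynomial (Fin n) R, G - inc (kc G) ∈ J := by
      intro G
      induction G using MvPolynomial.induction_on with
      | C a => simp [kc, inc]
      | add F G hF hG =>
        have : F + G - inc (kc (F + G)) = (F - inc (kc F)) + (G - inc (kc G)) := by
          rw [map_add, map_add]; ring
        rw [this]
        exact J.add_mem hF hG
      | mul_X F j hF =>
        by_cases hj : j.1 < r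
        · have : F * MvPolynomial.X j - inc (kc (F * MvPolynomial.X j)) =
              (F - inc (kc F)) * MvPolynomial.X j := by
            rw [map_mul, map_mul]
            have : inc (kc (MvPolynomial.X j)) = MvPolynomial.X j := by
              simp [kc, inc, hj]
            rw [this]; ring
          rw [this]
          exact J.mul_mem_right _ hF
        · have : F * MvPolynomial.X j - inc (kc (F * MvPolynomial.X j)) =
              F * MvPolynomial.X j := by
            rw [map_mul, map_mul]
            have : inc (kc (MvPolynomial.X j)) = 0 := by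
              simp [kc, inc, hj]
            rw [this]; ring
          rw [this]
          apply J.mul_mem_left
          exact Ideal.subset_span ⟨⟨j, not_lt.mp hj⟩, rfl⟩
    have h2 : MvPolynomial.aeval (fun i : {i : Fin n // i.1 < r} => y i.1) (kc F) = 0 := by
      have h3 := hJker (h1 F)
      rw [RingHom.mem_ker] at h3 hF
      rw [map_sub] at h3
      have h4 : (MvPolynomial.aeval y) (inc (kc F)) = 0 := by
        have : (MvPolynomial.aeval y : MvPolynomial (Fin n) R →ₐ[R] L) F -
            (MvPolynomial.aeval y) (inc (kc F)) = 0 := h3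
        rw [hF, zero_sub, neg_eq_zero] at this
        exact this
      rw [← h4]
      simp only [inc, MvPolynomial.aeval_rename]
      rfl
    have h5 := hker _ h2
    have h6 : inc (kc F) ∈ p.map (algebraMap R (MvPolynomial (Fin n) R)) := by
      have : p.map (algebraMap R (MvPolynomial (Fin n) R)) =
          (p.map (algebraMap R (MvPolynomial {i : Fin n // i.1 < r} R))).map inc.toRingHom := by
        rw [Ideal.map_map]
        congr 1
        exact inc.comp_algebraMap.symm
      rw [this]
      exact Ideal.mem_map_of_mem _ h5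
    have : F = inc (kc F) + (F - inc (kc F)) := by ring
    rw [this]
    exact Ideal.add_mem _ (Ideal.mem_sup_left h6) (Ideal.mem_sup_right (h1 F))
  · refine sup_le ?_ hJker
    rw [Ideal.map_le_iff_le_comap]
    intro a ha
    rw [Ideal.mem_comap, RingHom.mem_ker]
    show (MvPolynomial.aeval y) (algebraMap R (MvPolynomial (Fin n) R) a) = 0
    rw [AlgHom.commutes]
    exact hp a ha



/-- If `A'` is generated as a ring by the image of `f : A → A'` and finitely many elements, each
a root of a polynomial over `A` whose leading coefficient divides `c`, then `A'_{f c}` is finite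
over `A_c`. -/
theorem finite_awayMap {A A' : Type u} [CommRing A] [CommRing A'] (f : A →+* A') (c : A)
    (s : Set A') (hs : s.Finite)
    (hgen : Subring.closure (Set.range f ∪ s) = ⊤)
    (hW : ∀ x ∈ s, ∃ W : Polynomial A, W.leadingCoeff ∣ c ∧ W.eval₂ f x = 0) :
    (Localization.awayMap f c).Finite := by
  letI : Algebra A A' := f.toAlgebra
  letI : Algebra (Localization.Away c) (Localization.Away (f c)) :=
    (Localization.awayMap f c).toAlgebra
  haveI : IsScalarTower A (Localization.Away c) (Localization.Away (f c)) :=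
    IsScalarTower.of_algebraMap_eq (fun a => by
      show algebraMap A (Localization.Away (f c)) a =
        Localization.awayMap f c (algebraMap A (Localization.Away c) a)
      rw [Localization.awayMap, IsLocalization.Away.map, IsLocalization.map_eq]
      rfl)
  have hcunit : IsUnit (algebraMap A (Localization.Away c) c) :=
    IsLocalization.Away.algebraMap_isUnit c
  have hint : ∀ a' : A', IsIntegral (Localization.Away c)
      (algebraMap A' (Localization.Away (f c)) a') := by
    intro a'
    have hmem : a' ∈ Subring.closure (Set.range f ∪ s) := by rw [hgen]; trivial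
    induction hmem using Subring.closure_induction with
    | mem x hx =>
      rcases hx with ⟨a, rfl⟩ | hx
      · have : algebraMap A' (Localization.Away (f c)) (f a) =
            algebraMap (Localization.Away c) (Localization.Away (f c))
              (algebraMap A (Localization.Away c) a) := by
          rw [← IsScalarTower.algebraMap_apply A (Localization.Away c) (Localization.Away (f c))]
          rfl
        rw [this]
        exact isIntegral_algebraMap
      · obtain ⟨W, ⟨d, hd⟩, hW0⟩ := hW x hx
        have h0 : Polynomial.aeval (algebraMap A' (Localization.Away (f c)) x) W = 0 := by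
          rw [Polynomial.aeval_algebraMap_apply]
          have : Polynomial.aeval x W = 0 := hW0
          rw [this, map_zero]
        have h1 : IsIntegral A (W.leadingCoeff • algebraMap A' (Localization.Away (f c)) x) :=
          isIntegral_leadingCoeff_smul _ _ h0
        have h2 : IsIntegral (Localization.Away c)
            (W.leadingCoeff • algebraMap A' (Localization.Away (f c)) x) := h1.tower_top
        have hlu : IsUnit (algebraMap A (Localization.Away c) W.leadingCoeff) := by
          have : IsUnit (algebraMap A (Localization.Away c) W.leadingCoeff *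
              algebraMap A (Localization.Away c) d) := by
            rw [← map_mul, ← hd]; exact hcunit
          exact isUnit_of_mul_isUnit_left this
        obtain ⟨u, hu⟩ := hlu
        have h3 : algebraMap A' (Localization.Away (f c)) x =
            (↑u⁻¹ : Localization.Away c) •
              (W.leadingCoeff • algebraMap A' (Localization.Away (f c)) x) := by
          rw [← algebraMap_smul (Localization.Away c) W.leadingCoeff, ← hu, smul_smul,
            Units.inv_mul, one_smul]
        rw [h3]
        exact h2.smul _
    | zero => rw [map_zero]; exact isIntegral_zero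
    | one => rw [map_one]; exact isIntegral_one
    | add x y _ _ hx hy => rw [map_add]; exact hx.add hy
    | neg x _ hx => rw [map_neg]; exact hx.neg
    | mul x y _ _ hx hy => rw [map_mul]; exact hx.mul hy
  haveI : Algebra.IsIntegral (Localization.Away c) (Localization.Away (f c)) := by
    refine ⟨fun z => ?_⟩
    obtain ⟨a', ⟨_, k, rfl⟩, rfl⟩ := IsLocalization.exists_mk'_eq (Submonoid.powers (f c)) z
    have hfc : algebraMap A' (Localization.Away (f c)) (f c) =
        algebraMap (Localization.Away c) (Localization.Away (f c))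
          (algebraMap A (Localization.Away c) c) := by
      rw [← IsScalarTower.algebraMap_apply A (Localization.Away c) (Localization.Away (f c))]
      rfl
    obtain ⟨u, hu⟩ := hcunit
    have : IsLocalization.mk' (Localization.Away (f c)) a'
        (⟨f c ^ k, k, rfl⟩ : Submonoid.powers (f c)) =
        algebraMap A' (Localization.Away (f c)) a' *
          algebraMap (Localization.Away c) (Localization.Away (f c)) (↑(u⁻¹ ^ k)) := by
      rw [IsLocalization.mk'_eq_iff_eq_mul, mul_assoc]
      simp only [map_pow, hfc, ← hu]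
      rw [← map_pow, ← map_mul, ← Units.val_pow_eq_pow_val, ← Units.val_mul, ← mul_pow,
        inv_mul_cancel, one_pow, Units.val_one, map_one, mul_one]
    rw [this]
    exact (hint a').mul isIntegral_algebraMap
  have hadj : Algebra.adjoin A s = ⊤ := by
    apply Subalgebra.toSubring_injective
    rw [Algebra.adjoin_eq_ring_closure, Algebra.top_toSubring]
    exact hgen
  haveI : Algebra.FiniteType A A' := ⟨⟨hs.toFinset, by simpa using hadj⟩⟩
  haveI : Algebra.FiniteType A' (Localization.Away (f c)) :=
    IsLocalization.finiteType_of_monoid_fg (Submonoid.powers (f c)) _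
  haveI : Algebra.FiniteType A (Localization.Away (f c)) := Algebra.FiniteType.trans (S := A')
    inferInstance inferInstance
  haveI : Algebra.FiniteType (Localization.Away c) (Localization.Away (f c)) :=
    Algebra.FiniteType.of_restrictScalars_finiteType A _ _
  exact Algebra.IsIntegral.finite


/-- The triangular substitution `t_j ↦ V_j(x_j)` becomes finite after inverting the leading
coefficients. -/
theorem finite_awayMap_theta {R : Type u} [CommRing R] {ι τ : Type} [Fintype τ]
    (u : ι → τ) (hu : Function.Injective u)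
    (V : τ → Polynomial (MvPolynomial ι R)) (hdeg : ∀ j, 1 ≤ (V j).natDegree)
    (θ : MvPolynomial τ R →ₐ[R] MvPolynomial τ R)
    (hθX : ∀ j, θ (MvPolynomial.X j) =
      (V j).eval₂ (MvPolynomial.rename u : MvPolynomial ι R →ₐ[R] MvPolynomial τ R).toRingHom
        (MvPolynomial.X j))
    (hθu : ∀ d, θ (MvPolynomial.rename u d) = MvPolynomial.rename u d) :
    (Localization.awayMap θ.toRingHom
      (MvPolynomial.rename u (∏ j, (V j).leadingCoeff))).Finite := by
  set inc : MvPolynomial ι R →ₐ[R] MvPolynomial τ R := MvPolynomial.rename u with hinc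
  have hincinj : Function.Injective inc.toRingHom := MvPolynomial.rename_injective u hu
  apply finite_awayMap θ.toRingHom _ (Set.range MvPolynomial.X) (Set.finite_range _)
  · rw [eq_top_iff]
    intro F _
    clear * - F
    induction F using MvPolynomial.induction_on with
    | C a =>
      apply Subring.subset_closure
      left
      exact ⟨MvPolynomial.C a, by simp⟩
    | add F G hF hG => exact add_mem hF hG
    | mul_X F j hF =>
      exact mul_mem hF (Subring.subset_closure (Or.inr ⟨j, rfl⟩))
  · rintro _ ⟨j, rfl⟩
    refine ⟨(V j).map inc.toRingHom - Polynomial.C (MvPolynomial.X j), ?_, ?_⟩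
    · have hnd : ((V j).map inc.toRingHom).natDegree = (V j).natDegree :=
        Polynomial.natDegree_map_eq_of_injective hincinj _
      have hlt : (Polynomial.C (MvPolynomial.X j : MvPolynomial τ R)).degree <
          ((V j).map inc.toRingHom).degree := by
        apply lt_of_le_of_lt Polynomial.degree_C_le
        rw [← Polynomial.natDegree_pos_iff_degree_pos, hnd]
        exact hdeg j
      rw [Polynomial.leadingCoeff_sub_of_degree_lt hlt, Polynomial.leadingCoeff_map_of_injective hincinj]
      exact map_dvd inc (Finset.dvd_prod_of_mem _ (Finset.mem_univ j))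
    · rw [Polynomial.eval₂_sub, Polynomial.eval₂_C, Polynomial.eval₂_map]
      have : θ.toRingHom.comp inc.toRingHom = inc.toRingHom := RingHom.ext (fun d => hθu d)
      rw [this]
      show _ - θ (MvPolynomial.X j) = 0
      rw [hθX j, sub_self]




/-- Replace a localization `(S_{g₀})_b` by a localization `S_g` of `S`. -/
theorem exists_away_of_away {R S A : Type u} [CommRing R] [CommRing S] [CommRing A]
    [Algebra R S] [Algebra R A] [Algebra.FiniteType R S]
    (q : Ideal S) [q.IsPrime] (g₀ : S) (hg₀ : g₀ ∉ q)
    (ψ : A →ₐ[R] Localization.Away g₀) (b : Localization.Away g₀)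
    (hb : b ∉ q.map (algebraMap S (Localization.Away g₀)))
    (hQF : ((algebraMap (Localization.Away g₀) (Localization.Away b)).comp
      ψ.toRingHom).QuasiFinite) :
    ∃ g : S, g ∉ q ∧ ∃ ψ' : A →ₐ[R] Localization.Away g,
      ψ'.toRingHom.FiniteType ∧ ψ'.toRingHom.QuasiFinite ∧
      (q.map (algebraMap S (Localization.Away g))).comap ψ' =
        (q.map (algebraMap S (Localization.Away g₀))).comap ψ := by
  have hass := IsLocalization.Away.associated_sec_fst g₀ b
  set a : S := (IsLocalization.Away.sec g₀ b).1 with ha
  have hloc : IsLocalization.Away (g₀ * a) (Localization.Away b) :=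
    IsLocalization.Away.mul_of_associated g₀ a b hass
  have haq : a ∉ q := by
    intro hmem
    apply hb
    obtain ⟨u, hu⟩ := hass
    rw [← hu]
    exact Ideal.mul_mem_right _ _ (Ideal.mem_map_of_mem _ hmem)
  have hgq : g₀ * a ∉ q := fun h => (Ideal.IsPrime.mem_or_mem inferInstance h).elim hg₀ haq
  let e : Localization.Away (g₀ * a) ≃ₐ[S] Localization.Away b :=
    IsLocalization.algEquiv (Submonoid.powers (g₀ * a)) _ _
  let κ : Localization.Away g₀ →ₐ[S] Localization.Away (g₀ * a) :=
    e.symm.toAlgHom.comp (IsScalarTower.toAlgHom S (Localization.Away g₀) (Localization.Away b))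
  let ψ' : A →ₐ[R] Localization.Away (g₀ * a) := (κ.restrictScalars R).comp ψ
  refine ⟨g₀ * a, hgq, ψ', ?_, ?_, ?_⟩
  · have hft : Algebra.FiniteType R (Localization.Away (g₀ * a)) :=
      Algebra.FiniteType.trans (S := S) inferInstance (IsLocalization.finiteType_of_monoid_fg
        (Submonoid.powers (g₀ * a)) _)
    apply RingHom.FiniteType.of_comp_finiteType (f := algebraMap R A)
    have : ψ'.toRingHom.comp (algebraMap R A) =
        algebraMap R (Localization.Away (g₀ * a)) := ψ'.comp_algebraMap
    rw [this]
    exact RingHom.finiteType_algebraMap.mpr hft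
  · have : ψ'.toRingHom = (e.symm.toAlgHom.toRingHom).comp
        ((algebraMap (Localization.Away g₀) (Localization.Away b)).comp ψ.toRingHom) := by
      ext x; rfl
    rw [this]
    refine RingHom.QuasiFinite.comp ?_ hQF
    exact RingHom.QuasiFinite.of_finite
      (RingHom.Finite.of_surjective _ e.symm.surjective)
  · have hdisj : Disjoint (Submonoid.powers (g₀ * a) : Set S) (q : Set S) := by
      rw [Set.disjoint_left]
      rintro x ⟨k, rfl⟩ hk
      exact hgq (Ideal.IsPrime.mem_of_pow_mem inferInstance k hk)
    have hcomap : (q.map (algebraMap S (Localization.Away (g₀ * a)))).comap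
        (algebraMap S (Localization.Away (g₀ * a))) = q :=
      IsLocalization.under_map_of_isPrime_disjoint (Submonoid.powers (g₀ * a)) _ inferInstance hdisj
    have hJ : (q.map (algebraMap S (Localization.Away (g₀ * a)))).comap κ =
        q.map (algebraMap S (Localization.Away g₀)) := by
      rw [← IsLocalization.map_under (Submonoid.powers g₀) (Localization.Away g₀)
        ((q.map (algebraMap S (Localization.Away (g₀ * a)))).comap κ)]
      congr 1
      ext x
      rw [Ideal.under, Ideal.mem_comap, Ideal.mem_comap, AlgHom.commutes, ← Ideal.mem_comap,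
        hcomap]
    rw [← hJ]
    ext x
    simp only [Ideal.mem_comap]
    rfl




/-- A field which is "a fraction field of a quotient" of a quasi-finite `A`-algebra `B` is
algebraic over the image of `A`. -/
theorem isAlgebraic_of_quasiFinite {A B L : Type u} [CommRing A] [CommRing B] [Field L]
    [Algebra A B] [Algebra.QuasiFinite A B] [Algebra A L] [Algebra B L] [IsScalarTower A B L]
    (hfrac : ∀ x : L, ∃ b b' : B, algebraMap B L b ≠ 0 ∧ x * algebraMap B L b = algebraMap B L b')
    (x : L) :
    ∃ W : Polynomial A, W.map (algebraMap A L) ≠ 0 ∧ W.eval₂ (algebraMap A L) x = 0 := by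
  have hQF : Algebra.QuasiFinite A L := by
    refine Algebra.QuasiFinite.of_forall_exists_mul_mem_range (IsScalarTower.toAlgHom A B L) ?_
    intro x
    obtain ⟨b, b', hb, hbb'⟩ := hfrac x
    exact ⟨b, isUnit_iff_ne_zero.mpr hb, b', hbb'.symm⟩
  set P : Ideal A := RingHom.ker (algebraMap A L) with hP
  haveI : P.IsPrime := RingHom.ker_isPrime _
  let lift₀ : P.ResidueField →+* L := Ideal.ResidueField.lift P (algebraMap A L) le_rfl (by
    intro a ha
    rw [Submonoid.mem_comap, IsUnit.mem_submonoid_iff, isUnit_iff_ne_zero]
    exact ha)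
  letI : Algebra P.ResidueField L := lift₀.toAlgebra
  haveI : IsScalarTower A P.ResidueField L := IsScalarTower.of_algebraMap_eq (fun a => by
    show algebraMap A L a = lift₀ (algebraMap A P.ResidueField a)
    rw [Ideal.ResidueField.lift_algebraMap])
  haveI : Algebra.QuasiFinite P.ResidueField L := Algebra.QuasiFinite.of_restrictScalars A _ _
  haveI : Module.Finite P.ResidueField L := Module.Finite.of_quasiFinite
  letI : Algebra (A ⧸ P) L :=
    ((algebraMap P.ResidueField L).comp (algebraMap (A ⧸ P) P.ResidueField)).toAlgebra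
  haveI : IsScalarTower (A ⧸ P) P.ResidueField L := IsScalarTower.of_algebraMap_eq (fun _ => rfl)
  have hx : IsAlgebraic P.ResidueField x := Algebra.IsAlgebraic.isAlgebraic x
  rw [← IsFractionRing.isAlgebraic_iff (A ⧸ P) P.ResidueField L] at hx
  obtain ⟨G, hG0, hGx⟩ := hx
  obtain ⟨W, rfl⟩ := Polynomial.map_surjective (Ideal.Quotient.mk P) Ideal.Quotient.mk_surjective G
  have hcomp : (algebraMap (A ⧸ P) L).comp (Ideal.Quotient.mk P) = algebraMap A L := by
    ext a
    show lift₀ (algebraMap A P.ResidueField a) = _
    rw [Ideal.ResidueField.lift_algebraMap]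
  have hinj : Function.Injective (algebraMap (A ⧸ P) L) :=
    (algebraMap P.ResidueField L).injective.comp
      (Ideal.injective_algebraMap_quotient_residueField P)
  refine ⟨W, ?_, ?_⟩
  · rw [← hcomp, ← Polynomial.map_map]
    exact (Polynomial.map_ne_zero_iff hinj).mpr hG0
  · rw [← hcomp, ← Polynomial.eval₂_map]
    exact hGx




open Cardinal in
/-- After a permutation of the variables, the first `r = trdeg` generators form a transcendence
basis. -/
theorem exists_perm_isTranscendenceBasis {k₀ L : Type u} [CommRing k₀] [Nontrivial k₀] [Field L]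
    [Algebra k₀ L] [FaithfulSMul k₀ L] (n r : ℕ) (x : Fin n → L)
    [Algebra.IsAlgebraic (Algebra.adjoin k₀ (Set.range x)) L]
    (htr : Algebra.trdeg k₀ L = r) :
    ∃ σ : Equiv.Perm (Fin n),
      IsTranscendenceBasis k₀ (fun i : {i : Fin n // i.1 < r} => x (σ i.1)) := by
  classical
  obtain ⟨t, hts, ht⟩ := exists_isTranscendenceBasis_subset (R := k₀) (Set.range x)
  have hcard : #t = r := ht.cardinalMk_eq_trdeg.trans htr
  choose u hu using (fun y : t => hts y.2)
  have hinj : Function.Injective u := by
    intro y y' h
    apply Subtype.ext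
    rw [← hu y, ← hu y', h]
  obtain ⟨e_t⟩ := Cardinal.mk_eq_nat_iff.mp hcard
  have hrn : r ≤ n := by
    have := Fintype.card_le_of_injective (u ∘ e_t.symm) (hinj.comp e_t.symm.injective)
    simpa using this
  have hbasis : IsTranscendenceBasis k₀ (fun j : Set.range u => x j.1) := by
    have := ht.comp_equiv (Equiv.ofInjective u hinj).symm
    convert this using 1
    funext j
    obtain ⟨_, y, rfl⟩ := j
    show x (u y) = (((Equiv.ofInjective u hinj).symm ⟨u y, y, rfl⟩ : t) : L)
    rw [Equiv.ofInjective_symm_apply, hu]
  let e : {i : Fin n // i.1 < r} ≃ {j : Fin n // j ∈ Set.range u} :=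
    (Fin.castLEquiv hrn).symm.trans (e_t.symm.trans (Equiv.ofInjective u hinj))
  refine ⟨e.extendSubtype, ?_⟩
  have := hbasis.comp_equiv e
  convert this using 1
  funext i
  show x (e.extendSubtype i.1) = x (e i).1
  rw [Equiv.extendSubtype_apply_of_mem e i.1 i.2]




/-- Algebraic independence modulo `p` computes the kernel of evaluation. -/
theorem mem_map_of_aeval_eq_zero {R L : Type u} [CommRing R] [Field L] (p : Ideal R)
    [Algebra R L] [Algebra (R ⧸ p) L] [IsScalarTower R (R ⧸ p) L] {ι : Type}
    (y : ι → L) (hy : AlgebraicIndependent (R ⧸ p) y) (F : MvPolynomial ι R)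
    (hF : MvPolynomial.aeval y F = 0) : F ∈ p.map (algebraMap R (MvPolynomial ι R)) := by
  have h1 : MvPolynomial.aeval y (MvPolynomial.map (algebraMap R (R ⧸ p)) F) = 0 := by
    rw [MvPolynomial.aeval_map_algebraMap]; exact hF
  have h2 : MvPolynomial.map (algebraMap R (R ⧸ p)) F = 0 := by
    apply hy
    rw [h1, map_zero]
  rw [MvPolynomial.algebraMap_eq, MvPolynomial.mem_map_C_iff]
  intro m
  have := congrArg (MvPolynomial.coeff m) h2
  rw [MvPolynomial.coeff_map, MvPolynomial.coeff_zero, Ideal.Quotient.algebraMap_eq,
    Ideal.Quotient.eq_zero_iff_mem] at this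
  exact this

/-- An element algebraic over `(R/p)[y]` satisfies a polynomial over `R[t]` whose leading
coefficient does not vanish at `y`. -/
theorem exists_polynomial_of_isTranscendenceBasis {R L : Type u} [CommRing R] [Field L]
    (p : Ideal R) [p.IsPrime]
    [Algebra R L] [Algebra (R ⧸ p) L] [IsScalarTower R (R ⧸ p) L] {ι : Type}
    (y : ι → L) (hy : IsTranscendenceBasis (R ⧸ p) y) (z : L) :
    ∃ V : Polynomial (MvPolynomial ι R), 1 ≤ V.natDegree ∧
      MvPolynomial.aeval y V.leadingCoeff ≠ 0 ∧
      V.eval₂ (MvPolynomial.aeval y : MvPolynomial ι R →ₐ[R] L).toRingHom z = 0 := by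
  have halg := hy.isAlgebraic
  set E := Algebra.adjoin (R ⧸ p) (Set.range y) with hE
  obtain ⟨W, hW0, hWz⟩ := (Algebra.IsAlgebraic.isAlgebraic (R := E) z)
  have hmem : ∀ d : MvPolynomial ι R, (MvPolynomial.aeval y : MvPolynomial ι R →ₐ[R] L) d ∈ E := by
    intro d
    induction d using MvPolynomial.induction_on with
    | C a =>
      rw [MvPolynomial.aeval_C, IsScalarTower.algebraMap_apply R (R ⧸ p) L]
      exact Subalgebra.algebraMap_mem _ _
    | add F G hF hG => rw [map_add]; exact add_mem hF hG
    | mul_X F i hF =>
      rw [map_mul, MvPolynomial.aeval_X]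
      exact mul_mem hF (Algebra.subset_adjoin ⟨i, rfl⟩)
  let π : MvPolynomial ι R →+* E :=
    RingHom.codRestrict (MvPolynomial.aeval y : MvPolynomial ι R →ₐ[R] L).toRingHom E hmem
  have hπ : (algebraMap E L).comp π = (MvPolynomial.aeval y : MvPolynomial ι R →ₐ[R] L).toRingHom :=
    RingHom.ext (fun _ => rfl)
  have hsurj : Function.Surjective π := by
    rintro ⟨e, he⟩
    rw [hE, Algebra.adjoin_range_eq_range_aeval] at he
    obtain ⟨G, rfl⟩ := he
    obtain ⟨G₀, rfl⟩ := MvPolynomial.map_surjective (Ideal.Quotient.mk p)
      Ideal.Quotient.mk_surjective G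
    refine ⟨G₀, Subtype.ext ?_⟩
    show MvPolynomial.aeval y G₀ = _
    rw [← MvPolynomial.aeval_map_algebraMap (R ⧸ p)]
    rfl
  have hlifts : W ∈ Polynomial.lifts π := by
    rw [Polynomial.lifts_iff_coeff_lifts]
    intro k
    exact hsurj _
  obtain ⟨V, hVW, hdeg⟩ := Polynomial.exists_degree_eq_of_mem_lifts hlifts
  have hnat : V.natDegree = W.natDegree := Polynomial.natDegree_eq_of_degree_eq hdeg
  have hlc : MvPolynomial.aeval y V.leadingCoeff ≠ 0 := by
    have h1 : π V.leadingCoeff = W.leadingCoeff := by
      rw [Polynomial.leadingCoeff, Polynomial.leadingCoeff, ← hVW, Polynomial.coeff_map, hVW, hnat]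
    have h2 : W.leadingCoeff ≠ 0 := Polynomial.leadingCoeff_ne_zero.mpr hW0
    intro h3
    apply h2
    rw [← h1]
    exact Subtype.ext h3
  have heval : V.eval₂ (MvPolynomial.aeval y : MvPolynomial ι R →ₐ[R] L).toRingHom z = 0 := by
    rw [← hπ, ← Polynomial.eval₂_map, hVW]
    exact hWz
  refine ⟨V, ?_, hlc, heval⟩
  by_contra hcon
  have h0 : V.natDegree = 0 := by omega
  have hC := Polynomial.eq_C_of_natDegree_eq_zero h0
  rw [hC, Polynomial.eval₂_C] at heval
  apply hlc
  rw [Polynomial.leadingCoeff, h0]
  exact heval




/-- Polynomial witnesses over `R[t]` give algebraicity over `(R/p)[y]`. -/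
theorem isAlgebraic_adjoin_of_forall {R L : Type u} [CommRing R] [Field L] (p : Ideal R)
    [Algebra R L] [Algebra (R ⧸ p) L] [IsScalarTower R (R ⧸ p) L] {ι : Type} (y : ι → L)
    (h : ∀ z : L, ∃ W : Polynomial (MvPolynomial ι R),
      W.map (MvPolynomial.aeval y : MvPolynomial ι R →ₐ[R] L).toRingHom ≠ 0 ∧
      W.eval₂ (MvPolynomial.aeval y : MvPolynomial ι R →ₐ[R] L).toRingHom z = 0) :
    Algebra.IsAlgebraic (Algebra.adjoin (R ⧸ p) (Set.range y)) L := by
  set E := Algebra.adjoin (R ⧸ p) (Set.range y) with hE
  have hmem : ∀ d : MvPolynomial ι R, (MvPolynomial.aeval y : MvPolynomial ι R →ₐ[R] L) d ∈ E := by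
    intro d
    induction d using MvPolynomial.induction_on with
    | C a =>
      rw [MvPolynomial.aeval_C, IsScalarTower.algebraMap_apply R (R ⧸ p) L]
      exact Subalgebra.algebraMap_mem _ _
    | add F G hF hG => rw [map_add]; exact add_mem hF hG
    | mul_X F i hF =>
      rw [map_mul, MvPolynomial.aeval_X]
      exact mul_mem hF (Algebra.subset_adjoin ⟨i, rfl⟩)
  let π : MvPolynomial ι R →+* E :=
    RingHom.codRestrict (MvPolynomial.aeval y : MvPolynomial ι R →ₐ[R] L).toRingHom E hmem
  have hπ : (algebraMap E L).comp π = (MvPolynomial.aeval y : MvPolynomial ι R →ₐ[R] L).toRingHom :=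
    RingHom.ext (fun _ => rfl)
  refine ⟨fun z => ?_⟩
  obtain ⟨W, hW0, hWz⟩ := h z
  refine ⟨W.map π, ?_, ?_⟩
  · intro h0
    apply hW0
    rw [← hπ, ← Polynomial.map_map, h0, Polynomial.map_zero]
  · rw [Polynomial.aeval_def, Polynomial.eval₂_map, hπ]
    exact hWz




set_option maxHeartbeats 800000 in
theorem main (R S : Type u) [CommRing R] [CommRing S]
    [Algebra R S] [Algebra.FiniteType R S] (p : Ideal R) [p.IsPrime] (q : Ideal S) [q.IsPrime]
    [q.LiesOver p]
    [Algebra (Localization.AtPrime p) (Localization.AtPrime q)]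
    [Localization.AtPrime.IsLiesOverAlgebra p q] (Q : PrimeSpectrum (p.Fiber S))
    (hQ : Q.asIdeal.comap (Algebra.TensorProduct.includeRight.toRingHom) = q) (n r : ℕ)
    (hdim : FlatMor.localDim (PrimeSpectrum (p.Fiber S)) Q = (n : WithBot ℕ∞))
    (hr : Algebra.trdeg p.ResidueField q.ResidueField = r) :
    ∃ (f : R) (g : S), f ∉ p ∧ g ∉ q ∧
      ∃ φ : MvPolynomial (Fin n) (Localization.Away f) →ₐ[R] Localization.Away g,
        φ.toRingHom.FiniteType ∧ φ.toRingHom.QuasiFinite ∧
        (q.map (algebraMap S (Localization.Away g))).comap φ =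
          p.map (algebraMap R (MvPolynomial (Fin n) (Localization.Away f))) ⊔
            Ideal.span (Set.range fun i : {i : Fin n // r ≤ (i : ℕ)} =>
              (MvPolynomial.X (i : Fin n) : MvPolynomial (Fin n) (Localization.Away f))) := by
  classical
  haveI : Nontrivial R := RingHom.domain_nontrivial (Ideal.Quotient.mk p)
  -- Step 1: relative Noether normalization
  obtain ⟨g₀, hg₀, φ₀, hφ₀ft, hφ₀qf⟩ := RelNoether.main R S p q Q hQ n hdim
  -- the evaluation at `q`
  have hg₀unit : IsUnit (algebraMap S q.ResidueField g₀) := by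
    rw [isUnit_iff_ne_zero, Ne, Ideal.algebraMap_residueField_eq_zero]; exact hg₀
  let ev : Localization.Away g₀ →ₐ[S] q.ResidueField :=
    IsLocalization.liftAlgHom (M := Submonoid.powers g₀) (f := Algebra.ofId S q.ResidueField) (by
      rintro ⟨_, k, rfl⟩
      show IsUnit (algebraMap S q.ResidueField (g₀ ^ k))
      rw [map_pow]
      exact hg₀unit.pow k)
  have hkerev : RingHom.ker ev = q.map (algebraMap S (Localization.Away g₀)) := by
    rw [← IsLocalization.map_under (Submonoid.powers g₀) (Localization.Away g₀) (RingHom.ker ev)]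
    congr 1
    ext x
    rw [Ideal.under, Ideal.mem_comap, RingHom.mem_ker, AlgHom.commutes,
      Ideal.algebraMap_residueField_eq_zero]
  let evR : Localization.Away g₀ →ₐ[R] q.ResidueField := ev.restrictScalars R
  -- every element of `κ(q)` is a quotient of images of elements of `S_{g₀}`
  have hfrac : ∀ x : q.ResidueField, ∃ b b' : Localization.Away g₀,
      ev b ≠ 0 ∧ x * ev b = ev b' := by
    intro x
    obtain ⟨⟨a, s⟩, has⟩ := IsLocalization.surj (nonZeroDivisors (S ⧸ q)) x
    obtain ⟨a', rfl⟩ := Ideal.Quotient.mk_surjective a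
    obtain ⟨s', hs'⟩ := Ideal.Quotient.mk_surjective s.1
    refine ⟨algebraMap S _ s', algebraMap S _ a', ?_, ?_⟩
    · rw [AlgHom.commutes, ← Ideal.algebraMap_quotient_residueField_mk, hs']
      exact IsFractionRing.to_map_ne_zero_of_mem_nonZeroDivisors s.2
    · rw [AlgHom.commutes, AlgHom.commutes, ← Ideal.algebraMap_quotient_residueField_mk,
        ← Ideal.algebraMap_quotient_residueField_mk, hs']
      exact has
  -- `κ(q)` is algebraic over the image of the polynomial ring
  have key : ∀ x : q.ResidueField, ∃ W : Polynomial (MvPolynomial (Fin n) R),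
      W.map (evR.comp φ₀).toRingHom ≠ 0 ∧ W.eval₂ (evR.comp φ₀).toRingHom x = 0 := by
    letI : Algebra (MvPolynomial (Fin n) R) (Localization.Away g₀) := φ₀.toRingHom.toAlgebra
    letI : Algebra (Localization.Away g₀) q.ResidueField := ev.toRingHom.toAlgebra
    letI : Algebra (MvPolynomial (Fin n) R) q.ResidueField := (evR.comp φ₀).toRingHom.toAlgebra
    haveI : IsScalarTower (MvPolynomial (Fin n) R) (Localization.Away g₀) q.ResidueField :=
      IsScalarTower.of_algebraMap_eq (fun _ => rfl)
    haveI : Algebra.QuasiFinite (MvPolynomial (Fin n) R) (Localization.Away g₀) := hφ₀qf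
    exact fun x => isAlgebraic_of_quasiFinite (A := MvPolynomial (Fin n) R)
      (B := Localization.Away g₀) hfrac x
  set xb : Fin n → q.ResidueField := fun i => evR (φ₀ (MvPolynomial.X i)) with hxb
  have hρ : evR.comp φ₀ = MvPolynomial.aeval xb := by
    apply MvPolynomial.algHom_ext
    intro i
    simp [xb]
  -- the structure over `R ⧸ p`
  letI algk₀ : Algebra (R ⧸ p) q.ResidueField :=
    ((algebraMap p.ResidueField q.ResidueField).comp
      (algebraMap (R ⧸ p) p.ResidueField)).toAlgebra
  haveI : IsScalarTower (R ⧸ p) p.ResidueField q.ResidueField :=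
    IsScalarTower.of_algebraMap_eq (fun _ => rfl)
  haveI : IsScalarTower R (R ⧸ p) q.ResidueField := IsScalarTower.of_algebraMap_eq (fun a => by
    show algebraMap R q.ResidueField a = algebraMap p.ResidueField q.ResidueField
      (algebraMap (R ⧸ p) p.ResidueField (Ideal.Quotient.mk p a))
    rw [Ideal.algebraMap_quotient_residueField_mk, ← IsScalarTower.algebraMap_apply])
  have hinj₀ : Function.Injective (algebraMap (R ⧸ p) q.ResidueField) :=
    (algebraMap p.ResidueField q.ResidueField).injective.comp
      (Ideal.injective_algebraMap_quotient_residueField p)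
  haveI : FaithfulSMul (R ⧸ p) q.ResidueField :=
    (faithfulSMul_iff_algebraMap_injective _ _).mpr hinj₀
  have htr : Algebra.trdeg (R ⧸ p) q.ResidueField = r := by
    have hadd := trdeg_add_eq (R ⧸ p) p.ResidueField (A := q.ResidueField)
    rw [trdeg_eq_zero (R := R ⧸ p) (A := p.ResidueField), zero_add] at hadd
    rw [← hadd, hr]
  haveI : Algebra.IsAlgebraic (Algebra.adjoin (R ⧸ p) (Set.range xb)) q.ResidueField :=
    isAlgebraic_adjoin_of_forall p xb (by rw [← hρ]; exact key)
  obtain ⟨σ, hσ⟩ := exists_perm_isTranscendenceBasis (k₀ := R ⧸ p) n r xb htr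
  -- permute the variables
  let φ₁ : MvPolynomial (Fin n) R →ₐ[R] Localization.Away g₀ := φ₀.comp (MvPolynomial.rename σ)
  have hφ₁qf : φ₁.toRingHom.QuasiFinite := by
    have : φ₁.toRingHom =
        φ₀.toRingHom.comp (MvPolynomial.renameEquiv R σ).toAlgHom.toRingHom :=
      RingHom.ext (fun _ => rfl)
    rw [this]
    exact hφ₀qf.comp (RingHom.QuasiFinite.of_finite
      (RingHom.Finite.of_surjective _ (MvPolynomial.renameEquiv R σ).surjective))
  set xb' : Fin n → q.ResidueField := fun i => xb (σ i) with hxb'
  have hρ₁ : evR.comp φ₁ = MvPolynomial.aeval xb' := by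
    apply MvPolynomial.algHom_ext
    intro i
    simp [φ₁, xb', xb]
  set y : {i : Fin n // i.1 < r} → q.ResidueField := fun i => xb' i.1 with hy
  have hybasis : IsTranscendenceBasis (R ⧸ p) y := hσ
  -- the polynomials `V_j`
  choose V₀ hV₀deg hV₀lc hV₀ev using fun j : Fin n =>
    exists_polynomial_of_isTranscendenceBasis p y hybasis (xb' j)
  let V : Fin n → Polynomial (MvPolynomial {i : Fin n // i.1 < r} R) :=
    fun j => if j.1 < r then Polynomial.X else V₀ j
  have hVdeg : ∀ j, 1 ≤ (V j).natDegree := by
    intro j
    by_cases hj : j.1 < r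
    · simp [V, hj]
    · simp only [V, hj, if_false]; exact hV₀deg j
  have hVlc : ∀ j, MvPolynomial.aeval y (V j).leadingCoeff ≠ 0 := by
    intro j
    by_cases hj : j.1 < r
    · simp [V, hj]
    · simp only [V, hj, if_false]; exact hV₀lc j
  let inc : MvPolynomial {i : Fin n // i.1 < r} R →ₐ[R] MvPolynomial (Fin n) R :=
    MvPolynomial.rename Subtype.val
  let θ : MvPolynomial (Fin n) R →ₐ[R] MvPolynomial (Fin n) R :=
    MvPolynomial.aeval (fun j => (V j).eval₂ inc.toRingHom (MvPolynomial.X j))
  have hθX : ∀ j, θ (MvPolynomial.X j) = (V j).eval₂ inc.toRingHom (MvPolynomial.X j) :=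
    fun j => MvPolynomial.aeval_X _ _
  have hθu : ∀ d, θ (inc d) = inc d := by
    intro d
    have : θ.comp inc = inc := by
      apply MvPolynomial.algHom_ext
      intro i
      show θ (inc (MvPolynomial.X i)) = inc (MvPolynomial.X i)
      simp only [inc, MvPolynomial.rename_X]
      rw [hθX]
      simp [V, i.2]
    exact AlgHom.congr_fun this d
  set c₀ : MvPolynomial {i : Fin n // i.1 < r} R := ∏ j, (V j).leadingCoeff with hc₀
  have hfin : (Localization.awayMap θ.toRingHom (inc c₀)).Finite :=
    finite_awayMap_theta Subtype.val Subtype.val_injective V hVdeg θ hθX hθu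
  have hincy : (MvPolynomial.aeval xb').comp inc = MvPolynomial.aeval y := by
    apply MvPolynomial.algHom_ext
    intro i
    simp [inc, y]
  have hc₀ne : MvPolynomial.aeval xb' (inc c₀) ≠ 0 := by
    have : MvPolynomial.aeval xb' (inc c₀) = MvPolynomial.aeval y c₀ := AlgHom.congr_fun hincy c₀
    rw [this, hc₀, map_prod]
    exact Finset.prod_ne_zero_iff.mpr (fun j _ => hVlc j)
  -- the new map and the element to invert
  let ψ : MvPolynomial (Fin n) R →ₐ[R] Localization.Away g₀ := φ₁.comp θ
  have hb : φ₁ (θ (inc c₀)) ∉ q.map (algebraMap S (Localization.Away g₀)) := by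
    rw [← hkerev, RingHom.mem_ker, hθu]
    have : ev (φ₁ (inc c₀)) = MvPolynomial.aeval xb' (inc c₀) := AlgHom.congr_fun hρ₁ (inc c₀)
    rw [this]
    exact hc₀ne
  have hQF : ((algebraMap (Localization.Away g₀) (Localization.Away (φ₁ (θ (inc c₀))))).comp
      ψ.toRingHom).QuasiFinite := by
    have h1 : (algebraMap (MvPolynomial (Fin n) R) (Localization.Away (inc c₀))).QuasiFinite :=
      RingHom.QuasiFinite.holdsForLocalizationAway _ (inc c₀)
    have h2 : (Localization.awayMap θ.toRingHom (inc c₀)).QuasiFinite :=
      RingHom.QuasiFinite.of_finite hfin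
    have h3 : (Localization.awayMap φ₁.toRingHom (θ.toRingHom (inc c₀))).QuasiFinite :=
      RingHom.QuasiFinite.propertyIsLocal.localizationAwayPreserves _ _ _ _ hφ₁qf
    have hcomp : (algebraMap (Localization.Away g₀) (Localization.Away (φ₁ (θ (inc c₀))))).comp
        ψ.toRingHom =
        (Localization.awayMap φ₁.toRingHom (θ.toRingHom (inc c₀))).comp
          ((Localization.awayMap θ.toRingHom (inc c₀)).comp
            (algebraMap _ (Localization.Away (inc c₀)))) := by
      rw [Localization.awayMap, Localization.awayMap, IsLocalization.Away.map,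
        IsLocalization.Away.map, IsLocalization.map_comp, ← RingHom.comp_assoc,
        IsLocalization.map_comp, RingHom.comp_assoc]
      rfl
    rw [hcomp]
    exact h3.comp (h2.comp h1)
  obtain ⟨g, hgq, ψ', hψ'ft, hψ'qf, hψ'comap⟩ :=
    exists_away_of_away q g₀ hg₀ ψ (φ₁ (θ (inc c₀))) hb hQF
  -- the preimage of `q`
  set y' : Fin n → q.ResidueField := fun j => if j.1 < r then xb' j else 0 with hy'
  have hevψ : evR.comp ψ = MvPolynomial.aeval y' := by
    apply MvPolynomial.algHom_ext
    intro j
    show evR (φ₁ (θ (MvPolynomial.X j))) = MvPolynomial.aeval y' (MvPolynomial.X j)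
    rw [hθX, MvPolynomial.aeval_X]
    have h1 : evR (φ₁ ((V j).eval₂ inc.toRingHom (MvPolynomial.X j))) =
        (V j).eval₂ (MvPolynomial.aeval y :
          MvPolynomial {i : Fin n // i.1 < r} R →ₐ[R] q.ResidueField).toRingHom (xb' j) := by
      have h2 : evR (φ₁ ((V j).eval₂ inc.toRingHom (MvPolynomial.X j))) =
          (MvPolynomial.aeval xb' : MvPolynomial (Fin n) R →ₐ[R] q.ResidueField).toRingHom
            ((V j).eval₂ inc.toRingHom (MvPolynomial.X j)) := AlgHom.congr_fun hρ₁ _
      rw [h2, Polynomial.hom_eval₂]
      have h3 : (MvPolynomial.aeval xb' :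
          MvPolynomial (Fin n) R →ₐ[R] q.ResidueField).toRingHom.comp inc.toRingHom =
          (MvPolynomial.aeval y :
            MvPolynomial {i : Fin n // i.1 < r} R →ₐ[R] q.ResidueField).toRingHom := by
        rw [← hincy]; rfl
      rw [h3]
      congr 1
      exact MvPolynomial.aeval_X _ _
    rw [h1]
    by_cases hj : j.1 < r
    · simp [y', V, hj]
    · simp only [y', V, hj, if_false]
      exact hV₀ev j
  have hcomap1 : (q.map (algebraMap S (Localization.Away g₀))).comap ψ =
      RingHom.ker (MvPolynomial.aeval y' : MvPolynomial (Fin n) R →ₐ[R] q.ResidueField) := by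
    rw [← hkerev, ← hevψ]
    ext x
    simp only [Ideal.mem_comap, RingHom.mem_ker]
    rfl
  have hp0 : ∀ a ∈ p, algebraMap R q.ResidueField a = 0 := by
    intro a ha
    rw [IsScalarTower.algebraMap_apply R p.ResidueField q.ResidueField,
      Ideal.algebraMap_residueField_eq_zero.mpr ha, map_zero]
  have hyy : (fun i : {i : Fin n // i.1 < r} => y' i.1) = y := by
    funext i
    simp [y', y, i.2]
  have hkerfinal := ker_aeval_eq p n r y' (fun j hj => by simp [y', not_lt.mpr hj]) hp0
    (fun F hF => mem_map_of_aeval_eq_zero p y hybasis.1 F (by rw [← hyy]; exact hF))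
  -- `f = 1`
  let e₁ : R ≃ₐ[R] Localization.Away (1 : R) := IsLocalization.atOne R _
  let ε : MvPolynomial (Fin n) (Localization.Away (1 : R)) ≃ₐ[R] MvPolynomial (Fin n) R :=
    MvPolynomial.mapAlgEquiv (Fin n) e₁.symm
  refine ⟨1, g, fun h => (‹p.IsPrime›).ne_top ((Ideal.eq_top_iff_one _).mpr h), hgq,
    ψ'.comp ε.toAlgHom, ?_, ?_, ?_⟩
  · have : (ψ'.comp ε.toAlgHom).toRingHom = ψ'.toRingHom.comp ε.toAlgHom.toRingHom :=
      RingHom.ext (fun _ => rfl)
    rw [this]
    exact hψ'ft.comp (RingHom.FiniteType.of_surjective _ ε.surjective)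
  · have : (ψ'.comp ε.toAlgHom).toRingHom = ψ'.toRingHom.comp ε.toAlgHom.toRingHom :=
      RingHom.ext (fun _ => rfl)
    rw [this]
    exact hψ'qf.comp (RingHom.QuasiFinite.of_finite
      (RingHom.Finite.of_surjective _ ε.surjective))
  · have h1 : (q.map (algebraMap S (Localization.Away g))).comap (ψ'.comp ε.toAlgHom) =
        ((q.map (algebraMap S (Localization.Away g))).comap ψ').comap ε.toAlgHom := by
      ext x
      simp only [Ideal.mem_comap]
      rfl
    have h2 : ∀ I : Ideal (MvPolynomial (Fin n) R),
        I.comap ε.toAlgHom = I.map ε.symm.toAlgHom.toRingHom := by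
      intro I
      ext x
      rw [Ideal.mem_comap]
      constructor
      · intro hx
        have := Ideal.mem_map_of_mem ε.symm.toAlgHom.toRingHom hx
        simpa using this
      · intro hx
        have hle : I.map ε.symm.toAlgHom.toRingHom ≤ I.comap ε.toAlgHom := by
          rw [Ideal.map_le_iff_le_comap]
          intro z hz
          rw [Ideal.mem_comap, Ideal.mem_comap]
          simpa using hz
        exact hle hx
    rw [h1, hψ'comap, hcomap1, hkerfinal, h2, Ideal.map_sup, Ideal.map_map, Ideal.map_span]
    congr 1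
    · congr 1
      exact ε.symm.toAlgHom.comp_algebraMap
    · congr 1
      rw [← Set.range_comp]
      congr 1
      funext i
      simp [ε]


end Groth.Agent.H46.RelNoetherRef
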