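import Groth.Agent.H46.SmoothDim
import Groth.Agent.H46.GCIExt
import Mathlib

/-!
# A standard smooth algebra over a field is a global complete intersection
-/

set_option autoImplicit false
universe u

namespace Groth.Agent.H46.SmoothGCI

variable (k : Type u) [Field k]

/-- dimension of a nonzero standard smooth algebra of relative dimension `d` over a field -/
theorem ringKrullDim_of_isStandardSmoothOfRelativeDimension (d : ℕ) (T : Type u) [CommRing T]
    [Algebra k T] [Nontrivial T] [Algebra.IsStandardSmoothOfRelativeDimension d k T] :
    ringKrullDim T = d := by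
  obtain ⟨g, hg⟩ := Algebra.IsStandardSmoothOfRelativeDimension.exists_etale_mvPolynomial d k T
  algebraize [g.toRingHom]
  have : Algebra.Etale (MvPolynomial (Fin d) k) T := RingHom.etale_algebraMap.mp hg
  exact Groth.Agent.H46.SmoothDim.ringKrullDim_eq k d T

theorem isGlobalCI_of_isStandardSmooth (T : Type u) [CommRing T] [Algebra k T]
    [Algebra.IsStandardSmooth k T] : Synt.IsGlobalCI k T := by
  classical
  by_cases hT : Subsingleton T
  · exact Or.inl hT
  have hnt : Nontrivial T := not_subsingleton_iff_nontrivial.mp hT
  obtain ⟨ι, σ, hσ, hι, ⟨P⟩⟩ := Algebra.IsStandardSmooth.out (R := k) (S := T)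
  let _ := Fintype.ofFinite ι
  let _ := Fintype.ofFinite σ
  have hc : Fintype.card σ ≤ Fintype.card ι := Fintype.card_le_of_injective _ P.map_inj
  have hdimP : P.dimension = Fintype.card ι - Fintype.card σ := by
    simp [Algebra.Presentation.dimension, Nat.card_eq_fintype_card]
  have : Algebra.IsStandardSmoothOfRelativeDimension (Fintype.card ι - Fintype.card σ) k T :=
    ⟨ι, σ, hσ, hι, P, hdimP⟩
  have hdim := ringKrullDim_of_isStandardSmoothOfRelativeDimension k
    (Fintype.card ι - Fintype.card σ) T
  let Q := P.toPresentation.reindex (Fintype.equivFin ι).symm (Fintype.equivFin σ).symm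
  exact Groth.Agent.H46.GCIExt.isGlobalCI_of_pres hc Q hdim

end Groth.Agent.H46.SmoothGCI
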