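/-
helper46: local algebra for a closed immersion of flat schemes with regular fibres:
the kernel of `B → C` is generated by at most `dim (B / m_A B)` elements.
-/
import Mathlib
import Groth.Agent.H8.RegLocalQuot
import Groth.Agent.Lib.Helper12.FourTermFlat
import Groth.Agent.H46.CMFlatLocal

set_option autoImplicit false
universe u

namespace Groth.Agent.H46.SmoothPairKer

open IsLocalRing RingTheory.Sequence Groth.Agent.H46.CMFlatLocal

variable (A B C : Type u) [CommRing A] [CommRing B] [CommRing C] [IsLocalRing A] [IsLocalRing B]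
  [IsLocalRing C] [IsNoetherianRing B] [Algebra A B] [Algebra B C] [Algebra A C]
  [IsScalarTower A B C] [IsLocalHom (algebraMap A B)] [IsLocalHom (algebraMap B C)]

/-- regular sequences in a Noetherian local ring have length at most the dimension. -/
theorem length_le_ringKrullDim (R : Type u) [CommRing R] [IsLocalRing R] [IsNoetherianRing R]
    (rs : List R) (h : IsRegular R rs) : (rs.length : WithBot ℕ∞) ≤ ringKrullDim R := by
  have h1 := ringKrullDim_add_length_eq_ringKrullDim_of_isRegular rs h
  have hne : Ideal.ofList rs ≠ ⊤ := by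
    intro htop
    apply h.2
    rw [htop]
    simp
  haveI : Nontrivial (R ⧸ Ideal.ofList rs) := Ideal.Quotient.nontrivial_iff.mpr hne
  rw [← h1]
  exact le_add_of_nonneg_left ringKrullDim_nonneg_of_nontrivial

/-- purity: if `B ⧸ J` is flat over `A` then `J ⊓ I B = I • J`. -/
theorem inf_le_smul_of_flat (J : Ideal B) [Module.Flat A (B ⧸ J)] (I : Ideal A) (a : B)
    (haJ : a ∈ J) (haI : a ∈ I.map (algebraMap A B)) : a ∈ I.map (algebraMap A B) • J := by
  have hex : Function.Exact (J.subtype : J →ₗ[B] B) (Submodule.mkQ J) := by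
    intro x
    rw [Submodule.mkQ_apply, Submodule.Quotient.mk_eq_zero]
    simp
  have hz : (J.subtype : J →ₗ[B] B) ⟨a, haJ⟩ ∈
      I.map (algebraMap A B) • (⊤ : Submodule B B) := by
    rw [smul_eq_mul, Ideal.mul_top]
    exact haI
  have h := Groth.Agent.Lib.Helper12.FourTermFlat.mem_smul_top_of_flat_coker (A := A) (B := B)
    (J.subtype : J →ₗ[B] B) (Submodule.mkQ J) (Submodule.injective_subtype J) hex
    (Submodule.mkQ_surjective J) I ⟨a, haJ⟩ hz
  have h2 : (J.subtype : J →ₗ[B] B) ⟨a, haJ⟩ ∈
      Submodule.map (J.subtype : J →ₗ[B] B) (I.map (algebraMap A B) • (⊤ : Submodule B J)) :=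
    Submodule.mem_map_of_mem h
  rw [Submodule.map_smul'', Submodule.map_top, Submodule.range_subtype] at h2
  exact h2

/-- If `C = B ⧸ J` is flat over `A` and the closed fibre rings of `B` and `C` over `A` are regular,
then `J` is generated by at most `dim (B ⧸ m_A B)` elements. -/
theorem exists_finset_span_eq_ker [Module.Flat A C]
    (hsurj : Function.Surjective (algebraMap B C))
    (hB : IsRegularLocalRing (B ⧸ (maximalIdeal A).map (algebraMap A B)))
    (hC : IsRegularLocalRing (C ⧸ (maximalIdeal A).map (algebraMap A C))) :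
    ∃ s : Finset B, Ideal.span (s : Set B) = RingHom.ker (algebraMap B C) ∧
      (s.card : WithBot ℕ∞) ≤ ringKrullDim (B ⧸ (maximalIdeal A).map (algebraMap A B)) := by
  classical
  set IA := (maximalIdeal A).map (algebraMap A B) with hIA
  set IC := (maximalIdeal A).map (algebraMap A C) with hIC
  set J := RingHom.ker (algebraMap B C) with hJ
  have hIAC : IA.map (algebraMap B C) = IC := map_map_maximalIdeal A B C
  have hle : IA ≤ IC.comap (algebraMap B C) := by
    rw [← Ideal.map_le_iff_le_comap, hIAC]
  let φ : B ⧸ IA →+* C ⧸ IC := Ideal.quotientMap IC (algebraMap B C) hle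
  have hφs : Function.Surjective φ := Ideal.quotientMap_surjective hsurj
  obtain ⟨rs, hreg, hker⟩ := Groth.Agent.H8.RegLocalQuot.exists_regular_ker φ hφs
  -- ker φ = J.map mk
  have hker1 : RingHom.ker φ ≤ J.map (Ideal.Quotient.mk IA) := by
    intro x hx
    obtain ⟨b, rfl⟩ := Ideal.Quotient.mk_surjective x
    rw [RingHom.mem_ker, Ideal.quotientMap_mk, Ideal.Quotient.eq_zero_iff_mem, ← hIAC,
      Ideal.mem_map_iff_of_surjective _ hsurj] at hx
    obtain ⟨b', hb', hbb'⟩ := hx
    have h1 : b - b' ∈ J := by rw [hJ, RingHom.mem_ker, map_sub, hbb', sub_self]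
    have h2 : Ideal.Quotient.mk IA b = Ideal.Quotient.mk IA (b - b') := by
      rw [map_sub, Ideal.Quotient.eq_zero_iff_mem.mpr hb', sub_zero]
    rw [h2]
    exact Ideal.mem_map_of_mem _ h1
  have hker2 : J.map (Ideal.Quotient.mk IA) ≤ RingHom.ker φ := by
    rw [Ideal.map_le_iff_le_comap]
    intro b hb
    rw [Ideal.mem_comap, RingHom.mem_ker, Ideal.quotientMap_mk]
    rw [hJ, RingHom.mem_ker] at hb
    rw [hb, map_zero]
  -- lifts
  have hlift : ∀ r ∈ rs, ∃ b ∈ J, Ideal.Quotient.mk IA b = r := by
    intro r hr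
    have : r ∈ RingHom.ker φ := by rw [hker]; exact Ideal.subset_span hr
    exact (Ideal.mem_map_iff_of_surjective _ Ideal.Quotient.mk_surjective).mp (hker1 this)
  choose! ℓ hℓJ hℓ using hlift
  have hsJ : Ideal.span ((rs.toFinset.image ℓ : Finset B) : Set B) ≤ J := by
    rw [Ideal.span_le]
    intro b hb
    rw [Finset.mem_coe, Finset.mem_image] at hb
    obtain ⟨r, hr, rfl⟩ := hb
    exact hℓJ r (List.mem_toFinset.mp hr)
  refine ⟨rs.toFinset.image ℓ, le_antisymm hsJ ?_, ?_⟩
  · -- Nakayama
    haveI : Module.Flat A (B ⧸ J) := by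
      let e : (B ⧸ J) ≃ₐ[B] C := Ideal.quotientKerAlgEquivOfSurjective
        (f := Algebra.ofId B C) hsurj
      exact Module.Flat.of_linearEquiv (e.toLinearEquiv.restrictScalars A)
    refine Submodule.le_of_le_smul_of_le_jacobson_bot (I := IA) (IsNoetherian.noetherian J) ?_ ?_
    · rw [IsLocalRing.jacobson_eq_maximalIdeal ⊥ bot_ne_top]
      exact map_maximalIdeal_le (algebraMap A B)
    · intro b hb
      have h1 : Ideal.Quotient.mk IA b ∈ RingHom.ker φ := hker2 (Ideal.mem_map_of_mem _ hb)
      have h2 : (Ideal.span ((rs.toFinset.image ℓ : Finset B) : Set B)).map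
          (Ideal.Quotient.mk IA) = Ideal.ofList rs := by
        rw [Ideal.map_span]
        congr 1
        ext r
        simp only [Finset.coe_image, List.coe_toFinset, Set.mem_image, Set.mem_ofPred_eq]
        constructor
        · rintro ⟨b, ⟨r', hr', rfl⟩, rfl⟩
          rw [hℓ r' hr']
          exact hr'
        · intro hr
          exact ⟨ℓ r, ⟨r, hr, rfl⟩, hℓ r hr⟩
      rw [hker, ← h2, Ideal.mem_map_iff_of_surjective _ Ideal.Quotient.mk_surjective] at h1
      obtain ⟨t, ht, htb⟩ := h1
      have h3 : b - t ∈ IA := by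
        rw [← Ideal.Quotient.eq_zero_iff_mem, map_sub, htb, sub_self]
      have h4 : b - t ∈ J := J.sub_mem hb (hsJ ht)
      have h5 := inf_le_smul_of_flat A B J (maximalIdeal A) (b - t) h4 h3
      have : b = t + (b - t) := by ring
      rw [this]
      exact Submodule.add_mem_sup ht h5
  · have h1 := length_le_ringKrullDim (B ⧸ IA) rs hreg
    refine le_trans ?_ h1
    have h2 : (rs.toFinset.image ℓ).card ≤ rs.length :=
      Finset.card_image_le.trans (List.toFinset_card_le rs)
    exact_mod_cast h2

end Groth.Agent.H46.SmoothPairKer
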