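/-
helper46: relative codimension of a closed subscheme smooth over the base inside a smooth scheme
equals its codimension (S14106).
-/
import Mathlib
import Groth.Prelude.Def_CInt
import Groth.Agent.H46.SmoothPairKer
import Groth.Agent.H46.CMAt2
import Groth.Agent.Lib.Helper14.StalkGenPt
import Groth.Agent.Lib.Helper21.MaximalPoints
import Groth.Agent.S1535
import Groth.Agent.S14103

set_option autoImplicit false
universe u

open AlgebraicGeometry CategoryTheory Limits

namespace Groth.Agent.H46.SmoothPairCodim

open IsLocalRing Groth.Agent.Lib.Helper14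

/-- fibres of a smooth morphism have regular local rings. -/
theorem isRegularLocalRing_fiberStalk {X S : Scheme.{u}} (f : X ⟶ S) [Smooth f] (x : X) :
    IsRegularLocalRing (CInt.fiberStalk f x) := by
  letI : (f.fiber (f x)).Over (Spec (CommRingCat.of (S.residueField (f x)))) :=
    ⟨f.fiberToSpecResidueField (f x)⟩
  haveI : Smooth (f.fiber (f x) ↘ Spec (CommRingCat.of (S.residueField (f x)))) :=
    (inferInstance : Smooth (pullback.snd f (S.fromSpecResidueField (f x))))
  exact Groth.Agent.S1535.result (S.residueField (f x)) (f.fiber (f x)) (f.asFiber x)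

/-- Variant of helper14's `main_S2881` (same proof): if the kernel of the stalk map of a closed
immersion at `y` is generated by a finite set `s`, then at a maximal point `z` of `Y` generizing
`y` the local ring of `X` has dimension at most `#s`. -/
theorem ringKrullDim_stalk_le_card {X Y : Scheme.{u}} [IsLocallyNoetherian X] (i : Y ⟶ X)
    [IsClosedImmersion i] (y : ↥Y)
    (s : Finset ↑(X.presheaf.stalk (i y)))
    (hker : Ideal.span (s : Set ↑(X.presheaf.stalk (i y))) = RingHom.ker (i.stalkMap y).hom)
    (z : ↥Y) (hzy : z ⤳ y)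
    (hmax : ∀ z' : ↥Y, z' ⤳ z → z' = z) :
    ringKrullDim (X.presheaf.stalk (i z)) ≤ s.card := by
  have hzx : i z ⤳ i y := hzy.map i.continuous
  set w := genPt hzx with hw
  have hjw : X.fromSpecStalk (i y) w = i z := fromSpecStalk_genPt hzx
  have hrange : ∀ x' : X, x' ∈ Set.range i ↔ x' ∈ i.ker.support := by
    intro x'
    have h1 := Scheme.Hom.support_ker i
    rw [i.isClosedEmbedding.isClosed_range.closure_eq] at h1
    rw [← h1]
    rfl
  have hmin : w.asIdeal ∈ (Ideal.span (s : Set ↑(X.presheaf.stalk (i y)))).minimalPrimes := by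
    rw [hker]
    refine ⟨⟨w.isPrime, ?_⟩, ?_⟩
    · intro f hf
      rw [hw, genPt_asIdeal, Ideal.mem_comap, mem_maximalIdeal, mem_nonunits_iff]
      intro hunit
      have h1 := i.stalkSpecializes_stalkMap_apply z y hzy f
      rw [RingHom.mem_ker] at hf
      have h2 : (i.stalkMap y).hom f = 0 := hf
      rw [show (ConcreteCategory.hom (i.stalkMap y)) f = 0 from h2, map_zero] at h1
      have h3 : IsUnit ((ConcreteCategory.hom (i.stalkMap z))
          ((ConcreteCategory.hom (X.presheaf.stalkSpecializes hzx)) f)) := hunit.map _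
      rw [h1] at h3
      exact not_isUnit_zero h3
    · rintro q ⟨hq, hIq⟩ hqP
      let w' : Spec (X.presheaf.stalk (i y)) := ⟨q, hq⟩
      have hw'x : X.fromSpecStalk (i y) w' ⤳ i y := fromSpecStalk_specializes w'
      have hw'w : w' ⤳ w := (PrimeSpectrum.le_iff_specializes w' w).mp hqP
      have hx'z : X.fromSpecStalk (i y) w' ⤳ i z := by
        rw [← hjw]
        exact hw'w.map (X.fromSpecStalk (i y)).continuous
      have hx'range : X.fromSpecStalk (i y) w' ∈ Set.range i := by
        by_contra hnot
        rw [hrange] at hnot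
        obtain ⟨U, hU, hxU⟩ : ∃ U : X.Opens, IsAffineOpen U ∧ i y ∈ U := by
          obtain ⟨_, ⟨U, hU, rfl⟩, hyU, -⟩ :=
            X.isBasis_affineOpens.exists_subset_of_mem_open (Set.mem_univ (i y)) isOpen_univ
          exact ⟨U, hU, hyU⟩
        have hx'U : X.fromSpecStalk (i y) w' ∈ U := hw'x.mem_open U.2 hxU
        rw [Scheme.IdealSheafData.mem_support_iff_of_mem (U := ⟨U, hU⟩) hx'U,
          Scheme.mem_zeroLocus_iff] at hnot
        simp only [not_forall, not_not] at hnot
        obtain ⟨b, hb, hx'b⟩ := hnot
        rw [SetLike.mem_coe, Scheme.Hom.ker_apply, RingHom.mem_ker] at hb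
        have hfI : (X.presheaf.germ U (i y) hxU).hom b ∈ RingHom.ker (i.stalkMap y).hom := by
          rw [RingHom.mem_ker]
          have := i.germ_stalkMap_apply U y hxU b
          change (ConcreteCategory.hom (i.stalkMap y))
            ((ConcreteCategory.hom (X.presheaf.germ U (i y) hxU)) b) = 0
          rw [this]
          change (ConcreteCategory.hom (Y.presheaf.germ (i ⁻¹ᵁ U) y hxU)) ((i.app U).hom b) = 0
          rw [hb, map_zero]
        have hfq := hIq hfI
        have hq' : q = (genPt hw'x).asIdeal := congrArg PrimeSpectrum.asIdeal (eq_genPt w' hw'x)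
        rw [hq', genPt_asIdeal, Ideal.mem_comap, mem_maximalIdeal, mem_nonunits_iff] at hfq
        apply hfq
        have h4 := (Scheme.mem_basicOpen X b _ hx'U).mp hx'b
        have h5 := TopCat.Presheaf.germ_stalkSpecializes X.presheaf hxU hw'x
        have h6 : (X.presheaf.stalkSpecializes hw'x).hom ((X.presheaf.germ U (i y) hxU).hom b) =
            (X.presheaf.germ U _ hx'U).hom b := by
          rw [← h5]
          rfl
        rw [h6]
        exact h4
      obtain ⟨z', hz'⟩ := hx'range
      have hz'z : z' ⤳ z := by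
        rw [← i.isClosedEmbedding.isInducing.specializes_iff, hz']
        exact hx'z
      have hz'eq := hmax z' hz'z
      have hww' : w' = w := by
        apply (X.fromSpecStalk (i y)).isEmbedding.injective
        rw [hjw, ← hz', hz'eq]
      intro f hf
      have : f ∈ w'.asIdeal := by rw [hww']; exact hf
      exact this
  haveI : w.asIdeal.IsPrime := w.isPrime
  have hheight := Ideal.height_le_card_of_mem_minimalPrimes_span_finset hmin
  rw [ringKrullDim_stalk_eq_coheight, ← hjw, coheight_fromSpecStalk, ← idealHeight_eq_coheight]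
  exact_mod_cast hheight

/-- S14106. -/
theorem main {X Y S : Scheme.{u}} [IsLocallyNoetherian X]
    (f : X ⟶ S) [Smooth f] (i : Y ⟶ X) [IsClosedImmersion i] [Smooth (i ≫ f)] :
    (⨅ y : Set.range i.base, ringKrullDim ↑(CInt.fiberStalk f y.1)) =
      ⨅ y : Set.range i.base, ringKrullDim ↑(X.presheaf.stalk y.1) := by
  apply le_antisymm
  · exact iInf_mono fun y => Groth.Agent.S14103.dim_fiberStalk_le f y.1
  · refine le_iInf fun ⟨x, y, hy⟩ => ?_
    subst hy
    obtain ⟨z, hzy, hzmax⟩ := Groth.Agent.Lib.Helper21.exists_maximal_generization y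
    refine (iInf_le _ (⟨i z, z, rfl⟩ : Set.range i.base)).trans ?_
    change ringKrullDim ↑(X.presheaf.stalk (i z)) ≤ ringKrullDim ↑(CInt.fiberStalk f (i y))
    obtain ⟨e1⟩ := Groth.Agent.H46.CMAt.nonempty_fibreStalk_equiv f (i y)
    obtain ⟨e2⟩ := Groth.Agent.H46.CMAt.nonempty_fibreStalk_equiv (i ≫ f) y
    have hcomp : ((i ≫ f).stalkMap y) = f.stalkMap (i y) ≫ i.stalkMap y :=
      Scheme.Hom.stalkMap_comp i f y
    letI algAB : Algebra (S.presheaf.stalk (f.base (i.base y))) (X.presheaf.stalk (i.base y)) :=
      (f.stalkMap (i.base y)).hom.toAlgebra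
    letI algBC : Algebra (X.presheaf.stalk (i.base y)) (Y.presheaf.stalk y) :=
      (i.stalkMap y).hom.toAlgebra
    letI algAC : Algebra (S.presheaf.stalk (f.base (i.base y))) (Y.presheaf.stalk y) :=
      ((i.stalkMap y).hom.comp (f.stalkMap (i.base y)).hom).toAlgebra
    haveI : IsScalarTower (S.presheaf.stalk (f.base (i.base y))) (X.presheaf.stalk (i.base y))
        (Y.presheaf.stalk y) := IsScalarTower.of_algebraMap_eq (fun _ => rfl)
    haveI : IsLocalHom (algebraMap (S.presheaf.stalk (f.base (i.base y)))
        (X.presheaf.stalk (i.base y))) :=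
      inferInstanceAs (IsLocalHom (f.stalkMap (i.base y)).hom)
    haveI : IsLocalHom (algebraMap (X.presheaf.stalk (i.base y)) (Y.presheaf.stalk y)) :=
      inferInstanceAs (IsLocalHom (i.stalkMap y).hom)
    have hmapeq : ((i ≫ f).stalkMap y).hom =
        (i.stalkMap y).hom.comp (f.stalkMap (i.base y)).hom := by
      rw [hcomp]; rfl
    haveI : Module.Flat (S.presheaf.stalk (f.base (i.base y))) (Y.presheaf.stalk y) := by
      have h := Flat.stalkMap (i ≫ f) y
      rw [hmapeq] at h
      exact h
    have hideal : Ideal.map ((i ≫ f).stalkMap y).hom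
        (maximalIdeal (S.presheaf.stalk ((i ≫ f).base y))) =
        Ideal.map (algebraMap (S.presheaf.stalk (f.base (i.base y))) (Y.presheaf.stalk y))
          (maximalIdeal (S.presheaf.stalk (f.base (i.base y)))) := by
      rw [hmapeq]; rfl
    have hB : IsRegularLocalRing (X.presheaf.stalk (i.base y) ⧸
        (maximalIdeal (S.presheaf.stalk (f.base (i.base y)))).map
          (algebraMap (S.presheaf.stalk (f.base (i.base y))) (X.presheaf.stalk (i.base y)))) :=
      haveI := isRegularLocalRing_fiberStalk f (i y)
      IsRegularLocalRing.of_ringEquiv e1.symm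
    have hC : IsRegularLocalRing (Y.presheaf.stalk y ⧸
        (maximalIdeal (S.presheaf.stalk (f.base (i.base y)))).map
          (algebraMap (S.presheaf.stalk (f.base (i.base y))) (Y.presheaf.stalk y))) :=
      haveI := isRegularLocalRing_fiberStalk (i ≫ f) y
      IsRegularLocalRing.of_ringEquiv ((Ideal.quotEquivOfEq hideal.symm).trans e2).symm
    obtain ⟨s, hs, hcard⟩ := Groth.Agent.H46.SmoothPairKer.exists_finset_span_eq_ker
      (S.presheaf.stalk (f.base (i.base y))) (X.presheaf.stalk (i.base y)) (Y.presheaf.stalk y)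
      (i.stalkMap_surjective y) hB hC
    refine (ringKrullDim_stalk_le_card i y s hs z hzy hzmax).trans (hcard.trans_eq ?_)
    exact ringKrullDim_eq_of_ringEquiv e1

end Groth.Agent.H46.SmoothPairCodim
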