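import Groth.Agent.S9429
import Mathlib

/-!
# A smooth ring map is syntomic (in the sense of `Synt.IsSyntomic`)
-/

set_option autoImplicit false
universe u

namespace Groth.Agent.H46.SmoothSynt

theorem isSyntomic_of_smooth (R S : Type u) [CommRing R] [CommRing S] [Algebra R S]
    [Algebra.Smooth R S] : Synt.IsSyntomic R S := by
  refine ⟨inferInstance, inferInstance, fun p => ?_⟩
  have : Algebra.Smooth p.asIdeal.ResidueField (p.asIdeal.Fiber S) := inferInstance
  exact Groth.Agent.S9429.result p.asIdeal.ResidueField (p.asIdeal.Fiber S)

end Groth.Agent.H46.SmoothSynt
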