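import Mathlib
import Groth.Prelude.Def_SGA1

set_option autoImplicit false
open CategoryTheory CategoryTheory.Limits AlgebraicGeometry MorphismProperty
universe u

namespace Groth.Agent.H46.SubmersiveDescent

instance : (SGA1.UnivSubmersive.{u}).IsStableUnderBaseChange := by
  unfold SGA1.UnivSubmersive; infer_instance

instance : (SGA1.UnivSubmersive.{u}).RespectsIso := by
  unfold SGA1.UnivSubmersive; infer_instance

theorem isQuotientMap {X Y : Scheme.{u}} {f : X ⟶ Y} (hf : SGA1.UnivSubmersive f) :
    Topology.IsQuotientMap f.base :=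
  hf _ _ _ IsPullback.of_id_snd

theorem isQuotientMap_snd {X Y T : Scheme.{u}} {f : X ⟶ Y} (hf : SGA1.UnivSubmersive f)
    (t : T ⟶ Y) : Topology.IsQuotientMap (pullback.snd f t).base :=
  hf _ _ _ (IsPullback.of_hasPullback f t).flip

/-- open maps descend along universally submersive maps. -/
theorem isOpenMap_of_isPullback {A X Y Z : Scheme.{u}} {fst : A ⟶ X} {snd : A ⟶ Y}
    {f : X ⟶ Z} {g : Y ⟶ Z} (h : IsPullback fst snd f g) (hf : SGA1.UnivSubmersive f)
    (hfst : IsOpenMap fst.base) : IsOpenMap g.base := by
  intro s hs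
  rw [← (isQuotientMap hf).isOpen_preimage,
    ← Scheme.image_preimage_eq_of_isPullback h.flip]
  exact hfst _ (hs.preimage snd.continuous)

theorem isClosedMap_of_isPullback {A X Y Z : Scheme.{u}} {fst : A ⟶ X} {snd : A ⟶ Y}
    {f : X ⟶ Z} {g : Y ⟶ Z} (h : IsPullback fst snd f g) (hf : SGA1.UnivSubmersive f)
    (hfst : IsClosedMap fst.base) : IsClosedMap g.base := by
  intro s hs
  rw [← (isQuotientMap hf).isClosed_preimage,
    ← Scheme.image_preimage_eq_of_isPullback h.flip]
  exact hfst _ (hs.preimage snd.continuous)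

instance : DescendsAlong (topologically @IsOpenMap) SGA1.UnivSubmersive.{u} where
  of_isPullback h hf hfst := isOpenMap_of_isPullback h hf hfst

instance : DescendsAlong (topologically @IsClosedMap) SGA1.UnivSubmersive.{u} where
  of_isPullback h hf hfst := isClosedMap_of_isPullback h hf hfst

/-- If `P` descends along a base-change-stable `Q`, so does `P.universally`. -/
theorem universally_descendsAlong (P Q : MorphismProperty Scheme.{u}) [P.RespectsIso]
    [Q.IsStableUnderBaseChange] [P.DescendsAlong Q] : (P.universally).DescendsAlong Q := by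
  apply DescendsAlong.mk'
  intro X Y Z f g _ hf hfst
  refine universally_mk' _ _ fun {T} t _ ↦ ?_
  -- `pullback.fst t g : T ×_Z Y ⟶ T`; cover `T` by `pullback.snd f t : X ×_Z T ⟶ T`.
  have hp : P (pullback.fst (pullback.fst f t) (pullback.fst f g)) :=
    hfst _ _ _ (IsPullback.of_hasPullback _ _)
  exact P.of_isPullback_of_descendsAlong (Q := Q) (isPullback_map_snd_snd f t g).flip
    (Q.pullback_snd _ _ hf) hp

instance : DescendsAlong @UniversallyOpen SGA1.UnivSubmersive.{u} := by
  have := universally_descendsAlong (topologically @IsOpenMap) SGA1.UnivSubmersive.{u}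
  constructor
  intro A X Y Z fst snd f g h hf hfst
  exact ⟨this.of_isPullback h hf hfst.1⟩

instance : DescendsAlong @UniversallyClosed SGA1.UnivSubmersive.{u} := by
  have := universally_descendsAlong (topologically @IsClosedMap) SGA1.UnivSubmersive.{u}
  constructor
  intro A X Y Z fst snd f g h hf hfst
  exact ⟨this.of_isPullback h hf hfst.1⟩

theorem isSeparated_eq_diagonal_isClosedMap :
    @IsSeparated = MorphismProperty.diagonal (topologically @IsClosedMap.{u, u}) := by
  ext X Y f
  constructor
  · intro hf
    exact (pullback.diagonal f).isClosedEmbedding.isClosedMap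
  · intro hf
    have hcl : IsClosed (Set.range (pullback.diagonal f).base) := by
      rw [← Set.image_univ]; exact hf _ isClosed_univ
    exact ⟨IsClosedImmersion.of_isPreimmersion _ hcl⟩

instance : DescendsAlong @IsSeparated SGA1.UnivSubmersive.{u} := by
  rw [isSeparated_eq_diagonal_isClosedMap]
  infer_instance

end Groth.Agent.H46.SubmersiveDescent

namespace Groth.Agent.H46.SubmersiveDescent

theorem surjective_of_univSubmersive {X Y : Scheme.{u}} {f : X ⟶ Y} (hf : SGA1.UnivSubmersive f) :
    Surjective f := ⟨(isQuotientMap hf).surjective⟩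

/-- The base change square for `X ×_S S' ⟶ Y ×_S S'`. -/
theorem isPullback_map {S' S X Y : Scheme.{u}} (g : S' ⟶ S) (f : X ⟶ Y) (q : Y ⟶ S) :
    IsPullback (pullback.map (f ≫ q) g q g f (𝟙 S') (𝟙 S) (Category.comp_id _)
        ((Category.comp_id _).trans (Category.id_comp _).symm))
      (pullback.fst (f ≫ q) g) (pullback.fst q g) f := by
  refine IsPullback.of_right ?_ (pullback.lift_fst _ _ _) (IsPullback.of_hasPullback q g).flip
  have h : pullback.map (f ≫ q) g q g f (𝟙 S') (𝟙 S) (Category.comp_id _)
        ((Category.comp_id _).trans (Category.id_comp _).symm) ≫ pullback.snd q g =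
      pullback.snd (f ≫ q) g := (pullback.lift_snd _ _ _).trans (Category.comp_id _)
  rw [h]
  exact (IsPullback.of_hasPullback (f ≫ q) g).flip

theorem main_2917 {S' S X Y : Scheme.{u}} (g : S' ⟶ S) (hg : SGA1.UnivSubmersive g)
    (f : X ⟶ Y) (q : Y ⟶ S) :
    (IsOpenMap (pullback.map (f ≫ q) g q g f (𝟙 S') (𝟙 S) (Category.comp_id _) ((Category.comp_id _).trans (Category.id_comp _).symm)).base → IsOpenMap f.base) ∧
    (IsClosedMap (pullback.map (f ≫ q) g q g f (𝟙 S') (𝟙 S) (Category.comp_id _) ((Category.comp_id _).trans (Category.id_comp _).symm)).base → IsClosedMap f.base) ∧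
    (UniversallyOpen (pullback.map (f ≫ q) g q g f (𝟙 S') (𝟙 S) (Category.comp_id _) ((Category.comp_id _).trans (Category.id_comp _).symm)) → UniversallyOpen f) ∧
    (UniversallyClosed (pullback.map (f ≫ q) g q g f (𝟙 S') (𝟙 S) (Category.comp_id _) ((Category.comp_id _).trans (Category.id_comp _).symm)) → UniversallyClosed f) ∧
    (IsSeparated (pullback.map (f ≫ q) g q g f (𝟙 S') (𝟙 S) (Category.comp_id _) ((Category.comp_id _).trans (Category.id_comp _).symm)) → IsSeparated f) ∧
    (QuasiCompact g → LocallyOfFiniteType f →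
      IsProper (pullback.map (f ≫ q) g q g f (𝟙 S') (𝟙 S) (Category.comp_id _) ((Category.comp_id _).trans (Category.id_comp _).symm)) → IsProper f) := by
  have hpb := isPullback_map g f q
  have hh : SGA1.UnivSubmersive (pullback.fst q g) :=
    SGA1.UnivSubmersive.pullback_fst _ _ hg
  refine ⟨fun h ↦ isOpenMap_of_isPullback hpb hh h, fun h ↦ isClosedMap_of_isPullback hpb hh h,
    fun h ↦ of_isPullback_of_descendsAlong (P := @UniversallyOpen) hpb hh h,
    fun h ↦ of_isPullback_of_descendsAlong (P := @UniversallyClosed) hpb hh h,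
    fun h ↦ of_isPullback_of_descendsAlong (P := @IsSeparated) hpb hh h,
    fun _ hft h ↦ ?_⟩
  have h1 : IsSeparated f :=
    of_isPullback_of_descendsAlong (P := @IsSeparated) hpb hh inferInstance
  have h2 : UniversallyClosed f :=
    of_isPullback_of_descendsAlong (P := @UniversallyClosed) hpb hh inferInstance
  exact { }

end Groth.Agent.H46.SubmersiveDescent

namespace Groth.Agent.H46.SubmersiveDescent

theorem main_14797 {X S S' : Scheme.{u}} (g : S' ⟶ S)
    (hg : SGA1.UnivSubmersive g) (f : X ⟶ S) [Etale f]
    [IsFinite (pullback.snd f g)] : IsFinite f := by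
  have hpb : IsPullback (pullback.snd f g) (pullback.fst f g) g f :=
    (IsPullback.of_hasPullback f g).flip
  have h1 : IsSeparated f :=
    of_isPullback_of_descendsAlong (P := @IsSeparated) hpb hg inferInstance
  have h2 : UniversallyClosed f :=
    of_isPullback_of_descendsAlong (P := @UniversallyClosed) hpb hg inferInstance
  have h3 : IsProper f := { }
  have h4 : LocallyQuasiFinite f := by
    rw [HasRingHomProperty.iff_appLE (P := @LocallyQuasiFinite)]
    intro U V e
    have h : (f.appLE U.1 V.1 e).hom.Etale := HasRingHomProperty.appLE @Etale f ‹_› U V e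
    algebraize [(f.appLE U.1 V.1 e).hom]
    change Algebra.QuasiFinite Γ(S, U.1) Γ(X, V.1)
    infer_instance
  exact IsFinite.of_isProper_of_locallyQuasiFinite f

end Groth.Agent.H46.SubmersiveDescent
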