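import Mathlib
import Groth.Prelude.Def_RegImm
import Groth.Agent.H46.SyntLocal
import Groth.Agent.H46.GCILocalize
import Groth.Agent.S9146

/-!
# Locality of syntomic ring maps (helper46)
-/

set_option autoImplicit false
universe u

open TensorProduct

namespace Groth.Agent.H46.SyntLocality

/-- Semilinear transport of global complete intersections. -/
theorem isGlobalCI_of_ringEquiv_semilinear {k k' : Type u} [Field k] [Field k'] (σ : k ≃+* k')
    {A A' : Type u} [CommRing A] [CommRing A'] [Algebra k A] [Algebra k' A'] (e : A ≃+* A')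
    (he : ∀ x, e (algebraMap k A x) = algebraMap k' A' (σ x)) (h : Synt.IsGlobalCI k A) :
    Synt.IsGlobalCI k' A' := by
  rcases h with h | ⟨n, c, hc, φ, r, hφ, hker, hdim⟩
  · exact Or.inl e.symm.toEquiv.subsingleton
  · let φ' : MvPolynomial (Fin n) k' →ₐ[k'] A' := MvPolynomial.aeval (fun i => e (φ (MvPolynomial.X i)))
    have hcomp : ∀ q : MvPolynomial (Fin n) k, φ' (MvPolynomial.map σ.toRingHom q) = e (φ q) := by
      intro q
      have : (φ'.toRingHom.comp (MvPolynomial.map σ.toRingHom)) = (e.toRingHom.comp φ.toRingHom) := by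
        apply MvPolynomial.ringHom_ext
        · intro x
          simp [φ', he]
        · intro i
          simp [φ']
      exact RingHom.congr_fun this q
    have hmapsurj : Function.Surjective (MvPolynomial.map (σ := Fin n) σ.toRingHom) :=
      MvPolynomial.map_surjective _ σ.surjective
    refine Or.inr ⟨n, c, hc, φ', fun i => MvPolynomial.map σ.toRingHom (r i), ?_, ?_, ?_⟩
    · intro a'
      obtain ⟨q, hq⟩ := hφ (e.symm a')
      exact ⟨MvPolynomial.map σ.toRingHom q, by rw [hcomp, hq, e.apply_symm_apply]⟩
    · apply le_antisymm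
      · intro q' hq'
        obtain ⟨q, rfl⟩ := hmapsurj q'
        rw [RingHom.mem_ker] at hq'
        have hq0 : φ q = 0 := by
          have : e (φ q) = 0 := by rw [← hcomp]; exact hq'
          exact (e.map_eq_zero_iff).mp this
        have hq1 : q ∈ Ideal.span (Set.range r) := by rw [← hker]; exact hq0
        have := Ideal.mem_map_of_mem (MvPolynomial.map σ.toRingHom) hq1
        rw [Ideal.map_span, ← Set.range_comp] at this
        exact this
      · rw [Ideal.span_le]
        rintro _ ⟨i, rfl⟩
        show φ' (MvPolynomial.map σ.toRingHom (r i)) = 0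
        rw [hcomp]
        have : r i ∈ RingHom.ker φ.toRingHom := by rw [hker]; exact Ideal.subset_span ⟨i, rfl⟩
        rw [show φ (r i) = 0 from this, map_zero]
    · rw [← hdim]
      exact (ringKrullDim_eq_of_ringEquiv e).symm

/-- Semilinear transport of local complete intersections. -/
theorem isLCIOver_of_ringEquiv_semilinear {k k' : Type u} [Field k] [Field k'] (σ : k ≃+* k')
    {A A' : Type u} [CommRing A] [CommRing A'] [Algebra k A] [Algebra k' A'] (e : A ≃+* A')
    (he : ∀ x, e (algebraMap k A x) = algebraMap k' A' (σ x)) (h : Synt.IsLCIOver k A) :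
    Synt.IsLCIOver k' A' := by
  classical
  obtain ⟨hft, hloc⟩ := h
  constructor
  · obtain ⟨s, hs⟩ := hft.out
    refine ⟨⟨s.image e, ?_⟩⟩
    have key : ∀ a ∈ Algebra.adjoin k (s : Set A),
        e a ∈ Algebra.adjoin k' ((s.image e : Finset A') : Set A') := by
      intro a ha
      induction ha using Algebra.adjoin_induction with
      | mem x hx =>
        apply Algebra.subset_adjoin
        simp only [Finset.coe_image]
        exact ⟨x, hx, rfl⟩
      | algebraMap x => rw [he]; exact Subalgebra.algebraMap_mem _ _
      | add x y _ _ hx hy => rw [map_add]; exact Subalgebra.add_mem _ hx hy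
      | mul x y _ _ hx hy => rw [map_mul]; exact Subalgebra.mul_mem _ hx hy
    rw [eq_top_iff]
    intro a' _
    obtain ⟨a, rfl⟩ := e.surjective a'
    exact key a (by rw [hs]; trivial)
  · intro P'
    obtain ⟨g, hg, hCI⟩ := hloc (PrimeSpectrum.comap e.toRingHom P')
    refine ⟨e g, hg, ?_⟩
    have hmap : Submonoid.map e.toMonoidHom (Submonoid.powers g) = Submonoid.powers (e g) := by
      rw [Submonoid.map_powers]; rfl
    let ε : Localization.Away g ≃+* Localization.Away (e g) :=
      IsLocalization.ringEquivOfRingEquiv (Localization.Away g) (Localization.Away (e g)) e hmap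
    refine isGlobalCI_of_ringEquiv_semilinear σ ε ?_ hCI
    intro x
    rw [IsScalarTower.algebraMap_apply k A (Localization.Away g),
      IsScalarTower.algebraMap_apply k' A' (Localization.Away (e g)), ← he]
    exact IsLocalization.ringEquivOfRingEquiv_eq _ _

/-- `IsSyntomic` only depends on the algebra map. -/
theorem isSyntomic_congr {R S : Type u} [CommRing R] [CommRing S] (i₁ i₂ : Algebra R S)
    (h : ∀ r, @algebraMap _ _ _ _ i₁ r = @algebraMap _ _ _ _ i₂ r)
    (h1 : @Synt.IsSyntomic R _ S _ i₁) : @Synt.IsSyntomic R _ S _ i₂ := by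
  obtain rfl : i₁ = i₂ := Algebra.algebra_ext _ _ h
  exact h1

/-- transport along algebra isomorphisms -/
theorem isLCIOver_of_algEquiv {k : Type u} [Field k] {A B : Type u} [CommRing A] [CommRing B]
    [Algebra k A] [Algebra k B] (e : A ≃ₐ[k] B) (h : Synt.IsLCIOver k A) : Synt.IsLCIOver k B :=
  isLCIOver_of_ringEquiv_semilinear (RingEquiv.refl k) e.toRingEquiv (fun x => e.commutes x) h

/-- The fibre of a localization `T = S_s` is a localization of the fibre of `S`; LCI is preserved. -/
theorem isLCIOver_fiber_of_isLocalization_away {R S T : Type u} [CommRing R] [CommRing S]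
    [CommRing T] [Algebra R S] [Algebra S T] [Algebra R T] [IsScalarTower R S T] (s : S)
    [IsLocalization.Away s T] (p : Ideal R) [p.IsPrime]
    (h : Synt.IsLCIOver p.ResidueField (p.Fiber S)) :
    Synt.IsLCIOver p.ResidueField (p.Fiber T) := by
  letI : Algebra (p.Fiber S) (p.Fiber T) :=
    (Algebra.TensorProduct.map (AlgHom.id R p.ResidueField)
      (IsScalarTower.toAlgHom R S T)).toRingHom.toAlgebra
  have htower : IsScalarTower p.ResidueField (p.Fiber S) (p.Fiber T) :=
    .of_algebraMap_eq (by
      intro x
      show algebraMap p.ResidueField (p.Fiber T) x =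
        (Algebra.TensorProduct.map (AlgHom.id R p.ResidueField)
          (IsScalarTower.toAlgHom R S T))
          (algebraMap p.ResidueField (p.Fiber S) x)
      simp [Algebra.TensorProduct.algebraMap_apply])
  have hloc : IsLocalization.Away ((1 : p.ResidueField) ⊗ₜ[R] s) (p.Fiber T) := by
    have := IsLocalization.tensorProduct_tensorProduct_right R p.ResidueField
      (Submonoid.powers s) T
      (by ext; simp [RingHom.algebraMap_toAlgebra])
    simpa [Submonoid.map_powers] using this
  have h1 := Groth.Agent.H46.GCILocalize.isLCIOver_away ((1 : p.ResidueField) ⊗ₜ[R] s) h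
  exact isLCIOver_of_algEquiv ((IsLocalization.algEquiv
    (Submonoid.powers ((1 : p.ResidueField) ⊗ₜ[R] s))
    (Localization.Away ((1 : p.ResidueField) ⊗ₜ[R] s)) (p.Fiber T)).restrictScalars p.ResidueField) h1

/-- **Key fact**: for a localization `R'` of `R` and an `R'`-algebra `T`, the fibre of `T` over a
prime `p'` of `R'` agrees (semilinearly) with the fibre over the contraction of `p'`. -/
theorem isLCIOver_fiber_iff_of_isLocalization {R R' T : Type u} [CommRing R] [CommRing R']
    [CommRing T] [Algebra R R'] [Algebra R' T] [Algebra R T] [IsScalarTower R R' T]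
    (M : Submonoid R) [IsLocalization M R'] (p : Ideal R) [p.IsPrime] (p' : Ideal R') [p'.IsPrime]
    (hp : p = p'.comap (algebraMap R R')) :
    Synt.IsLCIOver p.ResidueField (p.Fiber T) ↔ Synt.IsLCIOver p'.ResidueField (p'.Fiber T) := by
  have hbij := (RingHom.surjectiveOnStalks_of_isLocalization M R').residueFieldMap_bijective
    p p' hp
  let σ : p.ResidueField ≃ₐ[R] p'.ResidueField :=
    AlgEquiv.ofBijective (Ideal.ResidueField.mapₐ p p' (Algebra.ofId R R') hp) hbij
  have hcompat : TensorProduct.CompatibleSMul R R' p'.ResidueField T :=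
    IsLocalization.tensorProduct_compatibleSMul M R' p'.ResidueField T
  let e₁ : p'.ResidueField ⊗[R'] T ≃ₐ[p'.ResidueField] p'.ResidueField ⊗[R] T :=
    Algebra.TensorProduct.equivOfCompatibleSMul R R' p'.ResidueField p'.ResidueField T
  let e₂ : p.ResidueField ⊗[R] T ≃ₐ[R] p'.ResidueField ⊗[R] T :=
    Algebra.TensorProduct.congr σ AlgEquiv.refl
  let e : p.Fiber T ≃+* p'.Fiber T := e₂.toRingEquiv.trans e₁.symm.toRingEquiv
  have he : ∀ x, e (algebraMap p.ResidueField (p.Fiber T) x) =
      algebraMap p'.ResidueField (p'.Fiber T) (σ x) := by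
    intro x
    show e₁.symm (e₂ (x ⊗ₜ 1)) = (σ x) ⊗ₜ 1
    rw [AlgEquiv.symm_apply_eq]
    simp only [e₁, e₂, Algebra.TensorProduct.congr_apply, Algebra.TensorProduct.map_tmul,
      AlgEquiv.coe_toAlgHom, map_one]
    rfl
  constructor
  · exact isLCIOver_of_ringEquiv_semilinear σ.toRingEquiv e he
  · refine isLCIOver_of_ringEquiv_semilinear σ.symm.toRingEquiv e.symm ?_
    intro y
    rw [RingEquiv.symm_apply_eq, he]
    simp

/-- The ring hom property "syntomic". -/
def Q {R S : Type u} [CommRing R] [CommRing S] (f : R →+* S) : Prop :=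
  @Synt.IsSyntomic R _ S _ f.toAlgebra

/-- the fibre clause -/
def Fib {R S : Type u} [CommRing R] [CommRing S] (f : R →+* S) : Prop :=
  letI := f.toAlgebra
  ∀ p : PrimeSpectrum R, Synt.IsLCIOver p.asIdeal.ResidueField (p.asIdeal.Fiber S)

theorem Q_iff {R S : Type u} [CommRing R] [CommRing S] (f : R →+* S) :
    Q f ↔ f.Flat ∧ f.FinitePresentation ∧ Fib f := Iff.rfl

theorem fib_awayTarget : RingHom.StableUnderCompositionWithLocalizationAwayTarget @Fib := by
  intro R S T _ _ _ _ s _ f hf
  letI := f.toAlgebra
  letI : Algebra R T := ((algebraMap S T).comp f).toAlgebra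
  haveI : IsScalarTower R S T := IsScalarTower.of_algebraMap_eq (fun _ => rfl)
  intro p
  exact isLCIOver_fiber_of_isLocalization_away s p.asIdeal (hf p)

theorem fib_awaySource : RingHom.StableUnderCompositionWithLocalizationAwaySource @Fib := by
  intro R R' T _ _ _ _ r _ f hf
  letI := f.toAlgebra
  letI : Algebra R T := (f.comp (algebraMap R R')).toAlgebra
  haveI : IsScalarTower R R' T := IsScalarTower.of_algebraMap_eq (fun _ => rfl)
  intro p
  by_cases hr : r ∈ p.asIdeal
  · -- the fibre is trivial
    have hsub : Subsingleton (p.asIdeal.Fiber T) := by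
      have hunit : IsUnit (algebraMap R T r) := by
        rw [IsScalarTower.algebraMap_apply R R' T]
        exact (IsLocalization.Away.algebraMap_isUnit r).map _
      have h0 : (algebraMap R p.asIdeal.ResidueField r) = 0 :=
        Ideal.algebraMap_residueField_eq_zero.mpr hr
      have h1 : (1 : p.asIdeal.ResidueField) ⊗ₜ[R] (algebraMap R T r) = 0 := by
        rw [Algebra.algebraMap_eq_smul_one, ← TensorProduct.smul_tmul, ← Algebra.algebraMap_eq_smul_one,
          h0, TensorProduct.zero_tmul]
      have h2 : IsUnit ((1 : p.asIdeal.ResidueField) ⊗ₜ[R] (algebraMap R T r)) :=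
        hunit.map (Algebra.TensorProduct.includeRight : T →ₐ[R] p.asIdeal.ResidueField ⊗[R] T)
      rw [h1] at h2
      exact subsingleton_of_zero_eq_one (isUnit_zero_iff.mp h2)
    refine ⟨?_, fun P => ?_⟩
    · exact ⟨⟨∅, Subsingleton.elim _ _⟩⟩
    · exact absurd (Subsingleton.elim (1 : p.asIdeal.Fiber T) 0 ▸ P.asIdeal.zero_mem)
        (P.asIdeal.ne_top_iff_one.mp P.2.ne_top)
  · have hdisj : Disjoint (Submonoid.powers r : Set R) (p.asIdeal : Set R) := by
      rw [Set.disjoint_left]
      rintro x ⟨k, rfl⟩ hk
      exact hr (p.2.mem_of_pow_mem k hk)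
    have hp'prime : (p.asIdeal.map (algebraMap R R')).IsPrime :=
      IsLocalization.isPrime_of_isPrime_disjoint (Submonoid.powers r) _ p.asIdeal p.2 hdisj
    have hp'comap : (p.asIdeal.map (algebraMap R R')).comap (algebraMap R R') = p.asIdeal :=
      IsLocalization.under_map_of_isPrime_disjoint (Submonoid.powers r) _ p.2 hdisj
    exact (isLCIOver_fiber_iff_of_isLocalization (Submonoid.powers r) p.asIdeal
      (p.asIdeal.map (algebraMap R R')) hp'comap.symm).mpr
      (hf ⟨p.asIdeal.map (algebraMap R R'), hp'prime⟩)

theorem fib_localizationAwayPreserves : RingHom.LocalizationAwayPreserves @Fib := by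
  intro R S _ _ f r R' S' _ _ _ _ _ _ hf
  letI := f.toAlgebra
  letI : Algebra R' S' := (IsLocalization.Away.map R' S' f r).toAlgebra
  letI : Algebra R S' := ((algebraMap S S').comp f).toAlgebra
  haveI : IsScalarTower R S S' := IsScalarTower.of_algebraMap_eq (fun _ => rfl)
  haveI : IsScalarTower R R' S' := IsScalarTower.of_algebraMap_eq (fun x => by
    show algebraMap S S' (f x) = IsLocalization.Away.map R' S' f r (algebraMap R R' x)
    rw [IsLocalization.Away.map, IsLocalization.map_eq])
  intro p'
  have h1 : Synt.IsLCIOver (p'.asIdeal.comap (algebraMap R R')).ResidueField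
      ((p'.asIdeal.comap (algebraMap R R')).Fiber S') :=
    isLCIOver_fiber_of_isLocalization_away (f r) _ (hf ⟨p'.asIdeal.comap (algebraMap R R'), inferInstance⟩)
  exact (isLCIOver_fiber_iff_of_isLocalization (Submonoid.powers r)
    (p'.asIdeal.comap (algebraMap R R')) p'.asIdeal rfl).mp h1

theorem Q_ofLocalizationSpanTarget : RingHom.OfLocalizationSpanTarget @Q := by
  intro R S _ _ f s hs h
  letI := f.toAlgebra
  obtain ⟨s', hs's, hs'⟩ := (Ideal.span_eq_top_iff_finite s).mp hs
  refine Groth.Agent.S9146.result R S s' hs' (fun g hg => ?_)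
  exact isSyntomic_congr ((algebraMap S (Localization.Away g)).comp f).toAlgebra _
    (fun r => (IsScalarTower.algebraMap_apply R S (Localization.Away g) r).symm)
    (h ⟨g, hs's hg⟩)

theorem Q_awayTarget : RingHom.StableUnderCompositionWithLocalizationAwayTarget @Q := by
  intro R S T _ _ _ _ s _ f hf
  rw [Q_iff] at hf ⊢
  exact ⟨RingHom.Flat.propertyIsLocal.StableUnderCompositionWithLocalizationAwayTarget T s f hf.1,
    RingHom.finitePresentation_isLocal.StableUnderCompositionWithLocalizationAwayTarget T s f hf.2.1,
    fib_awayTarget T s f hf.2.2⟩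

theorem Q_awaySource : RingHom.StableUnderCompositionWithLocalizationAwaySource @Q := by
  intro R R' T _ _ _ _ r _ f hf
  rw [Q_iff] at hf ⊢
  exact ⟨(RingHom.Flat.stableUnderComposition.stableUnderCompositionWithLocalizationAway
      RingHom.Flat.holdsForLocalizationAway).left R' r f hf.1,
    (RingHom.finitePresentation_stableUnderComposition.stableUnderCompositionWithLocalizationAway
      RingHom.finitePresentation_holdsForLocalizationAway).left R' r f hf.2.1,
    fib_awaySource R' r f hf.2.2⟩

theorem Q_localizationAwayPreserves : RingHom.LocalizationAwayPreserves @Q := by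
  intro R S _ _ f r R' S' _ _ _ _ _ _ hf
  rw [Q_iff] at hf ⊢
  exact ⟨RingHom.Flat.propertyIsLocal.localizationAwayPreserves f r R' S' hf.1,
    RingHom.finitePresentation_isLocal.localizationAwayPreserves f r R' S' hf.2.1,
    fib_localizationAwayPreserves f r R' S' hf.2.2⟩

theorem Q_propertyIsLocal : RingHom.PropertyIsLocal @Q where
  localizationAwayPreserves := Q_localizationAwayPreserves
  ofLocalizationSpanTarget := Q_ofLocalizationSpanTarget
  ofLocalizationSpan := Q_ofLocalizationSpanTarget.ofLocalizationSpan Q_awaySource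
  StableUnderCompositionWithLocalizationAwayTarget := Q_awayTarget

end Groth.Agent.H46.SyntLocality
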