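import Mathlib
import Groth.Agent.H46.SyntLocality

/-!
# Syntomic morphisms of schemes as a `HasRingHomProperty` (helper46)
-/

set_option autoImplicit false
universe u

open AlgebraicGeometry CategoryTheory

namespace Groth.Agent.H46.SyntMor

open Groth.Agent.H46.SyntLocality

/-- the morphism property "syntomic", via affine-local ring maps -/
def P : MorphismProperty Scheme.{u} := affineLocally @Q

instance : HasRingHomProperty P @Q where
  isLocal_ringHomProperty := Q_propertyIsLocal
  eq_affineLocally' := rfl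

theorem isSyntomicMor_iff {X S : Scheme.{u}} (f : X ⟶ S) : Synt.IsSyntomicMor f ↔ P f := by
  rw [HasRingHomProperty.iff_exists_appLE (P := P) Q_awaySource]
  constructor
  · intro h x
    obtain ⟨U, V, e, hx, hQ⟩ := h x
    exact ⟨V, U, hx, e, hQ⟩
  · intro h x
    obtain ⟨V, U, hx, e, hQ⟩ := h x
    exact ⟨U, V, e, hx, hQ⟩

theorem isSyntomicMor_iff_forall {X S : Scheme.{u}} (f : X ⟶ S) :
    Synt.IsSyntomicMor f ↔
      ∀ (U : X.affineOpens) (V : S.affineOpens) (e : U.1 ≤ f ⁻¹ᵁ V.1),
        letI := (f.appLE V.1 U.1 e).hom.toAlgebra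
        Synt.IsSyntomic Γ(S, V.1) Γ(X, U.1) := by
  rw [isSyntomicMor_iff, HasRingHomProperty.iff_appLE (P := P)]
  exact ⟨fun h U V e => h V U e, fun h V U e => h U V e⟩

end Groth.Agent.H46.SyntMor
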