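import Mathlib
import Groth.Agent.H46.SyntMor

/-!
# Affine charts for flat lfp morphisms; stalkwise properties on affine opens (helper46)
-/

set_option autoImplicit false
universe u

open AlgebraicGeometry CategoryTheory TensorProduct Limits

namespace Groth.Agent.H46.SyntChart

open Groth.Agent.H46.SyntLocality Groth.Agent.H46.SyntMor

/-- A property of rings invariant under isomorphism holds at all stalks over an affine open iff
it holds at all localizations of the ring of sections at primes. -/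
theorem forall_stalk_iff {X : Scheme.{u}} {U : X.Opens} (hU : IsAffineOpen U)
    (Pr : ∀ (R : Type u) [CommRing R], Prop)
    (hPr : ∀ (R R' : Type u) [CommRing R] [CommRing R'], (R ≃+* R') → Pr R → Pr R') :
    (∀ x, x ∈ U → Pr (X.presheaf.stalk x)) ↔
      ∀ p : PrimeSpectrum Γ(X, U), Pr (Localization.AtPrime p.asIdeal) := by
  constructor
  · intro h p
    have hy : hU.fromSpec p ∈ U := by
      rw [← SetLike.mem_coe, ← hU.range_fromSpec]
      exact ⟨p, rfl⟩
    letI alg : Algebra Γ(X, U) (X.presheaf.stalk (hU.fromSpec p)) :=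
      TopCat.Presheaf.algebra_section_stalk X.presheaf ⟨hU.fromSpec p, hy⟩
    haveI hloc : IsLocalization p.asIdeal.primeCompl (X.presheaf.stalk (hU.fromSpec p)) :=
      hU.isLocalization_stalk' p hy
    exact hPr _ _ (IsLocalization.algEquiv p.asIdeal.primeCompl
      (X.presheaf.stalk (hU.fromSpec p)) (Localization.AtPrime p.asIdeal)).toRingEquiv (h _ hy)
  · intro h x hx
    letI alg : Algebra Γ(X, U) (X.presheaf.stalk x) :=
      TopCat.Presheaf.algebra_section_stalk X.presheaf (⟨x, hx⟩ : U)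
    haveI hloc : IsLocalization (hU.primeIdealOf ⟨x, hx⟩).asIdeal.primeCompl
        (X.presheaf.stalk x) := hU.isLocalization_stalk ⟨x, hx⟩
    exact hPr _ _ (IsLocalization.algEquiv (hU.primeIdealOf ⟨x, hx⟩).asIdeal.primeCompl
      (Localization.AtPrime (hU.primeIdealOf ⟨x, hx⟩).asIdeal)
      (X.presheaf.stalk x)).toRingEquiv (h _)

/-- A flat lfp morphism admits, around any point, an affine chart whose ring map is flat and
surjective on spectra (hence faithfully flat). -/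
theorem exists_chart_faithfullyFlat {X S : Scheme.{u}} (f : X ⟶ S) [Flat f]
    [LocallyOfFinitePresentation f] (x : X) :
    ∃ (W : S.affineOpens) (U : X.affineOpens) (e : U.1 ≤ f ⁻¹ᵁ W.1), f x ∈ W.1 ∧ x ∈ U.1 ∧
      Function.Surjective (PrimeSpectrum.comap (f.appLE W.1 U.1 e).hom) := by
  obtain ⟨_, ⟨V, hV, rfl⟩, hxV, -⟩ :=
    S.isBasis_affineOpens.exists_subset_of_mem_open (Set.mem_univ (f x)) isOpen_univ
  obtain ⟨_, ⟨U₀, hU₀, rfl⟩, hxU₀, e₀⟩ :=
    X.isBasis_affineOpens.exists_subset_of_mem_open (show x ∈ (f ⁻¹ᵁ V : Set X) from hxV)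
      (f ⁻¹ᵁ V).isOpen
  have e₀' : U₀ ≤ f ⁻¹ᵁ V := e₀
  let I : S.Opens := ⟨f '' (U₀ : Set X), f.isOpenMap _ U₀.isOpen⟩
  have hxI : f x ∈ I := ⟨x, hxU₀, rfl⟩
  obtain ⟨a, haI, hxa⟩ := hV.exists_basicOpen_le (V := I) ⟨f x, hxI⟩ hxV
  have hUeq : X.basicOpen (f.appLE V U₀ e₀' a) = U₀ ⊓ f ⁻¹ᵁ (S.basicOpen a) :=
    Scheme.basicOpen_appLE f U₀ V e₀' a
  have hW : IsAffineOpen (S.basicOpen a) := hV.basicOpen a
  have hU : IsAffineOpen (X.basicOpen (f.appLE V U₀ e₀' a)) := hU₀.basicOpen _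
  have e : X.basicOpen (f.appLE V U₀ e₀' a) ≤ f ⁻¹ᵁ (S.basicOpen a) := by
    rw [hUeq]; exact inf_le_right
  refine ⟨⟨_, hW⟩, ⟨_, hU⟩, e, hxa, ?_, ?_⟩
  · show x ∈ X.basicOpen (f.appLE V U₀ e₀' a)
    rw [hUeq]
    exact ⟨hxU₀, hxa⟩
  · intro p
    have ht : hW.fromSpec p ∈ S.basicOpen a := by
      rw [← SetLike.mem_coe, ← hW.range_fromSpec]
      exact ⟨p, rfl⟩
    obtain ⟨u, huU₀, hfu⟩ := haI ht
    have hu : u ∈ X.basicOpen (f.appLE V U₀ e₀' a) := by
      rw [hUeq]
      refine ⟨huU₀, ?_⟩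
      show f u ∈ S.basicOpen a
      rw [hfu]; exact ht
    refine ⟨hU.primeIdealOf ⟨u, hu⟩, ?_⟩
    have h1 := IsAffineOpen.comap_primeIdealOf_appLE (f := f) _ hW _ hU e hu
    refine h1.trans ?_
    apply hW.fromSpec.isOpenEmbedding.injective
    rw [hW.fromSpec_primeIdealOf]
    exact hfu

end Groth.Agent.H46.SyntChart
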