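import Mathlib
import Groth.Agent.H46.SyntMor

/-!
# Fibrewise criterion for syntomic morphisms (helper46)
-/

set_option autoImplicit false
universe u

open AlgebraicGeometry CategoryTheory TensorProduct Limits

namespace Groth.Agent.H46.SyntFibre

open Groth.Agent.H46.SyntLocality Groth.Agent.H46.SyntMor

/-- A syntomic algebra over a field is a local complete intersection over that field. -/
theorem isLCIOver_of_isSyntomic_field {k C : Type u} [Field k] [CommRing C] [Algebra k C]
    (h : Synt.IsSyntomic k C) : Synt.IsLCIOver k C := by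
  obtain ⟨-, -, hfib⟩ := h
  have h0 := hfib ⟨⊥, Ideal.isPrime_bot⟩
  haveI : (⊥ : Ideal k).IsPrime := Ideal.isPrime_bot
  haveI : (⊥ : Ideal k).IsMaximal := Ideal.bot_isMaximal
  have hbij : Function.Bijective (algebraMap k (⊥ : Ideal k).ResidueField) :=
    ⟨(algebraMap k (⊥ : Ideal k).ResidueField).injective,
      Ideal.algebraMap_residueField_surjective _⟩
  let σ' : k ≃ₐ[k] (⊥ : Ideal k).ResidueField :=
    AlgEquiv.ofBijective (Algebra.ofId k _) hbij
  let e : (⊥ : Ideal k).Fiber C ≃ₐ[k] C :=
    (Algebra.TensorProduct.congr σ'.symm AlgEquiv.refl).trans (Algebra.TensorProduct.lid k C)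
  refine isLCIOver_of_ringEquiv_semilinear σ'.symm.toRingEquiv e.toRingEquiv ?_ h0
  intro x
  show e (x ⊗ₜ 1) = algebraMap k C (σ'.symm x)
  simp [e, Algebra.algebraMap_eq_smul_one]

theorem P_spec_fiber {R B : Type u} [CommRing R] [CommRing B] [Algebra R B] (p : PrimeSpectrum R)
    (h : P ((Spec.map (CommRingCat.ofHom <| algebraMap R B)).fiberToSpecResidueField p)) :
    Synt.IsLCIOver p.asIdeal.ResidueField (p.asIdeal.Fiber B) := by
  have h2 : P (Spec.map <| CommRingCat.ofHom <|
      algebraMap p.asIdeal.ResidueField (p.asIdeal.Fiber B)) :=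
    (P.arrow_mk_iso_iff (Spec.fiberToSpecResidueFieldIso R B p)).mp h
  rw [HasRingHomProperty.Spec_iff (P := P)] at h2
  apply isLCIOver_of_isSyntomic_field
  refine isSyntomic_congr
    (RingHom.toAlgebra (algebraMap p.asIdeal.ResidueField (p.asIdeal.Fiber B))) _
    (fun r => rfl) ?_
  exact h2

theorem fib_of_fibre {X S : Scheme.{u}} (f : X ⟶ S) {U : X.Opens} (hU : IsAffineOpen U)
    {V : S.Opens} (hV : IsAffineOpen V) (e : U ≤ f ⁻¹ᵁ V)
    (hfib : ∀ s : S, P (f.fiberToSpecResidueField s)) :
    Fib (f.appLE V U e).hom := by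
  intro p
  letI := (f.appLE V U e).hom.toAlgebra
  have hcomm : Spec.map (f.appLE V U e) ≫ hV.fromSpec = hU.fromSpec ≫ f :=
    hV.SpecMap_appLE_fromSpec f hU e
  let g : Spec Γ(X, U) ⟶ Spec Γ(S, V) := Spec.map (f.appLE V U e)
  let s : S := hV.fromSpec p
  have hcomm2 : (Spec Γ(S, V)).fromSpecResidueField p ≫ hV.fromSpec =
      Spec.map (hV.fromSpec.residueFieldMap p) ≫ S.fromSpecResidueField s := by simp [s]
  haveI : IsOpenImmersion (pullback.map g ((Spec Γ(S, V)).fromSpecResidueField p) f
      (S.fromSpecResidueField s) hU.fromSpec (Spec.map (hV.fromSpec.residueFieldMap p))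
      hV.fromSpec hcomm hcomm2) := inferInstance
  have hm : pullback.map g ((Spec Γ(S, V)).fromSpecResidueField p) f
      (S.fromSpecResidueField s) hU.fromSpec (Spec.map (hV.fromSpec.residueFieldMap p))
      hV.fromSpec hcomm hcomm2 ≫ f.fiberToSpecResidueField s =
      g.fiberToSpecResidueField p ≫ Spec.map (hV.fromSpec.residueFieldMap p) :=
    pullback.lift_snd _ _ _
  have h1 : P (pullback.map g ((Spec Γ(S, V)).fromSpecResidueField p) f
      (S.fromSpecResidueField s) hU.fromSpec (Spec.map (hV.fromSpec.residueFieldMap p))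
      hV.fromSpec hcomm hcomm2 ≫ f.fiberToSpecResidueField s) :=
    HasRingHomProperty.comp_of_isOpenImmersion P _ _ (hfib s)
  rw [hm] at h1
  exact P_spec_fiber p ((P.cancel_right_of_respectsIso _ _).mp h1)


theorem main {X S : Scheme.{u}} (f : X ⟶ S) [Flat f] [LocallyOfFinitePresentation f]
    (hfib : ∀ s : S, Synt.IsSyntomicMor (f.fiberToSpecResidueField s)) :
    Synt.IsSyntomicMor f := by
  rw [isSyntomicMor_iff_forall]
  intro U V e
  show Q (f.appLE V.1 U.1 e).hom
  rw [Q_iff]
  refine ⟨?_, ?_, fib_of_fibre f U.2 V.2 e (fun s => (isSyntomicMor_iff _).mp (hfib s))⟩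
  · exact HasRingHomProperty.appLE (P := @Flat) f inferInstance V U e
  · exact HasRingHomProperty.appLE (P := @LocallyOfFinitePresentation) f inferInstance V U e

end Groth.Agent.H46.SyntFibre
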