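import Mathlib
import Groth.Agent.H46.SyntChart
import Groth.Agent.Lib.Helper29.FlatAscent2
import Groth.Agent.Lib.Helper29.FibreDescent
import Groth.Agent.Lib.Helper82.GCICM

set_option autoImplicit false
universe u

open AlgebraicGeometry CategoryTheory TensorProduct Limits

namespace Groth.Agent.H46.SyntLocalCM

open Groth.Agent.H46.SyntLocality Groth.Agent.H46.SyntMor Groth.Agent.H46.SyntChart
open Groth.Agent.Lib.Helper29

theorem flat_of_isSyntomicMor {X S : Scheme.{u}} (f : X ⟶ S) (h : Synt.IsSyntomicMor f) :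
    Flat f := by
  rw [isSyntomicMor_iff_forall] at h
  rw [HasRingHomProperty.iff_appLE (P := @Flat)]
  intro V U e
  exact ((Q_iff _).mp (h U V e)).1

theorem lfp_of_isSyntomicMor {X S : Scheme.{u}} (f : X ⟶ S) (h : Synt.IsSyntomicMor f) :
    LocallyOfFinitePresentation f := by
  rw [isSyntomicMor_iff_forall] at h
  rw [HasRingHomProperty.iff_appLE (P := @LocallyOfFinitePresentation)]
  intro V U e
  exact ((Q_iff _).mp (h U V e)).2.1

/-- `(S_k)` is equivalent to `(S_k)` of all localizations at primes. -/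
theorem hasSk_iff_forall_localization (k : ℕ) (R : Type u) [CommRing R] [IsNoetherianRing R] :
    LocCoh.HasSk k R R ↔ ∀ (p : Ideal R) [p.IsPrime],
      LocCoh.HasSk k (Localization.AtPrime p) (Localization.AtPrime p) := by
  constructor
  · intro h q hq
    rw [hasSk_self_iff] at h
    exact (hasSk_localization_iff k R q).mpr (fun Q _ _ => h Q)
  · intro h
    rw [hasSk_self_iff]
    intro p hp
    exact (hasSk_localization_iff k R p).mp (h p) p le_rfl

/-- Cohen–Macaulay rings satisfy `(S_k)` for all `k`. -/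
theorem hasSk_of_isCohenMacaulayRing (k : ℕ) (R : Type u) [CommRing R]
    (h : LocCoh.IsCohenMacaulayRing R) : LocCoh.HasSk k R R := by
  rw [hasSk_self_iff]
  intro p hp
  have h1 := (h.isCohenMacaulayLocalRing_localization p).supportDim_eq_depth
  rw [Module.supportDim_self_eq_ringKrullDim, IsLocalization.AtPrime.ringKrullDim_eq_height p] at h1
  have h2 : p.height = LocCoh.depth (Localization.AtPrime p) (Localization.AtPrime p) := by
    exact_mod_cast h1
  rw [← h2]
  exact min_le_right _ _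


theorem isCohenMacaulayLocalRing_transport (R R' : Type u) [CommRing R] [CommRing R']
    (e : R ≃+* R') (h : LocCoh.IsCohenMacaulayLocalRing R) : LocCoh.IsCohenMacaulayLocalRing R' :=
  isCohenMacaulayLocalRing_of_ringEquiv e h

/-- sections over an affine open are a CM ring iff all stalks are CM (given Noetherian) -/
theorem isCohenMacaulayRing_sections_iff {X : Scheme.{u}} {U : X.Opens} (hU : IsAffineOpen U)
    [IsNoetherianRing Γ(X, U)] :
    LocCoh.IsCohenMacaulayRing Γ(X, U) ↔
      ∀ x, x ∈ U → LocCoh.IsCohenMacaulayLocalRing (X.presheaf.stalk x) := by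
  rw [forall_stalk_iff hU (fun R _ => LocCoh.IsCohenMacaulayLocalRing R)
    isCohenMacaulayLocalRing_transport]
  constructor
  · intro h p
    exact h.isCohenMacaulayLocalRing_localization p.asIdeal
  · intro h
    exact { isCohenMacaulayLocalRing_localization := fun p hp => h ⟨p, hp⟩ }

theorem main_CM {ι : Type u} {S : Scheme.{u}} {X : ι → Scheme.{u}} (f : ∀ i, X i ⟶ S)
    (hsurj : ∀ s : S, ∃ i, s ∈ Set.range (f i).base) (hsyn : ∀ i, Synt.IsSyntomicMor (f i)) :
    (IsLocallyNoetherian S ∧ ∀ s : S, LocCoh.IsCohenMacaulayLocalRing (S.presheaf.stalk s)) ↔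
      ∀ i, IsLocallyNoetherian (X i) ∧
        ∀ x : X i, LocCoh.IsCohenMacaulayLocalRing ((X i).presheaf.stalk x) := by
  have hflat : ∀ i, Flat (f i) := fun i => flat_of_isSyntomicMor _ (hsyn i)
  have hlfp : ∀ i, LocallyOfFinitePresentation (f i) := fun i => lfp_of_isSyntomicMor _ (hsyn i)
  constructor
  · rintro ⟨hN, hCM⟩ i
    have hNX : IsLocallyNoetherian (X i) := LocallyOfFiniteType.isLocallyNoetherian (f i)
    refine ⟨hNX, fun x => ?_⟩
    obtain ⟨W, U, e, hxW, hxU, -⟩ := exists_chart_faithfullyFlat (f i) x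
    have hsy := (isSyntomicMor_iff_forall (f i)).mp (hsyn i) U W e
    letI alg : Algebra Γ(S, W.1) Γ(X i, U.1) := ((f i).appLE W.1 U.1 e).hom.toAlgebra
    haveI hNA : IsNoetherianRing Γ(S, W.1) := IsLocallyNoetherian.component_noetherian W
    haveI hNB : IsNoetherianRing Γ(X i, U.1) := IsLocallyNoetherian.component_noetherian U
    haveI hfl : Module.Flat Γ(S, W.1) Γ(X i, U.1) := hsy.1
    have hA : LocCoh.IsCohenMacaulayRing Γ(S, W.1) :=
      (isCohenMacaulayRing_sections_iff W.2).mpr (fun s _ => hCM s)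
    have hB : LocCoh.IsCohenMacaulayRing Γ(X i, U.1) :=
      isCohenMacaulayRing_of_flat_of_fibers hA (fun p hp =>
        Groth.Agent.Lib.Helper82.GCICM.isCohenMacaulayRing_of_isLCIOver _ _ (hsy.2.2 ⟨p, hp⟩))
    exact (isCohenMacaulayRing_sections_iff U.2).mp hB x hxU
  · intro h
    have key : ∀ s : S, ∃ W : S.affineOpens, s ∈ W.1 ∧ LocCoh.IsCohenMacaulayRing Γ(S, W.1) := by
      intro s
      obtain ⟨i, x, rfl⟩ := hsurj s
      obtain ⟨hNX, hCM⟩ := h i
      obtain ⟨W, U, e, hxW, hxU, hsj⟩ := exists_chart_faithfullyFlat (f i) x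
      refine ⟨W, hxW, ?_⟩
      have hsy := (isSyntomicMor_iff_forall (f i)).mp (hsyn i) U W e
      letI alg : Algebra Γ(S, W.1) Γ(X i, U.1) := ((f i).appLE W.1 U.1 e).hom.toAlgebra
      haveI hNB : IsNoetherianRing Γ(X i, U.1) := IsLocallyNoetherian.component_noetherian U
      haveI hfl : Module.Flat Γ(S, W.1) Γ(X i, U.1) := hsy.1
      haveI hff : Module.FaithfullyFlat Γ(S, W.1) Γ(X i, U.1) :=
        Module.FaithfullyFlat.of_comap_surjective hsj
      have hB : LocCoh.IsCohenMacaulayRing Γ(X i, U.1) :=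
        (isCohenMacaulayRing_sections_iff U.2).mpr (fun x _ => hCM x)
      exact isCohenMacaulayRing_of_faithfullyFlat hB
    choose W hsW hW using key
    have hN : IsLocallyNoetherian S := by
      apply isLocallyNoetherian_of_affine_cover (S := W)
      · rw [eq_top_iff]
        intro s _
        exact TopologicalSpace.Opens.mem_iSup.mpr ⟨s, hsW s⟩
      · intro s
        exact (hW s).toIsNoetherian
    refine ⟨hN, fun s => ?_⟩
    haveI : IsNoetherianRing Γ(S, (W s).1) := (hW s).toIsNoetherian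
    exact (isCohenMacaulayRing_sections_iff (W s).2).mp (hW s) s (hsW s)


/-- the ring property used for `(S_k)` -/
def PrSk (k : ℕ) (R : Type u) [CommRing R] : Prop := IsNoetherianRing R ∧ LocCoh.HasSk k R R

theorem prSk_transport (k : ℕ) (R R' : Type u) [CommRing R] [CommRing R']
    (e : R ≃+* R') (h : PrSk k R) : PrSk k R' := by
  obtain ⟨hN, hS⟩ := h
  exact ⟨isNoetherianRing_of_ringEquiv R e, hasSk_of_ringEquiv e.symm k hS⟩

/-- sections over an affine open satisfy `(S_k)` iff all stalks do (given Noetherian) -/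
theorem hasSk_sections_iff (k : ℕ) {X : Scheme.{u}} {U : X.Opens} (hU : IsAffineOpen U)
    [IsNoetherianRing Γ(X, U)] :
    LocCoh.HasSk k Γ(X, U) Γ(X, U) ↔
      ∀ x, x ∈ U → PrSk k (X.presheaf.stalk x) := by
  rw [forall_stalk_iff hU (fun R _ => PrSk k R) (prSk_transport k),
    hasSk_iff_forall_localization]
  constructor
  · intro h p
    exact ⟨IsLocalization.isNoetherianRing p.asIdeal.primeCompl _ inferInstance, h p.asIdeal⟩
  · intro h p hp
    exact (h ⟨p, hp⟩).2

theorem main_Sk {ι : Type u} {S : Scheme.{u}} {X : ι → Scheme.{u}} (f : ∀ i, X i ⟶ S)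
    (hsurj : ∀ s : S, ∃ i, s ∈ Set.range (f i).base) (hsyn : ∀ i, Synt.IsSyntomicMor (f i))
    (k : ℕ) :
    (IsLocallyNoetherian S ∧
        ∀ s : S, LocCoh.HasSk k (S.presheaf.stalk s) (S.presheaf.stalk s)) ↔
      ∀ i, IsLocallyNoetherian (X i) ∧
        ∀ x : X i, LocCoh.HasSk k ((X i).presheaf.stalk x) ((X i).presheaf.stalk x) := by
  have hflat : ∀ i, Flat (f i) := fun i => flat_of_isSyntomicMor _ (hsyn i)
  have hlfp : ∀ i, LocallyOfFinitePresentation (f i) := fun i => lfp_of_isSyntomicMor _ (hsyn i)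
  constructor
  · rintro ⟨hN, hSk⟩ i
    have hNX : IsLocallyNoetherian (X i) := LocallyOfFiniteType.isLocallyNoetherian (f i)
    refine ⟨hNX, fun x => ?_⟩
    obtain ⟨W, U, e, hxW, hxU, -⟩ := exists_chart_faithfullyFlat (f i) x
    have hsy := (isSyntomicMor_iff_forall (f i)).mp (hsyn i) U W e
    letI alg : Algebra Γ(S, W.1) Γ(X i, U.1) := ((f i).appLE W.1 U.1 e).hom.toAlgebra
    haveI hNA : IsNoetherianRing Γ(S, W.1) := IsLocallyNoetherian.component_noetherian W
    haveI hNB : IsNoetherianRing Γ(X i, U.1) := IsLocallyNoetherian.component_noetherian U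
    haveI hfl : Module.Flat Γ(S, W.1) Γ(X i, U.1) := hsy.1
    have hA : LocCoh.HasSk k Γ(S, W.1) Γ(S, W.1) :=
      (hasSk_sections_iff k W.2).mpr (fun s _ => ⟨inferInstance, hSk s⟩)
    have hB : LocCoh.HasSk k Γ(X i, U.1) Γ(X i, U.1) :=
      hasSk_of_flat_of_fibers k hA (fun p hp => hasSk_of_isCohenMacaulayRing k _
        (Groth.Agent.Lib.Helper82.GCICM.isCohenMacaulayRing_of_isLCIOver _ _ (hsy.2.2 ⟨p, hp⟩)))
    exact ((hasSk_sections_iff k U.2).mp hB x hxU).2
  · intro h
    have key : ∀ s : S, ∃ W : S.affineOpens, s ∈ W.1 ∧ IsNoetherianRing Γ(S, W.1) ∧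
        LocCoh.HasSk k Γ(S, W.1) Γ(S, W.1) := by
      intro s
      obtain ⟨i, x, rfl⟩ := hsurj s
      obtain ⟨hNX, hSk⟩ := h i
      obtain ⟨W, U, e, hxW, hxU, hsj⟩ := exists_chart_faithfullyFlat (f i) x
      refine ⟨W, hxW, ?_⟩
      have hsy := (isSyntomicMor_iff_forall (f i)).mp (hsyn i) U W e
      letI alg : Algebra Γ(S, W.1) Γ(X i, U.1) := ((f i).appLE W.1 U.1 e).hom.toAlgebra
      haveI hNB : IsNoetherianRing Γ(X i, U.1) := IsLocallyNoetherian.component_noetherian U
      haveI hfl : Module.Flat Γ(S, W.1) Γ(X i, U.1) := hsy.1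
      haveI hff : Module.FaithfullyFlat Γ(S, W.1) Γ(X i, U.1) :=
        Module.FaithfullyFlat.of_comap_surjective hsj
      have hB : LocCoh.HasSk k Γ(X i, U.1) Γ(X i, U.1) :=
        (hasSk_sections_iff k U.2).mpr (fun x _ => ⟨inferInstance, hSk x⟩)
      exact hasSk_of_faithfullyFlat k hB
    choose W hsW hWN hW using key
    have hN : IsLocallyNoetherian S := by
      apply isLocallyNoetherian_of_affine_cover (S := W)
      · rw [eq_top_iff]
        intro s _
        exact TopologicalSpace.Opens.mem_iSup.mpr ⟨s, hsW s⟩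
      · intro s
        exact hWN s
    refine ⟨hN, fun s => ?_⟩
    haveI := hWN s
    exact ((hasSk_sections_iff k (W s).2).mp (hW s) s (hsW s)).2

end Groth.Agent.H46.SyntLocalCM
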