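import Groth.Prelude.Def_RegImm
import Groth.Agent.H46.GCILocalize
import Mathlib

set_option autoImplicit false
universe u

namespace Groth.Agent.H46.SyntSquare

open MvPolynomial TensorProduct

/-- A finite algebra over a field with as many relations as generators is a global CI. -/
theorem isGlobalCI_of_presentation_of_finite (κ B : Type u) [Field κ] [CommRing B] [Algebra κ B]
    [Module.Finite κ B] (m : ℕ) (Q : Algebra.Presentation κ B (Fin m) (Fin m)) :
    Synt.IsGlobalCI κ B := by
  by_cases hsub : Subsingleton B
  · exact Or.inl hsub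
  rw [not_subsingleton_iff_nontrivial] at hsub
  refine Or.inr ⟨m, m, le_rfl, aeval Q.val, Q.relation, Q.toGenerators.aeval_val_surjective, ?_, ?_⟩
  · rw [Q.span_range_relation_eq_ker, Algebra.Generators.ker_eq_ker_aeval_val]
    rfl
  · have : IsArtinianRing B := IsArtinianRing.of_finite κ B
    have h0 : Ring.KrullDimLE 0 B := inferInstance
    rw [ringKrullDimZero_iff_ringKrullDim_eq_zero] at h0
    rw [h0]
    simp

theorem isLCIOver_of_isGlobalCI (κ B : Type u) [Field κ] [CommRing B] [Algebra κ B]
    [Algebra.FiniteType κ B] (h : Synt.IsGlobalCI κ B) : Synt.IsLCIOver κ B :=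
  ⟨inferInstance, fun q => ⟨1, fun h1 => q.2.ne_top ((Ideal.eq_top_iff_one _).mpr h1),
    Groth.Agent.H46.GCILocalize.isGlobalCI_away 1 h⟩⟩

/-- finite flat with a square presentation ⇒ syntomic -/
theorem isSyntomic_of_presentation (A A' : Type u) [CommRing A] [CommRing A'] [Algebra A A']
    [Module.Finite A A'] [Module.Flat A A'] (m : ℕ)
    (Pres : Algebra.Presentation A A' (Fin m) (Fin m)) : Synt.IsSyntomic A A' := by
  refine ⟨inferInstance, Pres.finitePresentation_of_isFinite, fun p => ?_⟩
  have : Algebra.FiniteType p.asIdeal.ResidueField (p.asIdeal.Fiber A') := inferInstance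
  exact isLCIOver_of_isGlobalCI _ _
    (isGlobalCI_of_presentation_of_finite _ _ m (Pres.baseChange p.asIdeal.ResidueField))

end Groth.Agent.H46.SyntSquare
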