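/-
helper46: S3440 — flat / universally open / open at generic points / dimension formula for a
Cohen–Macaulay local ring over a regular one.
-/
import Mathlib
import Groth.Agent.H46.OpenAtDim
import Groth.Agent.Lib.Helper2.FlatLocusOpen
import Groth.Agent.Lib.Helper66.LfpNoeth
import Groth.Agent.S2082

set_option autoImplicit false
universe u

open AlgebraicGeometry CategoryTheory Limits

namespace Groth.Agent.H46.TfaeCMRegular

open IsLocalRing Groth.Agent.H46.CMFlatLocal Groth.Agent.Lib.Helper29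

theorem main {X Y : Scheme.{u}} [IsLocallyNoetherian Y] (f : X ⟶ Y)
    [LocallyOfFiniteType f] (x : X) (hreg : IsRegularLocalRing (Y.presheaf.stalk (f.base x)))
    (hCM : LocCoh.IsCohenMacaulayLocalRing (X.presheaf.stalk x)) :
    List.TFAE [
      (f.stalkMap x).hom.Flat ∧ LocCoh.IsCohenMacaulayLocalRing
        ((f.fiber (f.base x)).presheaf.stalk (f.asFiber x)),
      (f.stalkMap x).hom.Flat,
      ∃ U : X.Opens, x ∈ U ∧ UniversallyOpen (U.ι ≫ f),
      (∀ z : ↥(f.fiber (f.base x)), f.asFiber x ∈ closure {z} →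
          (∀ z' : ↥(f.fiber (f.base x)), z ∈ closure {z'} → z' = z) →
          EGA43.IsOpenAt f.base ((f.fiberι (f.base x)).base z)),
      ringKrullDim (X.presheaf.stalk x) =
        ringKrullDim (Y.presheaf.stalk (f.base x)) +
          ringKrullDim ((f.fiber (f.base x)).presheaf.stalk (f.asFiber x)) ] := by
  haveI : IsLocallyNoetherian X := LocallyOfFiniteType.isLocallyNoetherian f
  haveI : LocallyOfFinitePresentation f :=
    Groth.Agent.Lib.Helper66.LfpNoeth.locallyOfFinitePresentation_of_isLocallyNoetherian f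
  obtain ⟨e0⟩ := Groth.Agent.H46.CMAt.nonempty_fibreStalk_equiv f x
  tfae_have 1 → 2 := fun h => h.1
  tfae_have 2 → 1 := by
    intro hfl
    refine ⟨hfl, ?_⟩
    algebraize [(f.stalkMap x).hom]
    haveI : IsLocalHom (algebraMap (Y.presheaf.stalk (f.base x)) (X.presheaf.stalk x)) :=
      inferInstanceAs (IsLocalHom (f.stalkMap x).hom)
    obtain ⟨-, hF⟩ := (isCohenMacaulayLocalRing_iff_of_flat (Y.presheaf.stalk (f.base x))
      (X.presheaf.stalk x)).mp hCM
    exact isCohenMacaulayLocalRing_of_ringEquiv e0 hF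
  tfae_have 2 → 3 := by
    intro hfl
    have hopen := Groth.Agent.Lib.Helper2.isOpen_flat_stalkMap_locus f
    let U : X.Opens := ⟨{x' : X | (f.stalkMap x').hom.Flat}, hopen⟩
    refine ⟨U, hfl, ?_⟩
    haveI : Flat (U.ι ≫ f) := by
      apply Flat.of_stalkMap
      intro u
      rw [Scheme.Hom.stalkMap_comp]
      have h1 : (f.stalkMap (U.ι u)).hom.Flat := u.2
      have h2 : (U.ι.stalkMap u).hom.Flat := Flat.stalkMap U.ι u
      exact RingHom.Flat.comp h1 h2
    infer_instance
  tfae_have 3 → 4 := by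
    rintro ⟨U, hxU, hU⟩ z hz _
    have hzx : (f.fiberι (f.base x)).base z ⤳ x := by
      have h1 : z ⤳ f.asFiber x := specializes_iff_mem_closure.mpr hz
      have h2 := h1.map (f.fiberι (f.base x)).continuous
      rwa [Scheme.Hom.fiberι_asFiber] at h2
    have hzU : (f.fiberι (f.base x)).base z ∈ U := hzx.mem_open U.2 hxU
    have hom : IsOpenMap (U.ι ≫ f).base := (U.ι ≫ f).isOpenMap
    intro N hN
    have h1 : U.ι.base ⁻¹' N ∈ nhds (⟨_, hzU⟩ : U) :=
      U.ι.continuous.continuousAt.preimage_mem_nhds (by exact hN)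
    have h2 := hom.image_mem_nhds h1
    refine Filter.mem_of_superset h2 ?_
    rintro _ ⟨u, hu, rfl⟩
    exact ⟨U.ι.base u, hu, rfl⟩
  tfae_have 4 → 5 := Groth.Agent.H46.OpenAtDim.main f x
  tfae_have 5 → 2 := by
    intro hdim
    letI := (f.stalkMap x).hom.toAlgebra
    haveI : IsLocalHom (algebraMap (Y.presheaf.stalk (f.base x)) (X.presheaf.stalk x)) :=
      inferInstanceAs (IsLocalHom (f.stalkMap x).hom)
    rw [← ringKrullDim_eq_of_ringEquiv e0] at hdim
    exact Groth.Agent.S2082.result hdim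
  tfae_finish

end Groth.Agent.H46.TfaeCMRegular
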