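import Mathlib

/-!
# The forgetful functor from sheaves of modules to abelian sheaves preserves colimits
-/

set_option autoImplicit false
universe u

namespace Groth.Agent.H46

open CategoryTheory Limits

variable {C : Type u} [SmallCategory C] {J : GrothendieckTopology C} (R : Sheaf J RingCat.{u})

/-- `SheafOfModules.toSheaf` preserves colimits of any shape for which presheaves of modules have
colimits preserved by `PresheafOfModules.toPresheaf`. -/
theorem toSheaf_preservesColimitsOfShape (K : Type u) [SmallCategory K] :
    PreservesColimitsOfShape K (SheafOfModules.toSheaf.{u} R) := by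
  let Φ := PresheafOfModules.sheafification.{u} (𝟙 R.obj)
  let adj := PresheafOfModules.sheafificationAdjunction.{u} (𝟙 R.obj)
  have hΦ : PreservesColimitsOfShape K Φ := adj.leftAdjoint_preservesColimits.preservesColimitsOfShape
  have h : PreservesColimitsOfShape K (Φ ⋙ SheafOfModules.toSheaf.{u} R) :=
    inferInstanceAs (PreservesColimitsOfShape K
      (PresheafOfModules.toPresheaf.{u} R.obj ⋙ presheafToSheaf J AddCommGrpCat.{u}))
  constructor
  intro D
  let G := SheafOfModules.forget.{u} R ⋙ PresheafOfModules.restrictScalars (𝟙 R.obj)
  let e : D ≅ (D ⋙ G) ⋙ Φ := Functor.isoWhiskerLeft D (asIso adj.counit).symm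
  have : PreservesColimit ((D ⋙ G) ⋙ Φ) (SheafOfModules.toSheaf.{u} R) := by
    let c := colimit.cocone (D ⋙ G)
    have hc : IsColimit c := colimit.isColimit _
    apply preservesColimit_of_preserves_colimit_cocone (isColimitOfPreserves Φ hc)
    exact isColimitOfPreserves (Φ ⋙ SheafOfModules.toSheaf.{u} R) hc
  exact preservesColimit_of_iso_diagram _ e.symm

theorem toSheaf_preservesFiniteColimits :
    PreservesFiniteColimits (SheafOfModules.toSheaf.{u} R) := by
  constructor
  intro K _ _
  have : PreservesColimitsOfShape (ULiftHom.{u} (ULift.{u} K)) (SheafOfModules.toSheaf.{u} R) :=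
    toSheaf_preservesColimitsOfShape R _
  exact preservesColimitsOfShape_of_equiv (ULiftHomULiftCategory.equiv.{u, u} K).symm _

end Groth.Agent.H46
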