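import Groth.Agent.Lib.Helper45.WeakAssFlat
import Mathlib.RingTheory.Ideal.GoingDown
import Mathlib.RingTheory.Flat.Stability

/-!
# Weakly associated primes and base change: formal properties (helper46)

* `weakAss_congr`: invariance under linear equivalences.
* `comap_mem_minimalPrimes_of_flat`: for `A → B` flat, if `q` is minimal over `ann_B (1 ⊗ m)`
  then `q ∩ A` is minimal over `ann_A m`.
* `BC A B`: the property that weakly associated primes of `B ⊗[A] M` contract to weakly
  associated primes of `M`; it is stable under composition (`BC.comp`), holds for finite flat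
  maps (`BC.of_finite_flat`), and passes to arbitrary models of the base change
  (`BC.of_isBaseChange`).
-/

set_option autoImplicit false

universe u v w

open TensorProduct

namespace Groth.Agent.H46.WeakAssBC

open Groth.Agent.Lib.Helper45

section Congr

variable {B : Type u} [CommRing B] {N : Type v} {N' : Type w} [AddCommGroup N] [Module B N]
  [AddCommGroup N'] [Module B N']

theorem annEl_linearEquiv (e : N ≃ₗ[B] N') (n : N) : annEl B (e n) = annEl B n := by
  ext r
  rw [mem_annEl, mem_annEl, ← map_smul, LinearEquiv.map_eq_zero_iff]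

theorem weakAss_congr (e : N ≃ₗ[B] N') : FlatCA.weakAss B N = FlatCA.weakAss B N' :=
  Set.Subset.antisymm (weakAss_subset_of_injective e.toLinearMap e.injective)
    (weakAss_subset_of_injective e.symm.toLinearMap e.symm.injective)

end Congr

section Flat

variable {A : Type u} {B : Type v} [CommRing A] [CommRing B] [Algebra A B] [Module.Flat A B]

/-- Flat descent of minimality over an annihilator (extended ideal form). -/
theorem comap_mem_minimalPrimes_of_map {I : Ideal A} {q : Ideal B}
    (hq : q ∈ (I.map (algebraMap A B)).minimalPrimes) :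
    q.comap (algebraMap A B) ∈ I.minimalPrimes := by
  have hqP : q.IsPrime := hq.1.1
  refine ⟨⟨Ideal.comap_isPrime _ _, Ideal.map_le_iff_le_comap.mp hq.1.2⟩, ?_⟩
  rintro p' ⟨hp'P, hIp'⟩ hp'p
  haveI : q.LiesOver (q.comap (algebraMap A B)) := ⟨rfl⟩
  haveI := hp'P
  haveI : (q.comap (algebraMap A B)).IsPrime := Ideal.comap_isPrime _ _
  obtain ⟨q', hq'q, hq'P, hq'over⟩ :=
    Ideal.exists_ideal_le_liesOver_of_le (p := p') (q := q.comap (algebraMap A B)) q hp'p
  have hIq' : I.map (algebraMap A B) ≤ q' := by
    rw [Ideal.map_le_iff_le_comap]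
    have := hq'over.over
    rw [Ideal.under_def] at this
    rw [← this]
    exact hIp'
  have hle : q ≤ q' := hq.2 ⟨hq'P, hIq'⟩ hq'q
  have h2 : q.comap (algebraMap A B) ≤ q'.comap (algebraMap A B) := Ideal.comap_mono hle
  have := hq'over.over
  rw [Ideal.under_def] at this
  rwa [← this] at h2

variable {M : Type w} [AddCommGroup M] [Module A M]

/-- Flat descent of minimality over the annihilator of an element. -/
theorem comap_mem_minimalPrimes_of_flat (m : M) {q : Ideal B}
    (hq : q ∈ (annEl B ((1 : B) ⊗ₜ[A] m)).minimalPrimes) :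
    q.comap (algebraMap A B) ∈ (annEl A m).minimalPrimes := by
  rw [annEl_one_tmul_of_flat] at hq
  exact comap_mem_minimalPrimes_of_map hq

/-- Flat descent of minimality, for an arbitrary model of the base change. -/
theorem comap_mem_minimalPrimes_of_isBaseChange {N : Type*} [AddCommGroup N] [Module B N]
    [Module A N] [IsScalarTower A B N] {g : M →ₗ[A] N} (hg : IsBaseChange B g) (m : M)
    {q : Ideal B} (hq : q ∈ (annEl B (g m)).minimalPrimes) :
    q.comap (algebraMap A B) ∈ (annEl A m).minimalPrimes := by
  apply comap_mem_minimalPrimes_of_flat (B := B) m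
  have : annEl B (g m) = annEl B ((1 : B) ⊗ₜ[A] m) := by
    have h1 : hg.equiv ((1 : B) ⊗ₜ[A] m) = g m := by rw [hg.equiv_tmul, one_smul]
    rw [← h1, annEl_linearEquiv]
  rwa [← this]

end Flat

section BCdef

/-- `BC A B`: weakly associated primes of base-changed modules contract to weakly associated
primes. -/
def BC (A B : Type u) [CommRing A] [CommRing B] [Algebra A B] : Prop :=
  ∀ (M : Type u) [AddCommGroup M] [Module A M] (q : Ideal B),
    q ∈ FlatCA.weakAss B (B ⊗[A] M) → q.comap (algebraMap A B) ∈ FlatCA.weakAss A M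

variable {A B C : Type u} [CommRing A] [CommRing B] [CommRing C] [Algebra A B]

theorem BC.of_isBaseChange (h : BC A B) {M N : Type u} [AddCommGroup M] [Module A M]
    [AddCommGroup N] [Module B N] [Module A N] [IsScalarTower A B N] {f : M →ₗ[A] N}
    (hf : IsBaseChange B f) {q : Ideal B} (hq : q ∈ FlatCA.weakAss B N) :
    q.comap (algebraMap A B) ∈ FlatCA.weakAss A M := by
  apply h M q
  rwa [weakAss_congr hf.equiv]

theorem BC.comp [Algebra B C] [Algebra A C] [IsScalarTower A B C] (h1 : BC A B) (h2 : BC B C) :
    BC A C := by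
  intro M _ _ q hq
  have e : C ⊗[B] (B ⊗[A] M) ≃ₗ[C] C ⊗[A] M :=
    AlgebraTensorModule.cancelBaseChange A B C C M
  rw [← weakAss_congr e] at hq
  have h3 := h1 M _ (h2 (B ⊗[A] M) q hq)
  rwa [Ideal.comap_comap, ← IsScalarTower.algebraMap_eq] at h3

theorem BC.of_finite_flat [Module.Finite A B] [Module.Flat A B] : BC A B := by
  intro M _ _ q hq
  exact mem_weakAss_of_mem_weakAss_tensor_of_finite_flat (N := B)
    (under_mem_weakAss_of_finite (A := A) hq)

end BCdef

end Groth.Agent.H46.WeakAssBC
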