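import Groth.Agent.H46.WeakAssFree
import Mathlib.RingTheory.AlgebraicIndependent.Adjoin
import Mathlib.RingTheory.AlgebraicIndependent.TranscendenceBasis
import Mathlib.RingTheory.TensorProduct.MvPolynomial
import Mathlib.RingTheory.Localization.BaseChange
import Mathlib.FieldTheory.IntermediateField.Adjoin.Algebra
import Mathlib.FieldTheory.IntermediateField.Adjoin.Basic

/-!
# Weakly associated primes under finitely generated field base change (helper46)

* `isDomain_tensor_of_algEquiv`: for `L/k` purely transcendental and `D` a domain over `k`,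
  `L ⊗[k] D` is a domain.
* `BC.of_purelyTranscendental`, `BC.of_finite_field`, `BC.of_fg_field`: weakly associated primes of
  `(K' ⊗[k] R) ⊗[R] M` contract to weakly associated primes of `M`, for `K'/k` a finitely
  generated field extension.
-/

set_option autoImplicit false
universe u v w
open TensorProduct

namespace Groth.Agent.H46.WeakAssBC

attribute [local instance] Algebra.TensorProduct.rightAlgebra
attribute [local instance] MvPolynomial.algebraMvPolynomial

theorem isDomain_fractionRing_mvPolynomial_tensor (k : Type u) [Field k] (σ : Type v) (D : Type w)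
    [CommRing D] [IsDomain D] [Algebra k D] :
    IsDomain (FractionRing (MvPolynomial σ k) ⊗[k] D) := by
  let P := MvPolynomial σ k
  let F := FractionRing P
  let S' := MvPolynomial σ D
  let T' := S' ⊗[P] F
  haveI hloc : IsLocalization (Algebra.algebraMapSubmonoid S' (nonZeroDivisors P)) T' :=
    IsLocalization.tensor (S := S') (A := F) (nonZeroDivisors P)
  have hinj : Function.Injective (algebraMap P S') := by
    exact FaithfulSMul.algebraMap_injective P S'
  have hle : Algebra.algebraMapSubmonoid S' (nonZeroDivisors P) ≤ nonZeroDivisors S' := by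
    rintro _ ⟨x, hx, rfl⟩
    refine mem_nonZeroDivisors_of_ne_zero ?_
    rw [Ne, map_eq_zero_iff _ hinj]
    exact nonZeroDivisors.ne_zero hx
  haveI hdom : IsDomain T' := IsLocalization.isDomain_of_le_nonZeroDivisors T' hle
  haveI : Algebra.IsPushout P F S' T' := inferInstance
  haveI : IsScalarTower k F T' := by
    refine IsScalarTower.of_algebraMap_eq fun r => ?_
    rw [IsScalarTower.algebraMap_apply k P F, ← IsScalarTower.algebraMap_apply P F T',
      ← IsScalarTower.algebraMap_apply k P T']
  haveI : Algebra.IsPushout k F D T' := (Algebra.IsPushout.comp_iff k P D S').mpr inferInstance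
  exact (Algebra.IsPushout.equiv k F D T').toMulEquiv.isDomain


/-- For a purely transcendental extension `L/k` and a domain `D` over `k`, `L ⊗[k] D` is a
domain. -/
theorem isDomain_tensor_of_algEquiv {k : Type u} [Field k] {L : Type v} [Field L] [Algebra k L]
    {σ : Type w} (e : FractionRing (MvPolynomial σ k) ≃ₐ[k] L) (D : Type*) [CommRing D]
    [IsDomain D] [Algebra k D] : IsDomain (L ⊗[k] D) := by
  haveI := isDomain_fractionRing_mvPolynomial_tensor k σ D
  exact (Algebra.TensorProduct.congr e.symm (AlgEquiv.refl (R := k) (A₁ := D))).toMulEquiv.isDomain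

/-- Purely transcendental step. -/
theorem BC.of_purelyTranscendental {k L : Type u} [Field k] [Field L] [Algebra k L] {σ : Type w}
    (e : FractionRing (MvPolynomial σ k) ≃ₐ[k] L) (R : Type u) [CommRing R] [Algebra k R] :
    BC R (L ⊗[k] R) := by
  haveI : Module.Free R (L ⊗[k] R) := by
    have hp : Algebra.IsPushout k R L (L ⊗[k] R) := inferInstance
    exact Module.Free.of_equiv hp.out.equiv
  refine BC.of_free (fun p _ => ?_)
  haveI : IsDomain (L ⊗[k] p.ResidueField) := isDomain_tensor_of_algEquiv e _
  exact (Algebra.IsPushout.cancelBaseChangeAlg k L R (L ⊗[k] R)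
    p.ResidueField).toMulEquiv.isDomain


/-- Finite step. -/
theorem BC.of_finite_field {L K' : Type u} [Field L] [Field K'] [Algebra L K']
    [FiniteDimensional L K'] (A A' : Type u) [CommRing A] [CommRing A'] [Algebra L A]
    [Algebra A A'] [Algebra K' A'] [Algebra L A'] [IsScalarTower L A A'] [IsScalarTower L K' A']
    [h : Algebra.IsPushout L K' A A'] : BC A A' := by
  have hp : Algebra.IsPushout L A K' A' := h.symm
  have e : A ⊗[L] K' ≃ₗ[A] A' := hp.out.equiv
  haveI : Module.Finite A A' := Module.Finite.equiv e
  haveI : Module.Flat A A' := Module.Flat.of_linearEquiv e.symm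
  exact BC.of_finite_flat

/-- Finitely generated field extensions. -/
theorem BC.of_fg_field (k K' : Type u) [Field k] [Field K'] [Algebra k K']
    (hfg : ∃ s : Finset K', IntermediateField.adjoin k (s : Set K') = ⊤)
    (R : Type u) [CommRing R] [Algebra k R] : BC R (K' ⊗[k] R) := by
  classical
  obtain ⟨s, hs⟩ := hfg
  obtain ⟨ι, x, hx⟩ := exists_isTranscendenceBasis' k K'
  let L : IntermediateField k K' := IntermediateField.adjoin k (Set.range x)
  let e : FractionRing (MvPolynomial ι k) ≃ₐ[k] L := hx.1.aevalEquivField
  have h1 : BC R (L ⊗[k] R) := BC.of_purelyTranscendental e R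
  haveI halg : Algebra.IsAlgebraic L K' := hx.isAlgebraic_field
  haveI hfin : FiniteDimensional L K' := by
    have h2 : IntermediateField.adjoin L (s : Set K') = ⊤ :=
      IntermediateField.adjoin_eq_top_of_adjoin_eq_top (F := k) hs
    haveI : FiniteDimensional L (IntermediateField.adjoin L (s : Set K')) :=
      IntermediateField.finiteDimensional_adjoin
        (fun y _ => (halg.isAlgebraic y).isIntegral)
    rw [h2] at this
    exact Module.Finite.equiv (IntermediateField.topEquiv (F := L) (E := K')).toLinearEquiv
  let f : (L ⊗[k] R) →ₐ[k] (K' ⊗[k] R) :=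
    Algebra.TensorProduct.map (IsScalarTower.toAlgHom k L K') (AlgHom.id k R)
  letI alg : Algebra (L ⊗[k] R) (K' ⊗[k] R) := f.toRingHom.toAlgebra
  have halgmap : ∀ y : L ⊗[k] R, @algebraMap (L ⊗[k] R) (K' ⊗[k] R) _ _ alg y = f y :=
    fun _ => rfl
  haveI t1 : IsScalarTower L (L ⊗[k] R) (K' ⊗[k] R) := by
    refine IsScalarTower.of_algebraMap_eq (R := L) (S := L ⊗[k] R) (A := K' ⊗[k] R) fun l => ?_
    rw [halgmap, Algebra.TensorProduct.algebraMap_apply]
    have : algebraMap L (K' ⊗[k] R) l = (l : K') ⊗ₜ[k] (1 : R) := rfl
    rw [this]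
    simp [f]
  haveI t2 : IsScalarTower R (L ⊗[k] R) (K' ⊗[k] R) := by
    refine IsScalarTower.of_algebraMap_eq (R := R) (S := L ⊗[k] R) (A := K' ⊗[k] R) fun r => ?_
    rw [halgmap]
    simp [f, Algebra.TensorProduct.right_algebraMap_apply]
  haveI hpush : Algebra.IsPushout L K' (L ⊗[k] R) (K' ⊗[k] R) := by
    refine Algebra.IsPushout.tensorProduct_tensorProduct k R L K' ?_
    ext r
    simp [halgmap, f]
  have h2 : BC (L ⊗[k] R) (K' ⊗[k] R) := BC.of_finite_field (L := L) (K' := K') _ _
  exact BC.comp h1 h2


end Groth.Agent.H46.WeakAssBC
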