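import Groth.Agent.H46.WeakAssFG
import Mathlib.LinearAlgebra.TensorProduct.Finiteness

/-!
# Weakly associated primes under base change to a field extension (helper46)

`comap_mem_weakAss_of_field` (Stacks 0CUB): for a field extension `K/k`, a `k`-algebra `R`, an
`R`-module `M`, any pushout `RK = R ⊗_k K` and any model `MK` of the base change of `M` to `RK`:
if `q` is weakly associated to `MK` then `q ∩ R` is weakly associated to `M`.
-/

set_option autoImplicit false
universe u v w
open TensorProduct

namespace Groth.Agent.H46.WeakAssBC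
open Groth.Agent.Lib.Helper45

attribute [local instance] Algebra.TensorProduct.rightAlgebra

/-- Descent along a flat map `B → C` for an element defined over `B`. -/
theorem descent_aux {R B C : Type u} [CommRing R] [CommRing B] [CommRing C] [Algebra R B]
    [Algebra B C] [Algebra R C] [IsScalarTower R B C] [Module.Flat B C] (hBC : BC R B)
    {M MC : Type u} [AddCommGroup M] [Module R M] [AddCommGroup MC] [Module C MC] [Module R MC]
    [IsScalarTower R C MC] (f : M →ₗ[R] MC) (hf : IsBaseChange C f) (q : Ideal C) [q.IsPrime]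
    (z : MC) (hz : q ∈ (annEl C z).minimalPrimes) {ι : Type*} (S : Finset ι) (b : ι → B)
    (m : ι → M) (hzS : z = ∑ i ∈ S, algebraMap B C (b i) • f (m i)) :
    q.comap (algebraMap R C) ∈ FlatCA.weakAss R M := by
  letI modMC : Module B MC := Module.compHom MC (algebraMap B C)
  haveI t5 : IsScalarTower B C MC := IsScalarTower.of_compHom _ _ _
  haveI t6 : IsScalarTower R B MC := by
    refine IsScalarTower.of_algebraMap_smul fun r x => ?_
    rw [← algebraMap_smul C (algebraMap R B r) x, ← IsScalarTower.algebraMap_apply R B C,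
      algebraMap_smul]
  have hmk : IsBaseChange B (TensorProduct.mk R B M 1) := TensorProduct.isBaseChange R M B
  let g : B ⊗[R] M →ₗ[B] MC := hmk.lift f
  have hgf : ∀ x, g ((1 : B) ⊗ₜ[R] x) = f x := fun x => hmk.lift_eq f x
  have hg : IsBaseChange C g := by
    refine IsBaseChange.of_comp hmk ?_
    have : (g.restrictScalars R).comp (TensorProduct.mk R B M 1) = f := hmk.lift_comp f
    rw [this]
    exact hf
  let z' : B ⊗[R] M := ∑ i ∈ S, b i ⊗ₜ[R] m i
  have hgz : g z' = z := by
    rw [hzS, map_sum]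
    refine Finset.sum_congr rfl fun i _ => ?_
    have h1 : b i ⊗ₜ[R] m i = b i • ((1 : B) ⊗ₜ[R] m i) := by
      rw [TensorProduct.smul_tmul', smul_eq_mul, mul_one]
    rw [h1, map_smul, hgf, ← algebraMap_smul C]
  rw [← hgz] at hz
  have hmin := comap_mem_minimalPrimes_of_isBaseChange hg z' hz
  have hq' : q.comap (algebraMap B C) ∈ FlatCA.weakAss B (B ⊗[R] M) := ⟨z', hmin⟩
  have h3 := hBC M _ hq'
  rwa [Ideal.comap_comap, ← IsScalarTower.algebraMap_eq] at h3


set_option maxHeartbeats 800000 in
theorem comap_mem_weakAss_of_field {k K R : Type u} [Field k] [Field K] [Algebra k K] [CommRing R]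
    [Algebra k R] (RK : Type u) [CommRing RK] [Algebra k RK] [Algebra K RK] [Algebra R RK]
    [IsScalarTower k K RK] [IsScalarTower k R RK] [hpo : Algebra.IsPushout k K R RK]
    (M : Type u) [AddCommGroup M] [Module R M] (MK : Type u) [AddCommGroup MK] [Module RK MK]
    [Module R MK] [IsScalarTower R RK MK] (f : M →ₗ[R] MK) (hf : IsBaseChange RK f)
    (q : Ideal RK) [q.IsPrime] (hq : q ∈ FlatCA.weakAss RK MK) :
    q.comap (algebraMap R RK) ∈ FlatCA.weakAss R M := by
  classical
  obtain ⟨z, hz⟩ := hq
  replace hz : q ∈ (annEl RK z).minimalPrimes := hz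
  -- represent `z`
  letI : Module k M := Module.compHom M (algebraMap k R)
  haveI : IsScalarTower k R M := IsScalarTower.of_compHom k R M
  let y : K ⊗[k] M := Algebra.IsPushout.cancelBaseChange k K R RK M (hf.equiv.symm z)
  obtain ⟨S, hS⟩ := TensorProduct.exists_finset y
  have hzS : z = ∑ i ∈ S, algebraMap K RK i.1 • f i.2 := by
    have h1 : z = hf.equiv ((Algebra.IsPushout.cancelBaseChange k K R RK M).symm y) := by
      simp [y]
    rw [h1, hS, map_sum, map_sum]
    refine Finset.sum_congr rfl fun i _ => ?_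
    rw [Algebra.IsPushout.cancelBaseChange_symm_tmul, hf.equiv_tmul]
  -- the finitely generated subfield
  let K' : IntermediateField k K :=
    IntermediateField.adjoin k ((S.image Prod.fst : Finset K) : Set K)
  have hK' : ∀ i ∈ S, i.1 ∈ K' := fun i hi =>
    IntermediateField.subset_adjoin _ _ (Finset.mem_coe.mpr (Finset.mem_image_of_mem _ hi))
  have hfg : ∃ s : Finset K', IntermediateField.adjoin k (s : Set K') = ⊤ :=
    IntermediateField.fg_top_iff.mpr
      (IntermediateField.essFiniteType_iff.mpr (IntermediateField.fg_adjoin_finset _))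
  have hBC : BC R (K' ⊗[k] R) := BC.of_fg_field k K' hfg R
  -- the algebra structure `K' ⊗[k] R → RK`
  let φ : (K' ⊗[k] R) →ₐ[k] RK :=
    Algebra.TensorProduct.lift ((IsScalarTower.toAlgHom k K RK).comp K'.val)
      (IsScalarTower.toAlgHom k R RK) (fun _ _ => Commute.all _ _)
  letI algRK' : Algebra (K' ⊗[k] R) RK := φ.toRingHom.toAlgebra
  have hφ : ∀ x : K' ⊗[k] R, @algebraMap (K' ⊗[k] R) RK _ _ algRK' x = φ x := fun _ => rfl
  have hK'map : ∀ c : K', algebraMap K' RK c = algebraMap K RK (c : K) := fun _ => rfl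
  haveI t1 : IsScalarTower K' K RK := inferInstance
  haveI t2 : IsScalarTower K' (K' ⊗[k] R) RK := by
    refine IsScalarTower.of_algebraMap_eq (R := K') (S := K' ⊗[k] R) (A := RK) fun c => ?_
    rw [hφ, Algebra.TensorProduct.algebraMap_apply, hK'map]
    simp [φ]
  haveI t3 : IsScalarTower R (K' ⊗[k] R) RK := by
    refine IsScalarTower.of_algebraMap_eq (R := R) (S := K' ⊗[k] R) (A := RK) fun r => ?_
    rw [hφ, Algebra.TensorProduct.right_algebraMap_apply]
    simp [φ]
  haveI t4 : IsScalarTower k (K' ⊗[k] R) RK := by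
    refine IsScalarTower.of_algebraMap_eq (R := k) (S := K' ⊗[k] R) (A := RK) fun c => ?_
    rw [hφ, AlgHom.commutes]
  haveI hpo' : Algebra.IsPushout K' K (K' ⊗[k] R) RK :=
    (Algebra.IsPushout.comp_iff k K' R (K' ⊗[k] R)).mp hpo
  haveI hflat : Module.Flat (K' ⊗[k] R) RK := by
    have hp : Algebra.IsPushout K' (K' ⊗[k] R) K RK := hpo'.symm
    exact Module.Flat.of_linearEquiv hp.out.equiv.symm
  refine descent_aux (B := K' ⊗[k] R) hBC f hf q z hz S.attach
    (fun i => (⟨i.1.1, hK' i.1 i.2⟩ : K') ⊗ₜ[k] (1 : R)) (fun i => i.1.2) ?_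
  rw [hzS, ← Finset.sum_attach]
  refine Finset.sum_congr rfl fun i _ => ?_
  rw [hφ]
  simp [φ]

end Groth.Agent.H46.WeakAssBC
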