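import Groth.Prelude.Def_CurvBase
import Groth.Prelude.Def_Coh
import Groth.Prelude.Def_Curv2
import Groth.Agent.H46.WeakAssField
import Groth.Agent.Lib.Helper16.FlatPull.Chart
import Groth.Agent.Lib.Helper45.WeakAssPoint

/-!
# Weakly associated points under base change to a field extension (helper46)

`main` (Stacks 0CUC): for a `k`-scheme `X`, a quasi-coherent module `F` and a point `y` of `X_K`
weakly associated to the pullback of `F`, the image of `y` in `X` is weakly associated to `F`.
-/

set_option autoImplicit false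
universe u
open CategoryTheory CategoryTheory.Limits AlgebraicGeometry TopologicalSpace

namespace Groth.Agent.H46.WeakAssFieldScheme

variable (k : Type u) [Field k] (K : Type u) [Field K] [Algebra k K] (X : Scheme.{u})
    [X.Over (Spec (CommRingCat.of k))]

/-- the preimage of `U` in the base change -/
noncomputable abbrev W (U : X.Opens) : (Curv2.bc k X K).Opens :=
  (Curv2.bcFst k X K) ⁻¹ᵁ U ⊓ (Curv2.bcSnd k X K) ⁻¹ᵁ ⊤

theorem isPushout_sections {U : X.Opens} (hU : IsAffineOpen U) :
    IsPushout ((X ↘ Spec (CommRingCat.of k)).appLE ⊤ U le_top)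
      ((Spec.map (CommRingCat.ofHom (algebraMap k K))).appLE ⊤ ⊤ le_top)
      ((Curv2.bcFst k X K).appLE U (W k K X U) inf_le_left)
      ((Curv2.bcSnd k X K).appLE ⊤ (W k K X U) inf_le_right) := by
  have H : IsPullback (Curv2.bcFst k X K) (Curv2.bcSnd k X K) (X ↘ Spec (CommRingCat.of k))
      (Spec.map (CommRingCat.ofHom (algebraMap k K))) := IsPullback.of_hasPullback _ _
  have := isIso_pushoutSection_of_isAffineOpen H (US := ⊤) (UT := ⊤) (UX := U) le_top le_top
    (UY := W k K X U) rfl (isAffineOpen_top _) (isAffineOpen_top _) hU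
  exact (isIso_pushoutSection_iff H _ _ _).mp this

end Groth.Agent.H46.WeakAssFieldScheme

namespace Groth.Agent.H46.WeakAssFieldScheme

variable (k : Type u) [Field k] (K : Type u) [Field K] [Algebra k K] (X : Scheme.{u})
    [X.Over (Spec (CommRingCat.of k))]

theorem isAffineOpen_W {U : X.Opens} (hU : IsAffineOpen U) : IsAffineOpen (W k K X U) := by
  haveI : IsAffineHom (Curv2.bcFst k X K) := MorphismProperty.pullback_fst _ _ inferInstance
  have h1 : W k K X U = (Curv2.bcFst k X K) ⁻¹ᵁ U := by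
    simp [W]
  rw [h1]
  exact hU.preimage _

end Groth.Agent.H46.WeakAssFieldScheme

namespace Groth.Agent.H46.WeakAssFieldScheme

open Groth.Agent.Lib.Helper16.FlatPull Groth.Agent.Lib.Helper45 Groth.Agent.H46.WeakAssBC

set_option maxHeartbeats 800000 in
theorem main (k : Type u) [Field k] (K : Type u) [Field K] [Algebra k K] (X : Scheme.{u})
    [X.Over (Spec (CommRingCat.of k))] (F : X.Modules) (hF : Coh.IsQCoh F) (y : ↥(Curv2.bc k X K))
    (hy : Curv2.IsWeakAssPoint ((Scheme.Modules.pullback (Curv2.bcFst k X K)).obj F) y) :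
    Curv2.IsWeakAssPoint F (Curv2.bcFst k X K y) := by
  haveI : F.IsQuasicoherent := hF
  let h := Curv2.bcFst k X K
  obtain ⟨U, hU, hxU, -⟩ := exists_isAffineOpen_mem_and_subset (x := h y) (U := ⊤) trivial
  have hW := isAffineOpen_W k K X hU
  have hWU : W k K X U ≤ h ⁻¹ᵁ U := inf_le_left
  have hyW : y ∈ W k K X U := ⟨hxU, trivial⟩
  haveI : ((Scheme.Modules.pullback h).obj F).IsQuasicoherent := isQuasicoherent_pullback h F
  rw [isWeakAssPoint_iff_of_isAffineOpen hW _ ⟨y, hyW⟩] at hy
  rw [isWeakAssPoint_iff_of_isAffineOpen hU F ⟨h y, hxU⟩]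
  letI algAB : Algebra Γ(X, U) Γ(Curv2.bc k X K, W k K X U) := (h.appLE U (W k K X U) hWU).hom.toAlgebra
  letI modA : Module Γ(X, U) Γ((Scheme.Modules.pullback h).obj F, W k K X U) :=
    Module.compHom _ (h.appLE U (W k K X U) hWU).hom
  haveI tA : IsScalarTower Γ(X, U) Γ(Curv2.bc k X K, W k K X U)
      Γ((Scheme.Modules.pullback h).obj F, W k K X U) := IsScalarTower.of_compHom _ _ _
  obtain ⟨ψ, hψ⟩ := exists_isBaseChange_sections h hU hW hWU F
  -- the `k`- and `K`-structures
  let ek := Scheme.ΓSpecIso (CommRingCat.of k)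
  let eK := Scheme.ΓSpecIso (CommRingCat.of K)
  let a : CommRingCat.of k ⟶ Γ(X, U) :=
    ek.inv ≫ (X ↘ Spec (CommRingCat.of k)).appLE ⊤ U le_top
  let b : CommRingCat.of K ⟶ Γ(Curv2.bc k X K, W k K X U) :=
    eK.inv ≫ (Curv2.bcSnd k X K).appLE ⊤ (W k K X U) inf_le_right
  have hsq : IsPushout (CommRingCat.ofHom (algebraMap k K)) a b (h.appLE U (W k K X U) hWU) := by
    refine IsPushout.of_iso (isPushout_sections k K X hU).flip ek eK (Iso.refl _) (Iso.refl _)
      ?_ ?_ ?_ ?_
    · simp only [ek, eK]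
      rw [Scheme.Hom.appLE, ← Scheme.ΓSpecIso_naturality]
      simp
    · simp [a]
    · simp [b]
    · simp [h]
  letI algkA : Algebra k Γ(X, U) := a.hom.toAlgebra
  letI algKB : Algebra K Γ(Curv2.bc k X K, W k K X U) := b.hom.toAlgebra
  letI algkB : Algebra k Γ(Curv2.bc k X K, W k K X U) :=
    ((algebraMap Γ(X, U) Γ(Curv2.bc k X K, W k K X U)).comp (algebraMap k Γ(X, U))).toAlgebra
  haveI t1 : IsScalarTower k Γ(X, U) Γ(Curv2.bc k X K, W k K X U) :=
    IsScalarTower.of_algebraMap_eq (fun _ => rfl)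
  haveI t2 : IsScalarTower k K Γ(Curv2.bc k X K, W k K X U) := by
    refine IsScalarTower.of_algebraMap_eq fun c => ?_
    have := congr($(hsq.w).hom c)
    exact this.symm
  haveI hpo : Algebra.IsPushout k K Γ(X, U) Γ(Curv2.bc k X K, W k K X U) :=
    CommRingCat.isPushout_iff_isPushout.mp hsq
  have hcomap := IsAffineOpen.comap_primeIdealOf_appLE U hU (W k K X U) hW hWU hyW
  have key := comap_mem_weakAss_of_field (k := k) (K := K) Γ(Curv2.bc k X K, W k K X U)
    Γ(F, U) Γ((Scheme.Modules.pullback h).obj F, W k K X U) ψ hψ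
    (hW.primeIdealOf ⟨y, hyW⟩).asIdeal hy
  convert key using 1
  exact congr(($hcomap).1).symm

end Groth.Agent.H46.WeakAssFieldScheme
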