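import Groth.Agent.H46.WeakAssBC
import Mathlib.RingTheory.LocalRing.Module
import Mathlib.RingTheory.LocalRing.ResidueField.Ideal
import Mathlib.LinearAlgebra.TensorProduct.Basis
import Mathlib.LinearAlgebra.Dual.Lemmas
import Mathlib.RingTheory.Support

/-!
# Weakly associated primes under free base change with integral fibres (helper46)

`BC.of_free`: if `B` is a free `A`-module such that `B ⊗[A] κ(p)` is a domain for every prime `p`
of `A`, then every weakly associated prime of `B ⊗[A] M` contracts to a weakly associated prime of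
`M`.
-/

set_option autoImplicit false
universe u v w
open TensorProduct

namespace Groth.Agent.H46.WeakAssBC
open Groth.Agent.Lib.Helper45

/-- a nonzero functional to the residue field on a finite module supported at `p` -/
theorem exists_linearMap_residueField_ne_zero {A : Type u} [CommRing A] (p : Ideal A) [p.IsPrime] (M' : Type u)
    [AddCommGroup M'] [Module A M'] [Module.Finite A M'] (hann : Module.annihilator A M' ≤ p)
    (S : Set M') (hS : Submodule.span A S = ⊤) :
    ∃ (φ : M' →ₗ[A] p.ResidueField), ∃ m ∈ S, φ m ≠ 0 := by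
  classical
  have hsupp : (⟨p, inferInstance⟩ : PrimeSpectrum A) ∈ Module.support A M' :=
    Module.mem_support_iff_of_finite.mpr hann
  rw [Module.mem_support_iff_nontrivial_residueField_tensorProduct] at hsupp
  change Nontrivial (p.ResidueField ⊗[A] M') at hsupp
  -- some generator survives
  have hex : ∃ m ∈ S, (1 : p.ResidueField) ⊗ₜ[A] m ≠ 0 := by
    by_contra hcon
    push Not at hcon
    have hzero : ∀ m : M', (1 : p.ResidueField) ⊗ₜ[A] m = 0 := by
      intro m
      have hm : m ∈ Submodule.span A S := hS ▸ Submodule.mem_top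
      refine Submodule.span_induction (p := fun m _ => (1 : p.ResidueField) ⊗ₜ[A] m = 0)
        (fun x hx => hcon x hx) (by simp) (fun x y _ _ hx hy => by rw [tmul_add, hx, hy, add_zero])
        (fun a x _ hx => by rw [tmul_smul, hx, smul_zero]) hm
    have : Subsingleton (p.ResidueField ⊗[A] M') := by
      refine ⟨fun x y => ?_⟩
      have h0 : ∀ x : p.ResidueField ⊗[A] M', x = 0 := by
        intro x
        induction x using TensorProduct.induction_on with
        | zero => rfl
        | tmul a m =>
          have : a ⊗ₜ[A] m = a • ((1 : p.ResidueField) ⊗ₜ[A] m) := by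
            rw [smul_tmul', smul_eq_mul, mul_one]
          rw [this, hzero, smul_zero]
        | add x y hx hy => rw [hx, hy, add_zero]
      rw [h0 x, h0 y]
    exact not_nontrivial _ hsupp
  obtain ⟨m, hm, hne⟩ := hex
  obtain ⟨lam, hlam⟩ : ∃ lam : Module.Dual p.ResidueField (p.ResidueField ⊗[A] M'),
      lam ((1 : p.ResidueField) ⊗ₜ[A] m) ≠ 0 := by
    by_contra hcon
    push Not at hcon
    exact hne ((Module.forall_dual_apply_eq_zero_iff p.ResidueField _).mp hcon)
  refine ⟨(lam.restrictScalars A).comp (TensorProduct.mk A p.ResidueField M' 1), m, hm, ?_⟩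
  simpa using hlam


section Key

variable {A : Type u} {B : Type u} [CommRing A] [CommRing B] [Algebra A B]
  {ι : Type*} (b : Module.Basis ι A B) {M : Type u} [AddCommGroup M] [Module A M]

include b in
/-- Key claim: if `B` is free over `A` with `B ⊗ κ(p')` a domain, then every prime of `B` over
`p' ⊇ ann_A z` contains `ann_B z`. -/
theorem annEl_le_of_liesOver (p' : Ideal A) [p'.IsPrime] [IsDomain (B ⊗[A] p'.ResidueField)]
    (q' : Ideal B) [q'.IsPrime] [q'.LiesOver p'] (z : B ⊗[A] M) (hz : annEl A z ≤ p') :
    annEl B z ≤ q' := by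
  classical
  intro f hf
  rw [mem_annEl] at hf
  let E := TensorProduct.equivFinsuppOfBasisLeft (N := M) b
  let c : ι →₀ M := E z
  have hzc : z = c.sum fun i m => b i ⊗ₜ[A] m := by
    rw [← TensorProduct.equivFinsuppOfBasisLeft_symm_apply, LinearEquiv.symm_apply_apply]
  let s : Finset ι := c.support
  let M' : Submodule A M := Submodule.span A (↑(s.image c) : Set M)
  have hcM' : ∀ i, c i ∈ M' := by
    intro i
    by_cases hi : i ∈ s
    · exact Submodule.subset_span (Finset.mem_coe.mpr (Finset.mem_image_of_mem c hi))
    · rw [Finsupp.notMem_support_iff.mp hi]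
      exact Submodule.zero_mem _
  haveI : Module.Finite A M' := Module.Finite.of_fg (Submodule.fg_span (Finset.finite_toSet _))
  let z' : B ⊗[A] M' := ∑ i ∈ s, b i ⊗ₜ[A] (⟨c i, hcM' i⟩ : M')
  have hz' : (M'.subtype.baseChange B) z' = z := by
    rw [hzc, Finsupp.sum, map_sum]
    refine Finset.sum_congr rfl (fun i _ => ?_)
    rw [LinearMap.baseChange_tmul, Submodule.subtype_apply]
  haveI : Module.Free A B := Module.Free.of_basis b
  haveI : Module.Flat A B := Module.Flat.of_free
  have hinj : Function.Injective (M'.subtype.baseChange B) := by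
    have := Module.Flat.lTensor_preserves_injective_linearMap (M := B) M'.subtype
      (Submodule.subtype_injective M')
    intro x y hxy
    apply this
    simpa [LinearMap.baseChange_eq_ltensor] using hxy
  have hfz' : f • z' = 0 := by
    apply hinj
    rw [map_smul, hz', hf, map_zero]
  -- annihilator of M'
  have hann : Module.annihilator A M' ≤ p' := by
    intro r hr
    apply hz
    rw [mem_annEl]
    have h1 : ∀ i, r • c i = 0 := by
      intro i
      have := Module.mem_annihilator.mp hr (⟨c i, hcM' i⟩ : M')
      simpa using congrArg Subtype.val this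
    rw [hzc, Finsupp.sum, Finset.smul_sum]
    refine Finset.sum_eq_zero (fun i _ => ?_)
    rw [← tmul_smul, h1, tmul_zero]
  -- generators of M'
  let S : Set M' := (fun i => (⟨c i, hcM' i⟩ : M')) '' (s : Set ι)
  have hS : Submodule.span A S = ⊤ := by
    rw [eq_top_iff]
    rintro ⟨m, hm⟩ -
    refine Submodule.span_induction (p := fun m hm => (⟨m, hm⟩ : M') ∈ Submodule.span A S)
      ?_ ?_ ?_ ?_ hm
    · intro x hx
      obtain ⟨i, hi, rfl⟩ := Finset.mem_image.mp (Finset.mem_coe.mp hx)
      exact Submodule.subset_span ⟨i, hi, rfl⟩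
    · exact Submodule.zero_mem _
    · intro x y hx hy hx' hy'
      exact Submodule.add_mem _ hx' hy'
    · intro a x hx hx'
      exact Submodule.smul_mem _ a hx'
  obtain ⟨φ, m, ⟨i₀, hi₀, rfl⟩, hφ⟩ := exists_linearMap_residueField_ne_zero p' M' hann S hS
  let w : B ⊗[A] p'.ResidueField := (φ.baseChange B) z'
  have hw : w = ∑ i ∈ s, b i ⊗ₜ[A] φ (⟨c i, hcM' i⟩ : M') := by
    simp only [w, z', map_sum, LinearMap.baseChange_tmul]
  have hwne : w ≠ 0 := by
    intro h0
    have h1 := congrArg (fun x => TensorProduct.equivFinsuppOfBasisLeft (N := p'.ResidueField) b x i₀) h0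
    simp only [map_zero, Finsupp.coe_zero, Pi.zero_apply] at h1
    rw [hw, map_sum, Finsupp.finset_sum_apply] at h1
    simp only [TensorProduct.equivFinsuppOfBasisLeft_apply_tmul_apply, Module.Basis.repr_self] at h1
    rw [Finset.sum_eq_single i₀] at h1
    · rw [Finsupp.single_eq_same, one_smul] at h1
      exact hφ h1
    · intro j _ hj
      rw [Finsupp.single_eq_of_ne hj.symm, zero_smul]
    · intro h
      exact absurd hi₀ h
  have hfw : (f ⊗ₜ[A] (1 : p'.ResidueField)) * w = 0 := by
    have : f • w = 0 := by rw [← map_smul, hfz', map_zero]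
    rwa [Algebra.smul_def, Algebra.TensorProduct.algebraMap_apply, Algebra.algebraMap_self,
      RingHom.id_apply] at this
  have hf1 : f ⊗ₜ[A] (1 : p'.ResidueField) = 0 := (mul_eq_zero.mp hfw).resolve_right hwne
  -- map to the residue field of q'
  have hover : p' = q'.comap (Algebra.ofId A B).toRingHom := (‹q'.LiesOver p'›).over
  let Ψ : B ⊗[A] p'.ResidueField →ₐ[A] q'.ResidueField :=
    Algebra.TensorProduct.lift (IsScalarTower.toAlgHom A B q'.ResidueField)
      (Ideal.ResidueField.mapₐ p' q' (Algebra.ofId A B) hover) (fun _ _ => Commute.all _ _)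
  have h2 : Ψ (f ⊗ₜ[A] (1 : p'.ResidueField)) = algebraMap B q'.ResidueField f := by
    simp [Ψ]
  rw [hf1, map_zero] at h2
  exact Ideal.algebraMap_residueField_eq_zero.mp h2.symm

end Key


section LemmaP

variable {A : Type u} {B : Type u} [CommRing A] [CommRing B] [Algebra A B]

/-- If `B` is a free `A`-module all of whose fibre rings `B ⊗ κ(p)` are domains, then weakly
associated primes of `B ⊗[A] M` contract to weakly associated primes of `M`. -/
theorem BC.of_free [Module.Free A B]
    (hdom : ∀ (p : Ideal A) [p.IsPrime], IsDomain (B ⊗[A] p.ResidueField)) : BC A B := by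
  intro M _ _ q hq
  classical
  obtain ⟨z, hz⟩ := hq
  replace hz : q ∈ (annEl B z).minimalPrimes := hz
  have hqP : q.IsPrime := hz.1.1
  let b := Module.Free.chooseBasis A B
  set p := q.comap (algebraMap A B) with hp
  haveI : p.IsPrime := Ideal.comap_isPrime _ _
  haveI : Module.Flat A B := Module.Flat.of_free
  have hmin : p ∈ (annEl A z).minimalPrimes := by
    refine ⟨⟨inferInstance, ?_⟩, ?_⟩
    · intro r hr
      rw [mem_annEl] at hr
      apply hz.1.2
      rw [mem_annEl, algebraMap_smul, hr]
    · rintro p' ⟨hp'P, hp'⟩ hp'p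
      haveI := hp'P
      haveI : q.LiesOver p := ⟨rfl⟩
      obtain ⟨q', hq'q, hq'P, hq'over⟩ :=
        Ideal.exists_ideal_le_liesOver_of_le (p := p') (q := p) q hp'p
      haveI := hq'P
      haveI := hq'over
      haveI := hdom p'
      have h1 : annEl B z ≤ q' := annEl_le_of_liesOver b p' q' z hp'
      have hle : q ≤ q' := hz.2 ⟨hq'P, h1⟩ hq'q
      have h2 := Ideal.comap_mono (f := algebraMap A B) hle
      have h3 := hq'over.over
      rw [Ideal.under_def] at h3
      rwa [← h3] at h2
  let E := TensorProduct.equivFinsuppOfBasisLeft (N := M) b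
  let c : _ →₀ M := E z
  have hann : annEl A z = c.support.inf (fun i => annEl A (c i)) := by
    ext r
    rw [Submodule.mem_finsetInf, mem_annEl]
    constructor
    · intro h i _
      rw [mem_annEl]
      have : r • c = 0 := by
        show r • E z = 0
        rw [← map_smul, h, map_zero]
      have h2 := DFunLike.congr_fun this i
      simpa using h2
    · intro h
      apply E.injective
      rw [map_smul, map_zero]
      ext i
      by_cases hi : i ∈ c.support
      · have := h i hi
        rw [mem_annEl] at this
        simpa using this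
      · rw [Finsupp.notMem_support_iff] at hi
        show (r • c) i = 0
        simp [hi]
  rw [hann] at hmin
  obtain ⟨i, hi, hle⟩ := (Ideal.IsPrime.inf_le' inferInstance).mp hmin.1.2
  exact ⟨c i, mem_minimalPrimes_of_le_of_le hmin (Finset.inf_le hi) hle⟩

end LemmaP


end Groth.Agent.H46.WeakAssBC
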