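import Mathlib

set_option autoImplicit false
universe u

open IsLocalRing

namespace Groth.Agent.H46

theorem finite_quotient_map_maximalIdeal (R S : Type u) [CommRing R] [CommRing S]
    [IsLocalRing R] [IsLocalRing S] [Algebra R S] [IsLocalHom (algebraMap R S)]
    [Algebra.EssFiniteType R S]
    (hres : Module.Finite (IsLocalRing.ResidueField R) (IsLocalRing.ResidueField S))
    (hdim : ringKrullDim (S ⧸ (IsLocalRing.maximalIdeal R).map (algebraMap R S)) = 0) :
    Module.Finite R (S ⧸ (IsLocalRing.maximalIdeal R).map (algebraMap R S)) := by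
  set I := (maximalIdeal R).map (algebraMap R S) with hIdef
  have hI : I ≠ ⊤ := (map_maximalIdeal_lt_top (algebraMap R S)).ne
  have hIle : I ≤ maximalIdeal S := le_maximalIdeal hI
  haveI : Nontrivial (S ⧸ I) := Ideal.Quotient.nontrivial_iff.mpr hI
  haveI : IsLocalRing (S ⧸ I) :=
    IsLocalRing.of_surjective' (Ideal.Quotient.mk I) Ideal.Quotient.mk_surjective
  letI : Field (R ⧸ maximalIdeal R) := Ideal.Quotient.field _
  haveI : Algebra.EssFiniteType (R ⧸ maximalIdeal R) (S ⧸ I) := inferInstance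
  haveI : IsNoetherianRing (S ⧸ I) :=
    Algebra.EssFiniteType.isNoetherianRing (R ⧸ maximalIdeal R) (S ⧸ I)
  haveI : Ring.KrullDimLE 0 (S ⧸ I) := by
    rw [Ring.krullDimLE_iff]
    exact hdim.le
  haveI : IsArtinianRing (S ⧸ I) := IsNoetherianRing.isArtinianRing_of_krullDimLE_zero
  -- the residue field of `S` is finite over `R`
  haveI : Module.Finite R (ResidueField R) :=
    Module.Finite.of_surjective (Algebra.linearMap R (ResidueField R))
      IsLocalRing.residue_surjective
  haveI : Module.Finite R (ResidueField S) := Module.Finite.trans (ResidueField R) (ResidueField S)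
  haveI : Module.Finite R ((S ⧸ I) ⧸ Ring.jacobson (S ⧸ I)) := by
    let g : S →ₐ[R] ((S ⧸ I) ⧸ Ring.jacobson (S ⧸ I)) :=
      (Ideal.Quotient.mkₐ R (Ring.jacobson (S ⧸ I))).comp (Ideal.Quotient.mkₐ R I)
    have hg : Function.Surjective g :=
      (Ideal.Quotient.mkₐ_surjective R _).comp (Ideal.Quotient.mkₐ_surjective R _)
    have hker : ∀ a ∈ maximalIdeal S, g a = 0 := by
      intro a ha
      show Ideal.Quotient.mk _ (Ideal.Quotient.mk I a) = 0
      rw [Ideal.Quotient.eq_zero_iff_mem, ringJacobson_eq_maximalIdeal]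
      have := IsLocalHom.of_surjective (Ideal.Quotient.mk I) Ideal.Quotient.mk_surjective
      rw [mem_maximalIdeal, mem_nonunits_iff] at ha ⊢
      exact fun hu => ha (isUnit_of_map_unit (Ideal.Quotient.mk I) a hu)
    let l : ResidueField S →ₐ[R] ((S ⧸ I) ⧸ Ring.jacobson (S ⧸ I)) :=
      Ideal.Quotient.liftₐ (maximalIdeal S) g hker
    have hl : Function.Surjective l := Ideal.Quotient.lift_surjective_of_surjective _ _ hg
    exact Module.Finite.of_surjective l.toLinearMap hl
  exact IsSemiprimaryRing.finite_of_isArtinian R (S ⧸ I) (S ⧸ I)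

end Groth.Agent.H46

namespace Groth.Agent.H46

/-- Transfer a localization at a prime along a subalgebra `S' ⊆ S₀` with `S'[1/r] = S₀[1/r]`. -/
theorem isLocalization_atPrime_of_subalgebra {R S₀ S : Type*} [CommRing R] [CommRing S₀]
    [CommRing S] [Algebra R S₀] [Algebra S₀ S] (S' : Subalgebra R S₀) (r : S') (q₀ : Ideal S₀)
    [q₀.IsPrime] [IsLocalization.AtPrime S q₀] (hr : (r : S₀) ∉ q₀)
    (hsurj : ∀ a : S₀, ∃ (b : S') (m : ℕ), (b : S₀) = (r : S₀) ^ m * a)
    [Algebra S' S] (halg : ∀ x : S', algebraMap S' S x = algebraMap S₀ S x)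
    (q : Ideal S') [q.IsPrime] (hq : q = q₀.comap S'.val) :
    IsLocalization.AtPrime S q := by
  have hmem : ∀ x : S', x ∈ q.primeCompl ↔ (x : S₀) ∈ q₀.primeCompl := by
    intro x
    rw [Ideal.mem_primeCompl_iff, Ideal.mem_primeCompl_iff, hq, Ideal.mem_comap]
    rfl
  refine ⟨?_, ?_, ?_⟩
  · rintro ⟨y, hy⟩
    rw [halg]
    exact IsLocalization.map_units S (⟨(y : S₀), (hmem y).mp hy⟩ : q₀.primeCompl)
  · intro z
    obtain ⟨⟨a, ⟨b, hb⟩⟩, hz⟩ := IsLocalization.surj q₀.primeCompl z
    obtain ⟨sa, na, hsa⟩ := hsurj a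
    obtain ⟨sb, nb, hsb⟩ := hsurj b
    have hy : r ^ na * sb ∈ q.primeCompl := by
      rw [hmem]
      push_cast
      rw [hsb]
      exact mul_mem (pow_mem hr na) (mul_mem (pow_mem hr nb) hb)
    refine ⟨(r ^ nb * sa, ⟨r ^ na * sb, hy⟩), ?_⟩
    simp only at hz ⊢
    rw [halg, halg]
    push_cast
    rw [hsa, hsb]
    simp only [map_mul, map_pow]
    rw [← hz]
    ring
  · intro x y hxy
    rw [halg, halg] at hxy
    obtain ⟨⟨c, hc⟩, hc'⟩ := IsLocalization.exists_of_eq (M := q₀.primeCompl) hxy
    obtain ⟨sc, nc, hsc⟩ := hsurj c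
    have hsc' : sc ∈ q.primeCompl := by
      rw [hmem, hsc]
      exact mul_mem (pow_mem hr nc) hc
    refine ⟨⟨sc, hsc'⟩, ?_⟩
    apply Subtype.ext
    push_cast
    rw [hsc, mul_assoc, mul_assoc]
    simp only at hc'
    rw [hc']

end Groth.Agent.H46

namespace Groth.Agent.H46

theorem exists_finite_isLocalization_atPrime (R S : Type u) [CommRing R] [CommRing S]
    [IsLocalRing R] [IsLocalRing S] [Algebra R S] [IsLocalHom (algebraMap R S)]
    [Algebra.EssFiniteType R S]
    (hres : Module.Finite (IsLocalRing.ResidueField R) (IsLocalRing.ResidueField S))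
    (hdim : ringKrullDim (S ⧸ (IsLocalRing.maximalIdeal R).map (algebraMap R S)) = 0) :
    ∃ (S' : Type u) (_ : CommRing S') (_ : Algebra R S') (_ : Algebra S' S) (_ : IsScalarTower R S' S)
      (q : Ideal S') (_ : q.IsPrime), Module.Finite R S' ∧ IsLocalization.AtPrime S q := by
  let S₀ := Algebra.EssFiniteType.subalgebra R S
  let q₀ : Ideal S₀ := (maximalIdeal S).comap (algebraMap S₀ S)
  haveI : q₀.IsPrime := Ideal.comap_isPrime _ _
  have hM : Algebra.EssFiniteType.submonoid R S = q₀.primeCompl := by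
    ext x
    show IsUnit (algebraMap S₀ S x) ↔ x ∉ q₀
    rw [Ideal.mem_comap, mem_maximalIdeal, mem_nonunits_iff, not_not]
  haveI hloc : IsLocalization.AtPrime S q₀ := by
    show IsLocalization q₀.primeCompl S
    rw [← hM]
    infer_instance
  -- weakly quasi-finite
  haveI : Algebra.WeaklyQuasiFiniteAt R q₀ := by
    rw [Algebra.weaklyQuasiFiniteAt_iff]
    let e : S ≃ₐ[S₀] Localization.AtPrime q₀ :=
      IsLocalization.algEquiv q₀.primeCompl S (Localization.AtPrime q₀)
    let e' : S ≃ₐ[R] Localization.AtPrime q₀ := e.restrictScalars R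
    have hunder : q₀.under R = maximalIdeal R := by
      show Ideal.comap (algebraMap R S₀) (Ideal.comap (algebraMap S₀ S) (maximalIdeal S)) = _
      rw [Ideal.comap_comap, ← IsScalarTower.algebraMap_eq]
      exact IsLocalRing.maximalIdeal_comap (algebraMap R S)
    have hfin := finite_quotient_map_maximalIdeal R S hres hdim
    let E : (S ⧸ (maximalIdeal R).map (algebraMap R S)) ≃ₐ[R]
        (Localization.AtPrime q₀ ⧸ (q₀.under R).map (algebraMap R (Localization.AtPrime q₀))) :=
      Ideal.quotientEquivAlg _ _ e' (by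
        rw [hunder]
        show _ = Ideal.map (e' : S →+* Localization.AtPrime q₀) _
        rw [Ideal.map_map]
        congr 1
        ext x
        exact (e'.commutes x).symm)
    haveI : Module.Finite R
        (Localization.AtPrime q₀ ⧸ (q₀.under R).map (algebraMap R (Localization.AtPrime q₀))) :=
      Module.Finite.equiv E.toLinearEquiv
    infer_instance
  obtain ⟨S', hS', r, hr, hbij⟩ :=
    Algebra.QuasiFiniteAt.exists_fg_and_exists_notMem_and_awayMap_bijective (R := R) q₀
  have hsurj : ∀ a : S₀, ∃ (b : S') (m : ℕ), (b : S₀) = (r : S₀) ^ m * a := by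
    have := Localization.awayMap_surjective_iff.mp hbij.2
    intro a
    obtain ⟨b, m, hb⟩ := this a
    exact ⟨b, m, hb⟩
  letI algS'S : Algebra S' S := ((algebraMap S₀ S).comp S'.val.toRingHom).toAlgebra
  have tower : IsScalarTower R S' S := IsScalarTower.of_algebraMap_eq (fun x => by
    show algebraMap R S x = algebraMap S₀ S (S'.val (algebraMap R S' x))
    rfl)
  let q : Ideal S' := q₀.comap S'.val
  haveI hq : q.IsPrime := Ideal.comap_isPrime _ _
  have hfin : Module.Finite R S' := ⟨(Submodule.fg_top _).mpr hS'⟩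
  refine ⟨S', inferInstance, inferInstance, algS'S, tower, q, hq, hfin, ?_⟩
  exact isLocalization_atPrime_of_subalgebra S' r q₀ hr hsurj (fun _ => rfl) q rfl

end Groth.Agent.H46
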